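/-
Sylow subgroups of a finite subgroup `H` of an arbitrary group, viewed in the ambient group; the p-core of
a subgroup; the subgroup `Ω₁(Z(T))` and the closure `Z_H`; conjugation equivariance of all of these.
-/
import Cfsg.Prelude.Def_Amalgam
import Mathlib.GroupTheory.Sylow
import Mathlib.Tactic.Group

set_option autoImplicit false

namespace CfsgLib.LocalEven.SylowIn

open Cfsg

variable {p : ℕ} {X : Type*} [Group X]

/-- `T` is a maximal `p`-subgroup of `H`. -/
def IsSylowIn (p : ℕ) (T H : Subgroup X) : Prop :=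
  T ≤ H ∧ IsPGroup p T ∧ ∀ U : Subgroup X, U ≤ H → IsPGroup p U → T ≤ U → U = T

theorem map_conj_iff_le {T H : Subgroup X} (g : X) :
    T.map (MulAut.conj g).toMonoidHom ≤ H.map (MulAut.conj g).toMonoidHom ↔ T ≤ H :=
  Subgroup.map_le_map_iff_of_injective (MulAut.conj g).injective

theorem map_conj_conj (T : Subgroup X) (g h : X) :
    (T.map (MulAut.conj h).toMonoidHom).map (MulAut.conj g).toMonoidHom =
      T.map (MulAut.conj (g * h)).toMonoidHom := by
  rw [Subgroup.map_map]
  exact congrArg (fun f => Subgroup.map f T)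
    (MonoidHom.ext fun x => by simp [mul_assoc])

theorem map_conj_one (T : Subgroup X) : T.map (MulAut.conj (1 : X)).toMonoidHom = T := by
  convert Subgroup.map_id T using 2
  exact MonoidHom.ext fun x => by simp

theorem mem_map_conj {T : Subgroup X} {g x : X} :
    x ∈ T.map (MulAut.conj g).toMonoidHom ↔ g⁻¹ * x * g ∈ T := by
  constructor
  · rintro ⟨t, ht, rfl⟩
    simpa [mul_assoc] using ht
  · intro h
    exact ⟨_, h, by simp [mul_assoc]⟩

theorem map_conj_eq_iff {T : Subgroup X} {g : X} :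
    T.map (MulAut.conj g).toMonoidHom = T ↔ g ∈ Subgroup.normalizer (T : Set X) := by
  rw [Subgroup.mem_normalizer_iff'', SetLike.ext_iff]
  simp only [mem_map_conj]
  exact ⟨fun h x => (h x).symm, fun h x => (h x).symm⟩

theorem le_normalizer_of_map_conj {T H : Subgroup X}
    (h : ∀ g ∈ H, T.map (MulAut.conj g).toMonoidHom = T) :
    H ≤ Subgroup.normalizer (T : Set X) :=
  fun g hg => map_conj_eq_iff.1 (h g hg)

theorem normalizer_map_conj (T : Subgroup X) (g : X) :
    Subgroup.normalizer ((T.map (MulAut.conj g).toMonoidHom : Subgroup X) : Set X) =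
      (Subgroup.normalizer (T : Set X)).map (MulAut.conj g).toMonoidHom := by
  ext x
  rw [mem_map_conj, ← map_conj_eq_iff, ← map_conj_eq_iff, map_conj_conj]
  constructor <;> intro h
  · have := congrArg (Subgroup.map (MulAut.conj g⁻¹).toMonoidHom) h
    rwa [map_conj_conj, map_conj_conj, inv_mul_cancel, map_conj_one, ← mul_assoc] at this
  · have := congrArg (Subgroup.map (MulAut.conj g).toMonoidHom) h
    rwa [map_conj_conj, mul_assoc, mul_inv_cancel_left] at this

theorem IsSylowIn.map_conj {T H : Subgroup X} (h : IsSylowIn p T H) (g : X) :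
    IsSylowIn p (T.map (MulAut.conj g).toMonoidHom) (H.map (MulAut.conj g).toMonoidHom) := by
  refine ⟨Subgroup.map_mono h.1, h.2.1.map _, fun U hU hUp hTU => ?_⟩
  have e : ∀ V : Subgroup X,
      (V.map (MulAut.conj g⁻¹).toMonoidHom).map (MulAut.conj g).toMonoidHom = V := fun V => by
    rw [map_conj_conj, mul_inv_cancel, map_conj_one]
  rw [← e U]
  congr 1
  refine h.2.2 _ ((map_conj_iff_le g).1 ?_) (hUp.map _) ((map_conj_iff_le g).1 ?_)
  · rwa [e]
  · rwa [e]

theorem IsSylowIn.of_map_subtype {H : Subgroup X} (S : Sylow p H) :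
    IsSylowIn p ((S : Subgroup H).map H.subtype) H := by
  refine ⟨Subgroup.map_subtype_le _, S.2.map _, fun U hU hUp hSU => ?_⟩
  have h1 : (S : Subgroup H) ≤ U.subgroupOf H := fun x hx => hSU ⟨x, hx, rfl⟩
  rw [← S.3 (hUp.comap_of_injective H.subtype H.subtype_injective) h1]
  exact (Subgroup.map_subgroupOf_eq_of_le hU).symm

/-- The Sylow subgroup of `H` attached to a maximal `p`-subgroup of `H`. -/
def IsSylowIn.toSylow {T H : Subgroup X} (h : IsSylowIn p T H) : Sylow p H where
  toSubgroup := T.subgroupOf H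
  isPGroup' := h.2.1.comap_of_injective H.subtype H.subtype_injective
  is_maximal' := by
    intro U hU hTU
    apply Subgroup.map_injective H.subtype_injective
    rw [h.2.2 (U.map H.subtype) (Subgroup.map_subtype_le _) (hU.map _)
      (fun x hx => ⟨⟨x, h.1 hx⟩, hTU hx, rfl⟩), Subgroup.map_subgroupOf_eq_of_le h.1]

theorem IsSylowIn.toSylow_map {T H : Subgroup X} (h : IsSylowIn p T H) :
    (h.toSylow : Subgroup H).map H.subtype = T :=
  Subgroup.map_subgroupOf_eq_of_le h.1

theorem exists_isSylowIn (H : Subgroup X) {U : Subgroup X} (hU : U ≤ H) (hUp : IsPGroup p U) :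
    ∃ T, IsSylowIn p T H ∧ U ≤ T := by
  obtain ⟨S, hS⟩ :=
    IsPGroup.exists_le_sylow (hUp.comap_of_injective H.subtype H.subtype_injective)
  exact ⟨_, .of_map_subtype S, fun x hx => ⟨⟨x, hU hx⟩, hS hx, rfl⟩⟩

variable [Fact p.Prime]

theorem IsSylowIn.conjugate {T U H : Subgroup X} [Finite H] (hT : IsSylowIn p T H)
    (hU : IsSylowIn p U H) : ∃ h ∈ H, U = T.map (MulAut.conj h).toMonoidHom := by
  obtain ⟨h, hh⟩ := MulAction.exists_smul_eq H hT.toSylow hU.toSylow
  refine ⟨h, h.2, ?_⟩
  have h1 := congrArg (fun S : Sylow p H => (S : Subgroup H).map H.subtype) hh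
  simp only [Sylow.smul_def, Sylow.pointwise_smul_def, hU.toSylow_map] at h1
  rw [← h1]
  conv_rhs => rw [← hT.toSylow_map]
  ext x
  constructor
  · rintro ⟨_, ⟨y, hy, rfl⟩, rfl⟩
    exact ⟨(y : X), ⟨y, hy, rfl⟩, rfl⟩
  · rintro ⟨_, ⟨y, hy, rfl⟩, rfl⟩
    exact ⟨_, ⟨y, hy, rfl⟩, rfl⟩

theorem IsSylowIn.of_card {T H : Subgroup X} [Finite H] (hTH : T ≤ H) (hT : IsPGroup p T)
    (hc : ∀ P : Sylow p H, Nat.card T = Nat.card P) : IsSylowIn p T H := by
  obtain ⟨V, hV, hTV⟩ := exists_isSylowIn H hTH hT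
  have : Finite V := Finite.of_injective _ (Subgroup.inclusion_injective hV.1)
  have e : T = V := Subgroup.eq_of_le_of_card_ge hTV (by
    rw [hc hV.toSylow]
    exact (Nat.card_congr (Subgroup.subgroupOfEquivOfLe hV.1).toEquiv).symm.le)
  exact e ▸ hV

/-- Frattini argument. -/
theorem frattini_argument {T N H : Subgroup X} [Finite N] (hT : IsSylowIn p T N)
    (hH : H ≤ Subgroup.normalizer (N : Set X)) (hNH : N ≤ H) {g : X} (hg : g ∈ H) :
    ∃ l ∈ N, ∃ n ∈ H ⊓ Subgroup.normalizer (T : Set X), g = l * n := by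
  have h1 := hT.map_conj g
  rw [map_conj_eq_iff.2 (hH hg)] at h1
  obtain ⟨l, hl, he⟩ := hT.conjugate h1
  refine ⟨l, hl, l⁻¹ * g, Subgroup.mem_inf.2 ⟨mul_mem (inv_mem (hNH hl)) hg, map_conj_eq_iff.1 ?_⟩,
    (mul_inv_cancel_left l g).symm⟩
  rw [← map_conj_conj, he, map_conj_conj, inv_mul_cancel, map_conj_one]

/-! ### The p-core -/

theorem pCore_normal (G : Type*) [Group G] (p : ℕ) : (pCore p G).Normal :=
  Subgroup.sSup_normal _ fun _ h => h.1

theorem isPGroup_pCore (G : Type*) [Group G] [Finite G] (p : ℕ) [Fact p.Prime] :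
    IsPGroup p (pCore p G) :=
  Sylow.sSup_of_normal _ (fun _ h => h.2) (fun _ h => h.1)

theorem le_pCore {G : Type*} [Group G] {p : ℕ} {N : Subgroup G} [hN : N.Normal]
    (h : IsPGroup p N) : N ≤ pCore p G :=
  le_sSup ⟨hN, h⟩

theorem pCoreOf_le (H : Subgroup X) : pCoreOf p H ≤ H :=
  Subgroup.map_subtype_le _

theorem isPGroup_pCoreOf (H : Subgroup X) [Finite H] : IsPGroup p (pCoreOf p H) :=
  (isPGroup_pCore H p).map _

omit [Fact p.Prime] in
theorem le_pCoreOf {N H : Subgroup X} (hNH : N ≤ H) (hn : H ≤ Subgroup.normalizer (N : Set X))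
    (hp : IsPGroup p N) : N ≤ pCoreOf p H := by
  haveI : (N.subgroupOf H).Normal := ⟨fun n hn' g => by
    simpa [Subgroup.mem_subgroupOf] using (Subgroup.mem_normalizer_iff.1 (hn g.2) _).1 hn'⟩
  intro x hx
  exact ⟨⟨x, hNH hx⟩, le_pCore (N := N.subgroupOf H)
    (hp.comap_of_injective H.subtype H.subtype_injective) hx, rfl⟩

omit [Fact p.Prime] in
theorem normalizer_pCoreOf (H : Subgroup X) :
    H ≤ Subgroup.normalizer (pCoreOf p H : Set X) := by
  refine le_normalizer_of_map_conj fun g hg => ?_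
  have key : ∀ g ∈ H, (pCoreOf p H).map (MulAut.conj g).toMonoidHom ≤ pCoreOf p H := by
    rintro g hg _ ⟨_, ⟨n, hn, rfl⟩, rfl⟩
    exact ⟨_, (pCore_normal ↥H p).conj_mem n hn ⟨g, hg⟩, rfl⟩
  refine le_antisymm (key g hg) ?_
  have := Subgroup.map_mono (f := (MulAut.conj g).toMonoidHom) (key g⁻¹ (inv_mem hg))
  rwa [map_conj_conj, mul_inv_cancel, map_conj_one] at this

theorem pCoreOf_le_sylowIn {T H : Subgroup X} [Finite H] (hT : IsSylowIn p T H) :
    pCoreOf p H ≤ T := by
  haveI := pCore_normal ↥H p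
  have h := (isPGroup_pCore H p).le_sylow_of_normal hT.toSylow
  intro x hx
  obtain ⟨n, hn, rfl⟩ := hx
  exact h hn

theorem pCoreOf_map_conj (H : Subgroup X) [Finite H] (g : X) :
    (pCoreOf p H).map (MulAut.conj g).toMonoidHom =
      pCoreOf p (H.map (MulAut.conj g).toMonoidHom) := by
  have key : ∀ (K : Subgroup X) (k : X), Finite K →
      (pCoreOf p K).map (MulAut.conj k).toMonoidHom ≤ pCoreOf p (K.map (MulAut.conj k).toMonoidHom) := by
    intro K k _
    refine le_pCoreOf (Subgroup.map_mono (pCoreOf_le K)) ?_ ((isPGroup_pCoreOf K).map _)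
    rw [normalizer_map_conj]
    exact Subgroup.map_mono (normalizer_pCoreOf K)
  refine le_antisymm (key H g inferInstance) ?_
  have hf : Finite ↥(H.map (MulAut.conj g).toMonoidHom) :=
    Finite.of_equiv _ (H.equivMapOfInjective _ (MulAut.conj g).injective).toEquiv
  have := Subgroup.map_mono (f := (MulAut.conj g).toMonoidHom) (key _ g⁻¹ hf)
  rwa [map_conj_conj, mul_inv_cancel, map_conj_one, map_conj_conj, inv_mul_cancel, map_conj_one]
    at this

omit [Fact p.Prime] in
theorem charP_iff (H : Subgroup X) :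
    Subgroup.centralizer (pCore p H : Set H) ≤ pCore p H ↔
      H ⊓ Subgroup.centralizer (pCoreOf p H : Set X) ≤ pCoreOf p H := by
  constructor
  · rintro h x ⟨hx, hc⟩
    refine ⟨⟨x, hx⟩, h ?_, rfl⟩
    intro y hy
    exact Subtype.ext (hc y ⟨y, hy, rfl⟩)
  · intro h x hx
    obtain ⟨y, hy, he⟩ := h (x := (x : X)) ⟨x.2, fun z hz => by
      obtain ⟨w, hw, rfl⟩ := hz
      exact congrArg Subtype.val (hx w hw)⟩
    exact Subtype.ext he ▸ hy

/-! ### `Ω₁(Z(T))` and `Z_H` -/

omit [Fact p.Prime] in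
theorem centralizer_map_conj (T : Subgroup X) (g : X) :
    Subgroup.centralizer ((T.map (MulAut.conj g).toMonoidHom : Subgroup X) : Set X) =
      (Subgroup.centralizer (T : Set X)).map (MulAut.conj g).toMonoidHom := by
  ext x
  rw [mem_map_conj, Subgroup.mem_centralizer_iff, Subgroup.mem_centralizer_iff]
  constructor
  · intro h t ht
    have := congrArg (fun y => g⁻¹ * y * g) (h (g * t * g⁻¹) ⟨t, ht, by simp⟩)
    simpa [mul_assoc] using this
  · rintro h _ ⟨t, ht, rfl⟩
    have := congrArg (fun y => g * y * g⁻¹) (h t ht)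
    simpa [mul_assoc] using this

omit [Fact p.Prime] in
theorem omegaOne_le (H : Subgroup X) : omegaOne p H ≤ H :=
  (Subgroup.closure_le _).2 fun _ hx => hx.1

omit [Fact p.Prime] in
theorem omegaOne_map (H : Subgroup X) (g : X) :
    (omegaOne p H).map (MulAut.conj g).toMonoidHom =
      omegaOne p (H.map (MulAut.conj g).toMonoidHom) := by
  rw [omegaOne, omegaOne, MonoidHom.map_closure]
  congr 1
  ext x
  constructor
  · rintro ⟨y, hy, rfl⟩
    exact ⟨⟨y, hy.1, rfl⟩, by rw [← map_pow, hy.2, map_one]⟩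
  · rintro ⟨⟨y, hy, rfl⟩, hp⟩
    exact ⟨y, ⟨hy, (map_eq_one_iff _ (MulAut.conj g).injective).1 (by rw [map_pow]; exact hp)⟩, rfl⟩

/-- `Ω₁(Z(T))` in the ambient group. -/
abbrev omegaCenter (p : ℕ) (T : Subgroup X) : Subgroup X :=
  omegaOne p (T ⊓ Subgroup.centralizer (T : Set X))

omit [Fact p.Prime] in
theorem omegaCenter_map (T : Subgroup X) (g : X) :
    (omegaCenter p T).map (MulAut.conj g).toMonoidHom =
      omegaCenter p (T.map (MulAut.conj g).toMonoidHom) := by
  rw [omegaCenter, omegaCenter, omegaOne_map, Subgroup.map_inf _ _ _ (MulAut.conj g).injective,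
    centralizer_map_conj]

omit [Fact p.Prime] in
theorem omegaCenter_le (T : Subgroup X) : omegaCenter p T ≤ T :=
  (omegaOne_le _).trans inf_le_left

omit [Fact p.Prime] in
theorem omegaCenter_le_centralizer (T : Subgroup X) :
    omegaCenter p T ≤ Subgroup.centralizer (T : Set X) :=
  (omegaOne_le _).trans inf_le_right

omit [Fact p.Prime] in
theorem omegaCenter_le_sylowCenterClosure {T H : Subgroup X} (hT : IsSylowIn p T H) :
    omegaCenter p T ≤ sylowCenterClosure p H := by
  refine le_trans (le_of_eq ?_) (le_iSup _ hT.toSylow)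
  rw [hT.toSylow_map]

omit [Fact p.Prime] in
theorem sylowCenterClosure_le_iff {H Y : Subgroup X} :
    sylowCenterClosure p H ≤ Y ↔ ∀ T, IsSylowIn p T H → omegaCenter p T ≤ Y :=
  ⟨fun h _ hT => (omegaCenter_le_sylowCenterClosure hT).trans h,
    fun h => iSup_le fun S => h _ (.of_map_subtype S)⟩

omit [Fact p.Prime] in
theorem sylowCenterClosure_map (H : Subgroup X) (g : X) :
    (sylowCenterClosure p H).map (MulAut.conj g).toMonoidHom =
      sylowCenterClosure p (H.map (MulAut.conj g).toMonoidHom) := by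
  have key : ∀ (K : Subgroup X) (k : X), (sylowCenterClosure p K).map (MulAut.conj k).toMonoidHom ≤
      sylowCenterClosure p (K.map (MulAut.conj k).toMonoidHom) := by
    intro K k
    rw [Subgroup.map_le_iff_le_comap, sylowCenterClosure_le_iff]
    intro T hT
    rw [← Subgroup.map_le_iff_le_comap, omegaCenter_map]
    exact omegaCenter_le_sylowCenterClosure (hT.map_conj k)
  refine le_antisymm (key H g) ?_
  have := Subgroup.map_mono (f := (MulAut.conj g).toMonoidHom) (key (H.map (MulAut.conj g).toMonoidHom) g⁻¹)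
  rwa [map_conj_conj, mul_inv_cancel, map_conj_one, map_conj_conj, inv_mul_cancel, map_conj_one]
    at this

omit [Fact p.Prime] in
theorem normalizer_sylowCenterClosure (H : Subgroup X) :
    H ≤ Subgroup.normalizer (sylowCenterClosure p H : Set X) :=
  le_normalizer_of_map_conj fun g hg => by
    rw [sylowCenterClosure_map, map_conj_eq_iff.2 (Subgroup.le_normalizer hg)]

theorem sylowCenterClosure_le_pCoreOf {H : Subgroup X} [Finite H]
    (hc : H ⊓ Subgroup.centralizer (pCoreOf p H : Set X) ≤ pCoreOf p H) :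
    sylowCenterClosure p H ≤ pCoreOf p H :=
  sylowCenterClosure_le_iff.2 fun T hT => le_trans
    (le_inf ((omegaCenter_le T).trans hT.1)
      ((omegaCenter_le_centralizer T).trans (Subgroup.centralizer_le (pCoreOf_le_sylowIn hT)))) hc

/-! ### `O^{p'}(H)` -/

omit [Fact p.Prime] in
theorem pElementClosure_le (H : Subgroup X) : pElementClosure p H ≤ H :=
  (Subgroup.closure_le _).2 fun _ h => h.1

theorem le_pElementClosure {U H : Subgroup X} (hU : U ≤ H) (hp : IsPGroup p U) :
    U ≤ pElementClosure p H := fun x hx => Subgroup.subset_closure ⟨hU hx, by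
  obtain ⟨k, hk⟩ := IsPGroup.iff_orderOf.1 hp ⟨x, hx⟩
  exact ⟨k, by rw [← hk]; simp⟩⟩

omit [Fact p.Prime] in
theorem pElementClosure_map (H : Subgroup X) (g : X) :
    (pElementClosure p H).map (MulAut.conj g).toMonoidHom =
      pElementClosure p (H.map (MulAut.conj g).toMonoidHom) := by
  rw [pElementClosure, pElementClosure, MonoidHom.map_closure]
  congr 1
  ext x
  constructor
  · rintro ⟨y, ⟨hy, k, hk⟩, rfl⟩
    exact ⟨⟨y, hy, rfl⟩, k, by rw [orderOf_injective _ (MulAut.conj g).injective, hk]⟩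
  · rintro ⟨⟨y, hy, rfl⟩, k, hk⟩
    exact ⟨y, ⟨hy, k, by rwa [orderOf_injective _ (MulAut.conj g).injective] at hk⟩, rfl⟩

omit [Fact p.Prime] in
theorem normalizer_pElementClosure (H : Subgroup X) :
    H ≤ Subgroup.normalizer (pElementClosure p H : Set X) :=
  le_normalizer_of_map_conj fun g hg => by
    rw [pElementClosure_map, map_conj_eq_iff.2 (Subgroup.le_normalizer hg)]

end CfsgLib.LocalEven.SylowIn
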