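/-
Fixed points of unipotent elements of `SL₂(q)` on faithful modules in the defining characteristic: the
codimension is at least `n` for `q = p ^ n`.
-/
import Cfsg.Agent.NumberTheory.PrimitivePart
import Cfsg.Agent.Lib.Classical.SL2Sylow
import Cfsg.Agent.Lib.Perm.SL2Unipotent
import Cfsg.Prelude.Def_PLocal
import Cfsg.Prelude.Def_Solvable
import Cfsg.Agent.Lib.Solvable.Cores
import Mathlib

set_option autoImplicit false
set_option linter.style.haveILetI false

open Matrix CfsgLib.Classical CfsgLib.Perm.SL2Unipotent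
open scoped MatrixGroups

namespace CfsgLib.LocalEven.SL2Bound

section Lower

variable {G : Type*} [Group G] [Finite G] {p : ℕ} [Fact p.Prime]

/-- A semiregular cyclic action bounds the codimension of the fixed points. -/
theorem pow_le_relIndex {V : Subgroup G} (hVc : IsMulCommutative V) (hVp : ∀ v ∈ V, v ^ p = 1)
    {y : G} {r e N : ℕ} (hr : r.Prime) (hrp : r ≠ p) (he : e ≠ 0) (hN : orderOf (p : ZMod (r ^ e)) = N)
    (hy : y ∈ Subgroup.normalizer (V : Set G)) (hord : orderOf y = r ^ e)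
    (hy0 : y ^ r ^ (e - 1) ∉ Subgroup.centralizer (V : Set G)) :
    p ^ N ≤ (V ⊓ Subgroup.centralizer ({y} : Set G)).relIndex V := by
  classical
  set y0 := y ^ r ^ (e - 1) with hy0d
  have hy0N : y0 ∈ Subgroup.normalizer (V : Set G) := pow_mem hy _
  have hcV : ∀ g ∈ Subgroup.normalizer (V : Set G), ∀ x ∈ V, g * x * g⁻¹ ∈ V :=
    fun g hg x hx => (Subgroup.mem_normalizer_iff.1 hg x).1 hx
  have hcomm : ∀ a ∈ V, ∀ b ∈ V, a * b = b * a := fun a ha b hb =>
    congrArg Subtype.val (mul_comm' (⟨a, ha⟩ : V) ⟨b, hb⟩)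
  have hmemc : ∀ v ∈ V, y0 * v * y0⁻¹ * v⁻¹ ∈ V := fun v hv => mul_mem (hcV y0 hy0N v hv) (inv_mem hv)
  let φ : ↥V →* G :=
    { toFun := fun v => y0 * v * y0⁻¹ * (v : G)⁻¹
      map_one' := by simp
      map_mul' := fun a b => by
        simp only [Subgroup.coe_mul, _root_.mul_inv_rev]
        have h1 := hcomm _ (hcV y0 hy0N _ b.2) _ (inv_mem b.2)
        calc y0 * ((a : G) * b) * y0⁻¹ * ((b : G)⁻¹ * (a : G)⁻¹)
            = y0 * a * y0⁻¹ * ((y0 * b * y0⁻¹ * (b : G)⁻¹) * (a : G)⁻¹) := by group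
          _ = y0 * a * y0⁻¹ * ((a : G)⁻¹ * (y0 * b * y0⁻¹ * (b : G)⁻¹)) := by
              rw [hcomm _ (hmemc b b.2) _ (inv_mem a.2)]
          _ = _ := by group }
  set W := φ.range with hW
  have hWV : W ≤ V := by
    rintro _ ⟨v, rfl⟩
    exact hmemc v v.2
  -- the image has the size of the codimension
  have hker : φ.ker = (V ⊓ Subgroup.centralizer ({y0} : Set G)).subgroupOf V := by
    ext v
    simp only [MonoidHom.mem_ker, Subgroup.mem_subgroupOf, Subgroup.mem_inf, SetLike.coe_mem, true_and,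
      Subgroup.mem_centralizer_singleton_iff]
    show y0 * v * y0⁻¹ * (v : G)⁻¹ = 1 ↔ _
    rw [mul_inv_eq_one, mul_inv_eq_iff_eq_mul, eq_comm]
  have hcard : Nat.card W = (V ⊓ Subgroup.centralizer ({y0} : Set G)).relIndex V := by
    rw [Subgroup.relIndex, ← hker, Subgroup.index_ker]
  have hle : (V ⊓ Subgroup.centralizer ({y0} : Set G)).relIndex V ≤
      (V ⊓ Subgroup.centralizer ({y} : Set G)).relIndex V := by
    refine Nat.le_of_dvd (Nat.pos_of_ne_zero Subgroup.index_ne_zero_of_finite) (Subgroup.relIndex_dvd_of_le_left _ ?_)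
    refine inf_le_inf_left _ fun g hg => ?_
    rw [Subgroup.mem_centralizer_singleton_iff] at hg ⊢
    exact (Commute.pow_right hg _)
  refine le_trans ?_ (hcard.le.trans hle)
  -- `y` normalises the image
  have hyW : ∀ w ∈ W, y * w * y⁻¹ ∈ W := by
    rintro _ ⟨v, rfl⟩
    refine ⟨⟨_, hcV y hy v v.2⟩, ?_⟩
    show y0 * (y * v * y⁻¹) * y0⁻¹ * (y * (v : G) * y⁻¹)⁻¹ = y * (y0 * v * y0⁻¹ * (v : G)⁻¹) * y⁻¹
    have hc : y0 * y = y * y0 := (Commute.refl y).pow_left _
    calc _ = (y0 * y) * v * (y0 * y)⁻¹ * y * (v : G)⁻¹ * y⁻¹ := by group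
      _ = _ := by rw [hc]; group
  -- `y₀` is fixed-point-free on the image
  have hfpf : ∀ w ∈ W, y0 * w * y0⁻¹ = w → w = 1 := by
    rintro _ ⟨v, rfl⟩ hw
    set w := φ v with hwd
    have hwv : y0 * v * y0⁻¹ = w * v := by
      show _ = y0 * v * y0⁻¹ * (v : G)⁻¹ * v
      group
    have hi : ∀ i : ℕ, y0 ^ i * v * (y0 ^ i)⁻¹ = w ^ i * v := by
      intro i
      induction i with
      | zero => simp
      | succ i ih =>
        calc y0 ^ (i + 1) * v * (y0 ^ (i + 1))⁻¹ = y0 * (y0 ^ i * v * (y0 ^ i)⁻¹) * y0⁻¹ := by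
              rw [pow_succ']; group
          _ = (y0 * w ^ i * y0⁻¹) * (y0 * v * y0⁻¹) := by rw [ih]; group
          _ = _ := by
            rw [hwv, ← conj_pow, hw, pow_succ, mul_assoc]
    have hyr : y0 ^ r = 1 := by
      rw [hy0d, ← pow_mul, ← pow_succ, Nat.sub_add_cancel (Nat.pos_of_ne_zero he), ← hord, pow_orderOf_eq_one]
    have h1 := hi r
    rw [hyr, one_mul, inv_one, mul_one, right_eq_mul] at h1
    have h2 := pow_gcd_eq_one.2 ⟨h1, hVp w (hWV ⟨v, rfl⟩)⟩
    rwa [(Nat.coprime_primes hr Fact.out).2 hrp, pow_one] at h2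
  -- semiregularity
  set Z := Subgroup.zpowers y
  have hZW : ∀ z ∈ Z, ∀ w ∈ W, z * w * z⁻¹ ∈ W := fun z hz w hw => by
    have : y ∈ Subgroup.normalizer (W : Set G) := by
      rw [Subgroup.mem_normalizer_iff_map_conj_eq]
      refine Subgroup.eq_of_le_of_card_ge ?_ (le_of_eq (Subgroup.card_map_of_injective (MulAut.conj y).injective).symm)
      rintro _ ⟨w, hw, rfl⟩
      exact hyW w hw
    exact (Subgroup.mem_normalizer_iff.1 (Subgroup.zpowers_le.2 this hz) w).1 hw
  letI : MulAction ↥Z {w : ↥W // w ≠ 1} :=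
    { smul := fun z w => ⟨⟨z * (w : ↥W) * (z : G)⁻¹, hZW z z.2 _ w.1.2⟩, fun h => w.2 (Subtype.ext (by
        have h' : (z : G) * (w : ↥W) * (z : G)⁻¹ = 1 := congrArg Subtype.val h
        rw [mul_inv_eq_one] at h'
        exact mul_eq_left.1 h'))⟩
      one_smul := fun w => Subtype.ext (Subtype.ext (by simp [HSMul.hSMul]))
      mul_smul := fun a b w => Subtype.ext (Subtype.ext (by simp [HSMul.hSMul, mul_assoc])) }
  have hfree : ∀ w : {w : ↥W // w ≠ 1}, MulAction.stabilizer ↥Z w = ⊥ := by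
    intro w
    rw [Subgroup.eq_bot_iff_forall]
    intro z hz
    by_contra hz1
    -- some power of `z` is `y₀`
    have hzc : (z : G) * (w : ↥W) * (z : G)⁻¹ = (w : ↥W) :=
      congrArg (fun t : {w : ↥W // w ≠ 1} => ((t : ↥W) : G)) (MulAction.mem_stabilizer_iff.1 hz)
    obtain ⟨j, hj⟩ := (Submonoid.mem_powers_iff _ _).1 ((mem_powers_iff_mem_zpowers).2 z.2)
    have hdvd : ¬ r ^ e ∣ j := fun h => hz1 (Subtype.ext (by
      rw [← hj]
      obtain ⟨c, rfl⟩ := h
      rw [pow_mul, ← hord, pow_orderOf_eq_one, one_pow]; rfl))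
    obtain ⟨i, hi, hgcd⟩ := (Nat.dvd_prime_pow hr).1 (Nat.gcd_dvd_left (r ^ e) j)
    have hie : i ≤ e - 1 := by
      rcases hi.lt_or_eq with h | h
      · omega
      · exact absurd (by rw [← h, ← hgcd]; exact Nat.gcd_dvd_right _ _) hdvd
    have hmem : y0 ∈ Subgroup.zpowers (z : G) := by
      have h1 : y ^ (Nat.gcd (r ^ e) j) ∈ Subgroup.zpowers (z : G) := by
        have := Nat.gcd_eq_gcd_ab (r ^ e) j
        rw [← zpow_natCast, this, _root_.zpow_add, _root_.zpow_mul, _root_.zpow_mul, zpow_natCast, zpow_natCast, ← hord,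
          pow_orderOf_eq_one, _root_.one_zpow, one_mul, ← zpow_natCast, zpow_natCast, hj]
        exact Subgroup.zpow_mem_zpowers _ _
      rw [hy0d, ← Nat.sub_add_cancel hie, pow_add, mul_comm, pow_mul]
      exact pow_mem (hgcd ▸ h1) _
    have hcz : Subgroup.zpowers (z : G) ≤ Subgroup.centralizer ({((w : ↥W) : G)} : Set G) :=
      Subgroup.zpowers_le.2 (Subgroup.mem_centralizer_singleton_iff.2 (mul_inv_eq_iff_eq_mul.1 hzc))
    have h2 := Subgroup.mem_centralizer_singleton_iff.1 (hcz hmem)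
    exact w.2 (Subtype.ext (hfpf _ w.1.2 (by rw [h2, mul_inv_cancel_right])))
  have hm : r ^ e ∣ Nat.card W - 1 := by
    have h1 := Nat.card_congr (MulAction.selfEquivOrbitsQuotientProd hfree)
    rw [Nat.card_prod, Nat.card_zpowers, hord] at h1
    have h2 : Nat.card {w : ↥W // w ≠ 1} = Nat.card W - 1 := by
      haveI : Fintype ↥W := Fintype.ofFinite _
      rw [Nat.card_eq_fintype_card, Nat.card_eq_fintype_card, Fintype.card_subtype_compl, Fintype.card_subtype_eq]
    rw [← h2, h1]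
    exact Dvd.intro_left _ rfl
  obtain ⟨D, hD⟩ := IsPGroup.iff_card.1 (show IsPGroup p ↥W from fun w => ⟨1, Subtype.ext (by
    simpa using hVp _ (hWV w.2))⟩)
  rw [hD] at hm ⊢
  refine Nat.pow_le_pow_right (Fact.out : p.Prime).pos ?_
  rw [CfsgLib.NT.dvd_pow_sub_one_iff_orderOf (Fact.out : p.Prime).one_le, hN] at hm
  refine Nat.le_of_dvd (Nat.pos_of_ne_zero ?_) hm
  rintro rfl
  refine hy0 fun v hv => ?_
  have hW1 : W = ⊥ := Subgroup.eq_bot_of_card_eq _ (by simpa using hD)
  have h1 : φ ⟨v, hv⟩ = 1 := (Subgroup.eq_bot_iff_forall _).1 hW1 _ ⟨_, rfl⟩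
  have h1' : y0 * v * y0⁻¹ * v⁻¹ = 1 := h1
  rw [mul_inv_eq_one, mul_inv_eq_iff_eq_mul] at h1'
  exact h1'.symm

end Lower

section SL2

variable {F : Type*} [Field F]

/-- The powers of an element of `SL₂` are linear in it with coefficients depending on the trace only. -/
theorem exists_pow_coeff (τ : F) (k : ℕ) : ∃ a b : F, ∀ M : Matrix (Fin 2) (Fin 2) F,
    M * M = τ • M - 1 → M ^ k = a • M + b • 1 := by
  induction k with
  | zero => exact ⟨0, 1, fun M _ => by simp⟩
  | succ k ih =>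
    obtain ⟨a, b, h⟩ := ih
    refine ⟨a * τ + b, -a, fun M hM => ?_⟩
    rw [pow_succ, h M hM, add_mul, smul_mul_assoc, smul_mul_assoc, one_mul, hM, smul_sub, smul_smul, add_smul,
      neg_smul]
    abel

/-- An element of `SL₂` with the trace of `-s²` has the same powers equal to one. -/
theorem pow_eq_one_iff {g s : SL(2, F)} {c : F} (hs : (s : Matrix (Fin 2) (Fin 2) F).trace = c)
    (hc : c ≠ 0) (hg : (g : Matrix (Fin 2) (Fin 2) F).trace = 2 - c ^ 2)
    (hgns : g.1 1 0 ≠ 0) (hsns : ∀ a : F, (s : Matrix (Fin 2) (Fin 2) F) ≠ a • 1) (k : ℕ) :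
    g ^ (2 * k) = 1 ↔ s ^ (4 * k) = 1 := by
  set S := (s : Matrix (Fin 2) (Fin 2) F) with hS
  have hSS : S * S = c • S - 1 := hs ▸ sl2_sq s
  set M := -(S * S) with hM
  have hMeq : M = (-c) • S + (1 : F) • (1 : Matrix (Fin 2) (Fin 2) F) := by
    rw [hM, hSS, one_smul, neg_smul]; abel
  have hMM : M * M = (2 - c ^ 2) • M - 1 := by
    have h3 : M * M = S * S * (S * S) := by rw [hM, neg_mul_neg]
    rw [h3, hMeq]
    have hS4 : S * S * (S * S) = (c ^ 2 - 2) • (S * S) - 1 := by
      have e2 : S * (S * S) = (c * c - 1) • S - c • 1 := by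
        rw [hSS, mul_sub, mul_one, mul_smul_comm, hSS]
        rw [smul_sub, smul_smul, sub_smul, one_smul]; abel
      calc S * S * (S * S) = S * (S * (S * S)) := by rw [mul_assoc]
        _ = (c * c - 1) • (S * S) - c • S := by rw [e2, mul_sub, mul_smul_comm, mul_smul_comm, mul_one]
        _ = _ := by
          have : c • S = S * S + 1 := by rw [hSS]; abel
          rw [this, show c ^ 2 - 2 = c * c - 1 - 1 by ring, sub_smul (c * c - 1), one_smul]; abel
    rw [hS4, hSS]
    module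
  obtain ⟨a, b, hab⟩ := exists_pow_coeff (2 - c ^ 2) (2 * k)
  have hgg := hab (g : Matrix (Fin 2) (Fin 2) F) (hg ▸ sl2_sq g)
  have hMk := hab M hMM
  have hM2 : M ^ (2 * k) = S ^ (4 * k) := by
    rw [pow_mul, pow_mul S, hM, neg_sq]
    congr 1
    simp [pow_succ, mul_assoc]
  constructor
  · intro h
    have h' : a • (g : Matrix (Fin 2) (Fin 2) F) + b • 1 = 1 := by
      rw [← hgg]
      exact congrArg Subtype.val h
    have ha : a = 0 := by
      have := congrFun (congrFun h' 1) 0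
      simpa [hgns] using this
    have hb : b = 1 := by
      have := congrFun (congrFun h' 0) 0
      simpa [ha] using this
    apply Subtype.ext
    show S ^ (4 * k) = 1
    rw [← hM2, hMk, ha, hb]
    simp
  · intro h
    have h' : a • M + b • (1 : Matrix (Fin 2) (Fin 2) F) = 1 := by
      rw [← hMk, hM2]
      exact congrArg Subtype.val h
    rw [hMeq] at h'
    have ha : a = 0 := by
      by_contra ha
      refine hsns ((a + b - 1) / (a * c)) ?_
      have hne : a * c ≠ 0 := mul_ne_zero ha hc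
      ext i j
      have := congrFun (congrFun h' i) j
      simp only [Matrix.add_apply, Matrix.smul_apply, smul_eq_mul] at this ⊢
      rw [div_mul_eq_mul_div, eq_div_iff hne]
      linear_combination -this
    have hb : b = 1 := by
      have := congrFun (congrFun h' 0) 0
      simpa [ha] using this
    apply Subtype.ext
    show (g : Matrix (Fin 2) (Fin 2) F) ^ (2 * k) = 1
    rw [hgg, ha, hb]
    simp

theorem trace_prod (c d : F) :
    ((up c * (low d * up c * (low d)⁻¹) : SL(2, F)) : Matrix (Fin 2) (Fin 2) F).trace = 2 - (c * d) ^ 2 := by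
  rw [low_inv]
  simp [Matrix.trace_fin_two, Matrix.mul_apply, Fin.sum_univ_two, up_val, low_val, SpecialLinearGroup.coe_mul]
  ring

theorem low_left_prod (c d : F) :
    ((up c * (low d * up c * (low d)⁻¹) : SL(2, F)) : Matrix (Fin 2) (Fin 2) F) 1 0 = -(c * d ^ 2) := by
  rw [low_inv]
  simp [Matrix.mul_apply, Fin.sum_univ_two, up_val, low_val, SpecialLinearGroup.coe_mul]
  ring

variable [Fintype F] {p : ℕ} [Fact p.Prime] [CharP F p]

/-- An element of order `p` is conjugate to an upper unitriangular one. -/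
theorem exists_conj_up {g : SL(2, F)} (hg : g ≠ 1) (hgp : IsPGroup p (Subgroup.zpowers g)) :
    ∃ x : SL(2, F), ∃ c : F, c ≠ 0 ∧ g = x * up c * x⁻¹ := by
  obtain ⟨P, hP⟩ := hgp.exists_le_sylow
  obtain ⟨x, hx⟩ := sylowSL2_exists_conj P
  have h := hP (Subgroup.mem_zpowers g)
  rw [hx, Subgroup.mem_pointwise_smul_iff_inv_smul_mem] at h
  obtain ⟨c, hc⟩ := h
  have hu : uSL c = up c.toAdd := Subtype.ext ((uSL_coe c.toAdd).trans (up_val _).symm)
  refine ⟨x, c.toAdd, fun h0 => hg ?_, ?_⟩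
  · have : (MulAut.conj x)⁻¹ g = 1 := by
      show (MulAut.conj x)⁻¹ • g = 1
      rw [← hc, hu, h0, up_zero]
    have h' : x⁻¹ * g * x = 1 := by simpa using this
    calc g = x * (x⁻¹ * g * x) * x⁻¹ := by group
      _ = 1 := by rw [h', mul_one, mul_inv_cancel]
  · have : (MulAut.conj x)⁻¹ g = up c.toAdd := by
      show (MulAut.conj x)⁻¹ • g = _
      rw [← hc, hu]
    have := congrArg (MulAut.conj x) this
    simpa [mul_assoc] using this

end SL2

section Main

variable {F : Type*} [Field F] [Fintype F] {p n : ℕ} [Fact p.Prime]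

/-- An element whose prime power order makes `p` have order `2n`. -/
theorem exists_singer (hF : Fintype.card F = p ^ n) (hn : 2 ≤ n) :
    ∃ (r e : ℕ) (s : SL(2, F)), r.Prime ∧ r ≠ p ∧ r ≠ 2 ∧ e ≠ 0 ∧ orderOf (p : ZMod (r ^ e)) = 2 * n ∧
      orderOf s = r ^ e := by
  classical
  have hp : p.Prime := Fact.out
  by_cases h8 : p = 2 ∧ n = 3
  · obtain ⟨rfl, rfl⟩ := h8
    haveI : CharP F 2 := charP_of_card_eq_prime_pow hF
    have h2 : (2 : F) = 0 := CharP.cast_eq_zero F 2
    obtain ⟨τ, hτ⟩ : ∃ τ : F, τ ^ 3 + τ + 1 = 0 := by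
      obtain ⟨x, hx⟩ := Fintype.exists_ne_of_one_lt_card (α := F) (by rw [hF]; norm_num) 0
      obtain ⟨x, hx0, hx1⟩ : ∃ x : F, x ≠ 0 ∧ x ≠ 1 := by
        by_contra hall
        push Not at hall
        have : (Finset.univ : Finset F) ⊆ {0, 1} := fun y _ => by
          rcases eq_or_ne y 0 with h | h
          · simp [h]
          · simp [hall y h]
        have := (Finset.card_le_card this).trans Finset.card_le_two
        rw [Finset.card_univ, hF] at this
        norm_num at this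
      have h7 : x ^ 7 = 1 := by
        have := FiniteField.pow_card_sub_one_eq_one x hx0
        rwa [hF] at this
      have hfac : (x - 1) * ((x ^ 3 + x + 1) * (x ^ 3 + x ^ 2 + 1)) = x ^ 7 - 1 := by
        have : (x - 1) * ((x ^ 3 + x + 1) * (x ^ 3 + x ^ 2 + 1)) = x ^ 7 - 1 + 2 * (x ^ 4 - x ^ 3) := by ring
        rw [this, h2, zero_mul, add_zero]
      rw [h7, sub_self, mul_eq_zero, sub_eq_zero, mul_eq_zero] at hfac
      rcases hfac with h | h | h
      · exact absurd h hx1
      · exact ⟨x, h⟩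
      · refine ⟨x⁻¹, ?_⟩
        field_simp
        linear_combination h
    let s : SL(2, F) := ⟨!![0, 1; 1, τ], by rw [Matrix.det_fin_two_of]; linear_combination (-1 : F) * h2⟩
    refine ⟨3, 2, s, by norm_num, by norm_num, by norm_num, by norm_num, ?_, ?_⟩
    · refine (orderOf_eq_iff (by norm_num)).2 ⟨by decide, fun m hm hm0 => ?_⟩
      interval_cases m <;> decide
    · have hS := sl2_sq s
      rw [show (s : Matrix (Fin 2) (Fin 2) F).trace = τ by simp [s, Matrix.trace_fin_two]] at hS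
      set S := (s : Matrix (Fin 2) (Fin 2) F) with hSd
      have h3 : S ^ 3 = (τ ^ 2 - 1) • S - τ • 1 := by
        rw [pow_three, hS, mul_sub, mul_one, mul_smul_comm, hS, smul_sub, smul_smul, sub_smul, one_smul, ← pow_two]
        abel
      have h31 : s ^ 3 ≠ 1 := by
        intro h
        have h' : S ^ 3 = 1 := congrArg Subtype.val h
        rw [h3] at h'
        have h01 := congrFun (congrFun h' 0) 1
        simp [S, s] at h01
        have hτ1 : τ = 1 := by
          have : (τ - 1) ^ 2 = 0 := by linear_combination h01 + (1 - τ) * h2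
          exact sub_eq_zero.1 (pow_eq_zero_iff two_ne_zero |>.1 this)
        rw [hτ1] at hτ
        have : (1 : F) = 0 := by linear_combination hτ - h2
        exact one_ne_zero this
      have h9 : s ^ 9 = 1 := by
        apply Subtype.ext
        show S ^ 9 = 1
        have htr : ((s ^ 3 : SL(2, F)) : Matrix (Fin 2) (Fin 2) F).trace = 1 := by
          show (S ^ 3).trace = 1
          rw [h3]
          simp [S, s, Matrix.trace_fin_two]
          linear_combination hτ - (2 * τ + 1) * h2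
        have hM := sl2_sq (s ^ 3)
        rw [htr, one_smul] at hM
        change S ^ 3 * S ^ 3 = S ^ 3 - 1 at hM
        rw [show (9 : ℕ) = 3 * 3 from rfl, pow_mul]
        set M := S ^ 3
        calc M ^ 3 = M * (M * M) := pow_three M
          _ = -1 := by rw [hM, mul_sub, hM, mul_one]; abel
          _ = 1 := by
            ext i j
            fin_cases i <;> fin_cases j <;> simp [CharTwo.neg_eq]
      exact orderOf_eq_prime_pow (p := 3) (n := 1) (by simpa using h31) (by simpa using h9)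
  · obtain ⟨r, hr, hr1, hr2⟩ := CfsgLib.NT.exists_primitive_prime (q := p) (n := 2 * n) hp.two_le (by omega)
      (fun h => h8 ⟨h.1, by omega⟩) (fun h => by omega)
    haveI := Fact.mk hr
    have hnd : ¬ r ∣ p := CfsgLib.NT.primitive_not_dvd_base hp.two_le (by omega) hr hr1
    have hrp : r ≠ p := fun h => hnd (h ▸ dvd_rfl)
    have hord : orderOf (p : ZMod r) = 2 * n := (CfsgLib.NT.orderOf_eq_iff_primitive hp.one_le (by omega)).2 ⟨hr1, hr2⟩
    have hr2' : r ≠ 2 := by
      rintro rfl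
      have h1 := CfsgLib.NT.orderOf_dvd_prime_sub_one hr hnd
      rw [hord] at h1
      have := Nat.le_of_dvd (by norm_num) h1
      omega
    have hdvd : r ∣ Nat.card SL(2, F) := by
      rw [card_sl2 hF, ← pow_mul, mul_comm n 2]
      exact hr1.mul_left _
    obtain ⟨s, hs⟩ := exists_prime_orderOf_dvd_card' r hdvd
    exact ⟨r, 1, s, hr, hrp, hr2', one_ne_zero, by rwa [pow_one], by rwa [pow_one]⟩

variable {G : Type*} [Group G] [Finite G]

omit [Fintype F] in
/-- An element with a nontrivial codimension. -/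
theorem pow_one_le_relIndex {V : Subgroup G} (hVp : ∀ v ∈ V, v ^ p = 1) {a : G}
    (ha : a ∉ Subgroup.centralizer (V : Set G)) :
    p ≤ (V ⊓ Subgroup.centralizer ({a} : Set G)).relIndex V := by
  have hVg : IsPGroup p V := fun v => ⟨1, Subtype.ext (by simpa using hVp v v.2)⟩
  obtain ⟨k, hk⟩ := hVg.index ((V ⊓ Subgroup.centralizer ({a} : Set G)).subgroupOf V)
  rw [Subgroup.relIndex, hk]
  refine le_trans (le_of_eq (pow_one p).symm) (Nat.pow_le_pow_right (Fact.out : p.Prime).pos ?_)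
  rcases Nat.eq_zero_or_pos k with rfl | h
  · exfalso
    refine ha fun v hv => ?_
    rw [pow_zero, Subgroup.index_eq_one] at hk
    exact Subgroup.mem_centralizer_singleton_iff.1 (Subgroup.subgroupOf_eq_top.1 hk hv).2
  · omega

variable {Q : Type*} [Group Q]

/-- The Singer element inside the group generated by a unipotent element and one of its conjugates. -/
theorem exists_singer_lift {V H : Subgroup G} (hVc : IsMulCommutative V) (hVp : ∀ v ∈ V, v ^ p = 1)
    (hHV : H ≤ Subgroup.normalizer (V : Set G)) (hf : H ⊓ Subgroup.centralizer (V : Set G) = ⊥)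
    (hF : Fintype.card F = p ^ n) (hn : 2 ≤ n) (φ : ↥H →* Q) (hφ : Function.Surjective φ)
    (π : SL(2, F) →* Q) (hker : ∀ g, π g = 1 → g * g = 1) {a : G} (ha : a ∈ H)
    (b : SL(2, F)) (hb : b ≠ 1) (hbp : IsPGroup p (Subgroup.zpowers b)) (hab : φ ⟨a, ha⟩ = π b) :
    ∃ kk ∈ H, ∃ y : G, V ⊓ Subgroup.centralizer ({a} : Set G) ⊓
        (V ⊓ Subgroup.centralizer ({a} : Set G)).map (MulAut.conj kk).toMonoidHom ≤
          V ⊓ Subgroup.centralizer ({y} : Set G) ∧
      p ^ (2 * n) ≤ (V ⊓ Subgroup.centralizer ({y} : Set G)).relIndex V := by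
  classical
  have hp : p.Prime := Fact.out
  haveI : CharP F p := charP_of_card_eq_prime_pow hF
  obtain ⟨r, k, s, hr, hrp, hr2, hk, hord, hs⟩ := exists_singer hF hn
  obtain ⟨x, c, hc, hx⟩ := exists_conj_up (p := p) hb hbp
  set τ := (s : Matrix (Fin 2) (Fin 2) F).trace with hτ
  have hodd : ∀ m, s ^ (4 * m) = 1 ↔ r ^ k ∣ m := fun m => by
    rw [← orderOf_dvd_iff_pow_eq_one, hs]
    refine ⟨fun h => Nat.Coprime.dvd_of_dvd_mul_left ?_ h, fun h => h.mul_left 4⟩
    refine Nat.Coprime.pow_left k ?_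
    rw [show (4 : ℕ) = 2 ^ 2 from rfl]
    exact ((Nat.coprime_primes hr Nat.prime_two).2 hr2).pow_right 2
  have hnd4 : s ^ 4 ≠ 1 := fun h => by
    have := (hodd 1).1 (by simpa using h)
    exact (Nat.one_lt_pow hk hr.one_lt).ne' (Nat.dvd_one.1 this)
  have hτ0 : τ ≠ 0 := fun h0 => hnd4 (by
    apply Subtype.ext
    have h := sl2_sq s
    rw [← hτ, h0, zero_smul, zero_sub] at h
    show (s : Matrix (Fin 2) (Fin 2) F) ^ 4 = 1
    rw [show (4 : ℕ) = 2 * 2 from rfl, pow_mul, pow_two (s : Matrix (Fin 2) (Fin 2) F), h, neg_one_sq])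
  have hsns : ∀ t : F, (s : Matrix (Fin 2) (Fin 2) F) ≠ t • 1 := fun t ht => hnd4 (by
    apply Subtype.ext
    have h := s.2
    rw [ht, Matrix.det_smul, Matrix.det_one, mul_one, Fintype.card_fin] at h
    show (s : Matrix (Fin 2) (Fin 2) F) ^ 4 = 1
    rw [ht, smul_pow, one_pow,
      show (4 : ℕ) = 2 * 2 from rfl, pow_mul, h, one_pow, one_smul])
  set d := τ / c with hd
  have hcd : c * d = τ := mul_div_cancel₀ τ hc
  set g0 : SL(2, F) := up c * (low d * up c * (low d)⁻¹) with hg0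
  have hg0m : ∀ m, g0 ^ (2 * m) = 1 ↔ r ^ k ∣ m := fun m => by
    rw [← hodd m]
    refine pow_eq_one_iff hτ.symm hτ0 ?_ ?_ hsns m
    · rw [hg0, trace_prod, hcd]
    · rw [hg0, low_left_prod, neg_ne_zero]
      exact mul_ne_zero hc (pow_ne_zero _ (div_ne_zero hτ0 hc))
  -- the conjugate of `a` and the product
  obtain ⟨kk, hkk⟩ := hφ (π (x * low d * x⁻¹))
  set z : ↥H := ⟨a, ha⟩ * (kk * ⟨a, ha⟩ * kk⁻¹) with hz
  set g2 : SL(2, F) := (x * g0 * x⁻¹) ^ 2 with hg2d
  have hg2 : orderOf g2 = r ^ k := by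
    rw [hg2d, conj_pow, ← MulAut.conj_apply, MulEquiv.orderOf_eq]
    refine Nat.dvd_antisymm ?_ ?_
    · rw [orderOf_dvd_iff_pow_eq_one, ← pow_mul, hg0m]
    · rw [← hg0m, pow_mul, pow_orderOf_eq_one]
  have hez : φ z = π (x * g0 * x⁻¹) := by
    rw [hz, map_mul, map_mul, map_mul, map_inv, hkk, hab, hx, ← map_inv, ← map_mul, ← map_mul, ← map_mul, hg0]
    congr 1
    group
  have hπord : orderOf (π g2) = r ^ k := by
    refine Nat.dvd_antisymm (hg2 ▸ orderOf_map_dvd π g2) ?_
    have h0 : π (g2 ^ orderOf (π g2)) = 1 := by rw [map_pow, pow_orderOf_eq_one]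
    have h1 := hker _ h0
    rw [← pow_add, ← two_mul] at h1
    have h2 := orderOf_dvd_of_pow_eq_one h1
    rw [hg2] at h2
    exact (Nat.Coprime.pow_left k ((Nat.coprime_primes hr Nat.prime_two).2 hr2)).dvd_of_dvd_mul_left h2
  set zz : ↥H := z ^ 2 with hzz
  have hdvd : r ^ k ∣ orderOf zz := by
    rw [← hπord, hg2d, map_pow, ← hez, ← map_pow, ← hzz]
    exact orderOf_map_dvd φ zz
  set y : G := ((zz ^ (orderOf zz / r ^ k) : ↥H) : G) with hy
  have hyord : orderOf y = r ^ k := by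
    rw [hy, Subgroup.orderOf_coe]
    exact orderOf_pow_orderOf_div (orderOf_pos zz).ne' hdvd
  refine ⟨kk, kk.2, y, ?_, ?_⟩
  · rintro v ⟨⟨hvV, hva⟩, w, hw, rfl⟩
    refine ⟨hvV, ?_⟩
    show (MulAut.conj (kk : G)) w ∈ Subgroup.centralizer ({y} : Set G)
    rw [Subgroup.mem_centralizer_singleton_iff]
    have hva : Commute ((MulAut.conj (kk : G)) w) a := Subgroup.mem_centralizer_singleton_iff.1 hva
    have h2 : Commute w a := Subgroup.mem_centralizer_singleton_iff.1 hw.2
    have h3 : Commute (MulAut.conj (kk : G) w) (MulAut.conj (kk : G) a) := h2.map _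
    have h4 : Commute (MulAut.conj (kk : G) w) (a * ((kk : G) * a * (kk : G)⁻¹)) := Commute.mul_right hva h3
    exact (h4.pow_right 2).pow_right _
  · have key := pow_le_relIndex hVc hVp hr hrp hk hord (hHV (zz ^ (orderOf zz / r ^ k)).2) hyord (fun hcen => by
      have h1 := (Subgroup.eq_bot_iff_forall _).1 hf _ ⟨pow_mem (zz ^ (orderOf zz / r ^ k)).2 _, hcen⟩
      have h2 := orderOf_dvd_of_pow_eq_one h1
      rw [hyord] at h2
      have := (Nat.pow_dvd_pow_iff_le_right hr.one_lt).1 h2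
      omega)
    exact key

/-- The bounds for a group with a projection to `(P)SL₂(p ^ n)`. -/
theorem bounds {V H : Subgroup G} (hVc : IsMulCommutative V) (hVp : ∀ v ∈ V, v ^ p = 1)
    (hHV : H ≤ Subgroup.normalizer (V : Set G)) (hf : H ⊓ Subgroup.centralizer (V : Set G) = ⊥)
    (hF : Fintype.card F = p ^ n) (hn : 2 ≤ n) (φ : ↥H →* Q) (hφ : Function.Surjective φ)
    (π : SL(2, F) →* Q) (hker : ∀ g, π g = 1 → g * g = 1) {a : G} (ha : a ∈ H)
    (b : SL(2, F)) (hb : b ≠ 1) (hbp : IsPGroup p (Subgroup.zpowers b)) (hab : φ ⟨a, ha⟩ = π b) :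
    (p ^ n) ^ 2 ≤ Nat.card V ∧ p ^ n ≤ (V ⊓ Subgroup.centralizer ({a} : Set G)).relIndex V := by
  obtain ⟨kk, hkk, y, hle, hy⟩ := exists_singer_lift hVc hVp hHV hf hF hn φ hφ π hker ha b hb hbp hab
  set A := V ⊓ Subgroup.centralizer ({a} : Set G) with hA
  rw [mul_comm, pow_mul] at hy
  refine ⟨hy.trans (Nat.le_of_dvd Nat.card_pos ((Subgroup.index_dvd_card _))), (Nat.pow_le_pow_iff_left two_ne_zero).1 ?_⟩
  have hidx : (A.map (MulAut.conj kk).toMonoidHom).relIndex V = A.relIndex V := by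
    conv_lhs => rw [← (Subgroup.mem_normalizer_iff_map_conj_eq.1 (hHV hkk) : V.map _ = V)]
    exact Subgroup.relIndex_map_map_of_injective _ _ (MulAut.conj kk).injective
  have h5 := hy.trans ((Nat.le_of_dvd (Nat.pos_of_ne_zero Subgroup.index_ne_zero_of_finite)
    (Subgroup.relIndex_dvd_of_le_left V hle)).trans Subgroup.relIndex_inf_le)
  rw [hidx, ← pow_two] at h5
  exact h5

/-- The fixed-point codimension of a `p`-element of a faithful `SL₂(p ^ n)`. -/
theorem le_relIndex (V H : Subgroup G) (hV : Cfsg.IsElementaryAbelian p V)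
    (hHV : H ≤ Subgroup.normalizer (V : Set G)) (hf : H ⊓ Subgroup.centralizer (V : Set G) = ⊥)
    (hF : Fintype.card F = p ^ n) (e : ↥H ≃* SL(2, F)) {a : G} (ha : a ∈ H) (ha1 : a ≠ 1)
    (hap : IsPGroup p (Subgroup.zpowers a)) :
    p ^ n ≤ (V ⊓ Subgroup.centralizer ({a} : Set G)).relIndex V := by
  have hVp : ∀ v ∈ V, v ^ p = 1 := fun v hv => hV.2 v hv
  have hac : a ∉ Subgroup.centralizer (V : Set G) := fun h => ha1 ((Subgroup.eq_bot_iff_forall _).1 hf a ⟨ha, h⟩)
  rcases Nat.lt_or_ge n 2 with hn | hn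
  · refine le_trans ?_ (pow_one_le_relIndex hVp hac)
    exact le_trans (Nat.pow_le_pow_right (Fact.out : p.Prime).pos (by omega)) (le_of_eq (pow_one p))
  have h1 : IsPGroup p (Subgroup.zpowers (⟨a, ha⟩ : ↥H)) :=
    (hap.comap_of_injective H.subtype H.subtype_injective).to_le
      (Subgroup.zpowers_le.2 (Subgroup.mem_zpowers a))
  have hbp : IsPGroup p (Subgroup.zpowers (e ⟨a, ha⟩)) := by
    have h2 := h1.map (e : ↥H →* SL(2, F))
    rwa [MonoidHom.map_zpowers] at h2
  exact (bounds hV.1 hVp hHV hf hF hn (e : ↥H →* SL(2, F)) e.surjective (MonoidHom.id _)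
    (fun g (hg : g = 1) => by rw [hg, mul_one]) ha (e ⟨a, ha⟩)
    (fun h => ha1 (congrArg Subtype.val (e.map_eq_one_iff.1 h))) hbp rfl).2


/-- The bounds for a group with quotient `PSL₂(p ^ n)` by a `p'`-group, at a nontrivial `p`-element and at
a subgroup `A` of order `p ^ 2` of a `p`-subgroup. -/
theorem psl_bounds {V H : Subgroup G} (hV : Cfsg.IsElementaryAbelian p V)
    (hHV : H ≤ Subgroup.normalizer (V : Set G)) (hf : H ⊓ Subgroup.centralizer (V : Set G) = ⊥)
    (hF : Fintype.card F = p ^ n) (hiso : Nonempty (↥H ⧸ Cfsg.pPrimeCore p ↥H ≃* Matrix.ProjectiveSpecialLinearGroup (Fin 2) F))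
    {T : Subgroup G} (hTH : T ≤ H) (hTp : IsPGroup p T) {A : Subgroup G} (hAT : A ≤ T) (hA : Nat.card A = p ^ 2) :
    (p ^ n) ^ 2 ≤ Nat.card V ∧ p ^ n ≤ (V ⊓ Subgroup.centralizer (A : Set G)).relIndex V ∧
      ∀ s ∈ T, s ≠ 1 → (p ^ n) ^ 2 ≤ ((V ⊓ Subgroup.centralizer ({s} : Set G)).relIndex V) ^ 3 := by
  classical
  have hp : p.Prime := Fact.out
  haveI : CharP F p := charP_of_card_eq_prime_pow hF
  obtain ⟨e⟩ := hiso
  set φ : ↥H →* Matrix.ProjectiveSpecialLinearGroup (Fin 2) F :=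
    e.toMonoidHom.comp (QuotientGroup.mk' _) with hφd
  have hφ : Function.Surjective φ := e.surjective.comp (QuotientGroup.mk'_surjective _)
  set π : SL(2, F) →* Matrix.ProjectiveSpecialLinearGroup (Fin 2) F := QuotientGroup.mk' _ with hπd
  have hker : ∀ g, π g = 1 → g * g = 1 := fun g hg => by
    obtain ⟨r, hr, hr'⟩ := Matrix.SpecialLinearGroup.mem_center_iff.1 ((QuotientGroup.eq_one_iff g).1 hg)
    rw [Fintype.card_fin] at hr
    apply Subtype.ext
    show (g : Matrix (Fin 2) (Fin 2) F) * g = 1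
    rw [← hr', ← map_mul, ← pow_two, hr, map_one]
  -- nontrivial `p`-elements survive in the quotient
  have hinj : ∀ s, ∀ hs : s ∈ T, φ ⟨s, hTH hs⟩ = 1 → s = 1 := fun s hs h => by
    have h1 : (⟨s, hTH hs⟩ : ↥H) ∈ Cfsg.pPrimeCore p ↥H := by
      rw [← QuotientGroup.eq_one_iff]
      exact e.injective (h.trans (map_one e).symm)
    obtain ⟨j, hj⟩ := hTp ⟨s, hs⟩
    have h2 : (⟨s, hTH hs⟩ : ↥H) ^ p ^ j = 1 := Subtype.ext (by simpa using congrArg Subtype.val hj)
    have h3 := pow_gcd_eq_one.2 ⟨h2, pow_orderOf_eq_one (⟨s, hTH hs⟩ : ↥H)⟩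
    have h4 : orderOf (⟨s, hTH hs⟩ : ↥H) ∣ Nat.card (Cfsg.pPrimeCore p ↥H) := by
      rw [← Subgroup.orderOf_mk _ h1]; exact orderOf_dvd_natCard _
    have hcop : Nat.Coprime (p ^ j) (orderOf (⟨s, hTH hs⟩ : ↥H)) :=
      Nat.Coprime.pow_left j ((Solvable.Cores.coprime_card_pPrimeCore p).coprime_dvd_left h4).symm
    rw [hcop, pow_one] at h3
    exact congrArg Subtype.val h3
  -- the rank two subgroup forces `n ≥ 2`
  have hn : 2 ≤ n := by
    let ψ : ↥A →* Matrix.ProjectiveSpecialLinearGroup (Fin 2) F := φ.comp (Subgroup.inclusion (hAT.trans hTH))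
    have hψ : Function.Injective ψ := (injective_iff_map_eq_one ψ).2 fun x hx => Subtype.ext (hinj x (hAT x.2) hx)
    have h1 : p ^ 2 ∣ Nat.card SL(2, F) := by
      rw [← hA]
      refine (Subgroup.card_dvd_of_injective ψ hψ).trans ?_
      exact Subgroup.card_dvd_of_surjective π (QuotientGroup.mk'_surjective _)
    have h2 := (hp.pow_dvd_iff_le_factorization Nat.card_pos.ne').1 h1
    have h3 := sl2_ordProj (F := F) p
    rw [hF] at h3
    rw [Nat.pow_right_injective hp.two_le h3] at h2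
    exact h2
  have main : ∀ s, s ∈ T → s ≠ 1 → (p ^ n) ^ 2 ≤ Nat.card V ∧
      p ^ n ≤ (V ⊓ Subgroup.centralizer ({s} : Set G)).relIndex V := by
    intro s hs hs1
    obtain ⟨b0, hb0⟩ := QuotientGroup.mk'_surjective _ (φ ⟨s, hTH hs⟩)
    obtain ⟨j, hj⟩ := hTp ⟨s, hs⟩
    have h2 : (⟨s, hTH hs⟩ : ↥H) ^ p ^ j = 1 := Subtype.ext (by simpa using congrArg Subtype.val hj)
    obtain ⟨b, hbπ, hbo⟩ : ∃ b, π b = φ ⟨s, hTH hs⟩ ∧ b ^ p ^ j = 1 := by
      have hk : π (b0 ^ p ^ j) = 1 := by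
        rw [map_pow]
        show (QuotientGroup.mk' _ b0) ^ p ^ j = 1
        rw [hb0, ← map_pow, h2, map_one]
      rcases hp.eq_two_or_odd' with rfl | hodd
      · refine ⟨b0, hb0, ?_⟩
        have h3 := hker _ hk
        have h4 : (b0 ^ 2 ^ j) = 1 := by
          obtain ⟨r, hr, hr'⟩ := Matrix.SpecialLinearGroup.mem_center_iff.1 ((QuotientGroup.eq_one_iff (b0 ^ 2 ^ j)).1 hk)
          rw [Fintype.card_fin] at hr
          have : r = 1 := by
            have h5 : (r - 1) ^ 2 = 0 := by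
              rw [sub_sq, hr, one_pow, mul_one, (CharTwo.two_eq_zero (R := F)), zero_mul, sub_zero]
              exact CharTwo.add_self_eq_zero 1
            exact sub_eq_zero.1 ((pow_eq_zero_iff two_ne_zero).1 h5)
          apply Subtype.ext
          rw [← hr', this, map_one]
          rfl
        exact h4
      · refine ⟨b0 ^ (p ^ j + 1), ?_, ?_⟩
        · rw [map_pow, pow_succ]
          show (π b0) ^ p ^ j * (QuotientGroup.mk' _ b0) = _
          rw [← map_pow, hk, one_mul, hb0]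
        · rw [← pow_mul, mul_comm, pow_mul]
          obtain ⟨m, hm⟩ := (hodd.pow (n := j)).add_one
          rw [hm, ← two_mul, pow_mul, pow_two, hker _ hk, one_pow]
    have hb1 : b ≠ 1 := fun h => hs1 (hinj s hs (by rw [← hbπ, h, map_one]))
    have hbp : IsPGroup p (Subgroup.zpowers b) := by
      obtain ⟨i, -, hi⟩ := (Nat.dvd_prime_pow hp).1 (orderOf_dvd_of_pow_eq_one hbo)
      exact IsPGroup.of_card (n := i) (by rw [Nat.card_zpowers, hi])
    exact bounds hV.1 (fun v hv => hV.2 v hv) hHV hf hF hn φ hφ π hker (hTH hs) b hb1 hbp hbπ.symm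
  obtain ⟨s, hs, hs1⟩ := (Subgroup.bot_or_exists_ne_one A).resolve_left (by
    rintro rfl
    rw [Subgroup.card_bot] at hA
    exact (Nat.one_lt_pow two_ne_zero hp.one_lt).ne hA)
  refine ⟨(main s (hAT hs) hs1).1, le_trans (main s (hAT hs) hs1).2 ?_, fun t ht ht1 => ?_⟩
  · refine Nat.le_of_dvd (Nat.pos_of_ne_zero Subgroup.index_ne_zero_of_finite) (Subgroup.relIndex_dvd_of_le_left _ ?_)
    exact inf_le_inf_left _ (Subgroup.centralizer_le (Set.singleton_subset_iff.2 hs))
  · refine le_trans (Nat.pow_le_pow_left (main t ht ht1).2 2) (Nat.pow_le_pow_right ?_ (by norm_num))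
    exact Nat.pos_of_ne_zero Subgroup.index_ne_zero_of_finite

end Main

end CfsgLib.LocalEven.SL2Bound
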