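/-
The `PSL₂(p ^ n)` fixed-point bounds for a module on which the group need not act faithfully.
-/
import Cfsg.Agent.Lib.LocalEven.SL2Bound
import Mathlib.GroupTheory.SemidirectProduct

set_option autoImplicit false
set_option linter.style.haveILetI false

open Matrix
open scoped MatrixGroups

namespace CfsgLib.LocalEven.ModuleQuotient

variable {p : ℕ} [Fact p.Prime] {F : Type*} [Field F]

theorem center_mul_self {g : SL(2, F)} (hg : g ∈ Subgroup.center SL(2, F)) : g * g = 1 := by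
  obtain ⟨r, hr, hr'⟩ := Matrix.SpecialLinearGroup.mem_center_iff.1 hg
  rw [Fintype.card_fin] at hr
  apply Subtype.ext
  show (g : Matrix (Fin 2) (Fin 2) F) * g = 1
  rw [← hr', ← map_mul, ← pow_two, hr, map_one]

/-- A `p`-element of `PSL₂` lifts to a `p`-element of `SL₂` in characteristic `p`. -/
theorem exists_lift [CharP F p] {x : Matrix.ProjectiveSpecialLinearGroup (Fin 2) F} {j : ℕ} (hx : x ^ p ^ j = 1) :
    ∃ b : SL(2, F), QuotientGroup.mk' _ b = x ∧ b ^ p ^ j = 1 := by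
  have hp : p.Prime := Fact.out
  obtain ⟨b0, hb0⟩ := QuotientGroup.mk'_surjective _ x
  have hk : b0 ^ p ^ j ∈ Subgroup.center SL(2, F) := by
    have h : QuotientGroup.mk' (Subgroup.center SL(2, F)) (b0 ^ p ^ j) = 1 := by rw [map_pow, hb0, hx]
    exact (QuotientGroup.eq_one_iff _).1 h
  rcases hp.eq_two_or_odd' with rfl | hodd
  · refine ⟨b0, hb0, ?_⟩
    obtain ⟨r, hr, hr'⟩ := Matrix.SpecialLinearGroup.mem_center_iff.1 hk
    rw [Fintype.card_fin] at hr
    have hr1 : r = 1 := by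
      have h5 : (r - 1) ^ 2 = 0 := by
        rw [sub_sq, hr, one_pow, mul_one, (CharTwo.two_eq_zero (R := F)), zero_mul, sub_zero]
        exact CharTwo.add_self_eq_zero 1
      exact sub_eq_zero.1 ((pow_eq_zero_iff two_ne_zero).1 h5)
    apply Subtype.ext
    rw [← hr', hr1, map_one]
    rfl
  · refine ⟨b0 ^ (p ^ j + 1), ?_, ?_⟩
    · rw [map_pow, pow_succ, hb0, hx, one_mul]
    · rw [← pow_mul, mul_comm, pow_mul]
      obtain ⟨m, hm⟩ := (hodd.pow (n := j)).add_one
      rw [hm, ← two_mul, pow_mul, pow_two, center_mul_self hk, one_pow]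

/-- Bounds on the fixed points, the group acting possibly unfaithfully with kernel inside that of `φ`. -/
theorem bounds {G : Type*} [Group G] [Finite G] [Fintype F] {n : ℕ} (W : Subgroup G) [hWn : W.Normal]
    (hWc : IsMulCommutative W) (hWp : ∀ v ∈ W, v ^ p = 1) (hF : Fintype.card F = p ^ n) (hn : 2 ≤ n)
    (φ : G →* Matrix.ProjectiveSpecialLinearGroup (Fin 2) F) (hφ : Function.Surjective φ)
    (hker : ∀ g ∈ Subgroup.centralizer (W : Set G), φ g = 1) {a : G} (ha : IsPGroup p (Subgroup.zpowers a))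
    (ha1 : φ a ≠ 1) :
    p ^ n ≤ (W ⊓ Subgroup.centralizer ({a} : Set G)).relIndex W ∧
      (p ^ n) ^ 2 ≤ (W ⊓ Subgroup.centralizer ((⊤ : Subgroup G) : Set G)).relIndex W := by
  classical
  haveI : CharP F p := charP_of_card_eq_prime_pow hF
  set c : G →* MulAut W := MulAut.conjNormal with hc
  set R := c.range
  let act : R →* MulAut W := R.subtype
  haveI : Finite (↥W ⋊[act] ↥R) := Finite.of_equiv _ SemidirectProduct.equivProd.symm
  set L := ↥W ⋊[act] ↥R
  set V : Subgroup L := (SemidirectProduct.inl : ↥W →* L).range with hVd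
  set H : Subgroup L := (SemidirectProduct.inr : ↥R →* L).range with hHd
  have hVc : IsMulCommutative V := ⟨⟨by
    rintro ⟨_, v, rfl⟩ ⟨_, w, rfl⟩
    apply Subtype.ext
    show SemidirectProduct.inl v * SemidirectProduct.inl w = SemidirectProduct.inl w * SemidirectProduct.inl v
    rw [← map_mul, ← map_mul, mul_comm' v w]⟩⟩
  have hVp : ∀ v ∈ V, v ^ p = 1 := by
    rintro _ ⟨v, rfl⟩
    rw [← map_pow, show v ^ p = 1 from Subtype.ext (by simpa using hWp v v.2), map_one]
  have hconj : ∀ (r : R) (v : W), (SemidirectProduct.inr r : L) * SemidirectProduct.inl v * (SemidirectProduct.inr r)⁻¹ =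
      SemidirectProduct.inl (act r v) := fun r v => by rw [SemidirectProduct.inl_aut, map_inv]
  have hHV : H ≤ Subgroup.normalizer (V : Set L) := Subgroup.le_normalizer_iff.2 (by
    rintro _ ⟨r, rfl⟩ _ ⟨v, rfl⟩
    exact ⟨_, (hconj r v).symm⟩)
  have hf : H ⊓ Subgroup.centralizer (V : Set L) = ⊥ := by
    rw [Subgroup.eq_bot_iff_forall]
    rintro _ ⟨⟨r, rfl⟩, hr⟩
    have : r = 1 := by
      refine Subtype.ext (MulEquiv.ext fun v => ?_)
      have h1 := hr (SemidirectProduct.inl v) ⟨v, rfl⟩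
      exact SemidirectProduct.inl_injective (φ := act)
        ((hconj r v).symm.trans (mul_inv_eq_iff_eq_mul.2 h1.symm))
    rw [this, map_one]
  let θ : ↥H →* Matrix.ProjectiveSpecialLinearGroup (Fin 2) F :=
    ((QuotientGroup.lift c.ker φ fun g hg => hker g fun v hv => by
      have h1 : ((c g ⟨v, hv⟩ : W) : G) = v := by rw [MonoidHom.mem_ker.1 hg]; rfl
      rw [hc, MulAut.conjNormal_apply] at h1
      exact (mul_inv_eq_iff_eq_mul.1 h1).symm).comp
      ((QuotientGroup.quotientKerEquivRange c).symm.toMonoidHom.comp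
        (MonoidHom.ofInjective (SemidirectProduct.inr_injective (φ := act))).symm.toMonoidHom))
  have hθ : ∀ g : G, ∀ hg, θ ⟨SemidirectProduct.inr ⟨c g, g, rfl⟩, hg⟩ = φ g := by
    intro g hg
    have e1 : (MonoidHom.ofInjective (SemidirectProduct.inr_injective (φ := act))).symm
        ⟨SemidirectProduct.inr ⟨c g, g, rfl⟩, hg⟩ = ⟨c g, g, rfl⟩ := by
      rw [MulEquiv.symm_apply_eq]
      exact Subtype.ext rfl
    have e2 : (QuotientGroup.quotientKerEquivRange c).symm ⟨c g, g, rfl⟩ = QuotientGroup.mk g := by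
      rw [MulEquiv.symm_apply_eq]
      rfl
    simp only [θ, MonoidHom.comp_apply, MulEquiv.coe_toMonoidHom]
    rw [e1, e2]
    rfl
  have hθs : Function.Surjective θ := fun x => by
    obtain ⟨g, rfl⟩ := hφ x
    exact ⟨⟨SemidirectProduct.inr ⟨c g, g, rfl⟩, ⟨_, rfl⟩⟩, hθ g ⟨_, rfl⟩⟩
  obtain ⟨k, hk⟩ := ha.exists_card_eq
  rw [Nat.card_zpowers] at hk
  have hxa : φ a ^ p ^ k = 1 := by rw [← map_pow, ← hk, pow_orderOf_eq_one, map_one]
  obtain ⟨b, hb, hbo⟩ := exists_lift hxa
  have hbp : IsPGroup p (Subgroup.zpowers b) := by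
    obtain ⟨i, -, hi⟩ := (Nat.dvd_prime_pow (Fact.out : p.Prime)).1 (orderOf_dvd_of_pow_eq_one hbo)
    exact IsPGroup.of_card (n := i) (by rw [Nat.card_zpowers, hi])
  have hb1 : b ≠ 1 := fun h => ha1 (by rw [← hb, h, map_one])
  have hπ : ∀ g : SL(2, F), QuotientGroup.mk' (Subgroup.center SL(2, F)) g = 1 → g * g = 1 := fun g hg =>
    center_mul_self ((QuotientGroup.eq_one_iff g).1 hg)
  set a' : L := SemidirectProduct.inr ⟨c a, a, rfl⟩
  have ha' : a' ∈ H := ⟨_, rfl⟩
  have hab : θ ⟨a', ha'⟩ = QuotientGroup.mk' (Subgroup.center SL(2, F)) b := (hθ a ha').trans hb.symm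
  have htr : ∀ (g : G) (v : W), (SemidirectProduct.inl v : L) ∈
      Subgroup.centralizer ({SemidirectProduct.inr ⟨c g, g, rfl⟩} : Set L) ↔
        (v : G) ∈ Subgroup.centralizer ({g} : Set G) := by
    intro g v
    rw [Subgroup.mem_centralizer_singleton_iff, Subgroup.mem_centralizer_singleton_iff]
    have e : act ⟨c g, g, rfl⟩ v = c g v := rfl
    constructor
    · intro h
      have h1 := hconj ⟨c g, g, rfl⟩ v
      rw [← h, mul_inv_cancel_right, e] at h1
      have h2 := congrArg Subtype.val (SemidirectProduct.inl_injective h1)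
      rw [hc, MulAut.conjNormal_apply, eq_mul_inv_iff_mul_eq] at h2
      exact h2
    · intro h
      have h1 : c g v = v := Subtype.ext (by rw [hc, MulAut.conjNormal_apply, ← h, mul_inv_cancel_right])
      have h2 := hconj ⟨c g, g, rfl⟩ v
      rw [e, h1, mul_inv_eq_iff_eq_mul] at h2
      exact h2.symm
  have hidx : ∀ (U : Subgroup L) (U' : Subgroup G),
      (∀ v : W, (SemidirectProduct.inl v : L) ∈ U ↔ (v : G) ∈ U') →
      (V ⊓ U).relIndex V = (W ⊓ U').relIndex W := by
    intro U U' hU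
    rw [inf_comm V U, inf_comm W U', Subgroup.inf_relIndex_right, Subgroup.inf_relIndex_right,
      hVd, ← Subgroup.index_comap, Subgroup.relIndex]
    congr 1
    ext v
    exact hU v
  constructor
  · have h1 := (SL2Bound.bounds hVc hVp hHV hf hF hn θ hθs (QuotientGroup.mk' _) hπ ha' b hb1 hbp hab).2
    rwa [hidx _ _ fun v => htr a v] at h1
  · obtain ⟨kk, hkk, y, hle, hy⟩ :=
      SL2Bound.exists_singer_lift hVc hVp hHV hf hF hn θ hθs (QuotientGroup.mk' _) hπ ha' b hb1 hbp hab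
    obtain ⟨r₀, rfl⟩ := hkk
    obtain ⟨g₀, hg₀⟩ := r₀.2
    have e0 : r₀ = ⟨c g₀, g₀, rfl⟩ := Subtype.ext hg₀.symm
    have key : (V ⊓ Subgroup.centralizer ({y} : Set L)).relIndex V =
        (W ⊓ ((V ⊓ Subgroup.centralizer ({y} : Set L)).comap
          (SemidirectProduct.inl : ↥W →* L)).map W.subtype).relIndex W := by
      have e : V ⊓ Subgroup.centralizer ({y} : Set L) = V ⊓ (V ⊓ Subgroup.centralizer ({y} : Set L)) := by
        rw [← inf_assoc, inf_idem]
      conv_lhs => rw [e]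
      refine hidx _ _ fun v => ?_
      exact ⟨fun h => ⟨v, h, rfl⟩, fun ⟨w, hw, e⟩ => (Subtype.ext e : w = v) ▸ hw⟩
    rw [← pow_mul, mul_comm]
    refine hy.trans (key.le.trans ?_)
    refine Nat.le_of_dvd (Nat.pos_of_ne_zero Subgroup.index_ne_zero_of_finite) (Subgroup.relIndex_dvd_of_le_left _ ?_)
    rintro x ⟨hxW, hxc⟩
    have hxa : (x : G) ∈ Subgroup.centralizer ({a} : Set G) :=
      Subgroup.mem_centralizer_singleton_iff.2 (hxc a trivial).symm
    refine ⟨hxW, ⟨⟨x, hxW⟩, hle ⟨⟨⟨_, rfl⟩, (htr a ⟨x, hxW⟩).2 hxa⟩, SemidirectProduct.inl ⟨x, hxW⟩,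
      ⟨⟨_, rfl⟩, (htr a ⟨x, hxW⟩).2 hxa⟩, ?_⟩, rfl⟩⟩
    show (SemidirectProduct.inr r₀ : L) * SemidirectProduct.inl (⟨x, hxW⟩ : ↥W) * (SemidirectProduct.inr r₀)⁻¹ = _
    rw [hconj]
    congr 1
    rw [e0]
    show c g₀ ⟨x, hxW⟩ = _
    exact Subtype.ext (by rw [hc, MulAut.conjNormal_apply, hxc g₀ trivial, mul_inv_cancel_right])

end CfsgLib.LocalEven.ModuleQuotient
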