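/-
The module of a pushing-up situation, with its minimality consequence that it is moved by an element of order
prime to `p` (variant of `PushingUp.exists_module`).
-/
import Cfsg.Agent.Lib.LocalEvenB.PushingUp

set_option autoImplicit false
set_option linter.unusedSectionVars false
set_option linter.style.haveILetI false

namespace CfsgLib.LocalEven.PushingUpModule

open CfsgLib.LocalEvenB.PushingUp
open scoped Pointwise commutatorElement

variable {G : Type*} [Group G] [Finite G] {p : ℕ} [Fact p.Prime]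

local notation "ℭ" X:max => Subgroup.centralizer (SetLike.coe X)

variable {S M T : Subgroup G}

/-- No over-offenders, counted with characters fixed by a Sylow subgroup. -/
theorem exists_module_nontriv (hs : Setup p S M T) (V : Subgroup G) (hVn : V.Normal) (hVS : V ≤ S)
    (hVab : IsMulCommutative V) (hV : Nontriv p V) :
    ∃ W : Subgroup G, W ≤ V ∧ W.Normal ∧ Nontriv p W ∧ S ⊓ ℭ W ≤ T ∧
      ∀ A : Subgroup G, A ≤ S → T.relIndex A * Nat.card ↥(W ⊓ ℭ A) ≤ Nat.card W := by
  classical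
  haveI := hs.normal
  obtain ⟨W, ⟨hWn, hWV, hWnt⟩, hWmin⟩ := Set.Finite.exists_minimal
    (Set.toFinite {W : Subgroup G | W.Normal ∧ W ≤ V ∧ Nontriv p W}) ⟨V, hVn, le_rfl, hV⟩
  haveI := hWn
  have hker : S ⊓ ℭ W ≤ T := by
    by_contra hc
    obtain ⟨x, hx, u, hu, hne⟩ := hWnt
    exact hne (Subgroup.mem_centralizer_iff.mp (mem_of_coprime hs (ℭ W) hc hx) u hu).symm
  refine ⟨W, hWV, hWn, hWnt, hker, fun A hA => ?_⟩
  have hWp : IsPGroup p W := hs.isPGroup.to_le (hWV.trans hVS)
  haveI := hVab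
  have hcom : ∀ a b : W, a * b = b * a := fun a b => by
    apply Subtype.ext
    have := congrArg (fun t : V => (t : G)) (hVab.is_comm.comm (⟨(a : G), hWV a.2⟩ : V) ⟨(b : G), hWV b.2⟩)
    simpa using this
  letI : CommGroup W := { (inferInstance : Group W) with mul_comm := hcom }
  obtain ⟨g, hg⟩ := hs.spread
  set S' := S.map (MulAut.conj g).toMonoidHom with hS'
  haveI : NeZero (Monoid.exponent W) := ⟨Monoid.exponent_ne_zero_of_finite⟩
  -- the action on characters
  let cj : G → (W →* W) := fun x => (MulAut.conjNormal x : W ≃* W).toMonoidHom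
  have hcj : ∀ x y : G, ∀ u : W, cj (x * y) u = cj x (cj y u) := fun x y u => by
    simp [cj, map_mul]
  have hcjv : ∀ (x : G) (u : W), ((cj x u : W) : G) = x * (u : G) * x⁻¹ := fun x u => by simp [cj]
  let act : MulAction S' (W →* ℂˣ) :=
    { smul := fun s χ => χ.comp (cj (s : G)⁻¹)
      one_smul := fun χ => MonoidHom.ext fun u => by
        show χ (cj (((1 : S') : G))⁻¹ u) = χ u
        congr 1; exact Subtype.ext (by simp [hcjv])
      mul_smul := fun s t χ => MonoidHom.ext fun u => by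
        show χ (cj (((s * t : S') : G))⁻¹ u) = χ (cj (t : G)⁻¹ (cj (s : G)⁻¹ u))
        rw [← hcj]; simp }
  have hS'p : IsPGroup p S' := hs.isPGroup.map _
  have hcardchar : Nat.card (W →* ℂˣ) = Nat.card W :=
    CommGroup.card_monoidHom_of_hasEnoughRootsOfUnity W ℂ
  have hWne : W ≠ ⊥ := by
    obtain ⟨x, -, u, hu, hne⟩ := hWnt
    intro h
    rw [h, Subgroup.mem_bot] at hu
    exact hne (by rw [hu]; simp)
  haveI : Finite (W →* ℂˣ) := Nat.finite_of_card_ne_zero (by rw [hcardchar]; exact Nat.card_pos.ne')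
  have hdvd : p ∣ Nat.card (W →* ℂˣ) := by
    rw [hcardchar]
    obtain ⟨k, hk⟩ := IsPGroup.iff_card.mp hWp
    rcases k with _ | k
    · exact absurd (Subgroup.card_eq_one.mp (by simpa using hk)) hWne
    · exact hk ▸ dvd_pow_self p (Nat.succ_ne_zero k)
  obtain ⟨χ, hχ, hχ1⟩ := hS'p.exists_fixed_point_of_prime_dvd_card_of_fixed_point (W →* ℂˣ) hdvd
    (a := 1) (fun s => MonoidHom.ext fun u => rfl)
  let St : Subgroup G :=
    { carrier := {x | ∀ u : W, χ (cj x u) = χ u}
      one_mem' := fun u => by congr 1; exact Subtype.ext (by simp [hcjv])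
      mul_mem' := fun {x y} hx hy u => by rw [hcj, hx, hy]
      inv_mem' := fun {x} hx u => by
        rw [← hx (cj x⁻¹ u), ← hcj]; congr 1; exact Subtype.ext (by simp [hcjv]) }
  have hS'St : S' ≤ St := fun s hsS u => by
    have := DFunLike.congr_fun (hχ ⟨s⁻¹, inv_mem hsS⟩) u
    change χ (cj (s⁻¹)⁻¹ u) = χ u at this
    rwa [inv_inv] at this
  -- not everything fixes χ
  have hSt : St ≠ ⊤ := by
    intro htop
    set U := (χ.ker).map W.subtype with hU
    have hUW : U ≤ W := Subgroup.map_subtype_le _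
    have hUn : U.Normal := by
      refine ⟨?_⟩
      rintro _ ⟨u, hu, rfl⟩ x
      refine ⟨cj x u, ?_, hcjv x u⟩
      rw [SetLike.mem_coe, MonoidHom.mem_ker, (htop ▸ Subgroup.mem_top x : x ∈ St) u]
      exact hu
    have hUne : U ≠ W := by
      intro hUe
      apply hχ1
      refine MonoidHom.ext fun u => ?_
      obtain ⟨v, hv, hvu⟩ : (u : G) ∈ U := hUe.symm ▸ u.2
      rw [MonoidHom.one_apply, ← (Subtype.ext hvu : v = u)]
      exact (MonoidHom.mem_ker.mp hv).symm
    obtain ⟨x, hx, u, hu, hne⟩ := hWnt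
    apply hne
    have hU0 : ∀ v ∈ U, x * v = v * x := by
      intro v hv
      by_contra hne'
      exact hUne (le_antisymm hUW (hWmin ⟨hUn, hUW.trans hWV, x, hx, v, hv, hne'⟩ hUW))
    set c := x * u * x⁻¹ * u⁻¹ with hc
    have hcU : c ∈ U := by
      refine ⟨cj x ⟨u, hu⟩ * (⟨u, hu⟩ : W)⁻¹, ?_, ?_⟩
      · rw [SetLike.mem_coe, MonoidHom.mem_ker, map_mul, map_inv,
          (htop ▸ Subgroup.mem_top x : x ∈ St) ⟨u, hu⟩, mul_inv_cancel]
      · simp [hcjv, hc]
    obtain ⟨k, hk⟩ := hWp ⟨c, hUW hcU⟩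
    have h1 := fixed_of_step (u := u) (c := c) (by rw [hc]; group) (hU0 c hcU) hx
      ⟨k, by simpa using congrArg Subtype.val hk⟩
    calc x * u = c * (u * x) := by rw [hc]; group
      _ = u * x := by rw [h1, one_mul]
  have hkey : ∀ a ∈ S, a ∈ St → a ∈ T := by
    intro a haS haSt
    by_contra haT
    apply hSt
    have h1 : S ≤ St.comap (MulAut.conj g).toMonoidHom := fun s hsS => hS'St ⟨s, hsS, rfl⟩
    have h2 : ¬ St.comap (MulAut.conj g).toMonoidHom ≤ M := by
      intro hle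
      apply haT (hg a haS ?_)
      refine ⟨g⁻¹ * a * g, hle ?_, by simp [mul_assoc]⟩
      show g * (g⁻¹ * a * g) * g⁻¹ ∈ St
      simpa [mul_assoc] using haSt
    have h3 := hs.top_of _ h1 h2
    rw [eq_top_iff]
    intro x _
    have : g⁻¹ * x * g ∈ St.comap (MulAut.conj g).toMonoidHom := h3 ▸ Subgroup.mem_top _
    simpa [mul_assoc] using Subgroup.mem_comap.mp this
  -- the injection
  set D : Subgroup W := (W ⊓ ℭ A).subgroupOf W with hD
  have hψ : ∀ a : A, D ≤ ((χ.comp (cj (a : G))) * χ⁻¹).ker := by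
    intro a u hu
    have hu' := (Subgroup.mem_inf.mp (Subgroup.mem_subgroupOf.mp hu)).2
    have he : cj (a : G) u = u := Subtype.ext (by
      rw [hcjv, Subgroup.mem_centralizer_iff.mp hu' a a.2, mul_inv_cancel_right])
    rw [MonoidHom.mem_ker, MonoidHom.mul_apply, MonoidHom.comp_apply, he, MonoidHom.inv_apply,
      mul_inv_cancel]
  let Ψ : A → ((W ⧸ D) →* ℂˣ) := fun a => QuotientGroup.lift D _ (hψ a)
  have hΨ : ∀ a b : A, (a : G)⁻¹ * (b : G) ∈ T → Ψ a = Ψ b → True := fun _ _ _ _ => trivial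
  let R : Subgroup A := T.subgroupOf A
  have hinj : ∀ a b : A, Ψ a = Ψ b → ((a : G) * (b : G)⁻¹) ∈ T := by
    intro a b hab
    refine hkey _ (mul_mem (hA a.2) (inv_mem (hA b.2))) fun u => ?_
    have h1 := DFunLike.congr_fun hab (QuotientGroup.mk (cj (b : G)⁻¹ u))
    simp only [Ψ, QuotientGroup.lift_mk, MonoidHom.mul_apply, MonoidHom.comp_apply] at h1
    have h2 := mul_right_cancel h1
    rw [← hcj, ← hcj, mul_inv_cancel] at h2
    rw [h2]; congr 1; exact Subtype.ext (by simp [hcjv])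
  have hle : T.relIndex A ≤ Nat.card (W ⧸ D) := by
    haveI : NeZero (Monoid.exponent (W ⧸ D)) := ⟨Monoid.exponent_ne_zero_of_finite⟩
    rw [← CommGroup.card_monoidHom_of_hasEnoughRootsOfUnity (W ⧸ D) ℂ]
    haveI : Finite ((W ⧸ D) →* ℂˣ) := Nat.finite_of_card_ne_zero (by
      rw [CommGroup.card_monoidHom_of_hasEnoughRootsOfUnity (W ⧸ D) ℂ]; exact Nat.card_pos.ne')
    have hrel : T.relIndex A = Nat.card (A ⧸ R) := rfl
    rw [hrel]
    refine Nat.card_le_card_of_injective (fun q : A ⧸ R => Ψ q.out) ?_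
    intro q q' hqq
    have h1 := hinj _ _ hqq
    rw [← QuotientGroup.out_eq' q, ← QuotientGroup.out_eq' q', QuotientGroup.eq]
    show ((q.out : A) : G)⁻¹ * ((q'.out : A) : G) ∈ T
    have h2 := hs.normal.conj_mem _ (inv_mem h1) ((q.out : A) : G)⁻¹
    simpa [mul_assoc] using h2
  calc T.relIndex A * Nat.card ↥(W ⊓ ℭ A) ≤ Nat.card (W ⧸ D) * Nat.card ↥(W ⊓ ℭ A) :=
        Nat.mul_le_mul_right _ hle
    _ = Nat.card W := by
        rw [Subgroup.card_eq_card_quotient_mul_card_subgroup D, hD,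
          Nat.card_congr (Subgroup.subgroupOfEquivOfLe (inf_le_left : W ⊓ ℭ A ≤ W)).toEquiv]

end CfsgLib.LocalEven.PushingUpModule
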