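/-
Pushing up over `PSL₂(p ^ n)`: if `y ∈ Z(S)` is not central then `Z(J(S))` is a product of an elementary
abelian part fixed by `S` and a part centralized by the normal closure of `C_S(Z(J(S)))`.
-/
import Cfsg.Agent.Lib.LocalEven.PushingUpModule
import Cfsg.Agent.Lib.LocalEven.ModuleQuotient
import Cfsg.Agent.Lib.Fusion.Thompson

set_option autoImplicit false
set_option linter.unusedSectionVars false
set_option linter.style.haveILetI false

open Matrix
open scoped MatrixGroups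

namespace CfsgLib.LocalEven.PushingUpClosure

open CfsgLib.LocalEvenB.PushingUp

variable {G : Type*} [Group G] [Finite G]

local notation "ℭ" X:max => Subgroup.centralizer (SetLike.coe X)

/-- An abelian subgroup of `S` of largest order. -/
def IsMaxAb (S A : Subgroup G) : Prop :=
  A ≤ S ∧ A ≤ ℭ A ∧ ∀ B : Subgroup G, B ≤ S → B ≤ ℭ B → Nat.card B ≤ Nat.card A

theorem abelian_sup {A B : Subgroup G} (hA : A ≤ ℭ A) (hB : B ≤ ℭ B) (h : A ≤ ℭ B) : A ⊔ B ≤ ℭ (A ⊔ B) := by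
  have h' : B ≤ ℭ A := fun b hb a ha => (h ha b hb).symm
  refine sup_le (fun a ha x hx => ?_) (fun a ha x hx => ?_)
  · have : A ⊔ B ≤ Subgroup.centralizer {a} :=
      sup_le (fun u hu => Subgroup.mem_centralizer_singleton_iff.2 (hA ha u hu))
        (fun u hu => Subgroup.mem_centralizer_singleton_iff.2 (h ha u hu))
    exact Subgroup.mem_centralizer_singleton_iff.1 (this hx)
  · have : A ⊔ B ≤ Subgroup.centralizer {a} :=
      sup_le (fun u hu => Subgroup.mem_centralizer_singleton_iff.2 (h' ha u hu))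
        (fun u hu => Subgroup.mem_centralizer_singleton_iff.2 (hB ha u hu))
    exact Subgroup.mem_centralizer_singleton_iff.1 (this hx)

theorem le_thompson {S A : Subgroup G} (hA : IsMaxAb S A) : A ≤ Cfsg.thompsonSubgroupAOf S := by
  intro a ha
  refine ⟨⟨a, hA.1 ha⟩, le_sSup (show A.subgroupOf S ∈ Cfsg.maxAbelianSubgroups S from ⟨?_, fun B hB => ?_⟩)
    (Subgroup.mem_subgroupOf.2 ha), rfl⟩
  · exact ⟨⟨fun x y => Subtype.ext (Subtype.ext (hA.2.1 y.2 _ x.2))⟩⟩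
  · rw [Nat.card_congr (Subgroup.subgroupOfEquivOfLe hA.1).toEquiv,
      ← Subgroup.card_map_of_injective S.subtype_injective (K := B)]
    refine hA.2.2 _ (Subgroup.map_subtype_le B) ?_
    rintro _ ⟨x, hx, rfl⟩ _ ⟨y, hy, rfl⟩
    haveI := hB
    have := mul_comm' (⟨y, hy⟩ : B) ⟨x, hx⟩
    exact congrArg (fun t : B => ((t : S) : G)) this

theorem thompson_le_iff {S X : Subgroup G} :
    Cfsg.thompsonSubgroupAOf S ≤ X ↔ ∀ A, IsMaxAb S A → A ≤ X := by
  refine ⟨fun h A hA => (le_thompson hA).trans h, fun h => ?_⟩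
  rw [Cfsg.thompsonSubgroupAOf, Subgroup.map_le_iff_le_comap]
  refine sSup_le fun B hB => ?_
  rw [← Subgroup.map_le_iff_le_comap]
  refine h _ ⟨Subgroup.map_subtype_le B, ?_, fun C hCS hC => ?_⟩
  · rintro _ ⟨x, hx, rfl⟩ _ ⟨y, hy, rfl⟩
    haveI := hB.1
    exact congrArg (fun t : B => ((t : S) : G)) (mul_comm' (⟨y, hy⟩ : B) ⟨x, hx⟩)
  · rw [Subgroup.card_map_of_injective S.subtype_injective, ← Nat.card_congr (Subgroup.subgroupOfEquivOfLe hCS).toEquiv]
    exact hB.2 _ ⟨⟨fun x y => Subtype.ext (Subtype.ext (hC y.2 _ x.2))⟩⟩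

theorem exists_maxAb (S : Subgroup G) : ∃ A, IsMaxAb S A := by
  obtain ⟨A, ⟨h1, h2⟩, hmax⟩ := Set.exists_max_image {A : Subgroup G | A ≤ S ∧ A ≤ ℭ A}
    (fun A => Nat.card A) (Set.toFinite _) ⟨⊥, bot_le, bot_le⟩
  exact ⟨A, h1, h2, fun B hB hB' => hmax B ⟨hB, hB'⟩⟩

theorem IsMaxAb.mem {S A : Subgroup G} (hA : IsMaxAb S A) {x : G} (hxS : x ∈ S) (hc : ∀ a ∈ A, a * x = x * a) :
    x ∈ A := by
  have hz : Subgroup.zpowers x ≤ ℭ (Subgroup.zpowers x) := by
    rintro _ ⟨i, rfl⟩ _ ⟨j, rfl⟩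
    exact zpow_mul_comm x j i
  have hsup := abelian_sup hA.2.1 hz (fun a ha u hu => by
    obtain ⟨i, rfl⟩ := hu
    exact ((show Commute a x from hc a ha).zpow_right i).symm)
  have e := Subgroup.eq_of_le_of_card_ge (le_sup_left : A ≤ A ⊔ Subgroup.zpowers x)
    (hA.2.2 _ (sup_le hA.1 (Subgroup.zpowers_le.2 hxS)) hsup)
  rw [e]
  exact Subgroup.mem_sup_right (Subgroup.mem_zpowers x)

theorem center_le {S A : Subgroup G} (hA : IsMaxAb S A) : Cfsg.centerThompsonAOf S ≤ A := fun x hx =>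
  hA.mem ((Subgroup.map_subtype_le _) hx.1) fun a ha => hx.2 a (le_thompson hA ha)

theorem centralizer_inf_le {S : Subgroup G} : S ⊓ ℭ S ≤ Cfsg.centerThompsonAOf S := by
  obtain ⟨A, hA⟩ := exists_maxAb S
  exact fun x hx => ⟨le_thompson hA (hA.mem hx.1 fun a ha => hx.2 a (hA.1 ha)),
    fun j hj => hx.2 j (Subgroup.map_subtype_le _ hj)⟩

theorem IsMaxAb.map {S A T : Subgroup G} [T.Normal] (hA : IsMaxAb S A) (hAT : A ≤ T) (hTS : T ≤ S) (g : G) :
    IsMaxAb S (A.map (MulAut.conj g).toMonoidHom) ∧ A.map (MulAut.conj g).toMonoidHom ≤ T := by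
  have hle : A.map (MulAut.conj g).toMonoidHom ≤ T := by
    rintro _ ⟨a, ha, rfl⟩
    exact ‹T.Normal›.conj_mem a (hAT ha) g
  refine ⟨⟨hle.trans hTS, ?_, fun B hB hB' => ?_⟩, hle⟩
  · rintro _ ⟨a, ha, rfl⟩ _ ⟨c, hc, rfl⟩
    exact (show Commute c a from hA.2.1 ha c hc).map (MulAut.conj g).toMonoidHom
  · rw [Subgroup.card_map_of_injective (MulAut.conj g).injective]
    exact hA.2.2 B hB hB'

theorem normal_of_map_le {N : Subgroup G} (h : ∀ g : G, N.map (MulAut.conj g).toMonoidHom ≤ N) : N.Normal :=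
  ⟨fun n hn g => h g ⟨n, hn, rfl⟩⟩

theorem normal_centralizer {N : Subgroup G} (hN : N.Normal) : (ℭ N).Normal := by
  refine ⟨fun c hc g x hx => ?_⟩
  have h1 := hc _ (by simpa using hN.conj_mem x hx g⁻¹ : g⁻¹ * x * g ∈ N)
  calc x * (g * c * g⁻¹) = g * ((g⁻¹ * x * g) * c) * g⁻¹ := by group
    _ = g * (c * (g⁻¹ * x * g)) * g⁻¹ := by rw [h1]
    _ = _ := by group

theorem normal_inf {A B : Subgroup G} (hA : A.Normal) (hB : B.Normal) : (A ⊓ B).Normal :=
  ⟨fun x hx g => ⟨hA.conj_mem x hx.1 g, hB.conj_mem x hx.2 g⟩⟩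

theorem eq_sup_of_index {Y W C : Subgroup G} (hWY : W ≤ Y) (hCY : C ≤ Y) (hY : Y ≤ ℭ Y)
    (h : Nat.card Y * Nat.card ↥(W ⊓ C) ≤ Nat.card W * Nat.card C) : Y = W ⊔ C := by
  have hn : C ≤ Subgroup.normalizer (W : Set G) := fun c hc => Subgroup.centralizer_le_normalizer _
    fun w hw => (hY (hCY hc)) w (hWY hw)
  refine (Subgroup.eq_of_le_of_card_ge (sup_le hWY hCY) ?_).symm
  rw [← CfsgLib.Fusion.Thompson.card_sup_mul_card_inf hn] at h
  exact Nat.le_of_mul_le_mul_right h Nat.card_pos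

variable {p : ℕ} [Fact p.Prime] {S M T : Subgroup G}

/-- The kernel of a projection onto `PSL₂` meets `S` inside `T`, and `|S : T| ≤ q`. -/
theorem kernel_facts (hs : Setup p S M T) {F : Type*} [Field F] [Fintype F] {n : ℕ} (hn : 1 ≤ n)
    (hF : Fintype.card F = p ^ n) (φ : G →* Matrix.ProjectiveSpecialLinearGroup (Fin 2) F)
    (hφ : Function.Surjective φ) :
    S ⊓ φ.ker ≤ T ∧ T.relIndex S ≤ p ^ n ∧ ∀ C : Subgroup G, C.Normal → S ⊓ C ≤ T → 2 ≤ n → C ≤ φ.ker := by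
  have hp : p.Prime := Fact.out
  haveI : CharP F p := charP_of_card_eq_prime_pow hF
  have hq : 2 ≤ Fintype.card F := Fintype.one_lt_card
  set π : SL(2, F) →* Matrix.ProjectiveSpecialLinearGroup (Fin 2) F := QuotientGroup.mk' _
  have hsl := Subgroup.card_eq_card_quotient_mul_card_subgroup (Subgroup.center (SL(2, F)))
  have hz : Nat.card (Subgroup.center (SL(2, F))) ∣ 2 := by
    rw [CfsgLib.Classical.card_center_sl 2 (by norm_num)]
    exact Nat.gcd_dvd_left _ _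
  rw [CfsgLib.Classical.card_sl2 rfl] at hsl
  have hcop : Nat.Coprime (Fintype.card F ^ 2 - 1) p := by
    rw [Nat.coprime_comm, hp.coprime_iff_not_dvd]
    intro hd
    have h1 : p ∣ Fintype.card F ^ 2 := hF ▸ dvd_pow (dvd_pow_self p (by omega)) (by norm_num)
    have h2 := Nat.dvd_sub h1 hd
    rw [Nat.sub_sub_self (Nat.one_le_pow _ _ (by omega))] at h2
    exact hp.not_dvd_one h2
  -- `PSL₂` is not a `p`-group
  have notp : ¬ IsPGroup p (Matrix.ProjectiveSpecialLinearGroup (Fin 2) F) := by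
    intro h
    obtain ⟨a, ha⟩ := IsPGroup.iff_card.1 h
    have hdvd : Fintype.card F ^ 2 - 1 ∣ p ^ a * 2 := by
      refine (Dvd.intro_left (Fintype.card F) rfl).trans (hsl ▸ ?_)
      rw [← ha]
      exact Nat.mul_dvd_mul_left _ hz
    have h2 : Fintype.card F ^ 2 - 1 ∣ 2 := (hcop.pow_right a).dvd_of_dvd_mul_left hdvd
    have h3 := Nat.le_of_dvd (by norm_num) h2
    have h4 : 2 ^ 2 ≤ Fintype.card F ^ 2 := Nat.pow_le_pow_left hq 2
    omega
  have hker : φ.ker ≤ M := by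
    by_contra hle
    have htop := hs.top_of (S ⊔ φ.ker) le_sup_left fun h => hle (le_sup_right.trans h)
    refine notp fun x => ?_
    obtain ⟨g, rfl⟩ := hφ x
    obtain ⟨s, hs', k, hk, rfl⟩ := Subgroup.mem_sup_of_normal_right.1 (htop ▸ Subgroup.mem_top g)
    obtain ⟨j, hj⟩ := hs.isPGroup ⟨s, hs'⟩
    exact ⟨j, by rw [map_mul, MonoidHom.mem_ker.1 hk, mul_one, ← map_pow,
      show s ^ p ^ j = 1 by simpa using congrArg Subtype.val hj, map_one]⟩
  have hST : S ⊓ φ.ker ≤ T := frattini_step hs.sylow hs.maximal hs.top_of hs.proper φ.ker hker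
  refine ⟨hST, ?_, fun C hC hCT hn2 => ?_⟩
  · have himg : IsPGroup p ↥(S.map φ) := hs.isPGroup.map φ
    obtain ⟨k, hk⟩ := IsPGroup.iff_card.1 himg
    have h1 : p ^ k ∣ Fintype.card F * (Fintype.card F ^ 2 - 1) := by
      rw [hsl, ← hk]
      exact (Subgroup.card_subgroup_dvd_card _).trans (Dvd.intro _ rfl)
    have h2 : p ^ k ∣ p ^ n := hF ▸ (Nat.Coprime.pow_left k hcop.symm).dvd_of_dvd_mul_right h1
    have h3 : φ.ker.relIndex S = p ^ k := by rw [← hk, Subgroup.relIndex_ker]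
    calc T.relIndex S ≤ (S ⊓ φ.ker).relIndex S :=
          Nat.le_of_dvd (Nat.pos_of_ne_zero Subgroup.index_ne_zero_of_finite) (Subgroup.relIndex_dvd_of_le_left S hST)
      _ = p ^ k := by rw [inf_comm, Subgroup.inf_relIndex_right, h3]
      _ ≤ p ^ n := Nat.le_of_dvd (pow_pos hp.pos _) h2
  · haveI := hC
    haveI : IsSimpleGroup (Matrix.ProjectiveSpecialLinearGroup (Fin 2) F) :=
      CfsgLib.Classical.psl_fin_isSimpleGroup le_rfl (fun _ => by
        rw [hF]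
        calc 4 = 2 ^ 2 := by norm_num
          _ ≤ p ^ n := (Nat.pow_le_pow_left hp.two_le 2).trans (Nat.pow_le_pow_right hp.pos hn2))
    rcases (hC.map φ hφ).eq_bot_or_eq_top with h | h
    · exact (Subgroup.map_eq_bot_iff C).1 h
    exfalso
    obtain ⟨P, hP⟩ := hs.sylow
    have hdvd : p ∣ Nat.card (Matrix.ProjectiveSpecialLinearGroup (Fin 2) F) := by
      have h1 : p ∣ Fintype.card F * (Fintype.card F ^ 2 - 1) := dvd_mul_of_dvd_left (hF ▸ dvd_pow_self p (by omega)) _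
      rw [hsl] at h1
      rcases hp.dvd_mul.1 h1 with h1 | h1
      · exact h1
      · have h2 : p = 2 := (Nat.prime_dvd_prime_iff_eq hp Nat.prime_two).1 (h1.trans hz)
        have h3 : Nat.card (Subgroup.center (SL(2, F))) = 1 := by
          rw [CfsgLib.Classical.card_center_sl 2 (by norm_num)]
          subst h2
          rw [Nat.gcd_comm]
          refine Nat.Coprime.symm ((Nat.prime_two.coprime_iff_not_dvd).2 ?_)
          rw [hF]
          intro hd
          have h4 : 2 ∣ 2 ^ n := dvd_pow_self 2 (by omega)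
          have h5 := Nat.dvd_sub h4 hd
          rw [Nat.sub_sub_self (Nat.one_le_two_pow)] at h5
          omega
        exact absurd (h3 ▸ h1) hp.not_dvd_one
    obtain ⟨x, hx⟩ := exists_prime_orderOf_dvd_card' p hdvd
    obtain ⟨c, hc, hcx⟩ : x ∈ C.map φ := h ▸ Subgroup.mem_top x
    obtain ⟨P', hP'⟩ : ∃ g ∈ C, (φ g = x ∧ IsPGroup p (Subgroup.zpowers g)) := by
      obtain ⟨a, m, hm, e⟩ := Nat.exists_eq_pow_mul_and_not_dvd (orderOf_pos c).ne' p hp.ne_one
      obtain ⟨u, hu⟩ : ∃ u, m * u % p = 1 := by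
        obtain ⟨u, hu⟩ := Nat.exists_mul_mod_eq_one_of_coprime ((hp.coprime_iff_not_dvd.2 hm).symm) hp.one_lt
        exact ⟨u, hu.2⟩
      refine ⟨c ^ (m * u), pow_mem hc _, ?_, ?_⟩
      · rw [map_pow, hcx, ← pow_mod_orderOf, hx, hu, pow_one]
      · have : (c ^ (m * u)) ^ p ^ a = 1 := by
          rw [← pow_mul, show m * u * p ^ a = p ^ a * m * u by ring, pow_mul, ← e, pow_orderOf_eq_one, one_pow]
        obtain ⟨i, -, hi⟩ := (Nat.dvd_prime_pow hp).1 (orderOf_dvd_of_pow_eq_one this)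
        exact IsPGroup.of_card (n := i) (by rw [Nat.card_zpowers, hi])
    obtain ⟨hgC, hgx, hgp⟩ := hP'
    obtain ⟨R, hR⟩ := hgp.exists_le_sylow
    obtain ⟨g, hg⟩ := MulAction.exists_smul_eq G R P
    have hmem : g * P' * g⁻¹ ∈ S := by
      rw [← hP, ← hg]
      exact ⟨P', hR (Subgroup.mem_zpowers P'), rfl⟩
    have hT : g * P' * g⁻¹ ∈ T := hCT ⟨hmem, hC.conj_mem _ hgC g⟩
    -- the image of `T` is a normal `p`-subgroup of a simple group
    rcases (hs.normal.map φ hφ).eq_bot_or_eq_top with h' | h'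
    · have h1 : φ (g * P' * g⁻¹) = 1 := (Subgroup.map_eq_bot_iff T).1 h' hT
      rw [map_mul, map_mul, map_inv, conj_eq_one_iff, hgx] at h1
      rw [h1, orderOf_one] at hx
      exact hp.one_lt.ne hx
    · refine notp fun z => ?_
      obtain ⟨t, ht, rfl⟩ : z ∈ T.map φ := h' ▸ Subgroup.mem_top z
      obtain ⟨j, hj⟩ := hs.isPGroup ⟨t, hs.le ht⟩
      exact ⟨j, by rw [← map_pow, show t ^ p ^ j = 1 by simpa using congrArg Subtype.val hj, map_one]⟩

/-- Lower bounds for the fixed points on the module. -/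
theorem module_bounds (hs : Setup p S M T) {F : Type*} [Field F] [Fintype F] {n : ℕ} (hn : 1 ≤ n)
    (hF : Fintype.card F = p ^ n) (φ : G →* Matrix.ProjectiveSpecialLinearGroup (Fin 2) F)
    (hφ : Function.Surjective φ) (W : Subgroup G) [W.Normal] (hWc : IsMulCommutative W)
    (hWp : ∀ v ∈ W, v ^ p = 1) (hWnt : Nontriv p W) (hWker : S ⊓ ℭ W ≤ T) {a : G} (haS : a ∈ S) (haT : a ∉ T) :
    p ^ n ≤ (W ⊓ Subgroup.centralizer ({a} : Set G)).relIndex W ∧
      (p ^ n) ^ 2 ≤ (W ⊓ ℭ (⊤ : Subgroup G)).relIndex W := by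
  obtain ⟨hST, -, hC⟩ := kernel_facts hs hn hF φ hφ
  rcases Nat.lt_or_ge n 2 with h | h
  · obtain rfl : n = 1 := by omega
    have hac : a ∉ ℭ W := fun hh => haT (hWker ⟨haS, hh⟩)
    refine ⟨le_of_eq_of_le (pow_one p) (SL2Bound.pow_one_le_relIndex hWp hac), ?_⟩
    set W0 := W ⊓ ℭ (⊤ : Subgroup G) with hW0
    obtain ⟨k, hk⟩ := (show IsPGroup p W from fun v => ⟨1, Subtype.ext (by simpa using hWp v v.2)⟩).index
      (W0.subgroupOf W)
    change W0.relIndex W = _ at hk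
    rw [hk, pow_one]
    refine Nat.pow_le_pow_right (Fact.out : p.Prime).pos ?_
    by_contra hk2
    -- then everything centralizes `W / W0`
    let C : Subgroup G :=
      { carrier := {g | ∀ w ∈ W, g * w * g⁻¹ * w⁻¹ ∈ W0}
        one_mem' := fun w _ => by simp
        mul_mem' := fun {g g'} hg hg' w hw => by
          have hc : g * (g' * w * g'⁻¹ * w⁻¹) * g⁻¹ = g' * w * g'⁻¹ * w⁻¹ := by
            rw [(hg' w hw).2 g (Subgroup.mem_top _), mul_inv_cancel_right]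
          rw [show g * g' * w * (g * g')⁻¹ * w⁻¹ =
            (g * (g' * w * g'⁻¹ * w⁻¹) * g⁻¹) * (g * w * g⁻¹ * w⁻¹) by group, hc]
          exact mul_mem (hg' w hw) (hg w hw)
        inv_mem' := fun {g} hg w hw => by
          have hw' : g⁻¹ * w * g ∈ W := by simpa using ‹W.Normal›.conj_mem w hw g⁻¹
          have h1 := hg _ hw'
          rw [show g * (g⁻¹ * w * g) * g⁻¹ * (g⁻¹ * w * g)⁻¹ = (g⁻¹ * w * g⁻¹⁻¹ * w⁻¹)⁻¹ by group] at h1
          exact inv_mem_iff.1 h1 }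
    haveI : C.Normal := ⟨fun c hc g w hw => by
      have hw' : g⁻¹ * w * g ∈ W := by simpa using ‹W.Normal›.conj_mem w hw g⁻¹
      have h1 := hc _ hw'
      have h2 : g * c * g⁻¹ * w * (g * c * g⁻¹)⁻¹ * w⁻¹ =
          g * (c * (g⁻¹ * w * g) * c⁻¹ * (g⁻¹ * w * g)⁻¹) * g⁻¹ := by group
      rw [h2, h1.2 g (Subgroup.mem_top _), mul_inv_cancel_right]
      exact h1⟩
    have hSC : S ≤ C := by
      intro s hs' w hw
      have hc : s * w * s⁻¹ * w⁻¹ ∈ W := mul_mem (‹W.Normal›.conj_mem w hw s) (inv_mem hw)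
      rcases Nat.lt_or_ge k 1 with h0 | h0
      · rw [show k = 0 by omega, pow_zero, Subgroup.relIndex_eq_one] at hk
        exact hk hc
      obtain rfl : k = 1 := by omega
      rw [pow_one] at hk
      haveI : (W0.subgroupOf W).Normal := ⟨fun x hx g => by
        have e : g * x * g⁻¹ = x := by rw [mul_comm' g x, mul_inv_cancel_right]
        rwa [e]⟩
      -- a `p`-element fixes every coset
      let N := W0.subgroupOf W
      let f : ℕ → ↥W := fun i => ⟨s ^ i * w * (s ^ i)⁻¹, ‹W.Normal›.conj_mem w hw _⟩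
      by_contra hne
      have hq : Nat.card (↥W ⧸ N) = p := hk
      obtain ⟨j, hj⟩ : ∃ j : ℤ, QuotientGroup.mk' N ⟨s * w * s⁻¹, ‹W.Normal›.conj_mem w hw _⟩ =
          (QuotientGroup.mk' N ⟨w, hw⟩) ^ j := by
        have hwN : QuotientGroup.mk' N ⟨w, hw⟩ ≠ 1 := by
          intro h1
          have h1' : (⟨w, hw⟩ : ↥W) ∈ N := (QuotientGroup.eq_one_iff _).1 h1
          replace h1' : w ∈ W0 := h1'
          refine hne ?_
          rw [h1'.2 s (Subgroup.mem_top _), mul_inv_cancel_right, mul_inv_cancel]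
          exact one_mem _
        have hgen := zpowers_eq_top_of_prime_card hq hwN
        have := hgen ▸ Subgroup.mem_top (QuotientGroup.mk' N (⟨s * w * s⁻¹, ‹W.Normal›.conj_mem w hw _⟩ : ↥W))
        obtain ⟨j, hj⟩ := this
        exact ⟨j, hj.symm⟩
      have hstep : ∀ i : ℕ, QuotientGroup.mk' N (f i) = (QuotientGroup.mk' N ⟨w, hw⟩) ^ (j ^ i) := by
        intro i
        induction i with
        | zero => simp [f]
        | succ i ih =>
          have h1 : f i / ⟨w, hw⟩ ^ (j ^ i) ∈ N := by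
            rw [← QuotientGroup.eq_one_iff]
            show QuotientGroup.mk' N (f i / ⟨w, hw⟩ ^ (j ^ i)) = 1
            rw [map_div, map_zpow, ih]
            simp
          have h2 : f (i + 1) =
              ⟨s * ((f i / ⟨w, hw⟩ ^ (j ^ i) : ↥W) : G) * s⁻¹, ‹W.Normal›.conj_mem _ (Subtype.coe_prop _) _⟩ *
              (⟨s * w * s⁻¹, ‹W.Normal›.conj_mem w hw _⟩ : ↥W) ^ (j ^ i) := by
            apply Subtype.ext
            simp only [f, Subgroup.coe_mul, Subgroup.coe_div, Subgroup.coe_zpow, conj_zpow]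
            rw [pow_succ', div_eq_mul_inv]
            group
          have h3 : (⟨s * ((f i / ⟨w, hw⟩ ^ (j ^ i) : ↥W) : G) * s⁻¹, ‹W.Normal›.conj_mem _ (Subtype.coe_prop _) _⟩ : ↥W) ∈ N := by
            have h4 : ((f i / ⟨w, hw⟩ ^ (j ^ i) : ↥W) : G) ∈ W0 := h1
            show s * _ * s⁻¹ ∈ W0
            rw [h4.2 s (Subgroup.mem_top _), mul_inv_cancel_right]
            exact h4
          rw [h2, map_mul, show QuotientGroup.mk' N _ = 1 from (QuotientGroup.eq_one_iff _).2 h3, one_mul,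
            map_zpow, hj, ← _root_.zpow_mul, pow_succ']
      obtain ⟨m, hm⟩ := hs.isPGroup ⟨s, hs'⟩
      have hsm : s ^ p ^ m = 1 := by simpa using congrArg Subtype.val hm
      have h5 := hstep (p ^ m)
      have h6 : f (p ^ m) = ⟨w, hw⟩ := Subtype.ext (by simp [f, hsm])
      rw [h6] at h5
      -- `j ^ (p ^ m) ≡ j` and `≡ 1`, so `j ≡ 1`
      set x := QuotientGroup.mk' N ⟨w, hw⟩
      have hox : (orderOf x : ℤ) ∣ j - 1 := by
        have hxp : orderOf x ∣ p := hq ▸ orderOf_dvd_natCard x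
        rcases (Nat.dvd_prime (Fact.out : p.Prime)).1 hxp with e | e
        · rw [e]; exact one_dvd _
        rw [e]
        have h7 : x ^ (j ^ p ^ m - 1) = 1 := by rw [_root_.zpow_sub, zpow_one, ← h5, mul_inv_cancel]
        rw [← orderOf_dvd_iff_zpow_eq_one, e, ← ZMod.intCast_zmod_eq_zero_iff_dvd, Int.cast_sub, Int.cast_pow,
          ZMod.pow_card_pow, ← Int.cast_sub, ZMod.intCast_zmod_eq_zero_iff_dvd] at h7
        exact h7
      apply hne
      have h8 : QuotientGroup.mk' N ⟨s * w * s⁻¹, ‹W.Normal›.conj_mem w hw _⟩ = x := by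
        rw [hj]
        have h9 := orderOf_dvd_iff_zpow_eq_one.1 hox
        rw [_root_.zpow_sub, zpow_one, mul_inv_eq_one] at h9
        exact h9
      have h10 : (⟨s * w * s⁻¹, ‹W.Normal›.conj_mem w hw _⟩ : ↥W) / ⟨w, hw⟩ ∈ N := by
        rw [← QuotientGroup.eq_one_iff]
        show QuotientGroup.mk' N (_ / _) = 1
        rw [map_div, h8, div_self']
      simpa [N, Subgroup.mem_subgroupOf, div_eq_mul_inv] using h10
    have hSnT : ¬ S ⊓ C ≤ T := fun hh => haT (hh ⟨haS, hSC haS⟩)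
    obtain ⟨x, hx, u, hu, hne⟩ := hWnt
    have h1 := mem_of_coprime hs C hSnT hx u hu
    apply hne
    obtain ⟨c, hc⟩ : ∃ c, c = x * u * x⁻¹ * u⁻¹ := ⟨_, rfl⟩
    have hc1 : c = 1 := fixed_of_step (u := u) (c := c) (by rw [hc]; group)
      ((hc ▸ h1).2 x (Subgroup.mem_top _)) hx
      ⟨1, by rw [pow_one]; exact hWp c (hc ▸ h1.1)⟩
    rw [hc, mul_inv_eq_one, mul_inv_eq_iff_eq_mul] at hc1
    exact hc1
  · have hW' : ∀ g ∈ ℭ W, φ g = 1 := fun g hg =>
      MonoidHom.mem_ker.1 (hC _ (normal_centralizer inferInstance) hWker h hg)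
    have hap : IsPGroup p (Subgroup.zpowers a) := hs.isPGroup.to_le (Subgroup.zpowers_le.2 haS)
    exact ModuleQuotient.bounds W hWc hWp hF h φ hφ hW' hap
      fun h1 => haT (hST ⟨haS, MonoidHom.mem_ker.2 h1⟩)

/-- The main structural fact. -/
theorem main (hs : Setup p S M T) {F : Type*} [Field F] [Fintype F] {n : ℕ} (hn : 1 ≤ n)
    (hF : Fintype.card F = p ^ n) (φ : G →* Matrix.ProjectiveSpecialLinearGroup (Fin 2) F)
    (hφ : Function.Surjective φ) {y : G} (hyS : y ∈ S) (hyc : y ∈ ℭ S) (hyp : y ^ p ∈ Subgroup.center G)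
    (hy : y ∉ Subgroup.center G) :
    ∃ W C₀ : Subgroup G, (∀ v ∈ W, v ^ p = 1) ∧ C₀.Normal ∧
      S ⊓ ℭ (Cfsg.centerThompsonAOf S) ≤ ℭ C₀ ∧
      (∀ z ∈ Cfsg.centerThompsonAOf S, ∃ w ∈ W, w ∈ ℭ S ∧ ∃ c ∈ C₀, z = w * c) ∧
      ((S ⊓ ℭ (Cfsg.centerThompsonAOf S)).Normal ∨ ¬ S ⊓ ℭ (Cfsg.centerThompsonAOf S) ≤ T) := by
  classical
  haveI := hs.normal
  set J := Cfsg.thompsonSubgroupAOf S with hJ
  set Z := Cfsg.centerThompsonAOf S with hZ
  have hJS : J ≤ S := Subgroup.map_subtype_le _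
  have hJC : J ≤ S ⊓ ℭ Z := le_inf hJS fun j hj z hz => (hz.2 j hj).symm
  -- the abelian subgroups of largest order inside `T`
  set JT : Subgroup G := ⨆ A : {A : Subgroup G // IsMaxAb S A ∧ A ≤ T}, A.1 with hJT
  have hJTn : JT.Normal := normal_of_map_le fun g => by
    rw [hJT, Subgroup.map_iSup]
    exact iSup_le fun A => le_iSup (fun A : {A : Subgroup G // IsMaxAb S A ∧ A ≤ T} => A.1)
      ⟨_, A.2.1.map A.2.2 hs.le g⟩
  have hAJT : ∀ {A}, IsMaxAb S A → A ≤ T → A ≤ JT := fun {A} h1 h2 =>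
    le_iSup (fun A : {A : Subgroup G // IsMaxAb S A ∧ A ≤ T} => A.1) ⟨A, h1, h2⟩
  have hJTJ : JT ≤ J := iSup_le fun A => le_thompson A.2.1
  have hJTT : JT ≤ T := iSup_le fun A => A.2.2
  by_cases hcase : J ≤ T
  · have hJe : J = JT := le_antisymm (thompson_le_iff.2 fun A hA => hAJT hA ((le_thompson hA).trans hcase)) hJTJ
    have hZn : Z.Normal := by
      have e : Z = J ⊓ ℭ J := rfl
      rw [e, hJe]
      exact normal_inf hJTn (normal_centralizer hJTn)
    refine ⟨⊥, Z, fun v hv => by rw [Subgroup.mem_bot.1 hv, one_pow], hZn, inf_le_right,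
      fun z hz => ⟨1, one_mem _, one_mem _, z, hz, (one_mul z).symm⟩, ?_⟩
    by_cases hle : S ⊓ ℭ Z ≤ T
    · left
      have e : S ⊓ ℭ Z = T ⊓ ℭ Z := le_antisymm (le_inf hle inf_le_right) (inf_le_inf_right _ hs.le)
      rw [e]
      exact normal_inf hs.normal (normal_centralizer hZn)
    · exact Or.inr hle
  obtain ⟨A, hA, hAT⟩ : ∃ A, IsMaxAb S A ∧ ¬ A ≤ T := by
    by_contra! hh
    exact hcase (thompson_le_iff.2 hh)
  obtain ⟨a, haA, haT⟩ := SetLike.not_le_iff_exists.1 hAT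
  have haS := hA.1 haA
  obtain ⟨V, hVn, hVS, hTV, hVT, hab, hVp, hnt, -⟩ := closure_module hs hyS hyc hyp hy
  obtain ⟨W, hWV, hWn, hWnt, hWker, hb⟩ := PushingUpModule.exists_module_nontriv hs V hVn hVS hab hnt
  haveI := hWn
  have hWab : W ≤ ℭ W :=
    hWV.trans ((Subgroup.le_centralizer_iff_isMulCommutative.2 hab).trans (Subgroup.centralizer_le hWV))
  have hWc : IsMulCommutative W := Subgroup.le_centralizer_iff_isMulCommutative.1 hWab
  have hWp : ∀ v ∈ W, v ^ p = 1 := fun v hv => hVp v (hWV hv)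
  have hWT : W ≤ T := hWV.trans hVT
  have hTW : T ≤ ℭ W := hTV.trans (Subgroup.centralizer_le hWV)
  obtain ⟨hST, hq, -⟩ := kernel_facts hs hn hF φ hφ
  obtain ⟨hb1, hb2⟩ := module_bounds hs hn hF φ hφ W hWc hWp hWnt hWker haS haT
  have hbA := hb A hA.1
  set r := T.relIndex A with hr
  have hrq : r ≤ p ^ n := le_trans (Nat.le_of_dvd (Nat.pos_of_ne_zero Subgroup.index_ne_zero_of_finite) (by
    change T.relIndex A ∣ T.relIndex S
    rw [← Subgroup.inf_relIndex_right T S, ← Subgroup.inf_relIndex_right T A]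
    refine (Subgroup.relIndex_dvd_of_le_left A (show T ⊓ S ⊓ A ≤ T ⊓ A from inf_le_inf_right _ inf_le_left)).trans ?_
    rw [show T ⊓ S ⊓ A = (T ⊓ S) ⊓ A from rfl, Subgroup.inf_relIndex_right]
    haveI : ((T ⊓ S).subgroupOf S).Normal :=
      ⟨fun x hx g => ⟨hs.normal.conj_mem _ hx.1 g, (g * x * g⁻¹ : ↥S).2⟩⟩
    rw [← Subgroup.relIndex_subgroupOf (H := T ⊓ S) hA.1]
    exact Subgroup.relIndex_dvd_index_of_normal ((T ⊓ S).subgroupOf S) (A.subgroupOf S))) hq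
  -- the replacement
  set A' := (A ⊓ T) ⊔ W with hA'
  have hnA : W ≤ Subgroup.normalizer ((A ⊓ T : Subgroup G) : Set G) := fun w hw =>
    Subgroup.centralizer_le_normalizer _ fun x hx => (hTW hx.2 w hw).symm
  have hA'ab : A' ≤ ℭ A' :=
    abelian_sup ((inf_le_left.trans hA.2.1).trans (Subgroup.centralizer_le inf_le_left)) hWab
      (inf_le_right.trans hTW)
  have hA'T : A' ≤ T := sup_le inf_le_right hWT
  have hc1 := CfsgLib.Fusion.Thompson.card_sup_mul_card_inf hnA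
  have hinf : A ⊓ T ⊓ W = A ⊓ W := by rw [inf_assoc, inf_eq_right.2 hWT]
  rw [hinf] at hc1
  have hcA : Nat.card A = r * Nat.card ↥(A ⊓ T) := by
    have := Subgroup.relIndex_mul_relIndex ⊥ (A ⊓ T) A bot_le inf_le_left
    rw [Subgroup.relIndex_bot_left, Subgroup.relIndex_bot_left, Subgroup.inf_relIndex_left] at this
    rw [hr, ← this, mul_comm]
  have hle1 := hA.2.2 A' (hA'T.trans hs.le) hA'ab
  have hCW : A ⊓ W ≤ W ⊓ ℭ A := fun x hx => ⟨hx.2, fun a ha => hA.2.1 hx.1 a ha⟩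
  have hcCW : Nat.card ↥(A ⊓ W) ≤ Nat.card ↥(W ⊓ ℭ A) := Subgroup.card_le_of_le hCW
  have hle2 : Nat.card W ≤ r * Nat.card ↥(A ⊓ W) := by
    have h1 : Nat.card ↥A' * Nat.card ↥(A ⊓ W) ≤ r * Nat.card ↥(A ⊓ T) * Nat.card ↥(A ⊓ W) :=
      Nat.mul_le_mul_right _ (hcA ▸ hle1)
    rw [hc1] at h1
    refine Nat.le_of_mul_le_mul_left ?_ (Nat.card_pos (α := ↥(A ⊓ T)))
    calc Nat.card ↥(A ⊓ T) * Nat.card W ≤ r * Nat.card ↥(A ⊓ T) * Nat.card ↥(A ⊓ W) := h1
      _ = _ := by ring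
  have hWeq : Nat.card W = r * Nat.card ↥(W ⊓ ℭ A) :=
    le_antisymm (hle2.trans (Nat.mul_le_mul_left _ hcCW)) hbA
  have hA'card : Nat.card A' = Nat.card A := by
    refine le_antisymm hle1 (Nat.le_of_mul_le_mul_right ?_ (Nat.card_pos (α := ↥(A ⊓ W))))
    rw [hc1, hcA]
    calc r * Nat.card ↥(A ⊓ T) * Nat.card ↥(A ⊓ W) = Nat.card ↥(A ⊓ T) * (r * Nat.card ↥(A ⊓ W)) := by ring
      _ ≤ Nat.card ↥(A ⊓ T) * Nat.card W := Nat.mul_le_mul_left _ (le_trans (le_of_eq ?_) le_rfl)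
    refine le_antisymm ?_ hle2
    exact hWeq ▸ Nat.mul_le_mul_left _ hcCW
  have hA'max : IsMaxAb S A' := ⟨hA'T.trans hs.le, hA'ab, fun B hB hB' => hA'card ▸ hA.2.2 B hB hB'⟩
  have hWJT : W ≤ JT := le_sup_right.trans (hAJT hA'max hA'T)
  have hATJT : A ⊓ T ≤ JT := le_sup_left.trans (hAJT hA'max hA'T)
  -- `|W : C_W(a)| = q`, so `A` and `S` fix the same points
  have relW : ∀ C : Subgroup G, C ≤ W → Nat.card W = C.relIndex W * Nat.card C := fun C hC => by
    have := Subgroup.relIndex_mul_relIndex ⊥ C W bot_le hC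
    rw [Subgroup.relIndex_bot_left, Subgroup.relIndex_bot_left] at this
    rw [← this, mul_comm]
  have hrW : (W ⊓ ℭ A).relIndex W = r := by
    have h1 := relW _ (inf_le_left : W ⊓ ℭ A ≤ W)
    rw [hWeq] at h1
    exact (Nat.eq_of_mul_eq_mul_right Nat.card_pos h1).symm
  have haCA : W ⊓ ℭ A ≤ W ⊓ Subgroup.centralizer ({a} : Set G) :=
    inf_le_inf_left _ (Subgroup.centralizer_le (Set.singleton_subset_iff.2 haA))
  have hrle : (W ⊓ Subgroup.centralizer ({a} : Set G)).relIndex W ≤ r := hrW ▸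
    Nat.le_of_dvd (Nat.pos_of_ne_zero Subgroup.index_ne_zero_of_finite) (Subgroup.relIndex_dvd_of_le_left W haCA)
  have hrq' : r = p ^ n := le_antisymm hrq (hb1.trans hrle)
  have hAT' : S ≤ A ⊔ T := by
    have h1 : T.relIndex (A ⊔ T) = r := Subgroup.relIndex_sup_right A T
    have h2 := Subgroup.relIndex_mul_relIndex T (A ⊔ T) S le_sup_right (sup_le hA.1 hs.le)
    rw [h1] at h2
    refine Subgroup.relIndex_eq_one.1 ?_
    have h3 : r * (A ⊔ T).relIndex S ≤ r * 1 := by rw [mul_one, h2]; exact hq.trans hrq'.ge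
    have h4 : (A ⊔ T).relIndex S ≠ 0 := Subgroup.index_ne_zero_of_finite
    have h5 := Nat.le_of_mul_le_mul_left h3 (hrq' ▸ pow_pos (Fact.out : p.Prime).pos n)
    omega
  have hfix : ∀ {w : G}, w ∈ W → (∀ x ∈ A, x * w = w * x) → w ∈ ℭ S := fun {w} hw hAw s hs' => by
    have : A ⊔ T ≤ Subgroup.centralizer {w} := sup_le
      (fun x hx => Subgroup.mem_centralizer_singleton_iff.2 (hAw x hx))
      (fun x hx => Subgroup.mem_centralizer_singleton_iff.2 (hTW hx w hw).symm)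
    exact Subgroup.mem_centralizer_singleton_iff.1 (this (hAT' hs'))
  -- `Y = Z(J(T))`
  set Y := JT ⊓ ℭ JT with hY
  haveI hYn : Y.Normal := normal_inf hJTn (normal_centralizer hJTn)
  have hYab : Y ≤ ℭ Y := fun u hu v hv => hu.2 v hv.1
  have hWY : W ≤ Y := le_inf hWJT fun w hw x hx => (hTW (hJTT hx) w hw).symm
  have hYq : (Y ⊓ ℭ A).relIndex Y ≤ p ^ n := by
    set A'' := (A ⊓ T) ⊔ Y
    have hY' : A ⊓ T ≤ ℭ Y := fun x hx u hu => (hu.2 x (hATJT hx)).symm
    have hn'' : Y ≤ Subgroup.normalizer ((A ⊓ T : Subgroup G) : Set G) := fun u hu =>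
      Subgroup.centralizer_le_normalizer _ fun x hx => (hY' hx u hu).symm
    have hle := hA.2.2 A'' (sup_le (inf_le_right.trans hs.le) ((inf_le_left.trans hJTT).trans hs.le))
      (abelian_sup ((inf_le_left.trans hA.2.1).trans (Subgroup.centralizer_le inf_le_left)) hYab hY')
    have hc := CfsgLib.Fusion.Thompson.card_sup_mul_card_inf hn''
    have e : A ⊓ T ⊓ Y ≤ Y ⊓ ℭ A := fun x hx => ⟨hx.2, fun u hu => hA.2.1 hx.1.1 u hu⟩
    have h1 : Nat.card ↥A'' * Nat.card ↥(A ⊓ T ⊓ Y) ≤ r * Nat.card ↥(A ⊓ T) * Nat.card ↥(Y ⊓ ℭ A) :=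
      Nat.mul_le_mul (hcA ▸ hle) (Subgroup.card_le_of_le e)
    rw [hc] at h1
    have h2 : Nat.card Y = (Y ⊓ ℭ A).relIndex Y * Nat.card ↥(Y ⊓ ℭ A) := by
      have := Subgroup.relIndex_mul_relIndex ⊥ (Y ⊓ ℭ A) Y bot_le inf_le_left
      rw [Subgroup.relIndex_bot_left, Subgroup.relIndex_bot_left] at this
      rw [← this, mul_comm]
    rw [h2] at h1
    refine (Nat.le_of_mul_le_mul_right ?_ (Nat.mul_pos (Nat.card_pos (α := ↥(A ⊓ T)))
      (Nat.card_pos (α := ↥(Y ⊓ ℭ A))))).trans hrq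
    calc (Y ⊓ ℭ A).relIndex Y * (Nat.card ↥(A ⊓ T) * Nat.card ↥(Y ⊓ ℭ A))
        = Nat.card ↥(A ⊓ T) * ((Y ⊓ ℭ A).relIndex Y * Nat.card ↥(Y ⊓ ℭ A)) := by ring
      _ ≤ _ := h1
      _ = _ := by ring
  have relY : ∀ C : Subgroup G, C ≤ Y → Nat.card Y = C.relIndex Y * Nat.card C := fun C hC => by
    have := Subgroup.relIndex_mul_relIndex ⊥ C Y bot_le hC
    rw [Subgroup.relIndex_bot_left, Subgroup.relIndex_bot_left] at this
    rw [← this, mul_comm]
  have hsplitA : Y = W ⊔ (Y ⊓ ℭ A) := by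
    refine eq_sup_of_index hWY inf_le_left hYab ?_
    have e : W ⊓ (Y ⊓ ℭ A) = W ⊓ ℭ A := by rw [← inf_assoc, inf_eq_left.2 hWY]
    rw [e, relY _ (inf_le_left : Y ⊓ ℭ A ≤ Y), relW _ (inf_le_left : W ⊓ ℭ A ≤ W), hrW]
    calc (Y ⊓ ℭ A).relIndex Y * Nat.card ↥(Y ⊓ ℭ A) * Nat.card ↥(W ⊓ ℭ A)
        ≤ r * Nat.card ↥(Y ⊓ ℭ A) * Nat.card ↥(W ⊓ ℭ A) :=
          Nat.mul_le_mul_right _ (Nat.mul_le_mul_right _ (hrq' ▸ hYq))
      _ = _ := by ring
  -- an opposite Sylow subgroup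
  obtain ⟨g, hg⟩ := hs.spread
  have hgM : ¬ S.map (MulAut.conj g⁻¹).toMonoidHom ≤ M := fun hle => haT (hg a haS
    ⟨g⁻¹ * a * g, hle ⟨a, haS, by simp⟩, by simp [mul_assoc]⟩)
  set σ := (MulAut.conj g⁻¹).toMonoidHom with hσ
  set H := A ⊔ A.map σ with hH
  have hHT : H ⊔ T = ⊤ := by
    have hS1 : S ≤ H ⊔ T := hAT'.trans (sup_le_sup_right le_sup_left _)
    refine hs.top_of _ hS1 fun hle => hgM ?_
    refine le_trans ?_ hle
    refine (Subgroup.map_mono hAT').trans ?_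
    rw [Subgroup.map_sup]
    refine sup_le_sup le_sup_right ?_
    rintro _ ⟨t, ht, rfl⟩
    exact hs.normal.conj_mem t ht g⁻¹
  have hYH : (Y ⊓ ℭ H).relIndex Y ≤ p ^ n * p ^ n := by
    have hle : (Y ⊓ ℭ A) ⊓ (Y ⊓ ℭ A).map σ ≤ Y ⊓ ℭ H := by
      rintro x ⟨⟨hxY, hxA⟩, u, hu, hux⟩
      refine ⟨hxY, fun h hh => ?_⟩
      refine Subgroup.mem_centralizer_singleton_iff.1 ((sup_le ?_ ?_ : H ≤ Subgroup.centralizer {x}) hh)
      · exact fun v hv => Subgroup.mem_centralizer_singleton_iff.2 (hxA v hv)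
      · rintro _ ⟨v, hv, rfl⟩
        rw [Subgroup.mem_centralizer_singleton_iff, ← hux]
        exact (show Commute v u from hu.2 v hv).map σ
    refine (Nat.le_of_dvd (Nat.pos_of_ne_zero Subgroup.index_ne_zero_of_finite)
      (Subgroup.relIndex_dvd_of_le_left Y hle)).trans (Subgroup.relIndex_inf_le.trans ?_)
    refine Nat.mul_le_mul hYq ?_
    have e : Y.map σ = Y := Subgroup.mem_normalizer_iff_map_conj_eq.1 (by
      rw [Subgroup.normalizer_eq_top_iff.2 hYn]; trivial)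
    have h1 := Subgroup.relIndex_map_map_of_injective (Y ⊓ ℭ A) Y (f := σ) (MulAut.conj g⁻¹).injective
    rw [e] at h1
    exact h1.trans_le hYq
  have hW0 : W ⊓ ℭ H ≤ W ⊓ ℭ (⊤ : Subgroup G) := by
    rintro w ⟨hw, hwH⟩
    refine ⟨hw, fun x _ => Subgroup.mem_centralizer_singleton_iff.1
      ((sup_le ?_ ?_ : H ⊔ T ≤ Subgroup.centralizer {w}) (hHT.symm ▸ Subgroup.mem_top x))⟩
    · exact fun h hh => Subgroup.mem_centralizer_singleton_iff.2 (hwH h hh)
    · exact fun t ht => Subgroup.mem_centralizer_singleton_iff.2 (hTW ht w hw).symm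
  have hsplitH : Y = W ⊔ (Y ⊓ ℭ H) := by
    refine eq_sup_of_index hWY inf_le_left hYab ?_
    have e : W ⊓ (Y ⊓ ℭ H) = W ⊓ ℭ H := by rw [← inf_assoc, inf_eq_left.2 hWY]
    rw [e, relY _ (inf_le_left : Y ⊓ ℭ H ≤ Y), relW _ (inf_le_left : W ⊓ ℭ (⊤ : Subgroup G) ≤ W)]
    calc (Y ⊓ ℭ H).relIndex Y * Nat.card ↥(Y ⊓ ℭ H) * Nat.card ↥(W ⊓ ℭ H)
        ≤ (W ⊓ ℭ (⊤ : Subgroup G)).relIndex W * Nat.card ↥(Y ⊓ ℭ H) * Nat.card ↥(W ⊓ ℭ (⊤ : Subgroup G)) :=
          Nat.mul_le_mul (Nat.mul_le_mul_right _ (hYH.trans (by rw [← sq]; exact hb2)))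
            (Subgroup.card_le_of_le hW0)
      _ = _ := by ring
  -- the centralized part
  set L := Subgroup.normalClosure (J : Set G) with hL
  set C₀ := Y ⊓ ℭ L with hC₀
  have hC₀n : C₀.Normal := normal_inf hYn (normal_centralizer Subgroup.normalClosure_normal)
  have hYJ : Y ≤ J := inf_le_left.trans hJTJ
  have hC₀Z : C₀ ≤ Z := fun c hc => ⟨hYJ hc.1, fun j hj => hc.2 j (Subgroup.subset_normalClosure hj)⟩
  refine ⟨W, C₀, hWp, hC₀n, inf_le_right.trans (Subgroup.centralizer_le hC₀Z), fun z hz => ?_, Or.inr fun hle =>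
    hcase (hJC.trans hle)⟩
  have hzY : z ∈ Y := ⟨hAJT hA'max hA'T (center_le hA'max hz), fun x hx => hz.2 x (hJTJ hx)⟩
  rw [hsplitH] at hzY
  obtain ⟨w, hw, c, hc, rfl⟩ : ∃ w ∈ W, ∃ c ∈ Y ⊓ ℭ H, w * c = z := by
    rw [← SetLike.mem_coe, Subgroup.normal_mul W _] at hzY
    exact hzY
  have hzA : ∀ x ∈ A, x * (w * c) = w * c * x := fun x hx => hz.2 x (le_thompson hA hx)
  have hwA : ∀ x ∈ A, x * w = w * x := fun x hx => by
    have h1 := hzA x hx
    have h2 : x * c = c * x := hc.2 x (Subgroup.mem_sup_left hx)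
    rw [← mul_assoc, mul_assoc w c, ← h2, ← mul_assoc] at h1
    exact mul_right_cancel h1
  have hwS := hfix hw hwA
  refine ⟨w, hw, hwS, c, ⟨hc.1, fun x hx => ?_⟩, rfl⟩
  have hcJ : ∀ j ∈ J, j * c = c * j := fun j hj => by
    have h1 : j * (w * c) = w * c * j := hz.2 j hj
    rw [← mul_assoc, hwS j (hJS hj), mul_assoc, mul_assoc] at h1
    exact mul_left_cancel h1
  have hTJ : ∀ t ∈ T, ∀ j ∈ J, t * j * t⁻¹ ∈ J := by
    intro t ht j hj
    have : J ≤ J.comap (MulAut.conj t).toMonoidHom := thompson_le_iff.2 fun B hB => by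
      rw [← Subgroup.map_le_iff_le_comap]
      refine le_thompson ⟨?_, ?_, fun D hD hD' => ?_⟩
      · rintro _ ⟨u, hu, rfl⟩
        exact S.mul_mem (S.mul_mem (hs.le ht) (hB.1 hu)) (S.inv_mem (hs.le ht))
      · rintro _ ⟨u, hu, rfl⟩ _ ⟨v, hv, rfl⟩
        exact (show Commute v u from hB.2.1 hu v hv).map (MulAut.conj t).toMonoidHom
      · rw [Subgroup.card_map_of_injective (MulAut.conj t).injective]
        exact hB.2.2 D hD hD'
    exact this hj
  have hLc : L ≤ Subgroup.centralizer {c} := by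
    rw [hL, Subgroup.normalClosure, Subgroup.closure_le]
    intro u hu
    obtain ⟨j, hj, hju⟩ := Group.mem_conjugatesOfSet_iff.1 hu
    obtain ⟨g', hg'⟩ := isConj_iff.1 hju
    rw [SetLike.mem_coe, Subgroup.mem_centralizer_singleton_iff, ← hg']
    obtain ⟨h, hh, t, ht, rfl⟩ := Subgroup.mem_sup_of_normal_right.1 (hHT.symm ▸ Subgroup.mem_top g')
    have hch : h * c = c * h := hc.2 h hh
    have hcm : (t * j * t⁻¹) * c = c * (t * j * t⁻¹) := hcJ _ (hTJ t ht j hj)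
    have h3 : Commute (h * (t * j * t⁻¹) * h⁻¹) c :=
      ((show Commute h c from hch).mul_left hcm).mul_left (show Commute h c from hch).inv_left
    rw [show h * t * j * (h * t)⁻¹ = h * (t * j * t⁻¹) * h⁻¹ by group]
    exact h3
  exact Subgroup.mem_centralizer_singleton_iff.1 (hLc hx)

end CfsgLib.LocalEven.PushingUpClosure
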