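/-
`O^p` of subgroups and of subnormal subgroups; subnormal p-subgroups; the Frattini subgroup of a p-group as
the least normal subgroup with elementary abelian quotient.
-/
import Cfsg.Agent.Lib.Fusion.Basic
import Cfsg.Agent.Lib.LocalEven.SylowIn
import Cfsg.Agent.Lib.Coprime.Action
import Mathlib.GroupTheory.IsSubnormal
import Mathlib.GroupTheory.Frattini
import Mathlib.GroupTheory.Nilpotent

set_option autoImplicit false

open scoped commutatorElement

namespace CfsgLib.LocalEven.Residual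

open Cfsg CfsgLib.Fusion.Basic CfsgLib.LocalEven.SylowIn

variable {G : Type*} [Group G] {p : ℕ}

/-- A subgroup whose only elements of order prime to `p` are trivial is a `p`-group. -/
theorem isPGroup_of_forall_coprime [Finite G] [Fact p.Prime] {L : Subgroup G}
    (h : ∀ x ∈ L, (orderOf x).Coprime p → x = 1) : IsPGroup p L := by
  intro x
  obtain ⟨k, hk⟩ := exists_pow_coprime (p := p) (x : G)
  exact ⟨k, Subtype.ext (h _ (pow_mem x.2 _) hk)⟩

theorem mem_of_coprime_card [Finite G] [Fact p.Prime] {P : Subgroup G} (hP : IsPGroup p P) {x : G}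
    (hx : (orderOf x).Coprime p) : (orderOf x).Coprime (Nat.card P) := by
  obtain ⟨n, hn⟩ := IsPGroup.iff_card.1 hP
  rw [hn]
  exact hx.pow_right n

/-- A `p`-subnormal subgroup of `p`-power index contains `O^p`. -/
theorem pResidual_le_of_isSubnormal [Finite G] [Fact p.Prime] {N : Subgroup G} (hN : N.IsSubnormal) :
    ∀ k : ℕ, N.index = p ^ k → pResidual p G ≤ N := by
  induction hN with
  | top => exact fun _ _ => le_top
  | step H K hle _ hn ih =>
    intro k hk
    have hmul := Subgroup.relIndex_mul_index hle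
    rw [hk] at hmul
    obtain ⟨a, -, ha⟩ := (Nat.dvd_prime_pow (Fact.out : p.Prime)).1 ⟨_, hmul.symm⟩
    obtain ⟨b, -, hb⟩ := (Nat.dvd_prime_pow (Fact.out : p.Prime)).1 ⟨_, (hmul.symm.trans (mul_comm _ _))⟩
    have hK := ih b hb
    haveI := hn
    have hHK : pResidual p K ≤ H.subgroupOf K := pResidual_le_of_index_eq_pow ha
    refine (Subgroup.closure_le _).2 fun g hg => ?_
    exact hHK (mem_pResidual_of_coprime (g := (⟨g, hK (mem_pResidual_of_coprime hg)⟩ : K))
      (by rw [Subgroup.orderOf_mk]; exact hg))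

/-- `O^p` of a subgroup, as elements of the ambient group. -/
theorem map_pResidual_eq_closure (K : Subgroup G) :
    (pResidual p K).map K.subtype = Subgroup.closure {g | g ∈ K ∧ (orderOf g).Coprime p} := by
  rw [pResidual, MonoidHom.map_closure]
  congr 1
  ext g
  constructor
  · rintro ⟨k, hk, rfl⟩
    exact ⟨k.2, by rwa [Subgroup.coe_subtype, Subgroup.orderOf_coe]⟩
  · rintro ⟨hg, hc⟩
    exact ⟨⟨g, hg⟩, by show (orderOf _).Coprime p; rwa [Subgroup.orderOf_mk], rfl⟩

theorem map_pResidual_le_iff {K Y : Subgroup G} :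
    (pResidual p K).map K.subtype ≤ Y ↔ ∀ g ∈ K, (orderOf g).Coprime p → g ∈ Y := by
  rw [map_pResidual_eq_closure, Subgroup.closure_le]
  exact ⟨fun h g hg hc => h ⟨hg, hc⟩, fun h g hg => h g hg.1 hg.2⟩

theorem normalizer_map_pResidual (K : Subgroup G) :
    Subgroup.normalizer (K : Set G) ≤
      Subgroup.normalizer (((pResidual p K).map K.subtype : Subgroup G) : Set G) := by
  refine le_normalizer_of_map_conj fun g hg => ?_
  have hK := map_conj_eq_iff.2 hg
  rw [map_pResidual_eq_closure, MonoidHom.map_closure]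
  congr 1
  ext x
  constructor
  · rintro ⟨y, ⟨hy, hc⟩, rfl⟩
    exact ⟨hK.le ⟨y, hy, rfl⟩, by rwa [orderOf_injective _ (MulAut.conj g).injective]⟩
  · rintro ⟨hx, hc⟩
    obtain ⟨y, hy, rfl⟩ := hK.ge hx
    exact ⟨y, ⟨hy, by rwa [orderOf_injective _ (MulAut.conj g).injective] at hc⟩, rfl⟩

/-- A subnormal `p`-subgroup lies in `O_p`. -/
theorem le_pCore_of_isSubnormal [Finite G] [Fact p.Prime] {A : Subgroup G} (hA : A.IsSubnormal) :
    IsPGroup p A → A ≤ pCore p G := by
  have key : ∀ K : Subgroup G, K.IsSubnormal → pCoreOf p K ≤ pCore p G := by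
    intro K hK
    induction hK with
    | top =>
      refine @SylowIn.le_pCore _ _ p _ ?_ (isPGroup_pCoreOf _)
      exact Subgroup.normalizer_eq_top_iff.1 (top_le_iff.1 (normalizer_pCoreOf ⊤))
    | step H K hle _ hn ih =>
      refine le_trans (le_pCoreOf ((pCoreOf_le H).trans hle) ?_ (isPGroup_pCoreOf H)) ih
      intro g hg
      have hgH : g ∈ Subgroup.normalizer (H : Set G) :=
        (Subgroup.normal_subgroupOf_iff_le_normalizer hle).1 hn hg
      rw [← map_conj_eq_iff, pCoreOf_map_conj, map_conj_eq_iff.2 hgH]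
  exact fun h => le_trans (le_pCoreOf le_rfl Subgroup.le_normalizer h) (key A hA)

/-- A subnormal `p`-subgroup of `p`-power-index complement: `O^p(B) = B` subnormal in `B ⊔ Q`. -/
theorem le_normalizer_of_pResidual_eq [Finite G] [Fact p.Prime] {B Q : Subgroup G} (hB : B.IsSubnormal)
    (hBres : (pResidual p B).map B.subtype = B) [Q.Normal] (hQ : IsPGroup p Q) :
    Q ≤ Subgroup.normalizer (B : Set G) ∧
      (pResidual p ↥(B ⊔ Q)).map (B ⊔ Q).subtype = B := by
  have hidx : ∃ k, (B.subgroupOf (B ⊔ Q)).index = p ^ k := by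
    obtain ⟨n, hn⟩ := IsPGroup.iff_card.1 hQ
    have h1 : B.relIndex (B ⊔ Q) * Nat.card B = Nat.card ↥(B ⊔ Q) := by
      rw [mul_comm, Subgroup.relIndex, ← Nat.card_congr (Subgroup.subgroupOfEquivOfLe (le_sup_left : B ≤ B ⊔ Q)).toEquiv]
      exact Subgroup.card_mul_index _
    have h2 : Q.relIndex B * Nat.card Q = Nat.card ↥(B ⊔ Q) := by
      rw [← Subgroup.relIndex_sup_right (K := Q), mul_comm, Subgroup.relIndex,
        ← Nat.card_congr (Subgroup.subgroupOfEquivOfLe (le_sup_right : Q ≤ B ⊔ Q)).toEquiv]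
      exact Subgroup.card_mul_index _
    have h3 : B.relIndex (B ⊔ Q) * Nat.card B ∣ p ^ n * Nat.card B := by
      rw [h1, ← h2, hn, mul_comm (p ^ n)]
      exact Nat.mul_dvd_mul_right (Subgroup.relIndex_dvd_card Q B) _
    obtain ⟨k, -, hk⟩ := (Nat.dvd_prime_pow (Fact.out : p.Prime)).1 (Nat.dvd_of_mul_dvd_mul_right Nat.card_pos h3)
    exact ⟨k, hk⟩
  obtain ⟨k, hk⟩ := hidx
  have h1 := pResidual_le_of_isSubnormal (hB.subgroupOf (K := B ⊔ Q)) k hk
  have h2 : (pResidual p ↥(B ⊔ Q)).map (B ⊔ Q).subtype = B := by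
    refine le_antisymm ?_ ?_
    · refine le_trans (Subgroup.map_mono h1) ?_
      rw [Subgroup.map_subgroupOf_eq_of_le le_sup_left]
    · conv_lhs => rw [← hBres]
      exact map_pResidual_le_iff.2 fun g hg hc => by
        rw [map_pResidual_eq_closure]
        exact Subgroup.subset_closure ⟨le_sup_left (a := B) hg, hc⟩
  refine ⟨fun q hq => ?_, h2⟩
  have h3 := normalizer_map_pResidual (p := p) (B ⊔ Q) (Subgroup.le_normalizer (le_sup_right (a := B) hq))
  rwa [h2] at h3

/-- In a `p`-group `P`, a subgroup containing all commutators and `p`-th powers contains `Φ(P)`. -/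
theorem frattini_le {P : Type*} [Group P] [Finite P] [Fact p.Prime] {N : Subgroup P}
    (hc : ∀ a b : P, ⁅a, b⁆ ∈ N) (hpow : ∀ a : P, a ^ p ∈ N) : frattini P ≤ N := by
  intro x hx
  by_contra hxN
  obtain ⟨M, hNM, ⟨-, hxM⟩, hmax⟩ :=
    Finite.exists_le_maximal (p := fun K : Subgroup P => N ≤ K ∧ x ∉ K) (a := N) ⟨le_rfl, hxN⟩
  haveI hMn : M.Normal := ⟨fun m hm g => by
    have : g * m * g⁻¹ = ⁅g, m⁆ * m := by simp [commutatorElement_def, mul_assoc]
    rw [this]
    exact mul_mem (hNM (hc g m)) hm⟩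
  have hco : IsCoatom M := by
    refine ⟨fun h => hxM (h ▸ Subgroup.mem_top x), fun K hMK => by_contra fun hK => ?_⟩
    have hxK : x ∈ K := by_contra fun h => hMK.not_ge (hmax ⟨hNM.trans hMK.le, h⟩ hMK.le)
    obtain ⟨y, -, hy⟩ := SetLike.exists_of_lt (lt_top_iff_ne_top.2 hK)
    have hxY : x ∈ M ⊔ Subgroup.zpowers y := by_contra fun h => hy (hMK.le (hmax
      ⟨hNM.trans le_sup_left, h⟩ le_sup_left (Subgroup.mem_sup_right (Subgroup.mem_zpowers y))))
    obtain ⟨m, hm, w, hw, rfl⟩ := (Subgroup.mem_sup_of_normal_left (hs := hMn)).1 hxY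
    obtain ⟨k, rfl⟩ := Subgroup.mem_zpowers_iff.1 hw
    have hyk : y ^ k ∈ K := by simpa using mul_mem (inv_mem (hMK.le hm)) hxK
    by_cases hpk : (p : ℤ) ∣ k
    · obtain ⟨j, rfl⟩ := hpk
      refine hxM (mul_mem hm ?_)
      rw [zpow_mul, zpow_natCast]
      exact zpow_mem (hNM (hpow y)) j
    · have hcop : IsCoprime (p : ℤ) k :=
        ((Nat.prime_iff_prime_int.1 (Fact.out : p.Prime)).coprime_iff_not_dvd).2 hpk
      obtain ⟨u, v, huv⟩ := hcop
      refine hy ?_
      rw [← zpow_one y, ← huv, zpow_add, mul_comm u, mul_comm v, zpow_mul, zpow_mul, zpow_natCast]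
      exact mul_mem (zpow_mem (hMK.le (hNM (hpow y))) u) (zpow_mem hyk v)
  exact hxM (frattini_le_coatom hco hx)

end CfsgLib.LocalEven.Residual
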