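/-
Sets of element orders: products, and the orders of the elements of PSL(2,q).
-/
import Cfsg.Agent.Lib.Classical.SL2Tori
import Mathlib.LinearAlgebra.Matrix.ProjectiveSpecialLinearGroup

set_option autoImplicit false

namespace CfsgLib.LocalEven.Spectrum

open scoped MatrixGroups

theorem dvd_lcm_gcd {d a b : ℕ} (ha : a ≠ 0) (hb : b ≠ 0) (hd : d ≠ 0) (h : d ∣ Nat.lcm a b) :
    d ∣ Nat.lcm (Nat.gcd d a) (Nat.gcd d b) := by
  have hga : Nat.gcd d a ≠ 0 := Nat.gcd_ne_zero_right ha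
  have hgb : Nat.gcd d b ≠ 0 := Nat.gcd_ne_zero_right hb
  have h1 := (Nat.factorization_le_iff_dvd hd (Nat.lcm_ne_zero ha hb)).2 h
  refine (Nat.factorization_le_iff_dvd hd (Nat.lcm_ne_zero hga hgb)).1 fun p => ?_
  have h2 := h1 p
  rw [Nat.factorization_lcm ha hb, Finsupp.sup_apply] at h2
  rw [Nat.factorization_lcm hga hgb, Finsupp.sup_apply, Nat.factorization_gcd hd ha, Nat.factorization_gcd hd hb,
    Finsupp.inf_apply, Finsupp.inf_apply, ← inf_sup_left]
  exact le_inf le_rfl h2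

/-- The orders in a direct product, from the maximal orders in the factors. -/
theorem range_prod {A B : Type*} [Group A] [Group B] {SA SB : Set ℕ}
    (hA : Set.range (orderOf : A → ℕ) = {d | ∃ n ∈ SA, d ∣ n})
    (hB : Set.range (orderOf : B → ℕ) = {d | ∃ n ∈ SB, d ∣ n}) (h0A : 0 ∉ SA) (h0B : 0 ∉ SB) :
    Set.range (orderOf : A × B → ℕ) = {d | ∃ n ∈ SA, ∃ m ∈ SB, d ∣ Nat.lcm n m} := by
  ext d
  constructor
  · rintro ⟨⟨a, b⟩, rfl⟩
    obtain ⟨n, hn, h1⟩ := hA.le ⟨a, rfl⟩
    obtain ⟨m, hm, h2⟩ := hB.le ⟨b, rfl⟩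
    exact ⟨n, hn, m, hm, by
      rw [Prod.orderOf]; exact Nat.lcm_dvd (h1.trans (Nat.dvd_lcm_left n m)) (h2.trans (Nat.dvd_lcm_right n m))⟩
  · rintro ⟨n, hn, m, hm, hd⟩
    have hn0 : n ≠ 0 := fun h => h0A (h ▸ hn)
    have hm0 : m ≠ 0 := fun h => h0B (h ▸ hm)
    have hd0 : d ≠ 0 := fun h => Nat.lcm_ne_zero hn0 hm0 (Nat.eq_zero_of_zero_dvd (h ▸ hd))
    obtain ⟨a, ha⟩ := hA.ge ⟨n, hn, Nat.gcd_dvd_right d n⟩
    obtain ⟨b, hb⟩ := hB.ge ⟨m, hm, Nat.gcd_dvd_right d m⟩
    refine ⟨(a, b), ?_⟩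
    rw [Prod.orderOf, ha, hb]
    exact Nat.dvd_antisymm (Nat.lcm_dvd (Nat.gcd_dvd_left _ _) (Nat.gcd_dvd_left _ _))
      (dvd_lcm_gcd hn0 hm0 hd0 hd)

theorem range_of_bound {A : Type*} [Group A] [Finite A] {S : Set ℕ} (h1 : ∀ g : A, ∃ n ∈ S, orderOf g ∣ n)
    (h2 : ∀ n ∈ S, ∃ g : A, orderOf g = n) :
    Set.range (orderOf : A → ℕ) = {d | ∃ n ∈ S, d ∣ n} := by
  ext d
  constructor
  · rintro ⟨g, rfl⟩; exact h1 g
  · rintro ⟨n, hn, hd⟩
    obtain ⟨g, rfl⟩ := h2 n hn
    exact ⟨g ^ (orderOf g / d), orderOf_pow_orderOf_div (orderOf_pos g).ne' hd⟩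

variable {F : Type*} [Field F] [Fintype F]

open CfsgLib.Classical in
theorem mem_center_of_scalar (g : SL(2, F)) {c : F} (h : (g : Matrix (Fin 2) (Fin 2) F) = c • 1) :
    g ∈ Subgroup.center SL(2, F) := by
  refine Subgroup.mem_center_iff.2 fun k => Subtype.ext ?_
  rw [Matrix.SpecialLinearGroup.coe_mul, Matrix.SpecialLinearGroup.coe_mul, h]
  simp

omit [Fintype F] in
open CfsgLib.Classical in
/-- In `SL(2)` of odd characteristic every element squaring to one is central. -/
theorem mem_center_of_sq (h2 : (2 : F) ≠ 0) (g : SL(2, F)) (h : g ^ 2 = 1) : g ∈ Subgroup.center SL(2, F) := by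
  have e : (g : Matrix (Fin 2) (Fin 2) F) * g = 1 := by
    rw [← Matrix.SpecialLinearGroup.coe_mul, ← sq, h]; rfl
  rw [sl2_sq] at e
  set t := (g : Matrix (Fin 2) (Fin 2) F).trace
  have e' : t • (g : Matrix (Fin 2) (Fin 2) F) = (2 : F) • 1 := by
    rw [two_smul]; exact sub_eq_iff_eq_add.1 e
  have ht : t ≠ 0 := by
    intro h0
    rw [h0, zero_smul] at e'
    exact h2 (by simpa using (congrFun (congrFun e' 0) 0).symm)
  refine Subgroup.mem_center_iff.2 fun k => Subtype.ext ?_
  rw [Matrix.SpecialLinearGroup.coe_mul, Matrix.SpecialLinearGroup.coe_mul]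
  have e'' : (g : Matrix (Fin 2) (Fin 2) F) = (t⁻¹ * 2) • 1 := by
    rw [← smul_smul, ← e', smul_smul, inv_mul_cancel₀ ht, one_smul]
  rw [e'']
  simp

open CfsgLib.Classical in
/-- An element is `p`-central or has order prime to the characteristic. -/
theorem pow_char_or_coprime (p : ℕ) [Fact p.Prime] [CharP F p] (g : SL(2, F)) :
    g ^ p ∈ Subgroup.center SL(2, F) ∨ (orderOf g).Coprime p := by
  classical
  set A : Matrix (Fin 2) (Fin 2) F := (g : Matrix (Fin 2) (Fin 2) F)
  set t := A.trace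
  haveI : CharP (Matrix (Fin 2) (Fin 2) F) p := inferInstance
  by_cases ht : ∃ c : F, c * c = 1 ∧ t = 2 * c
  · left
    obtain ⟨c, hc, htc⟩ := ht
    have h0 : (A - c • 1) * (A - c • 1) = 0 := by
      rw [sub_mul, mul_sub, mul_sub, smul_mul_smul_comm, mul_one, hc, one_smul, mul_smul_comm, mul_one,
        smul_mul_assoc, one_mul, sl2_sq g, show (g : Matrix (Fin 2) (Fin 2) F).trace = t from rfl, htc, two_mul,
        add_smul]
      abel
    have e : (A - c • 1) ^ p = 0 := by
      obtain ⟨r, hr⟩ := Nat.exists_eq_add_of_le (Fact.out : p.Prime).two_le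
      rw [hr, pow_add, pow_two, h0, zero_mul]
    rw [sub_pow_char_of_commute p ((Commute.one_right A).smul_right c), _root_.smul_pow, one_pow, sub_eq_zero] at e
    exact mem_center_of_scalar (g ^ p) (c := c ^ p) (by rw [Matrix.SpecialLinearGroup.coe_pow]; exact e)
  · right
    by_contra hnc
    have hpd : p ∣ orderOf g := by
      by_contra hd
      exact hnc ((Fact.out : p.Prime).coprime_iff_not_dvd.2 hd).symm
    set k := orderOf g / p
    have hk : orderOf (g ^ k) = p := orderOf_pow_orderOf_div (orderOf_pos g).ne' hpd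
    have hdecomp : ∀ k, ∃ x y : F, A ^ k = x • 1 + y • A := by
      intro k
      induction k with
      | zero => exact ⟨1, 0, by simp⟩
      | succ k ih =>
        obtain ⟨x, y, e⟩ := ih
        refine ⟨-y, x + y * t, ?_⟩
        rw [pow_succ, e, add_mul, smul_mul_assoc, one_mul, smul_mul_assoc, sl2_sq]
        module
    obtain ⟨x, y, e⟩ := hdecomp k
    have hN : ((A ^ k - 1) : Matrix (Fin 2) (Fin 2) F) ^ p = 0 := by
      rw [sub_pow_char_of_commute p (Commute.one_right _), one_pow, sub_eq_zero,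
        ← Matrix.SpecialLinearGroup.coe_pow, ← Matrix.SpecialLinearGroup.coe_pow]
      nth_rewrite 1 [← hk]
      rw [pow_orderOf_eq_one]
      rfl
    have hdet : (A ^ k - 1).det = 0 := by
      have := congrArg Matrix.det hN
      rw [Matrix.det_pow, Matrix.det_zero] at this
      exact (pow_eq_zero_iff (Fact.out : p.Prime).ne_zero).1 this
    have hg2 := g.2
    rw [Matrix.det_fin_two] at hg2
    -- the trace and determinant of `A ^ k` are those of an element with eigenvalue one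
    have hd1 : (x - 1) ^ 2 + (x - 1) * y * t + y ^ 2 = 0 := by
      rw [← hdet, e, Matrix.det_fin_two]
      simp [A, t, Matrix.trace_fin_two]
      linear_combination (-(y ^ 2)) * hg2
    have hdk : x ^ 2 + x * y * t + y ^ 2 = 1 := by
      have hd : (A ^ k).det = 1 := by rw [Matrix.det_pow]; simp [A, g.2]
      rw [← hd, e, Matrix.det_fin_two]
      simp [A, t, Matrix.trace_fin_two]
      linear_combination (-(y ^ 2)) * hg2
    by_cases hy : y = 0
    · subst hy
      have hx : x = 1 := by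
        have : (x - 1) ^ 2 = 0 := by linear_combination hd1
        exact sub_eq_zero.1 ((pow_eq_zero_iff two_ne_zero).1 this)
      have h1 : g ^ k = 1 := Subtype.ext (by
        rw [Matrix.SpecialLinearGroup.coe_pow]
        show A ^ k = 1
        rw [e, hx]; simp)
      rw [h1, orderOf_one] at hk
      exact (Fact.out : p.Prime).ne_one hk.symm
    · refine ht ⟨(1 - x) / y, ?_, ?_⟩
      · field_simp
        linear_combination (-1 : F) * hdk + hd1 * 0 + (hdk - hd1) * x
      · field_simp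
        linear_combination (hdk - hd1)

open CfsgLib.Classical in
/-- Orders in `PSL(2,q)`. -/
theorem psl_orderOf_dvd (p : ℕ) [Fact p.Prime] [CharP F p] (x : Matrix.ProjectiveSpecialLinearGroup (Fin 2) F) :
    orderOf x ∣ p ∨ orderOf x ∣ (Fintype.card F - 1) / Nat.gcd 2 (Fintype.card F - 1) ∨
      orderOf x ∣ (Fintype.card F + 1) / Nat.gcd 2 (Fintype.card F - 1) := by
  obtain ⟨g, rfl⟩ := QuotientGroup.mk_surjective x
  have hmk : ∀ m, g ^ m ∈ Subgroup.center SL(2, F) →
      orderOf (QuotientGroup.mk g : Matrix.ProjectiveSpecialLinearGroup (Fin 2) F) ∣ m := fun m hm =>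
    orderOf_dvd_of_pow_eq_one (by rw [← QuotientGroup.mk_pow, QuotientGroup.eq_one_iff]; exact hm)
  rcases pow_char_or_coprime p g with h | h
  · exact Or.inl (hmk p h)
  have hq : 2 ≤ Fintype.card F := Fintype.one_lt_card
  have key : ∀ m, Nat.gcd 2 (Fintype.card F - 1) ∣ m → orderOf g ∣ m →
      orderOf (QuotientGroup.mk g : Matrix.ProjectiveSpecialLinearGroup (Fin 2) F) ∣
        m / Nat.gcd 2 (Fintype.card F - 1) := by
    intro m hdm hgm
    refine hmk _ ?_
    rcases (Nat.dvd_prime Nat.prime_two).1 (Nat.gcd_dvd_left 2 (Fintype.card F - 1)) with h1 | h1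
    · rw [h1, Nat.div_one, orderOf_dvd_iff_pow_eq_one.1 hgm]; exact one_mem _
    · rw [h1] at hdm ⊢
      have h2 : 2 ∣ Fintype.card F - 1 := Nat.gcd_eq_left_iff_dvd.1 h1
      have hne : (2 : F) ≠ 0 := by
        intro h0
        obtain ⟨f, hp, hf⟩ := FiniteField.card F p
        have hp2 : p = 2 := ((Nat.prime_dvd_prime_iff_eq hp Nat.prime_two).1
          ((CharP.cast_eq_zero_iff F p 2).1 (by exact_mod_cast h0)))
        have : 2 ∣ Fintype.card F := by rw [hf, hp2]; exact dvd_pow_self 2 f.ne_zero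
        omega
      refine mem_center_of_sq hne _ ?_
      rw [← pow_mul, Nat.div_mul_cancel hdm, orderOf_dvd_iff_pow_eq_one.1 hgm]
  rcases sl2_order_dvd p g h with h' | h'
  · exact Or.inr (Or.inl (key _ (Nat.gcd_dvd_right _ _) h'))
  · refine Or.inr (Or.inr (key _ ?_ h'))
    have := Nat.gcd_dvd_right 2 (Fintype.card F - 1)
    have h2 := Nat.gcd_dvd_left 2 (Fintype.card F - 1)
    rw [show Fintype.card F + 1 = (Fintype.card F - 1) + 2 by omega]
    exact Nat.dvd_add this h2

open CfsgLib.Classical in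
theorem psl_exists (p : ℕ) [Fact p.Prime] [CharP F p] :
    ∀ n ∈ ({p, (Fintype.card F - 1) / Nat.gcd 2 (Fintype.card F - 1),
      (Fintype.card F + 1) / Nat.gcd 2 (Fintype.card F - 1)} : Set ℕ),
      ∃ x : Matrix.ProjectiveSpecialLinearGroup (Fin 2) F, orderOf x = n := by
  have hq : 2 ≤ Fintype.card F := Fintype.one_lt_card
  have hd0 : 0 < Nat.gcd 2 (Fintype.card F - 1) := Nat.gcd_pos_of_pos_left _ two_pos
  -- the centre has exponent dividing `gcd 2 (q - 1)`
  have hcen : ∀ c ∈ Subgroup.center SL(2, F), c ^ Nat.gcd 2 (Fintype.card F - 1) = 1 := by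
    intro c hc
    obtain ⟨r, hr, hrc⟩ := Matrix.SpecialLinearGroup.mem_center_iff.1 hc
    rw [Fintype.card_fin] at hr
    have hr0 : r ≠ 0 := by rintro rfl; simp at hr
    refine Subtype.ext ?_
    rw [Matrix.SpecialLinearGroup.coe_pow, ← hrc, ← map_pow]
    have h1 : r ^ Nat.gcd 2 (Fintype.card F - 1) = 1 :=
      pow_gcd_eq_one.2 ⟨hr, FiniteField.pow_card_sub_one_eq_one r hr0⟩
    rw [h1, map_one]; rfl
  have key : ∀ (g : SL(2, F)) m, Nat.gcd 2 (Fintype.card F - 1) ∣ m → orderOf g = m →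
      ∃ x : Matrix.ProjectiveSpecialLinearGroup (Fin 2) F, orderOf x = m / Nat.gcd 2 (Fintype.card F - 1) := by
    intro g m hdm hgm
    obtain ⟨j, rfl⟩ := hdm
    rw [Nat.mul_div_cancel_left _ hd0]
    have hd : j ∣ orderOf (QuotientGroup.mk g : Matrix.ProjectiveSpecialLinearGroup (Fin 2) F) := by
      have h1 := pow_orderOf_eq_one (QuotientGroup.mk g : Matrix.ProjectiveSpecialLinearGroup (Fin 2) F)
      rw [← QuotientGroup.mk_pow, QuotientGroup.eq_one_iff] at h1
      have h2 := hcen _ h1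
      rw [← pow_mul] at h2
      have h3 := orderOf_dvd_of_pow_eq_one h2
      rw [hgm, mul_comm] at h3
      exact Nat.dvd_of_mul_dvd_mul_right hd0 h3
    exact ⟨_, orderOf_pow_orderOf_div (orderOf_pos _).ne' hd⟩
  rintro n (rfl | rfl | rfl)
  · set u : SL(2, F) := CfsgLib.Recognition.SLTwoElements.transv F
    refine ⟨QuotientGroup.mk u, orderOf_eq_prime ?_ ?_⟩
    · rw [← QuotientGroup.mk_pow, QuotientGroup.eq_one_iff]
      refine mem_center_of_scalar _ (c := 1) ?_
      rw [CfsgLib.Recognition.SLTwoElements.transv_pow, CharP.cast_eq_zero, one_smul, Matrix.one_fin_two]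
    · rw [Ne, QuotientGroup.eq_one_iff, Matrix.SpecialLinearGroup.mem_center_iff]
      rintro ⟨r, -, hr⟩
      have := congrFun (congrFun hr 0) 1
      simp [u, CfsgLib.Recognition.SLTwoElements.transv] at this
  · obtain ⟨g, hg⟩ := exists_sl2_minus (F := F)
    exact key g _ (Nat.gcd_dvd_right _ _) hg
  · obtain ⟨g, hg⟩ := exists_sl2_plus (F := F) p
    refine key g _ ?_ hg
    rw [show Fintype.card F + 1 = (Fintype.card F - 1) + 2 by omega]
    exact Nat.dvd_add (Nat.gcd_dvd_right _ _) (Nat.gcd_dvd_left _ _)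

end CfsgLib.LocalEven.Spectrum
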