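/-
Yoshida's transfer lemma for weakly closed subgroups: failure of control of p-transfer by the
normaliser gives an iterated commutator outside a Frattini subgroup.
-/
import Cfsg.Agent.Lib.PGroup.Frattini
import Cfsg.Prelude.Def_Transfer
import Mathlib

set_option autoImplicit false

namespace CfsgLib.LocalEven.Yoshida

open scoped Classical
open MulAction Finset

variable {G : Type*} [Group G] [Finite G]

/-- The transfer of an element whose orbits of length greater than one contribute as expected. -/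
theorem transfer_eq_fixed {H : Subgroup G} [Fintype (G ⧸ H)] {C : Type*} [CommGroup C] (φ : H →* C) (x : G) (a : C)
    (hyp : ∀ (g : G) (l : ℕ), l ∣ orderOf x → 1 < l → ∀ h : g⁻¹ * x ^ l * g ∈ H, φ ⟨_, h⟩ = a ^ l) :
    MonoidHom.transfer φ x = a ^ H.index *
      ∏ c : G ⧸ H, if h : c.out⁻¹ * x * c.out ∈ H then φ ⟨_, h⟩ / a else 1 := by
  classical
  have : Fintype (Quotient (orbitRel (Subgroup.zpowers x) (G ⧸ H))) := Fintype.ofFinite _
  rw [MonoidHom.transfer_eq_prod_quotient_orbitRel_zpowers_quot, Subgroup.index_eq_sum_minimalPeriod H x,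
    ← Finset.prod_pow_eq_pow_sum]
  set Q := Quotient (orbitRel (Subgroup.zpowers x) (G ⧸ H))
  set E : G ⧸ H → C := fun c => if h : c.out⁻¹ * x * c.out ∈ H then φ ⟨_, h⟩ / a else 1 with hE
  have hfix : ∀ c : G ⧸ H, c.out⁻¹ * x * c.out ∈ H ↔ x • c = c := by
    intro c
    conv_rhs => rw [← QuotientGroup.out_eq' c, MulAction.Quotient.smul_mk, smul_eq_mul, eq_comm, QuotientGroup.eq]
    rw [mul_assoc]
  have hper : ∀ q : Q, 0 < Function.minimalPeriod (x • ·) q.out := fun q =>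
    Function.IsPeriodicPt.minimalPeriod_pos (n := orderOf x) (orderOf_pos x) (by
      show (x • ·)^[orderOf x] q.out = q.out
      rw [smul_iterate, pow_orderOf_eq_one]
      exact one_smul G _)
  have hterm : ∀ q : Q, φ ⟨q.out.out⁻¹ * x ^ Function.minimalPeriod (x • ·) q.out * q.out.out,
      QuotientGroup.out_conj_pow_minimalPeriod_mem H x q.out⟩ =
      a ^ Function.minimalPeriod (x • ·) q.out *
        (if x • q.out = q.out then E q.out else 1) := by
    intro q
    by_cases h : x • q.out = q.out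
    · rw [if_pos h]
      have hl : Function.minimalPeriod (x • ·) q.out = 1 := Function.minimalPeriod_eq_one_iff_isFixedPt.2 h
      rw [hE]
      simp only [dif_pos ((hfix _).2 h), hl, pow_one]
      rw [mul_div_cancel]
    · rw [if_neg h, mul_one]
      refine hyp _ _ ?_ ?_ _
      · exact Function.IsPeriodicPt.minimalPeriod_dvd (by
          show (x • ·)^[orderOf x] q.out = q.out
          rw [smul_iterate, pow_orderOf_eq_one]; exact one_smul G _)
      · have h0 := hper q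
        have h1 : Function.minimalPeriod (x • ·) q.out ≠ 1 := fun e =>
          h (Function.minimalPeriod_eq_one_iff_isFixedPt.1 e)
        omega
  refine (Finset.prod_congr rfl fun q _ => hterm q).trans ?_
  rw [Finset.prod_mul_distrib]
  congr 1
  -- fixed points
  rw [← Finset.prod_filter]
  refine Eq.trans ?_ (Finset.prod_subset (Finset.subset_univ (univ.filter fun c : G ⧸ H => x • c = c)) fun c _ hc => ?_)
  · refine Finset.prod_bij' (fun q _ => q.out) (fun c _ => (Quotient.mk _ c : Q)) ?_ ?_ ?_ ?_ ?_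
    · intro q hq; simpa using hq
    · intro c hc
      simp only [mem_filter, mem_univ, true_and] at hc ⊢
      have hz : ∀ t ∈ Subgroup.zpowers x, t • c = c := fun t ht =>
        (Subgroup.zpowers_le.2 (MulAction.mem_stabilizer_iff.2 hc) ht : t ∈ MulAction.stabilizer G c)
      obtain ⟨t, ht⟩ := MulAction.orbitRel_apply.1 (Quotient.mk_out (s := orbitRel (Subgroup.zpowers x) (G ⧸ H)) c)
      have : (Quotient.mk _ c : Q).out = c := by rw [← ht]; exact hz t t.2
      rw [this]; exact hc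
    · intro q hq; exact Quotient.out_eq q
    · intro c hc
      simp only [mem_filter, mem_univ, true_and] at hc
      obtain ⟨t, ht⟩ := MulAction.orbitRel_apply.1 (Quotient.mk_out (s := orbitRel (Subgroup.zpowers x) (G ⧸ H)) c)
      rw [← ht]
      exact (Subgroup.zpowers_le.2 (MulAction.mem_stabilizer_iff.2 hc) t.2 : (t : G) ∈ MulAction.stabilizer G c)
    · intro q hq; rfl
  · simp only [mem_filter, mem_univ, true_and] at hc
    exact dif_neg fun h => hc ((hfix c).1 h)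

/-- Alternating binomial coefficients of degree `p - 1` are congruent to one. -/
theorem choose_sign {p : ℕ} [Fact p.Prime] : ∀ j, j ≤ p - 1 →
    ((((-1 : ℤ) ^ (p - 1 - j) * ((p - 1).choose j : ℕ)) : ℤ) : ZMod p) = 1 := by
  have hp : p.Prime := Fact.out
  have key : ∀ j, j ≤ p - 1 → (((p - 1).choose j : ℕ) : ZMod p) = (-1) ^ j := by
    intro j
    induction j with
    | zero => simp
    | succ j ih =>
      intro hj
      have h1 := Nat.choose_succ_succ (p - 1) j
      rw [Nat.succ_eq_add_one, Nat.succ_eq_add_one, Nat.sub_add_cancel hp.one_le] at h1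
      have h2 : ((p.choose (j + 1) : ℕ) : ZMod p) = 0 := by
        rw [ZMod.natCast_eq_zero_iff]
        exact hp.dvd_choose_self (by omega) (by omega)
      rw [h1, Nat.cast_add, ih (by omega)] at h2
      rw [pow_succ]; linear_combination h2
  intro j hj
  push_cast
  rw [key j hj, ← pow_add, Nat.sub_add_cancel hj]
  exact ZMod.pow_card_sub_one_eq_one (neg_ne_zero.2 one_ne_zero)

/-- A long difference is the product of all the terms. -/
theorem diff_prod {p : ℕ} [Fact p.Prime] {C : Type*} [CommGroup C] (F : ℕ → ℕ → C)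
    (hF : ∀ k i, F (k + 1) i = F k (i + 1) / F k i) (hp : ∀ i, F 0 i ^ p = 1) :
    F (p - 1) 0 = ∏ i ∈ Finset.range p, F 0 i := by
  let f : ℕ → Additive C := fun i => Additive.ofMul (F 0 i)
  have h1 : ∀ k i, (fwdDiff 1)^[k] f i = Additive.ofMul (F k i) := by
    intro k
    induction k with
    | zero => intro i; rfl
    | succ k ih =>
      intro i
      rw [Function.iterate_succ_apply']
      show (fwdDiff 1)^[k] f (i + 1) - (fwdDiff 1)^[k] f i = _
      rw [ih, ih, hF]; rfl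
  have h2 := h1 (p - 1) 0
  rw [fwdDiff_iter_eq_sum_shift, Nat.sub_add_cancel (Fact.out : p.Prime).one_le] at h2
  apply Additive.ofMul.injective
  rw [← h2, ofMul_prod]
  refine Finset.sum_congr rfl fun j hj => ?_
  simp only [zero_add, smul_eq_mul, mul_one]
  have h3 := choose_sign (p := p) j (by have := Finset.mem_range.1 hj; omega)
  obtain ⟨d, hd⟩ : (p : ℤ) ∣ ((-1 : ℤ) ^ (p - 1 - j) * ((p - 1).choose j : ℕ)) - 1 := by
    rw [← ZMod.intCast_zmod_eq_zero_iff_dvd, Int.cast_sub, h3, Int.cast_one, sub_self]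
  rw [show ((-1 : ℤ) ^ (p - 1 - j) * ((p - 1).choose j : ℕ)) = d * (p : ℤ) + 1 by linarith, add_smul, one_smul,
    mul_smul, natCast_zsmul]
  have : p • f j = 0 := by
    show Additive.ofMul (F 0 j ^ p) = 0
    rw [hp]; rfl
  rw [this, smul_zero, zero_add]

/-- A homomorphism to an exponent `p` group nontrivial at `w` separates `w` from the Frattini subgroup. -/
theorem not_mem_frattini {p : ℕ} [Fact p.Prime] {P : Type*} [Group P] [Finite P] {C : Type*} [CommGroup C]
    (ψ : P →* C) (hψ : ∀ a, ψ a ^ p = 1) {w : P} (hw : ψ w ≠ 1) : w ∉ frattini P := by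
  obtain ⟨X, hX, ⟨hkX, hwX⟩, hmax⟩ := Finite.exists_le_maximal (p := fun X : Subgroup P => ψ.ker ≤ X ∧ w ∉ X)
    (a := ψ.ker) ⟨le_rfl, fun h => hw (MonoidHom.mem_ker.1 h)⟩
  refine fun h => hwX (frattini_le_coatom ⟨fun e => hwX (by rw [e]; exact Subgroup.mem_top w), fun Y hY => ?_⟩ h)
  have hwY : w ∈ Y := by
    by_contra hwY
    exact hY.not_ge (hmax ⟨hkX.trans hY.le, hwY⟩ hY.le)
  rw [Subgroup.eq_top_iff']
  intro a
  by_cases ha : a ∈ X
  · exact hY.le ha
  have hn : X.Normal := ⟨fun b hb g => by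
    have hk : g * b * g⁻¹ * b⁻¹ ∈ X := hkX (MonoidHom.mem_ker.2 (by
      simp only [map_mul, map_inv]; rw [mul_comm (ψ g), mul_inv_cancel_right, mul_inv_cancel]))
    simpa using mul_mem hk hb⟩
  have hwa : w ∈ X ⊔ Subgroup.zpowers a := by
    by_contra hwa
    exact ha (hmax ⟨hkX.trans le_sup_left, hwa⟩ le_sup_left (Subgroup.mem_sup_right (Subgroup.mem_zpowers a)))
  obtain ⟨b, hb, c, hc, rfl⟩ := Subgroup.mem_sup_of_normal_left.1 hwa
  obtain ⟨i, rfl⟩ := Subgroup.mem_zpowers_iff.1 hc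
  have hai : a ^ i ∈ Y := by simpa using mul_mem (inv_mem (hY.le hb)) hwY
  have hap : a ^ (p : ℤ) ∈ Y := hY.le (hkX (MonoidHom.mem_ker.2 (by rw [zpow_natCast, map_pow, hψ])))
  have hip : ¬ (p : ℤ) ∣ i := by
    rintro ⟨m, rfl⟩
    exact hwX (mul_mem hb (by
      rw [zpow_mul]; exact zpow_mem (hkX (MonoidHom.mem_ker.2 (by rw [zpow_natCast, map_pow, hψ]))) m))
  obtain ⟨u, v, huv⟩ := (Prime.coprime_iff_not_dvd (Nat.prime_iff_prime_int.1 (Fact.out : p.Prime))).2 hip
  rw [← zpow_one a, ← huv, zpow_add, mul_comm u, mul_comm v, zpow_mul, zpow_mul]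
  exact mul_mem (zpow_mem hap u) (zpow_mem hai v)

variable {p : ℕ} [Fact p.Prime]

theorem pow_inj {C : Type*} [CommGroup C] {x y : C} {n k l : ℕ} (hn : ¬ p ∣ n) (hx : x ^ p ^ k = 1)
    (hy : y ^ p ^ l = 1) (h : x ^ n = y ^ n) : x = y := by
  have h1 : (x / y) ^ n = 1 := by rw [div_pow, h, div_self']
  have h2 : (x / y) ^ p ^ (k + l) = 1 := by
    rw [div_pow, pow_add, pow_mul, hx, one_pow, one_div, mul_comm, pow_mul, hy, one_pow, inv_one]
  have h3 := pow_gcd_eq_one.2 ⟨h1, h2⟩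
  rw [Nat.Coprime.pow_right _ (((Fact.out : p.Prime).coprime_iff_not_dvd.2 hn).symm), pow_one] at h3
  exact div_eq_one.1 h3

/-- The failure of invariance of a character of `N`. -/
def Defect {C : Type*} [CommGroup C] (S : Set G) (lam : G → C) : Prop :=
  ∃ g, ∃ x ∈ S, g⁻¹ * x * g ∈ S ∧ lam (g⁻¹ * x * g) ≠ lam x

/-- Yoshida's lemma. -/
theorem main (S : Sylow p G) (W : Subgroup G) (hW : Cfsg.IsWeaklyClosed W (S : Subgroup G))
    (h : (S : Subgroup G) ⊓ commutator G ≠ (S : Subgroup G) ⊓ ⁅Subgroup.normalizer (W : Set G), Subgroup.normalizer (W : Set G)⁆) :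
    ∃ x ∈ (S : Subgroup G), ∃ z ∈ W, ∃ W₀ : Subgroup ↥W, IsCoatom W₀ ∧
      (fun y : G => y⁻¹ * z⁻¹ * y * z)^[p - 1] x ∈ W₀.map W.subtype ∧
      (fun y : G => y⁻¹ * z⁻¹ * y * z)^[p - 1] x ∉ ((frattini ↥W₀).map W₀.subtype).map W.subtype := by
  classical
  cases nonempty_fintype G
  set N := Subgroup.normalizer (W : Set G) with hN
  obtain ⟨hWS, hwc⟩ := hW
  have hSp : IsPGroup p (S : Subgroup G) := S.isPGroup'
  have fix_of : ∀ g : G, W.map (MulAut.conj g).toMonoidHom ≤ (S : Subgroup G) → g ∈ N := fun g hg => by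
    rw [hN, Subgroup.mem_normalizer_iff]
    intro x
    conv_rhs => rw [← hwc g hg]
    simp [Subgroup.mem_map]
  have hSN : (S : Subgroup G) ≤ N := fun s hs => fix_of s (by
    rintro _ ⟨w, hw, rfl⟩
    exact mul_mem (mul_mem hs (hWS hw)) (inv_mem hs))
  -- conjugation of p-subgroups of N into S
  have toS : ∀ P : Subgroup G, P ≤ N → IsPGroup p P → ∃ n ∈ N, ∀ x ∈ P, n * x * n⁻¹ ∈ (S : Subgroup G) := by
    intro P hPN hP
    have hP' : IsPGroup p (P.subgroupOf N) := hP.comap_subtype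
    obtain ⟨T, hT⟩ := hP'.exists_le_sylow
    obtain ⟨n, hn⟩ := MulAction.exists_smul_eq N T (S.subtype hSN)
    refine ⟨n, n.2, fun x hx => ?_⟩
    have h2 : MulAut.conj n • (⟨x, hPN hx⟩ : N) ∈ ((n • T : Sylow p N) : Subgroup N) :=
      Subgroup.smul_mem_pointwise_smul (⟨x, hPN hx⟩ : N) (MulAut.conj n) _ (hT (show (⟨x, hPN hx⟩ : N) ∈ P.subgroupOf N from hx))
    rw [hn] at h2
    exact h2
  have toS1 : ∀ x ∈ N, (∃ k, x ^ p ^ k = 1) → ∃ n ∈ N, n * x * n⁻¹ ∈ (S : Subgroup G) := by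
    rintro x hx ⟨k, hk⟩
    obtain ⟨n, hn, hnx⟩ := toS (Subgroup.zpowers x) (Subgroup.zpowers_le.2 hx) (fun ⟨y, hy⟩ => by
      obtain ⟨i, rfl⟩ := Subgroup.mem_zpowers_iff.1 hy
      refine ⟨k, Subtype.ext ?_⟩
      simp only [SubmonoidClass.coe_pow, OneMemClass.coe_one]
      rw [← zpow_natCast, ← zpow_mul, mul_comm, zpow_mul, zpow_natCast, hk, one_zpow])
    exact ⟨n, hn, hnx x (Subgroup.mem_zpowers x)⟩
  -- a separating character
  obtain ⟨b, hb, hbN⟩ : ∃ b ∈ (S : Subgroup G) ⊓ commutator G, b ∉ ⁅N, N⁆ := by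
    by_contra hall
    push Not at hall
    refine h (le_antisymm (le_inf inf_le_left hall) ?_)
    exact inf_le_inf_left _ (Subgroup.commutator_mono le_top le_top)
  let A := Abelianization ↥N
  have : Finite A := Quotient.finite _
  set m := ordCompl[p] (Nat.card A)
  have hcard : Nat.card A = p ^ (Nat.card A).factorization p * m := (Nat.ordProj_mul_ordCompl_eq_self _ _).symm
  let l0 : ↥N →* A := (powMonoidHom m).comp Abelianization.of
  have hl0 : ∀ x, l0 x ^ p ^ (Nat.card A).factorization p = 1 := fun x => by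
    show (Abelianization.of x ^ m) ^ _ = 1
    rw [← pow_mul, mul_comm, ← hcard, pow_card_eq_one']
  set ext : (↥N →* A) → G → A := fun l x => if hx : x ∈ N then l ⟨x, hx⟩ else 1 with hext
  have ext_apply : ∀ l x (hx : x ∈ N), ext l x = l ⟨x, hx⟩ := fun l x hx => dif_pos hx
  have ext_conj : ∀ l x n, x ∈ N → n ∈ N → ext l (n⁻¹ * x * n) = ext l x := by
    intro l x n hx hn
    rw [ext_apply _ _ hx, ext_apply _ _ (mul_mem (mul_mem (inv_mem hn) hx) hn),
      show (⟨n⁻¹ * x * n, mul_mem (mul_mem (inv_mem hn) hx) hn⟩ : N) = (⟨n, hn⟩ : N)⁻¹ * ⟨x, hx⟩ * ⟨n, hn⟩ from rfl,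
      map_mul, map_mul, map_inv, mul_comm _ (l ⟨x, hx⟩), inv_mul_cancel_right]
  have full : ∀ l : ↥N →* A, ¬ Defect (S : Set G) (ext l) → ∀ g x, x ∈ N → (∃ k, x ^ p ^ k = 1) →
      g⁻¹ * x * g ∈ N → ext l (g⁻¹ * x * g) = ext l x := by
    intro l hl g x hx hxp hgx
    obtain ⟨n, hn, hnx⟩ := toS1 x hx hxp
    obtain ⟨n', hn', hnx'⟩ := toS1 _ hgx (by
      obtain ⟨k, hk⟩ := hxp
      exact ⟨k, by rw [show g⁻¹ * x * g = g⁻¹ * x * (g⁻¹)⁻¹ by rw [inv_inv], conj_pow, hk, mul_one, inv_inv, inv_mul_cancel]⟩)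
    by_contra hne
    refine hl ⟨n * g * n'⁻¹, n * x * n⁻¹, hnx, ?_, ?_⟩
    · show _ ∈ (S : Subgroup G)
      simpa [mul_assoc] using hnx'
    · rw [show (n * g * n'⁻¹)⁻¹ * (n * x * n⁻¹) * (n * g * n'⁻¹) = (n'⁻¹)⁻¹ * (g⁻¹ * x * g) * n'⁻¹ by group,
        ext_conj l _ _ hgx (inv_mem hn'), show n * x * n⁻¹ = (n⁻¹)⁻¹ * x * n⁻¹ by rw [inv_inv],
        ext_conj l _ _ hx (inv_mem hn)]
      exact hne
  have hindex : ¬ p ∣ N.index := fun hd => S.not_dvd_index (hd.trans (Subgroup.index_dvd_of_le hSN))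
  have hpS : ∀ x ∈ (S : Subgroup G), ∃ k, x ^ p ^ k = 1 := fun x hx => by
    obtain ⟨k, hk⟩ := hSp ⟨x, hx⟩
    exact ⟨k, by simpa using congrArg Subtype.val hk⟩
  have hbS : b ∈ (S : Subgroup G) := hb.1
  have hd0 : Defect (S : Set G) (ext l0) := by
    by_contra hnd
    have hτ := transfer_eq_fixed (H := N) l0 b (ext l0 b) (fun g l _ _ hgl => by
      rw [← ext_apply l0 _ hgl]
      obtain ⟨k, hk⟩ := hpS b hbS
      rw [full l0 hnd g _ (pow_mem (hSN hbS) l) ⟨k, by rw [← pow_mul, mul_comm, pow_mul, hk, one_pow]⟩ hgl,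
        ext_apply _ _ (pow_mem (hSN hbS) l), ext_apply _ _ (hSN hbS), ← map_pow]
      rfl)
    rw [Finset.prod_eq_one fun c _ => ?_, mul_one] at hτ
    · have hker : commutator G ≤ (MonoidHom.transfer l0).ker := Abelianization.commutator_subset_ker _
      rw [MonoidHom.mem_ker.1 (hker hb.2), ext_apply _ _ (hSN hbS)] at hτ
      have h1 : l0 ⟨b, hSN hbS⟩ = 1 :=
        pow_inj (p := p) (k := (Nat.card A).factorization p) (l := 0) (y := 1) hindex (hl0 _) (one_pow _)
          (by rw [one_pow]; exact hτ.symm)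
      obtain ⟨k, hk⟩ := hpS b hbS
      have hk' : Abelianization.of (⟨b, hSN hbS⟩ : N) ^ p ^ k = 1 := by
        rw [← map_pow, show (⟨b, hSN hbS⟩ : N) ^ p ^ k = 1 from Subtype.ext hk, map_one]
      have h2 := pow_gcd_eq_one.2 ⟨(show Abelianization.of (⟨b, hSN hbS⟩ : N) ^ m = 1 from h1), hk'⟩
      rw [Nat.Coprime.pow_right k (Nat.coprime_ordCompl (Fact.out : p.Prime) Nat.card_pos.ne').symm, pow_one] at h2
      apply hbN
      have h3 : (⟨b, hSN hbS⟩ : N) ∈ commutator N := (QuotientGroup.eq_one_iff _).1 h2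
      have h4 := Subgroup.mem_map_of_mem N.subtype h3
      rwa [Subgroup.map_subtype_commutator] at h4
    · split_ifs with hc
      · rw [← ext_apply l0 _ hc, full l0 hnd _ _ (hSN hbS) (hpS b hbS) hc, div_self']
      · rfl
  -- the last power with a defect
  obtain ⟨k0, hk0, hk1⟩ : ∃ k, Defect (S : Set G) (ext (l0 ^ p ^ k)) ∧ ¬ Defect (S : Set G) (ext (l0 ^ p ^ (k + 1))) := by
    by_contra hall
    push Not at hall
    have : ∀ k, Defect (S : Set G) (ext (l0 ^ p ^ k)) := fun k => by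
      induction k with
      | zero => simpa using hd0
      | succ k ih => exact hall k ih
    obtain ⟨g, x, hx, hgx, hne⟩ := this ((Nat.card A).factorization p)
    rw [ext_apply _ _ (hSN hx), ext_apply _ _ (hSN hgx), MonoidHom.pow_apply, MonoidHom.pow_apply, hl0, hl0] at hne
    exact hne rfl
  set μ := l0 ^ p ^ k0
  set lam := ext μ with hlam
  have hμ : ∀ x, μ x ^ p ^ (Nat.card A).factorization p = 1 := fun x => by
    rw [MonoidHom.pow_apply, ← pow_mul, mul_comm, pow_mul, hl0, one_pow]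
  have hexp : ∀ g x, x ∈ N → (∃ k, x ^ p ^ k = 1) → g⁻¹ * x * g ∈ N → (lam (g⁻¹ * x * g) / lam x) ^ p = 1 := by
    intro g x hx hxp hgx
    have h1 := full _ hk1 g x hx hxp hgx
    rw [ext_apply _ _ hx, ext_apply _ _ hgx, MonoidHom.pow_apply, MonoidHom.pow_apply, pow_succ, pow_mul, pow_mul] at h1
    rw [hlam, ext_apply _ _ hx, ext_apply _ _ hgx, div_pow]
    simp only [μ, MonoidHom.pow_apply]
    rw [h1, div_self']
  -- the least order of a defect
  let P : ℕ → Prop := fun d => ∃ g, ∃ x ∈ (S : Subgroup G), g⁻¹ * x * g ∈ (S : Subgroup G) ∧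
    lam (g⁻¹ * x * g) ≠ lam x ∧ orderOf x = d
  have hP : ∃ d, P d := by
    obtain ⟨g, x, hx, hgx, hne⟩ := hk0
    exact ⟨_, g, x, hx, hgx, hne, rfl⟩
  have small : ∀ g x, x ∈ N → (∃ k, x ^ p ^ k = 1) → orderOf x < Nat.find hP → g⁻¹ * x * g ∈ N →
      lam (g⁻¹ * x * g) = lam x := by
    intro g x hx hxp hlt hgx
    obtain ⟨n, hn, hnx⟩ := toS1 x hx hxp
    obtain ⟨n', hn', hnx'⟩ := toS1 _ hgx (by
      obtain ⟨k, hk⟩ := hxp
      exact ⟨k, by rw [show g⁻¹ * x * g = g⁻¹ * x * (g⁻¹)⁻¹ by rw [inv_inv], conj_pow, hk, mul_one, inv_inv, inv_mul_cancel]⟩)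
    by_contra hne
    refine Nat.find_min hP hlt ⟨n * g * n'⁻¹, n * x * n⁻¹, hnx, ?_, ?_, ?_⟩
    · show _ ∈ (S : Subgroup G)
      simpa [mul_assoc] using hnx'
    · rw [show (n * g * n'⁻¹)⁻¹ * (n * x * n⁻¹) * (n * g * n'⁻¹) = (n'⁻¹)⁻¹ * (g⁻¹ * x * g) * n'⁻¹ by group,
        hlam, ext_conj μ _ _ hgx (inv_mem hn'), show n * x * n⁻¹ = (n⁻¹)⁻¹ * x * n⁻¹ by rw [inv_inv],
        ext_conj μ _ _ hx (inv_mem hn)]
      exact hne
    · exact orderOf_injective (MulAut.conj n).toMonoidHom (MulAut.conj n).injective x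
  set d0 := Nat.find hP
  have lam_pow : ∀ x l, x ∈ N → lam (x ^ l) = lam x ^ l := by
    intro x l hx
    rw [hlam, ext_apply _ _ (pow_mem hx l), ext_apply _ _ hx, ← map_pow]
    rfl
  have dropOrder : ∀ x : G, ∀ l, l ∣ orderOf x → 1 < l → orderOf x ≤ d0 → orderOf (x ^ l) < d0 := by
    intro x l hl hl1 hx
    rw [orderOf_pow_of_dvd (by omega) hl]
    exact lt_of_lt_of_le (Nat.div_lt_self (orderOf_pos x) hl1) hx
  set E : G → G ⧸ N → A := fun x c =>
    if c.out⁻¹ * x * c.out ∈ N then lam (c.out⁻¹ * x * c.out) / lam x else 1 with hEdef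
  have hτ : ∀ x ∈ (S : Subgroup G), orderOf x ≤ d0 →
      MonoidHom.transfer μ x = lam x ^ N.index * ∏ c : G ⧸ N, E x c := by
    intro x hx hxd
    obtain ⟨k, hk⟩ := hpS x hx
    rw [transfer_eq_fixed μ x (lam x) (fun g l hl hl1 hgl => by
      rw [← ext_apply μ _ hgl, ← hlam,
        small g _ (pow_mem (hSN hx) l) ⟨k, by rw [← pow_mul, mul_comm, pow_mul, hk, one_pow]⟩
          (dropOrder x l hl hl1 hxd) hgl, lam_pow _ _ (hSN hx)])]
    congr 1
    refine Finset.prod_congr rfl fun c _ => ?_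
    by_cases hc : c.out⁻¹ * x * c.out ∈ N
    · rw [dif_pos hc, hEdef]
      simp only [if_pos hc]
      rw [hlam, ext_apply _ _ hc]
    · rw [dif_neg hc, hEdef]
      simp only [if_neg hc]
  obtain ⟨y, hy, hyd, hyprod⟩ : ∃ y ∈ (S : Subgroup G), orderOf y = d0 ∧ ∏ c : G ⧸ N, E y c ≠ 1 := by
    by_contra hall
    push Not at hall
    obtain ⟨g, x, hx, hgx, hne, hxd⟩ := Nat.find_spec hP
    have hxd' : orderOf x = d0 := hxd
    have hox : orderOf (g⁻¹ * x * g) = d0 := by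
      rw [← hxd', show g⁻¹ * x * g = MulAut.conj g⁻¹ x by simp]
      exact orderOf_injective (MulAut.conj g⁻¹).toMonoidHom (MulAut.conj g⁻¹).injective x
    have e1 := hτ x hx hxd'.le
    have e2 := hτ _ hgx hox.le
    rw [hall x hx hxd', mul_one] at e1
    rw [hall _ hgx hox, mul_one, map_mul, map_mul, map_inv, mul_comm _ (MonoidHom.transfer μ x),
      inv_mul_cancel_right] at e2
    apply hne
    refine pow_inj (p := p) (k := (Nat.card A).factorization p) (l := (Nat.card A).factorization p) hindex ?_ ?_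
      (e2.symm.trans e1)
    · rw [hlam, ext_apply _ _ (hSN hgx)]; exact hμ _
    · rw [hlam, ext_apply _ _ (hSN hx)]; exact hμ _
  -- independence of the representative
  have Erep : ∀ x ∈ N, ∀ g : G, E x (g : G ⧸ N) = if g⁻¹ * x * g ∈ N then lam (g⁻¹ * x * g) / lam x else 1 := by
    intro x hx g
    obtain ⟨n, hn⟩ := QuotientGroup.mk_out_eq_mul N g
    simp only [hEdef, hn]
    have e : (g * n)⁻¹ * x * (g * n) = (n : G)⁻¹ * (g⁻¹ * x * g) * n := by group
    by_cases hgx : g⁻¹ * x * g ∈ N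
    · rw [if_pos hgx, e, if_pos (mul_mem (mul_mem (inv_mem n.2) hgx) n.2), hlam, ext_conj μ _ _ hgx n.2]
    · rw [if_neg hgx, if_neg]
      intro h'
      apply hgx
      rw [e] at h'
      simpa [mul_assoc] using mul_mem (mul_mem n.2 h') (inv_mem n.2)
  -- an orbit of `W` with nontrivial product
  let O : G ⧸ N → Finset (G ⧸ N) := fun c => univ.filter fun d => ∃ w ∈ W, w • c = d
  obtain ⟨c1, hc1⟩ : ∃ c, ∏ d ∈ O c, E y d ≠ 1 := by
    by_contra hall
    push Not at hall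
    apply hyprod
    rw [← Finset.prod_fiberwise_of_maps_to (g := O) (t := univ.image O) (fun c _ => mem_image_of_mem O (mem_univ c))]
    refine Finset.prod_eq_one fun T hT => ?_
    obtain ⟨c, -, rfl⟩ := mem_image.1 hT
    refine Eq.trans (Finset.prod_congr ?_ fun _ _ => rfl) (hall c)
    ext d
    simp only [O, mem_filter, mem_univ, true_and]
    constructor
    · intro hd
      have : d ∈ O d := by simp only [O, mem_filter, mem_univ, true_and]; exact ⟨1, one_mem W, one_smul G d⟩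
      simp only [O] at this
      rw [hd] at this
      simpa using this
    · rintro ⟨w, hw, rfl⟩
      ext e
      simp only [mem_filter, mem_univ, true_and]
      constructor
      · rintro ⟨v, hv, rfl⟩; exact ⟨v * w, mul_mem hv hw, mul_smul v w c⟩
      · rintro ⟨v, hv, rfl⟩; exact ⟨v * w⁻¹, mul_mem hv (inv_mem hw), by rw [mul_smul, inv_smul_smul]⟩
  obtain ⟨c0, hc0O, hc0⟩ := Finset.exists_ne_one_of_prod_ne_one hc1
  have hOeq : O c1 = O c0 := by
    simp only [O, mem_filter, mem_univ, true_and] at hc0O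
    obtain ⟨w, hw, rfl⟩ := hc0O
    ext e
    simp only [O, mem_filter, mem_univ, true_and]
    constructor
    · rintro ⟨v, hv, rfl⟩; exact ⟨v * w⁻¹, mul_mem hv (inv_mem hw), by rw [mul_smul, inv_smul_smul]⟩
    · rintro ⟨v, hv, rfl⟩; exact ⟨v * w, mul_mem hv hw, mul_smul v w c1⟩
  rw [hOeq] at hc1
  clear hc0O hOeq
  obtain ⟨g, rfl⟩ := QuotientGroup.mk_surjective c0
  rw [Erep y (hSN hy)] at hc0
  have hgy : g⁻¹ * y * g ∈ N := by by_contra h'; rw [if_neg h'] at hc0; exact hc0 rfl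
  have hgN : g ∉ N := fun hg => hc0 (by rw [if_pos hgy, hlam, ext_conj μ _ _ (hSN hy) hg, div_self'])
  set H := W ⊔ Subgroup.zpowers y with hHdef
  have hHS : H ≤ (S : Subgroup G) := sup_le hWS (Subgroup.zpowers_le.2 hy)
  have hyH : y ∈ H := Subgroup.mem_sup_right (Subgroup.mem_zpowers y)
  set R := H ⊓ N.map (MulAut.conj g).toMonoidHom with hRdef
  have hRmem : ∀ r, r ∈ R ↔ r ∈ H ∧ g⁻¹ * r * g ∈ N := by
    intro r
    rw [hRdef, Subgroup.mem_inf]
    refine and_congr_right fun _ => ⟨?_, fun h' => ⟨_, h', by simp [mul_assoc]⟩⟩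
    rintro ⟨n, hn, rfl⟩
    simpa [mul_assoc] using hn
  have hyR : y ∈ R := (hRmem y).2 ⟨hyH, hgy⟩
  have hWR : ¬ W ≤ R := by
    intro hle
    obtain ⟨n, hn, hnW⟩ := toS (W.map (MulAut.conj g⁻¹).toMonoidHom)
      (by rintro _ ⟨w, hw, rfl⟩; simpa using ((hRmem w).1 (hle hw)).2)
      ((hSp.to_le hWS).map _)
    have := fix_of (n * g⁻¹) (by
      rintro _ ⟨w, hw, rfl⟩
      have := hnW _ ⟨w, hw, rfl⟩
      simpa [mul_assoc] using this)
    apply hgN
    simpa using inv_mem (mul_mem (inv_mem hn) this)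
  have hHp : IsPGroup p H := hSp.to_le hHS
  have hRne : R.subgroupOf H ≠ ⊤ := fun hR => hWR fun w hw => Subgroup.subgroupOf_eq_top.1 hR (Subgroup.mem_sup_left hw)
  obtain ⟨Mh, hMh, hRM⟩ := (eq_top_or_exists_le_coatom (R.subgroupOf H)).resolve_left hRne
  have hMn : Mh.Normal := CfsgLib.PGroup.Frattini.normal_of_isCoatom hHp hMh
  have hMi : Mh.index = p := CfsgLib.PGroup.Frattini.index_of_isCoatom hHp hMh
  set M := Mh.map H.subtype with hMdef
  have hMH : M ≤ H := Subgroup.map_subtype_le _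
  have hMmem : ∀ u, ∀ hu : u ∈ H, u ∈ M ↔ (⟨u, hu⟩ : H) ∈ Mh := fun u hu =>
    ⟨fun ⟨v, hv, e⟩ => by
      obtain rfl : v = (⟨u, hu⟩ : H) := Subtype.ext e
      exact hv, fun h' => ⟨_, h', rfl⟩⟩
  have hRM' : R ≤ M := fun r hr => (hMmem r ((hRmem r).1 hr).1).2 (hRM hr)
  have hMconj : ∀ u ∈ H, ∀ v ∈ M, u⁻¹ * v * u ∈ M := by
    intro u hu v hv
    rw [hMmem _ (mul_mem (mul_mem (inv_mem hu) (hMH hv)) hu)]
    have := hMn.conj_mem _ ((hMmem v (hMH hv)).1 hv) (⟨u, hu⟩ : H)⁻¹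
    rw [inv_inv] at this
    exact this
  obtain ⟨z, hz, hzM⟩ : ∃ z ∈ W, z ∉ M := by
    by_contra hall
    push Not at hall
    have : H ≤ M := sup_le hall (Subgroup.zpowers_le.2 (hRM' hyR))
    exact hMh.1 ((Subgroup.eq_top_iff' _).2 fun u => (hMmem u u.2).1 (this u.2))
  have hzH : z ∈ H := Subgroup.mem_sup_left hz
  have := hMn
  have hcos : ∀ u ∈ H, u ∉ M → ∀ v ∈ H, ∃ i < p, (u ^ i)⁻¹ * v ∈ M := by
    intro u hu huM v hv
    have hq : Nat.card (H ⧸ Mh) = p := by rw [← Subgroup.index_eq_card, hMi]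
    have hne : ((⟨u, hu⟩ : H) : H ⧸ Mh) ≠ 1 := fun e => huM ((hMmem u hu).2 ((QuotientGroup.eq_one_iff _).1 e))
    obtain ⟨i, hi, hiv⟩ : ∃ i < p, ((⟨u, hu⟩ : H) : H ⧸ Mh) ^ i = ((⟨v, hv⟩ : H) : H ⧸ Mh) := by
      have hgen := mem_zpowers_of_prime_card (g' := ((⟨v, hv⟩ : H) : H ⧸ Mh)) hq hne
      rw [← mem_powers_iff_mem_zpowers] at hgen
      obtain ⟨i, hi⟩ := hgen
      have hord : orderOf ((⟨u, hu⟩ : H) : H ⧸ Mh) = p := orderOf_eq_prime
        (by rw [← hq]; exact pow_card_eq_one') hne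
      exact ⟨i % p, Nat.mod_lt _ (Fact.out : p.Prime).pos, by rw [← hord, pow_mod_orderOf]; exact hi⟩
    refine ⟨i, hi, ?_⟩
    rw [hMmem _ (mul_mem (inv_mem (pow_mem hu i)) hv)]
    rw [← QuotientGroup.mk_pow, QuotientGroup.eq] at hiv
    exact hiv
  have hinjz : ∀ i < p, ∀ j < p, (z ^ i)⁻¹ * z ^ j ∈ M → i = j := by
    intro i hi j hj hm
    rw [hMmem _ (mul_mem (inv_mem (pow_mem hzH i)) (pow_mem hzH j))] at hm
    have e : ((⟨z, hzH⟩ : H) : H ⧸ Mh) ^ i = ((⟨z, hzH⟩ : H) : H ⧸ Mh) ^ j := by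
      rw [← QuotientGroup.mk_pow, ← QuotientGroup.mk_pow, QuotientGroup.eq]; exact hm
    have hq : Nat.card (H ⧸ Mh) = p := by rw [← Subgroup.index_eq_card, hMi]
    have hne : ((⟨z, hzH⟩ : H) : H ⧸ Mh) ≠ 1 := fun e => hzM ((hMmem z hzH).2 ((QuotientGroup.eq_one_iff _).1 e))
    exact pow_injOn_Iio_orderOf (x := ((⟨z, hzH⟩ : H) : H ⧸ Mh))
      (by rw [orderOf_eq_prime (hq ▸ pow_card_eq_one') hne]; exact hi)
      (by rw [orderOf_eq_prime (hq ▸ pow_card_eq_one') hne]; exact hj) e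
  -- the transferred defect on M
  let δ : R.subgroupOf M →* A :=
    { toFun := fun r => lam (g⁻¹ * (r : M) * g) / lam (r : M)
      map_one' := by simp
      map_mul' := fun r r' => by
        have hr := (hRmem _).1 (Subgroup.mem_subgroupOf.1 r.2)
        have hr' := (hRmem _).1 (Subgroup.mem_subgroupOf.1 r'.2)
        rw [Subgroup.coe_mul, Subgroup.coe_mul,
          show g⁻¹ * (((r : M) : G) * ((r' : M) : G)) * g = (g⁻¹ * (r : M) * g) * (g⁻¹ * (r' : M) * g) by group,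
          hlam, ext_apply _ _ (mul_mem hr.2 hr'.2), ext_apply _ _ (mul_mem (hSN (hHS hr.1)) (hSN (hHS hr'.1))),
          ext_apply _ _ hr.2, ext_apply _ _ hr'.2, ext_apply _ _ (hSN (hHS hr.1)), ext_apply _ _ (hSN (hHS hr'.1)),
          ← map_div, ← map_div, ← map_div]
        rw [map_div, map_div, map_div, show (⟨_, mul_mem hr.2 hr'.2⟩ : N) = ⟨_, hr.2⟩ * ⟨_, hr'.2⟩ from rfl,
          show (⟨_, mul_mem (hSN (hHS hr.1)) (hSN (hHS hr'.1))⟩ : N) = ⟨_, hSN (hHS hr.1)⟩ * ⟨_, hSN (hHS hr'.1)⟩ from rfl,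
          map_mul, map_mul]
        exact (div_mul_div_comm _ _ _ _).symm }
  have : Fintype (M ⧸ R.subgroupOf M) := Fintype.ofFinite _
  set φ := MonoidHom.transfer δ with hφdef
  have hφp : ∀ u, φ u ^ p = 1 := by
    intro u
    rw [hφdef, MonoidHom.transfer_eq_prod_quotient_orbitRel_zpowers_quot, ← Finset.prod_pow]
    refine Finset.prod_eq_one fun q _ => ?_
    have hr := fun r : R.subgroupOf M => (hRmem _).1 (Subgroup.mem_subgroupOf.1 r.2)
    exact hexp g _ (hSN (hHS (hr _).1)) (hpS _ (hHS (hr _).1)) (hr _).2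
  have hφval : ∀ u : M, orderOf (u : G) ≤ d0 → φ u = ∏ d : M ⧸ R.subgroupOf M,
      if g⁻¹ * ((d.out⁻¹ * u * d.out : M) : G) * g ∈ N then
        lam (g⁻¹ * ((d.out⁻¹ * u * d.out : M) : G) * g) / lam (u : G) else 1 := by
    intro u hu
    have huN : (u : G) ∈ N := hSN (hHS (hMH u.2))
    rw [hφdef, transfer_eq_fixed δ u 1 (fun v l hl hl1 hvl => by
      show lam _ / lam _ = (1 : A) ^ l
      have hh := (hRmem _).1 (Subgroup.mem_subgroupOf.1 hvl)
      rw [one_pow, small g _ (hSN (hHS hh.1)) (hpS _ (hHS hh.1)) ?_ hh.2, div_self']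
      rw [show ((v⁻¹ * u ^ l * v : M) : G) = MulAut.conj (v : G)⁻¹ ((u : G) ^ l) by simp]
      rw [show MulAut.conj (v : G)⁻¹ ((u : G) ^ l) = (MulAut.conj (v : G)⁻¹).toMonoidHom ((u : G) ^ l) from rfl,
        orderOf_injective (MulAut.conj (v : G)⁻¹).toMonoidHom (MulAut.conj (v : G)⁻¹).injective]
      exact dropOrder _ l (by rwa [Subgroup.orderOf_coe]) hl1 hu), one_pow, one_mul]
    refine Finset.prod_congr rfl fun d _ => ?_
    have hmem : d.out⁻¹ * u * d.out ∈ R.subgroupOf M ↔ g⁻¹ * ((d.out⁻¹ * u * d.out : M) : G) * g ∈ N := by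
      rw [Subgroup.mem_subgroupOf, hRmem]
      exact and_iff_right (hMH (d.out⁻¹ * u * d.out).2)
    by_cases hd : d.out⁻¹ * u * d.out ∈ R.subgroupOf M
    · rw [dif_pos hd, if_pos (hmem.1 hd), div_one]
      show lam _ / lam _ = _
      congr 1
      simp only [Subgroup.coe_mul, Subgroup.coe_inv]
      rw [hlam, ext_conj μ _ _ huN (hSN (hHS (hMH d.out.2)))]
    · rw [dif_neg hd, if_neg fun h' => hd (hmem.2 h')]
  -- the sequence of iterated commutators
  set f := fun t : G => t⁻¹ * z⁻¹ * t * z with hf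
  set T : ℕ → G := fun k => f^[k] y with hT
  have hyM : y ∈ M := hRM' hyR
  have hTM : ∀ k, T k ∈ M := by
    intro k
    induction k with
    | zero => exact hyM
    | succ k ih =>
      simp only [hT, Function.iterate_succ_apply'] at ih ⊢
      have := mul_mem (inv_mem ih) (hMconj z hzH _ ih)
      simpa [hf, mul_assoc] using this
  have hconjT : ∀ k i, (z ^ i)⁻¹ * T k * z ^ i ∈ M := fun k i => hMconj _ (pow_mem hzH i) _ (hTM k)
  let Φ : ℕ → ℕ → A := fun k i => φ ⟨(z ^ i)⁻¹ * T k * z ^ i, hconjT k i⟩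
  have hΦ : ∀ k i, Φ (k + 1) i = Φ k (i + 1) / Φ k i := by
    intro k i
    rw [eq_div_iff_mul_eq', mul_comm, ← map_mul]
    congr 1
    apply Subtype.ext
    simp only [Subgroup.coe_mul, hT, Function.iterate_succ_apply', hf]
    group
  have hprod : ∏ i ∈ Finset.range p, Φ 0 i = ∏ d ∈ O (g : G ⧸ N), E y d := by
    have hord : ∀ i, orderOf ((z ^ i)⁻¹ * y * z ^ i) = d0 := fun i => by
      rw [← hyd, show (z ^ i)⁻¹ * y * z ^ i = (MulAut.conj (z ^ i)⁻¹).toMonoidHom y by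
        rw [MulEquiv.coe_toMonoidHom, MulAut.conj_apply, inv_inv]]
      exact orderOf_injective _ (MulAut.conj (z ^ i)⁻¹).injective y
    have hΦ0 : ∀ i, Φ 0 i = ∏ d : M ⧸ R.subgroupOf M, E y (z ^ i • (d.out : G) • (g : G ⧸ N)) := by
      intro i
      refine (hφval ⟨(z ^ i)⁻¹ * T 0 * z ^ i, hconjT 0 i⟩ (hord i).le).trans (Finset.prod_congr rfl fun d _ => ?_)
      rw [smul_smul, MulAction.Quotient.smul_mk, smul_eq_mul, Erep y (hSN hy)]
      have hzi : z ^ i ∈ N := hSN (hWS (pow_mem hz i))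
      have e : (z ^ i * (d.out : G) * g)⁻¹ * y * (z ^ i * (d.out : G) * g) =
          g⁻¹ * ((d.out⁻¹ * ⟨(z ^ i)⁻¹ * T 0 * z ^ i, hconjT 0 i⟩ * d.out : M) : G) * g := by
        simp only [Subgroup.coe_mul, Subgroup.coe_inv, hT, Function.iterate_zero, id_eq]
        group
      rw [e, show lam ((⟨(z ^ i)⁻¹ * T 0 * z ^ i, hconjT 0 i⟩ : M) : G) = lam y from ext_conj μ y _ (hSN hy) hzi]
    rw [Finset.prod_congr rfl (fun i _ => hΦ0 i), ← Finset.prod_product' (Finset.range p) univ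
      (fun i (d : M ⧸ R.subgroupOf M) => E y (z ^ i • (d.out : G) • (g : G ⧸ N)))]
    refine Finset.prod_bij (fun a _ => z ^ a.1 • (a.2.out : G) • (g : G ⧸ N)) ?_ ?_ ?_ (fun _ _ => rfl)
    · rintro ⟨i, d⟩ -
      simp only [O, mem_filter, mem_univ, true_and]
      have hmH : z ^ i * (d.out : G) ∈ H := mul_mem (pow_mem hzH i) (hMH d.out.2)
      have hyn : Subgroup.zpowers y ≤ Subgroup.normalizer (W : Set G) := Subgroup.zpowers_le.2 (hSN hy)
      obtain ⟨w, hw, t, ht, hwt⟩ : ∃ w ∈ W, ∃ t ∈ Subgroup.zpowers y, w * t = z ^ i * (d.out : G) := by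
        rw [hHdef] at hmH
        exact Set.mem_mul.1 ((Subgroup.coe_mul_of_right_le_normalizer_left W _ hyn) ▸ hmH)
      refine ⟨w, hw, ?_⟩
      have hyfix : y • (g : G ⧸ N) = g := by
        rw [MulAction.Quotient.smul_mk, smul_eq_mul, QuotientGroup.eq]
        simpa [mul_assoc] using inv_mem hgy
      have htfix : t • (g : G ⧸ N) = g :=
        (Subgroup.zpowers_le.2 (MulAction.mem_stabilizer_iff.2 hyfix) ht : t ∈ MulAction.stabilizer G (g : G ⧸ N))
      rw [smul_smul (z ^ i), ← hwt, mul_smul, htfix]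
    · rintro ⟨i, d⟩ hi ⟨j, d'⟩ hj he
      simp only [Finset.mem_product, Finset.mem_range, mem_univ, and_true] at hi hj
      simp only [MulAction.Quotient.smul_mk, smul_eq_mul, QuotientGroup.eq] at he
      have hR' : ((z ^ i * (d.out : G))⁻¹ * (z ^ j * (d'.out : G))) ∈ R := by
        refine (hRmem _).2 ⟨mul_mem (inv_mem (mul_mem (pow_mem hzH i) (hMH d.out.2))) (mul_mem (pow_mem hzH j) (hMH d'.out.2)), ?_⟩
        simpa [mul_assoc] using he
      have hij : i = j := hinjz i hi j hj (by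
        have := mul_mem (mul_mem d.out.2 (hRM' hR')) (inv_mem d'.out.2)
        simpa [mul_assoc] using this)
      subst hij
      refine Prod.ext rfl ?_
      rw [← QuotientGroup.out_eq' d, ← QuotientGroup.out_eq' d']
      rw [QuotientGroup.eq, Subgroup.mem_subgroupOf]
      simpa [mul_assoc] using hR'
    · intro c hc
      simp only [O, mem_filter, mem_univ, true_and] at hc
      obtain ⟨w, hw, rfl⟩ := hc
      obtain ⟨i, hi, him⟩ := hcos z hzH hzM w (Subgroup.mem_sup_left hw)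
      obtain ⟨r, hr⟩ := QuotientGroup.mk_out_eq_mul (R.subgroupOf M) (⟨_, him⟩ : M)
      refine ⟨(i, QuotientGroup.mk (⟨_, him⟩ : M)), by simp [Finset.mem_range.2 hi], ?_⟩
      simp only [hr, Subgroup.coe_mul, mul_smul]
      have hrfix : ((r : M) : G) • (g : G ⧸ N) = g := by
        rw [MulAction.Quotient.smul_mk, smul_eq_mul, QuotientGroup.eq]
        have := ((hRmem _).1 (Subgroup.mem_subgroupOf.1 r.2)).2
        simpa [mul_assoc] using inv_mem this
      rw [hrfix, smul_inv_smul]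
  have hw1 : φ ⟨T (p - 1), hTM (p - 1)⟩ ≠ 1 := by
    have := diff_prod (p := p) Φ hΦ (fun i => hφp _)
    rw [hprod] at this
    intro h'
    apply hc1
    rw [← this]
    refine Eq.trans (congrArg φ (Subtype.ext ?_)) h'
    simp
  have hTW : T (p - 1) ∈ W := by
    obtain ⟨j, hj⟩ := Nat.exists_eq_add_of_le (show 1 ≤ p - 1 by have := (Fact.out : p.Prime).two_le; omega)
    rw [hj, add_comm]
    simp only [hT, Function.iterate_succ_apply']
    set t := f^[j] y
    have ht : t ∈ N := hSN (hHS (hMH (hTM j)))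
    have h1 : t⁻¹ * z⁻¹ * t ∈ W := (Subgroup.mem_normalizer_iff''.1 ht z⁻¹).1 (inv_mem hz)
    exact mul_mem h1 hz
  set W₀ : Subgroup W := M.subgroupOf W with hW₀
  refine ⟨y, hy, z, hz, W₀, ⟨fun e => hzM (Subgroup.subgroupOf_eq_top.1 e hz), fun K hK => ?_⟩,
    ⟨⟨T (p - 1), hTW⟩, hTM (p - 1), rfl⟩, ?_⟩
  · obtain ⟨k, hk, hkM⟩ := SetLike.exists_of_lt hK
    rw [Subgroup.eq_top_iff']
    intro w
    obtain ⟨i, -, him⟩ := hcos (k : G) (Subgroup.mem_sup_left k.2) hkM (w : G) (Subgroup.mem_sup_left w.2)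
    have h1 : (k ^ i)⁻¹ * w ∈ K := hK.le (show (k ^ i)⁻¹ * w ∈ W₀ from by
      rw [hW₀, Subgroup.mem_subgroupOf]; simpa using him)
    simpa using mul_mem (pow_mem hk i) h1
  · let ι : ↥W₀ →* ↥M :=
      { toFun := fun a => ⟨((a : W) : G), Subgroup.mem_subgroupOf.1 a.2⟩
        map_one' := rfl
        map_mul' := fun _ _ => rfl }
    have hnot := not_mem_frattini (p := p) (φ.comp ι) (fun a => hφp _)
      (w := (⟨⟨T (p - 1), hTW⟩, hTM (p - 1)⟩ : W₀)) hw1
    rintro ⟨u, ⟨v, hv, rfl⟩, hu⟩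
    apply hnot
    have : v = (⟨⟨T (p - 1), hTW⟩, hTM (p - 1)⟩ : W₀) := Subtype.ext (Subtype.ext hu)
    rwa [this] at hv

end CfsgLib.LocalEven.Yoshida
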