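import Cfsg.Prelude.Def_LocalEven
import Cfsg.Agent.Lib.Involution.Dihedral
import Cfsg.Agent.Lib.Derangements.DihedralHom
import Cfsg.Agent.Lib.Coprime.Action
import Mathlib.GroupTheory.SpecificGroups.Dihedral

/-! `Involves (DihedralGroup p)` and elements of 2-power order inverting `p`-elements. -/

set_option autoImplicit false

namespace CfsgLib.LocalEven.InvolvesDihedral

open Cfsg

variable {G : Type*} [Group G]

theorem of_surjective {H : Type*} [Group H] {K : Subgroup G} (f : K →* H) (hf : Function.Surjective f) :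
    Involves H G := by
  have e : (f.ker.map K.subtype).subgroupOf K = f.ker :=
    Subgroup.comap_map_eq_self_of_injective K.subtype_injective f.ker
  have hn : ((f.ker.map K.subtype).subgroupOf K).Normal := by rw [e]; infer_instance
  refine ⟨K, f.ker.map K.subtype, hn, ⟨?_⟩⟩
  exact (QuotientGroup.quotientMulEquivOfEq e).trans (QuotientGroup.quotientKerEquivOfSurjective f hf)

theorem exists_surjective {H : Type*} [Group H] (h : Involves H G) :
    ∃ (K : Subgroup G) (f : K →* H), Function.Surjective f := by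
  obtain ⟨K, R, hR, ⟨e⟩⟩ := h
  haveI := hR
  exact ⟨K, e.toMonoidHom.comp (QuotientGroup.mk' _), e.surjective.comp (QuotientGroup.mk'_surjective _)⟩

theorem mul_r_ne_one {p : ℕ} [Fact p.Prime] (hp : p ≠ 2) {i : ZMod p} (hi : i ≠ 0) :
    (DihedralGroup.r i : DihedralGroup p) * DihedralGroup.r i ≠ 1 := by
  intro h
  rw [DihedralGroup.r_mul_r, DihedralGroup.one_def] at h
  have h3 : 2 * i = 0 := (two_mul i).trans (DihedralGroup.r.inj h)
  refine hi ((mul_eq_zero.1 h3).resolve_left fun h2 => ?_)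
  have h' : ((2 : ℕ) : ZMod p) = 0 := by exact_mod_cast h2
  rw [ZMod.natCast_eq_zero_iff, Nat.prime_dvd_prime_iff_eq (Fact.out : p.Prime) Nat.prime_two] at h'
  exact hp h'

/-- A group mapping onto the dihedral group of order `2p` has a 2-element inverting a `p`-element
which maps to a nontrivial rotation. -/
theorem exists_inverted {L : Type*} [Group L] [Finite L] {p : ℕ} [Fact p.Prime] (hp : p ≠ 2)
    (f : L →* DihedralGroup p) (hf : Function.Surjective f) :
    ∃ x y : L, (∃ k : ℕ, orderOf x = 2 ^ k) ∧ (∃ k : ℕ, orderOf y = p ^ k) ∧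
      (∃ i : ZMod p, i ≠ 0 ∧ f y = DihedralGroup.r i) ∧ (∃ i : ZMod p, f x = DihedralGroup.sr i) ∧
      x * y * x⁻¹ = y⁻¹ := by
  have hpp : p.Prime := Fact.out
  haveI : NeZero p := ⟨hpp.ne_zero⟩
  let rot : Subgroup (DihedralGroup p) :=
    { carrier := {d | ∃ i, d = DihedralGroup.r i}
      one_mem' := ⟨0, DihedralGroup.one_def⟩
      mul_mem' := by
        rintro _ _ ⟨i, rfl⟩ ⟨j, rfl⟩
        exact ⟨i + j, DihedralGroup.r_mul_r i j⟩
      inv_mem' := by
        rintro _ ⟨i, rfl⟩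
        exact ⟨-i, DihedralGroup.inv_r i⟩ }
  haveI hrot : rot.Normal := by
    refine ⟨?_⟩
    rintro _ ⟨i, rfl⟩ (j | j)
    · exact ⟨i, by rw [DihedralGroup.r_mul_r, DihedralGroup.inv_r, DihedralGroup.r_mul_r, add_comm j i, add_neg_cancel_right]⟩
    · exact ⟨-i, by rw [DihedralGroup.sr_mul_r, DihedralGroup.inv_sr, DihedralGroup.sr_mul_sr, sub_add_cancel_left]⟩
  set L0 := rot.comap f
  obtain ⟨l, hl⟩ := hf (DihedralGroup.r 1)
  obtain ⟨k₀, m₀, hm₀, hk₀⟩ := Nat.exists_eq_pow_mul_and_not_dvd (orderOf_pos l).ne' p hpp.ne_one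
  have hla : orderOf (l ^ m₀) = p ^ k₀ := by
    rw [orderOf_pow' l (by rintro rfl; exact hm₀ (dvd_zero p)), hk₀, Nat.gcd_eq_right (Dvd.intro_left _ rfl),
      Nat.mul_div_cancel _ (Nat.pos_of_ne_zero (by rintro rfl; exact hm₀ (dvd_zero p)))]
  have hfa : f (l ^ m₀) = DihedralGroup.r (m₀ : ZMod p) := by
    rw [map_pow, hl, DihedralGroup.r_one_pow]
  have hm0 : (m₀ : ZMod p) ≠ 0 := fun h => hm₀ ((ZMod.natCast_eq_zero_iff m₀ p).1 h)
  have haL0 : l ^ m₀ ∈ L0 := Subgroup.mem_comap.2 (show f (l ^ m₀) ∈ rot from ⟨_, hfa⟩)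
  have hpA : IsPGroup p (Subgroup.zpowers (⟨l ^ m₀, haL0⟩ : L0)) :=
    IsPGroup.of_card (n := k₀) (by rw [Nat.card_zpowers, ← Subgroup.orderOf_coe]; exact hla)
  obtain ⟨P, hP⟩ := hpA.exists_le_sylow
  set P' : Subgroup L := (P : Subgroup L0).map L0.subtype
  have hP' : IsPGroup p P' := P.2.map _
  have haP : l ^ m₀ ∈ P' := ⟨⟨l ^ m₀, haL0⟩, hP (Subgroup.mem_zpowers _), rfl⟩
  have hfr : Subgroup.normalizer (P' : Set L) ⊔ L0 = ⊤ := Sylow.normalizer_sup_eq_top P
  obtain ⟨t, ht⟩ := hf (DihedralGroup.sr 0)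
  have htm : t ∈ Subgroup.normalizer (P' : Set L) ⊔ L0 := hfr ▸ Subgroup.mem_top t
  rw [← SetLike.mem_coe, Subgroup.mul_normal, Set.mem_mul] at htm
  obtain ⟨s, hs, u, hu, rfl⟩ := htm
  obtain ⟨i₀, hi₀⟩ : ∃ i, f s = DihedralGroup.sr i := by
    obtain ⟨j, hj⟩ : ∃ j, f u = DihedralGroup.r j := Subgroup.mem_comap.1 hu
    rcases hfs : f s with i | i
    · rw [map_mul, hfs, hj, DihedralGroup.r_mul_r] at ht
      cases ht
    · exact ⟨i, rfl⟩
  obtain ⟨k, m, hm, hk⟩ := Nat.exists_eq_pow_mul_and_not_dvd (orderOf_pos s).ne' 2 (by norm_num)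
  set x := s ^ m
  have hxo : orderOf x = 2 ^ k := by
    rw [orderOf_pow' s (by rintro rfl; exact hm (dvd_zero 2)), hk, Nat.gcd_eq_right (Dvd.intro_left _ rfl),
      Nat.mul_div_cancel _ (Nat.pos_of_ne_zero (by rintro rfl; exact hm (dvd_zero 2)))]
  have hfx : f x = DihedralGroup.sr i₀ := by
    obtain ⟨m', hm'⟩ : Odd m := Nat.odd_iff.2 (Nat.two_dvd_ne_zero.1 hm)
    rw [map_pow, hi₀, hm', pow_succ, pow_mul, pow_two, DihedralGroup.sr_mul_self, one_pow, one_mul]
  have hxN : x ∈ Subgroup.normalizer (P' : Set L) := pow_mem hs m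
  -- replace `l ^ m₀` by an element centralised by `x ^ 2`
  set N := P' ⊓ f.ker
  have hfx2 : f (x ^ 2) = 1 := by rw [map_pow, hfx, pow_two, DihedralGroup.sr_mul_self]
  have hz : x ^ 2 ∈ Subgroup.normalizer (P' : Set L) := pow_mem hxN 2
  have hAN : Subgroup.zpowers (x ^ 2) ≤ Subgroup.normalizer (N : Set L) := by
    refine Subgroup.zpowers_le.2 (Subgroup.mem_normalizer_iff.2 fun w => ?_)
    simp only [N, Subgroup.mem_inf]
    exact and_congr (Subgroup.mem_normalizer_iff.1 hz w)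
      ⟨fun h => (MonoidHom.normal_ker f).conj_mem w h _, fun h => by
        have h' := (MonoidHom.normal_ker f).conj_mem _ h (x ^ 2)⁻¹
        rwa [show (x ^ 2)⁻¹ * (x ^ 2 * w * (x ^ 2)⁻¹) * ((x ^ 2)⁻¹)⁻¹ = w by group] at h'⟩
  have hcop : (Nat.card (Subgroup.zpowers (x ^ 2))).Coprime (Nat.card N) := by
    obtain ⟨b, hb⟩ := IsPGroup.iff_card.1 (hP'.to_le (inf_le_left : N ≤ P'))
    obtain ⟨c, -, hc⟩ := (Nat.dvd_prime_pow Nat.prime_two).1 (hxo ▸ orderOf_pow_dvd 2 : orderOf (x ^ 2) ∣ 2 ^ k)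
    rw [Nat.card_zpowers, hc, hb]
    exact Nat.Coprime.pow _ _ ((Nat.coprime_primes Nat.prime_two hpp).2 (Ne.symm hp))
  obtain ⟨n, hn, hcen⟩ := CfsgLib.Coprime.exists_mul_mem_centralizer hAN hcop
    (Or.inl (CfsgLib.Coprime.isSolvable_zpowers _)) (k := l ^ m₀) (fun z hz' => by
      have hzN : z ∈ Subgroup.normalizer (P' : Set L) := Subgroup.zpowers_le.2 hz hz'
      refine Subgroup.mem_inf.2 ⟨?_, ?_⟩
      · rw [commutatorElement_def]
        exact mul_mem ((Subgroup.mem_normalizer_iff.1 hzN _).1 haP) (inv_mem haP)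
      · obtain ⟨e, rfl⟩ := hz'
        show f _ = 1
        rw [commutatorElement_def, map_mul, map_mul, map_mul, map_inv, map_inv, map_zpow, hfx2, one_zpow]
        group)
  set a := n * l ^ m₀
  have haP' : a ∈ P' := mul_mem (Subgroup.mem_inf.1 hn).1 haP
  have hfa' : f a = DihedralGroup.r (m₀ : ZMod p) := by
    rw [map_mul, show f n = 1 from (Subgroup.mem_inf.1 hn).2, one_mul, hfa]
  have hxa : x ^ 2 * a = a * x ^ 2 := Subgroup.mem_centralizer_iff.1 hcen _ (Subgroup.mem_zpowers _)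
  set y := x * a * x⁻¹ * a⁻¹
  have hyP : y ∈ P' := mul_mem ((Subgroup.mem_normalizer_iff.1 hxN a).1 haP') (inv_mem haP')
  refine ⟨x, y, ⟨k, hxo⟩, ?_, ⟨-(m₀ : ZMod p) + -(m₀ : ZMod p), ?_, ?_⟩, ⟨i₀, hfx⟩, ?_⟩
  · obtain ⟨j, hj⟩ := IsPGroup.iff_orderOf.1 hP' ⟨y, hyP⟩
    exact ⟨j, by rwa [Subgroup.orderOf_mk] at hj⟩
  · intro h
    exact mul_r_ne_one hp (neg_ne_zero.2 hm0) (by rw [DihedralGroup.r_mul_r, h, DihedralGroup.one_def])
  · rw [map_mul, map_mul, map_mul, map_inv, map_inv, hfx, hfa', DihedralGroup.inv_sr, DihedralGroup.inv_r,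
      DihedralGroup.sr_mul_r, DihedralGroup.sr_mul_sr, DihedralGroup.r_mul_r]
    congr 1
    ring
  · have h2 : x * x * a * x⁻¹ * x⁻¹ = a := by
      rw [← pow_two, hxa, pow_two]; group
    calc x * y * x⁻¹ = (x * x * a * x⁻¹ * x⁻¹) * (x * a * x⁻¹)⁻¹ := by simp only [y]; group
      _ = y⁻¹ := by rw [h2]; simp only [y]; group

/-- A 2-element inverting a nontrivial element of odd prime power order gives a dihedral section. -/
theorem involves_of_inverted [Finite G] {p : ℕ} [Fact p.Prime] (hp : p ≠ 2) {x y : G}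
    (hx : ∃ k : ℕ, orderOf x = 2 ^ k) (hy : ∃ k : ℕ, orderOf y = p ^ k) (hy1 : y ≠ 1)
    (hxy : x * y * x⁻¹ = y⁻¹) : Involves (DihedralGroup p) G := by
  have hpp : p.Prime := Fact.out
  haveI : NeZero p := ⟨hpp.ne_zero⟩
  obtain ⟨k, hk⟩ := hy
  obtain ⟨j, rfl⟩ : ∃ j, k = j + 1 := Nat.exists_eq_succ_of_ne_zero (by
    rintro rfl; exact hy1 (orderOf_eq_one_iff.1 (by rw [hk, pow_zero])))
  set a := y ^ p ^ j
  have ha : orderOf a = p := by
    rw [orderOf_pow' y (pow_ne_zero _ hpp.ne_zero), hk, Nat.gcd_eq_right (pow_dvd_pow p (Nat.le_succ j)),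
      Nat.pow_div (Nat.le_succ j) hpp.pos, Nat.succ_sub le_rfl, Nat.sub_self, pow_one]
  have hxa : x * a * x⁻¹ = a⁻¹ := CfsgLib.Involution.Dihedral.conj_pow hxy _
  have hx2 : Commute (x ^ 2) a := by
    have h : x * (x * a * x⁻¹) * x⁻¹ = a := by
      rw [hxa]
      calc x * a⁻¹ * x⁻¹ = (x * a * x⁻¹)⁻¹ := by group
        _ = a := by rw [hxa, inv_inv]
    calc x ^ 2 * a = x * (x * a * x⁻¹) * x⁻¹ * (x * x) := by rw [pow_two]; group
      _ = a * x ^ 2 := by rw [h, pow_two]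
  set K := Subgroup.closure ({x, a} : Set G)
  set R : Subgroup K := Subgroup.zpowers ⟨x ^ 2, pow_mem (Subgroup.subset_closure (Set.mem_insert x _)) 2⟩
  haveI hR : R.Normal := by
    have hc : R ≤ Subgroup.center K := Subgroup.zpowers_le.2 (Subgroup.mem_center_iff.2 fun g => ?_)
    · exact ⟨fun r hr g => by rwa [Subgroup.mem_center_iff.1 (hc hr) g, mul_inv_cancel_right]⟩
    have h : K ≤ Subgroup.centralizer {x ^ 2} := by
      refine (Subgroup.closure_le _).2 ?_
      rintro g (rfl | rfl)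
      · exact Subgroup.mem_centralizer_singleton_iff.2 ((Commute.self_pow _ 2).eq)
      · exact Subgroup.mem_centralizer_singleton_iff.2 hx2.symm.eq
    exact Subtype.ext (Subgroup.mem_centralizer_singleton_iff.1 (h g.2))
  let x' : K := ⟨x, Subgroup.subset_closure (Set.mem_insert x _)⟩
  let a' : K := ⟨a, Subgroup.subset_closure (Set.mem_insert_of_mem x rfl)⟩
  set xb : K ⧸ R := (x' : K ⧸ R)
  set ab : K ⧸ R := (a' : K ⧸ R)
  have hab : ab ^ p = 1 := by
    rw [← QuotientGroup.mk_pow, show a' ^ p = 1 from Subtype.ext (ha ▸ pow_orderOf_eq_one a), QuotientGroup.mk_one]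
  have hxb : xb * xb = 1 := by
    rw [← QuotientGroup.mk_mul, QuotientGroup.eq_one_iff]
    exact ⟨1, Subtype.ext (show (x ^ 2) ^ (1 : ℤ) = x * x by rw [zpow_one, pow_two])⟩
  have hxab : xb * ab * xb = ab⁻¹ := by
    have h1 : xb * ab * xb⁻¹ = ab⁻¹ := by
      rw [← QuotientGroup.mk_inv, ← QuotientGroup.mk_mul, ← QuotientGroup.mk_mul, ← QuotientGroup.mk_inv]
      exact congrArg _ (Subtype.ext hxa)
    rwa [inv_eq_of_mul_eq_one_right hxb] at h1
  set φ := CfsgLib.Derangements.DihedralHom.lift ab xb hab hxb hxab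
  have hφ : Function.Surjective φ := by
    rw [← MonoidHom.range_eq_top, eq_top_iff]
    have hgen : (⊤ : Subgroup K) ≤ Subgroup.comap (QuotientGroup.mk' R) φ.range := by
      rintro ⟨g, hg⟩ -
      induction hg using Subgroup.closure_induction with
      | mem g hg =>
        rcases hg with rfl | rfl
        · exact ⟨DihedralGroup.sr 0, by simp [φ, xb, x']⟩
        · exact ⟨DihedralGroup.r 1, by simp [φ, ab, a', ZMod.val_one]⟩
      | one => exact one_mem _
      | mul g₁ g₂ h₁ h₂ i₁ i₂ => exact mul_mem (s := Subgroup.comap (QuotientGroup.mk' R) φ.range) i₁ i₂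
      | inv g h i => exact Subgroup.inv_mem (Subgroup.comap (QuotientGroup.mk' R) φ.range) i
    intro q _
    obtain ⟨g, rfl⟩ := QuotientGroup.mk'_surjective R q
    exact hgen (Subgroup.mem_top g)
  have hRcop : ∀ g ∈ R, ∃ c, orderOf (g : G) ∣ 2 ^ c := by
    obtain ⟨c, hc⟩ := hx
    rintro _ ⟨e, rfl⟩
    refine ⟨c, hc ▸ ?_⟩
    show orderOf ((x ^ 2) ^ e) ∣ _
    exact orderOf_dvd_of_mem_zpowers (zpow_mem (pow_mem (Subgroup.mem_zpowers x) 2) e)
  have haR : a' ∉ R := fun h => by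
    obtain ⟨c, hc⟩ := hRcop _ h
    rw [show orderOf (a' : G) = p from ha] at hc
    exact hp ((Nat.prime_dvd_prime_iff_eq hpp Nat.prime_two).1 (hpp.dvd_of_dvd_pow hc))
  have hxR : x' ∉ R := fun h => by
    obtain ⟨e, he⟩ := h
    have he' : (x ^ 2) ^ e = x := congrArg Subtype.val he
    have h1 : x * a * x⁻¹ = a := by
      have hc : Commute ((x ^ 2) ^ e) a := hx2.zpow_left e
      rw [he'] at hc
      rw [hc.eq, mul_inv_cancel_right]
    rw [hxa] at h1
    have h2 : a ^ 2 = 1 := by rw [pow_two, mul_eq_one_iff_eq_inv, h1]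
    have h3 := orderOf_dvd_of_pow_eq_one h2
    rw [ha] at h3
    exact hp ((Nat.prime_dvd_prime_iff_eq hpp Nat.prime_two).1 h3)
  have hinj : Function.Injective φ := by
    refine (injective_iff_map_eq_one φ).2 ?_
    rintro (i | i) hi
    · simp only [φ, CfsgLib.Derangements.DihedralHom.lift_r] at hi
      have h0 : ab ≠ 1 := fun h => haR ((QuotientGroup.eq_one_iff a').1 h)
      have h1 := orderOf_dvd_of_pow_eq_one hi
      rw [orderOf_eq_prime hab h0] at h1
      rw [(ZMod.val_eq_zero i).1 (Nat.eq_zero_of_dvd_of_lt h1 (ZMod.val_lt i))]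
      exact DihedralGroup.r_zero
    · simp only [φ, CfsgLib.Derangements.DihedralHom.lift_sr] at hi
      exfalso
      have h1 : xb = (ab ^ i.val)⁻¹ := eq_inv_of_mul_eq_one_left hi
      have h2 : orderOf xb ∣ p := by
        rw [h1, orderOf_inv]
        exact orderOf_dvd_of_pow_eq_one (by rw [← pow_mul, mul_comm, pow_mul, hab, one_pow])
      have h0 : xb ≠ 1 := fun h => hxR ((QuotientGroup.eq_one_iff x').1 h)
      rw [CfsgLib.Involution.Dihedral.orderOf_eq_two hxb h0, Nat.prime_dvd_prime_iff_eq Nat.prime_two hpp] at h2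
      exact hp h2.symm
  exact of_surjective ((MulEquiv.ofBijective φ ⟨hinj, hφ⟩).symm.toMonoidHom.comp (QuotientGroup.mk' R))
    ((MulEquiv.ofBijective φ ⟨hinj, hφ⟩).symm.surjective.comp (QuotientGroup.mk'_surjective R))

end CfsgLib.LocalEven.InvolvesDihedral
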