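import Cfsg.Agent.Lib.RankOne.ConstStab
import Cfsg.Agent.Lib.TwoGroups.Classify
import Cfsg.Agent.Lib.FrobRealize.Quaternion
import Cfsg.Prelude.Def_CaseTheorems

/-!
`2`-groups acting with point stabilisers of constant order on an elementary abelian group of odd order:
semiregular, dihedral or semidihedral on a plane, monomial on a plane, or on `3 ^ 4` points.
-/

set_option autoImplicit false
set_option linter.style.haveILetI false
set_option linter.unusedSectionVars false

open scoped commutatorElement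

namespace CfsgLib.LocalEven.HalfTransitive

/-- An odd factor of a power of two is one. -/
theorem eq_one_of_odd_mul {m : ℕ} {S T : ℤ} (h : S * T = 2 ^ m) (hodd : ¬ (2 : ℤ) ∣ S) (hT : 0 < T) : S = 1 := by
  have hcop : IsCoprime S ((2 : ℤ) ^ m) :=
    ((Int.prime_two.coprime_iff_not_dvd.mpr hodd).symm).pow_right
  have hu : IsUnit S := hcop.isUnit_of_dvd' dvd_rfl ⟨T, h.symm⟩
  rcases Int.isUnit_iff.mp hu with h1 | h1
  · exact h1
  · rw [h1] at h
    have : (0 : ℤ) < 2 ^ m := by positivity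
    omega

theorem geom_odd {x : ℤ} (hx : ¬ (2 : ℤ) ∣ x) {d : ℕ} (hd : Odd d) : ¬ (2 : ℤ) ∣ ∑ i ∈ Finset.range d, x ^ i := by
  intro h
  have h2 := (ZMod.intCast_zmod_eq_zero_iff_dvd _ 2).mpr h
  have hx1 : (x : ZMod 2) = 1 := by
    have hne : (x : ZMod 2) ≠ 0 := fun e => hx ((ZMod.intCast_zmod_eq_zero_iff_dvd _ 2).mp e)
    generalize (x : ZMod 2) = y at hne ⊢
    revert hne; revert y; decide
  obtain ⟨e, rfl⟩ := hd
  simp [hx1, Finset.card_range] at h2
  have h3 : (2 : ZMod 2) = 0 := rfl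
  rw [h3] at h2
  simp at h2

/-- `q ^ d + 1` is a power of two only for `d = 1`. -/
theorem add_one_eq_two_pow {q d m : ℕ} (hq : 3 ≤ q) (hodd : Odd q) (hd : 0 < d) (h : q ^ d + 1 = 2 ^ m) :
    d = 1 := by
  rcases Nat.even_or_odd d with ⟨e, rfl⟩ | hdo
  · exfalso
    obtain ⟨c, hc⟩ := hodd.pow (n := e)
    have h2 : 2 * (2 * (c * c + c) + 1) = 2 ^ m := by rw [← h, pow_add, hc]; ring
    rcases m with - | - | m
    · omega
    · have : 3 ^ 1 ≤ q ^ (e + e) := (Nat.pow_le_pow_left hq 1).trans (Nat.pow_le_pow_right (by omega) hd)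
      omega
    · rw [pow_succ, pow_succ] at h2; omega
  · have hx : ¬ (2 : ℤ) ∣ -(q : ℤ) := by
      rw [Int.dvd_neg]; intro hh
      have : 2 ∣ q := by exact_mod_cast hh
      exact Nat.not_even_iff_odd.mpr hodd (even_iff_two_dvd.mpr this)
    have hS : (∑ i ∈ Finset.range d, (-(q : ℤ)) ^ i) * ((q : ℤ) + 1) = 2 ^ m := by
      have h1 := geom_sum_mul (-(q : ℤ)) d
      rw [hdo.neg_pow] at h1
      have h' : ((q : ℤ)) ^ d + 1 = 2 ^ m := by exact_mod_cast h
      linarith
    have h1 := eq_one_of_odd_mul hS (geom_odd hx hdo) (by positivity)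
    rw [h1, one_mul] at hS
    have h2 : q + 1 = 2 ^ m := by exact_mod_cast hS
    have h3 : q ^ d = q ^ 1 := by rw [pow_one]; omega
    exact Nat.pow_right_injective (by omega) h3

/-- `q ^ d - 1` is a power of two only for `d = 1` or `q ^ d = 9`. -/
theorem sub_one_eq_two_pow {q d m : ℕ} (hq : 3 ≤ q) (hodd : Odd q) (hd : 0 < d) (h : q ^ d = 2 ^ m + 1) :
    d = 1 ∨ (q = 3 ∧ d = 2) := by
  rcases Nat.even_or_odd d with ⟨e, rfl⟩ | hdo
  · right
    obtain ⟨c, hc⟩ := hodd.pow (n := e)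
    have he : 3 ≤ q ^ e := by
      calc 3 ≤ q := hq
        _ ≤ q ^ e := Nat.le_self_pow (by omega) q
    have h2 : (2 * c) * (2 * c + 2) = 2 ^ m := by
      have : q ^ (e + e) = (2 * c) * (2 * c + 2) + 1 := by rw [pow_add, hc]; ring
      omega
    obtain ⟨i, -, hi⟩ := (Nat.dvd_prime_pow Nat.prime_two).mp ⟨_, h2.symm⟩
    obtain ⟨j, -, hj⟩ := (Nat.dvd_prime_pow Nat.prime_two).mp (Dvd.intro_left _ h2)
    have hc1 : c = 1 := by
      rcases i with - | - | i
      · omega
      · omega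
      · rcases j with - | - | j
        · omega
        · omega
        · rw [pow_succ, pow_succ] at hi hj; omega
    have hqe : q ^ e = 3 := by rw [hc, hc1]; rfl
    have he1 : e = 1 := by
      by_contra hne
      have h4 : q ^ 2 ≤ q ^ e := Nat.pow_le_pow_right (by omega) (by omega)
      have h5 : 3 ^ 2 ≤ q ^ 2 := Nat.pow_le_pow_left hq 2
      omega
    rw [he1, pow_one] at hqe
    exact ⟨hqe, by omega⟩
  · left
    have hx : ¬ (2 : ℤ) ∣ (q : ℤ) := by
      intro hh
      have : 2 ∣ q := by exact_mod_cast hh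
      exact Nat.not_even_iff_odd.mpr hodd (even_iff_two_dvd.mpr this)
    have hS : (∑ i ∈ Finset.range d, (q : ℤ) ^ i) * ((q : ℤ) - 1) = 2 ^ m := by
      have h1 := geom_sum_mul (q : ℤ) d
      have h' : ((q : ℤ)) ^ d = 2 ^ m + 1 := by exact_mod_cast h
      linarith
    have h1 := eq_one_of_odd_mul hS (geom_odd hx hdo) (by omega)
    rw [h1, one_mul] at hS
    have h2 : q = 2 ^ m + 1 := by
      have : (q : ℤ) = 2 ^ m + 1 := by linarith
      exact_mod_cast this
    have h3 : q ^ d = q ^ 1 := by rw [pow_one]; omega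
    exact Nat.pow_right_injective (by omega) h3

open CfsgLib.TwoGroups

/-- A `2`-group without normal four subgroups has a cyclic subgroup of index at most two. -/
theorem cyclic_index_two {G : Type*} [Group G] [Finite G] (hG : IsPGroup 2 G)
    (hno : ¬ ∃ U : Subgroup G, U.Normal ∧ Nat.card U = 4 ∧ ∀ x ∈ U, x * x = 1)
    (hna : ∃ x y : G, x * y ≠ y * x) :
    ∃ (a : G) (k : ℕ), 2 ≤ k ∧ orderOf a = 2 ^ k ∧ Nat.card G = 2 ^ (k + 1) := by
  haveI : Fact (Nat.Prime 2) := ⟨Nat.prime_two⟩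
  obtain ⟨A, hAn, hAc, hAcent⟩ := CfsgLib.FrobRealize.Quaternion.exists_self_centralizing hG
  have hAm : IsMulCommutative A := ⟨⟨fun x y => Subtype.ext (hAc _ x.2 _ y.2)⟩⟩
  have hAcyc : IsCyclic A := by
    by_contra hnc
    obtain ⟨E, -, hEn, hE, hE4⟩ := CfsgLib.Fusion.NormalRankTwo.exists_of_abelian hG hAm hnc
    exact hno ⟨E, hEn, by simpa using hE4, fun x hx => by rw [← pow_two]; exact hE.2 x hx⟩
  obtain ⟨a, rfl⟩ := (Subgroup.isCyclic_iff_exists_zpowers_eq_top A).1 hAcyc
  obtain ⟨k, hk⟩ := IsPGroup.iff_orderOf.1 hG a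
  set N := 2 ^ k with hN
  have hz : ∀ i j : ℤ, a ^ i = a ^ j ↔ (i : ZMod N) = j := fun i j => CyclicMax.zpow_eq_iff hk i j
  have hexp : ∀ g : G, ∃ r : ℤ, a ^ r = g * a * g⁻¹ := fun g =>
    Subgroup.mem_zpowers_iff.mp (hAn.conj_mem a (Subgroup.mem_zpowers a) g)
  choose r hr using hexp
  have hmul : ∀ g h, ((r (g * h) : ℤ) : ZMod N) = (r g : ZMod N) * r h := by
    intro g h
    rw [← Int.cast_mul, ← hz, hr, show g * h * a * (g * h)⁻¹ = g * (h * a * h⁻¹) * g⁻¹ by group, ← hr h,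
      ← conj_zpow, ← hr g, ← zpow_mul]
  have hone : ((r 1 : ℤ) : ZMod N) = 1 := by
    rw [← Int.cast_one, ← hz, hr]; simp
  have hker : ∀ g, ((r g : ℤ) : ZMod N) = 1 → g ∈ Subgroup.zpowers a := by
    intro g hg
    rw [← Int.cast_one, ← hz, hr, zpow_one, mul_inv_eq_iff_eq_mul] at hg
    exact hAcent g fun b hb => by
      obtain ⟨i, rfl⟩ := Subgroup.mem_zpowers_iff.1 hb
      exact ((show Commute g a from hg).zpow_right i).eq
  have hcomm : ∀ g h : G, g * h * g⁻¹ * h⁻¹ ∈ Subgroup.zpowers a := fun g h => hker _ (by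
    rw [hmul, hmul, hmul, show (r g : ZMod N) * r h * r g⁻¹ * r h⁻¹ = (r g * r g⁻¹) * (r h * r h⁻¹) by ring,
      ← hmul, ← hmul, mul_inv_cancel, mul_inv_cancel, hone, mul_one])
  have hk2 : 2 ≤ k := by
    by_contra hlt
    obtain ⟨x, y, hxy⟩ := hna
    have htop : ∀ g, g ∈ Subgroup.zpowers a := by
      intro g
      refine hker g ?_
      have h1 : (r g : ZMod N) * r g⁻¹ = 1 := by rw [← hmul, mul_inv_cancel, hone]
      rw [hN] at h1 ⊢
      generalize ((r g : ℤ) : ZMod (2 ^ k)) = u at h1 ⊢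
      generalize ((r g⁻¹ : ℤ) : ZMod (2 ^ k)) = v at h1
      interval_cases k <;> revert h1 <;> revert u v <;> decide
    exact hxy (hAc _ (htop x) _ (htop y))
  refine ⟨a, k, hk2, hk, ?_⟩
  obtain ⟨g₀, hg₀⟩ : ∃ g, g ∉ Subgroup.zpowers a := by
    by_contra hall
    push Not at hall
    obtain ⟨x, y, hxy⟩ := hna
    exact hxy (hAc _ (hall x) _ (hall y))
  -- the roots of unity of order two
  have hsq : ∀ g, g * g ∈ Subgroup.zpowers a → (r g : ZMod N) = 1 ∨ (r g : ZMod N) = -1 ∨
      (r g : ZMod N) = 1 + 2 ^ (k - 1) ∨ (r g : ZMod N) = 2 ^ (k - 1) - 1 := by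
    intro g hg
    refine CyclicMax.sq_one_exponent hk2 ?_
    have h1 : (r (g * g) : ZMod N) = 1 := by
      rw [← Int.cast_one, ← hz, hr, zpow_one, hAc _ hg _ (Subgroup.mem_zpowers a), mul_inv_cancel_right]
    rw [hmul] at h1
    have h2 := (ZMod.intCast_zmod_eq_zero_iff_dvd ((r g - 1) * (r g + 1)) N).mp (by
      push_cast; linear_combination h1)
    rw [hN] at h2
    exact_mod_cast h2
  have hN4 : 4 ∣ N := by
    rw [hN, show (4 : ℕ) = 2 ^ 2 from rfl]; exact pow_dvd_pow 2 hk2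
  -- the exponent `1 + 2 ^ (k - 1)` gives a normal four group
  have hbad : 3 ≤ k → ∀ g, (r g : ZMod N) ≠ 1 + 2 ^ (k - 1) := by
    intro hk3 g hg
    refine hno ?_
    obtain ⟨l, rfl⟩ : ∃ l, k = l + 3 := ⟨k - 3, by omega⟩
    simp only [show l + 3 - 1 = l + 2 from rfl] at hg
    set H : ℤ := 2 ^ (l + 2) with hH
    have hHN : ∀ i : ℤ, (2 * H) * i = ((2 : ℤ) ^ (l + 3)) * i := fun i => by rw [hH]; ring
    have hzero : ∀ i : ℤ, (((2 : ℤ) ^ (l + 3) * i : ℤ) : ZMod N) = 0 := fun i => by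
      rw [ZMod.intCast_zmod_eq_zero_iff_dvd, hN]; push_cast; exact dvd_mul_right _ _
    have hg' : (r g : ZMod N) = ((1 + H : ℤ) : ZMod N) := by rw [hg, hH]; push_cast; rfl
    have hgg : g * g ∈ Subgroup.zpowers a := hker _ (by
      rw [hmul, hg', ← Int.cast_mul, show (1 + H) * (1 + H) = 1 + (2 : ℤ) ^ (l + 3) * (1 + 2 ^ (l + 1)) by
        rw [hH]; ring, Int.cast_add, hzero, add_zero, Int.cast_one])
    obtain ⟨s, hs⟩ := Subgroup.mem_zpowers_iff.mp hgg
    -- conjugation by `g`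
    have hcg : ∀ i : ℤ, g * a ^ i * g⁻¹ = a ^ ((1 + H) * i) := fun i => by
      rw [← conj_zpow, ← hr, ← zpow_mul, hz, Int.cast_mul, hg', ← Int.cast_mul]
    obtain ⟨s', rfl⟩ : ∃ s', s = 2 * s' := by
      have e : a ^ ((1 + H) * s) = a ^ s := by rw [← hcg, hs]; group
      rw [hz, ← sub_eq_zero, ← Int.cast_sub, ZMod.intCast_zmod_eq_zero_iff_dvd, hN] at e
      push_cast at e
      obtain ⟨c, hc⟩ := e
      refine ⟨c, mul_left_cancel₀ (show H ≠ 0 by rw [hH]; positivity) ?_⟩
      linear_combination hc - hHN c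
    have hodd : IsCoprime (1 + 2 ^ (l + 1) : ℤ) ((2 : ℤ) ^ (l + 3)) :=
      ((Int.prime_two.coprime_iff_not_dvd.mpr (by
        intro h; have h' : (2 : ℤ) ∣ 2 ^ (l + 1) := dvd_pow_self 2 (by omega)
        have := Int.dvd_sub h h'; omega)).symm).pow_right
    obtain ⟨u, v, huv⟩ := id hodd
    -- the involution
    set b := a ^ (-(s' * u)) * g with hb
    have hbb : b * b = 1 := by
      rw [hb, show a ^ (-(s' * u)) * g * (a ^ (-(s' * u)) * g) =
        a ^ (-(s' * u)) * (g * a ^ (-(s' * u)) * g⁻¹) * (g * g) by group, hcg, ← hs, ← zpow_add, ← zpow_add,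
        ← zpow_zero a, hz]
      rw [show -(s' * u) + (1 + H) * -(s' * u) + 2 * s' = (2 : ℤ) ^ (l + 3) * (s' * v * 2) from by
        rw [hH]; linear_combination (-(2 * s')) * huv, hzero, Int.cast_zero]
    set z := a ^ H with hzdef
    have hzz : z * z = 1 := by
      rw [hzdef, ← zpow_add, ← zpow_zero a, hz, show H + H = (2 : ℤ) ^ (l + 3) * 1 by rw [hH]; ring, hzero,
        Int.cast_zero]
    have hzc : ∀ x, x * z * x⁻¹ = z := by
      intro x
      rw [hzdef, ← conj_zpow, ← hr, ← zpow_mul, hz, Int.cast_mul]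
      have hu : IsUnit (r x : ZMod N) := IsUnit.of_mul_eq_one ((r x⁻¹ : ℤ) : ZMod N) (by
        rw [← hmul, mul_inv_cancel, hone])
      obtain ⟨c, hc⟩ : ∃ c, r x = 2 * c + 1 := by
        refine ⟨r x / 2, ?_⟩
        by_contra hne
        have h2 : (2 : ℤ) ∣ r x := by omega
        have h3 := hu.map (ZMod.castHom ((dvd_pow_self 2 (by omega) : 2 ∣ 2 ^ (l + 3))) (ZMod 2))
        rw [map_intCast, (ZMod.intCast_zmod_eq_zero_iff_dvd _ 2).mpr h2] at h3
        exact not_isUnit_zero h3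
      rw [hc, ← Int.cast_mul, show (2 * c + 1) * H = (2 : ℤ) ^ (l + 3) * c + H by rw [hH]; ring,
        Int.cast_add, hzero, zero_add]
    haveI hZn : (Subgroup.zpowers z).Normal := ⟨fun m hm x => by
      obtain ⟨i, rfl⟩ := Subgroup.mem_zpowers_iff.mp hm
      rw [← conj_zpow, hzc]; exact hm⟩
    have hrb : (r b : ZMod N) = r g := by
      rw [hb, hmul, show (r (a ^ (-(s' * u))) : ZMod N) = 1 by
        rw [← Int.cast_one, ← hz, hr, zpow_one]; group, one_mul]
    have hbA : b ∉ Subgroup.zpowers a := by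
      intro h
      have h1 : (r b : ZMod N) = 1 := by
        rw [← Int.cast_one, ← hz, hr, zpow_one, hAc _ h _ (Subgroup.mem_zpowers a), mul_inv_cancel_right]
      rw [hrb, hg'] at h1
      have h1 : ((H : ℤ) : ZMod N) = 0 := by push_cast at h1; linear_combination h1
      rw [ZMod.intCast_zmod_eq_zero_iff_dvd, hN, hH] at h1
      push_cast at h1
      have := Int.le_of_dvd (by positivity) h1
      rw [pow_succ] at this
      have : (0 : ℤ) < 2 ^ (l + 2) := by positivity
      omega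
    have hcent : ∀ x : G, ⁅x, b⁆ ∈ Subgroup.zpowers z := by
      intro x
      obtain ⟨i, hi⟩ : ∃ i, a ^ i = x * b * x⁻¹ * b⁻¹ := Subgroup.mem_zpowers_iff.mp (hcomm x b)
      rw [commutatorElement_def, ← hi]
      have hc2 : a ^ i * b * (a ^ i * b) = 1 := by
        rw [hi, inv_mul_cancel_right, show x * b * x⁻¹ * (x * b * x⁻¹) = x * (b * b) * x⁻¹ by group, hbb]
        group
      have e : b * a ^ i * b⁻¹ = a ^ ((1 + H) * i) := by
        rw [← conj_zpow, ← hr, ← zpow_mul, hz, Int.cast_mul, hrb, hg', ← Int.cast_mul]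
      rw [show a ^ i * b * (a ^ i * b) = a ^ i * (b * a ^ i * b⁻¹) * (b * b) by group, hbb, mul_one, e,
        ← zpow_add, ← zpow_zero a, hz, Int.cast_zero, ZMod.intCast_zmod_eq_zero_iff_dvd, hN] at hc2
      push_cast at hc2
      rw [show i + (1 + H) * i = (2 * i) * (1 + 2 ^ (l + 1)) by rw [hH]; ring] at hc2
      obtain ⟨c, hc⟩ := hodd.symm.dvd_of_dvd_mul_right hc2
      refine Subgroup.mem_zpowers_iff.mpr ⟨c, ?_⟩
      rw [hzdef, ← zpow_mul]
      congr 1
      linear_combination (norm := (rw [hH]; ring_nf)) (-(1 : ℤ)) * (mul_left_cancel₀ (two_ne_zero (α := ℤ))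
        (show 2 * i = 2 * (H * c) by rw [hc, hH]; ring))
    have hz1 : z ≠ 1 := by
      intro e
      rw [hzdef, ← zpow_zero a, hz, Int.cast_zero, ZMod.intCast_zmod_eq_zero_iff_dvd, hN] at e
      push_cast at e
      have := Int.le_of_dvd (by rw [hH]; positivity) e
      rw [hH, pow_succ] at this
      have : (0 : ℤ) < 2 ^ (l + 2) := by positivity
      omega
    have hbz : b ∉ Subgroup.zpowers z := fun h => hbA (Subgroup.zpowers_le.mpr (Subgroup.zpow_mem_zpowers a H) h)
    refine ⟨_, CfsgLib.Fusion.NormalRankTwo.sup_zpowers_normal hcent, ?_, fun x hx => ?_⟩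
    · rw [CfsgLib.Fusion.NormalRankTwo.sup_zpowers_card (p := 2) hbz (by rw [pow_two, hbb]; exact one_mem _),
        Nat.card_zpowers, orderOf_eq_prime (p := 2) (by rw [pow_two, hzz]) hz1]
    · have hzbc : Commute z b := (show Commute b z from mul_inv_eq_iff_eq_mul.mp (hzc b)).symm
      rw [sup_comm, Subgroup.mem_sup_of_normal_right] at hx
      obtain ⟨y, hy, w, hw, rfl⟩ := hx
      obtain ⟨i, rfl⟩ := Subgroup.mem_zpowers_iff.mp hy
      obtain ⟨j, rfl⟩ := Subgroup.mem_zpowers_iff.mp hw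
      rw [(hzbc.zpow_zpow j i).mul_mul_mul_comm, ← (Commute.refl b).mul_zpow,
        ← (Commute.refl z).mul_zpow, hbb, hzz, one_zpow, one_zpow, mul_one]
  -- all elements square into `A`
  have hsqA : ∀ g, g * g ∈ Subgroup.zpowers a := by
    by_contra hne
    push Not at hne
    obtain ⟨g, hg⟩ := hne
    obtain ⟨n, hn⟩ := IsPGroup.iff_orderOf.1 (hG.to_quotient (Subgroup.zpowers a)) (QuotientGroup.mk' (Subgroup.zpowers a) g)
    have hn2 : 2 ≤ n := by
      by_contra hlt
      refine hg ((QuotientGroup.eq_one_iff _).mp ?_)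
      show QuotientGroup.mk' (Subgroup.zpowers a) (g * g) = 1
      rw [map_mul, ← pow_two, ← orderOf_dvd_iff_pow_eq_one, hn]
      interval_cases n <;> norm_num
    obtain ⟨m, rfl⟩ : ∃ m, n = m + 2 := ⟨n - 2, by omega⟩
    set v := g ^ 2 ^ m with hv
    have h4 : (v * v) * (v * v) ∈ Subgroup.zpowers a := by
      have e : v * v * (v * v) = g ^ 2 ^ (m + 2) := by rw [hv, ← pow_add, ← pow_add]; congr 1; ring
      rw [e, ← QuotientGroup.eq_one_iff]
      show QuotientGroup.mk' (Subgroup.zpowers a) (g ^ 2 ^ (m + 2)) = 1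
      rw [map_pow, ← hn, pow_orderOf_eq_one]
    have h2 : v * v ∉ Subgroup.zpowers a := by
      rw [hv, ← pow_add, show 2 ^ m + 2 ^ m = 2 ^ (m + 1) by ring, ← QuotientGroup.eq_one_iff]
      intro e
      have e' : QuotientGroup.mk' (Subgroup.zpowers a) g ^ 2 ^ (m + 1) = 1 := by rw [← map_pow]; exact e
      have := orderOf_dvd_iff_pow_eq_one.mpr e'
      rw [hn] at this
      have := (Nat.pow_dvd_pow_iff_le_right (le_refl 2)).mp this
      omega
    have hk3 : 3 ≤ k := by
      by_contra hlt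
      obtain rfl : k = 2 := by omega
      refine h2 (hker _ ?_)
      rw [hmul]
      have h1 : (r v : ZMod N) * r v⁻¹ = 1 := by rw [← hmul, mul_inv_cancel, hone]
      revert h1
      generalize ((r v : ℤ) : ZMod N) = u
      generalize ((r v⁻¹ : ℤ) : ZMod N) = w
      revert u w
      rw [hN]
      decide
    have hcases := hsq _ h4
    have hmod : ∀ u : ZMod N, ZMod.castHom hN4 (ZMod 4) (u * u) ≠ -1 := fun u => by
      rw [map_mul]; generalize ZMod.castHom hN4 (ZMod 4) u = w; revert w; decide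
    have hH4 : ((2 : ZMod 4) ^ (k - 1)) = 0 := by
      obtain ⟨c, hc⟩ : ∃ c, k - 1 = c + 2 := ⟨k - 3, by omega⟩
      rw [hc, pow_add, show (2 : ZMod 4) ^ 2 = 0 from rfl, mul_zero]
    rw [hmul] at hcases
    rcases hcases with h | h | h | h
    · exact h2 (hker _ (by rw [hmul, h]))
    · exact hmod (r v) (by rw [h, map_neg, map_one])
    · exact hbad hk3 (v * v) (by rw [hmul, h])
    · exact hmod (r v) (by rw [h, map_sub, map_pow, map_ofNat, map_one, hH4, zero_sub])
  -- only one coset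
  have hone' : ∀ g h, g ∉ Subgroup.zpowers a → h ∉ Subgroup.zpowers a → g⁻¹ * h ∈ Subgroup.zpowers a := by
    intro g h hg hh
    refine hker _ ?_
    have hgi : (r g⁻¹ : ZMod N) = r g := by
      have h1 : (r (g * g) : ZMod N) = 1 := by
        rw [← Int.cast_one, ← hz, hr, zpow_one, hAc _ (hsqA g) _ (Subgroup.mem_zpowers a), mul_inv_cancel_right]
      calc (r g⁻¹ : ZMod N) = r g⁻¹ * r (g * g) := by rw [h1, mul_one]
        _ = r (g⁻¹ * (g * g)) := (hmul _ _).symm
        _ = r g := by rw [inv_mul_cancel_left]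
    rw [hmul, hgi]
    rcases eq_or_lt_of_le hk2 with rfl | hk3
    · have key : ∀ x : G, x ∉ Subgroup.zpowers a → (r x : ZMod N) = -1 := by
        intro x hx
        rcases hsq x (hsqA x) with h | h | h | h
        · exact absurd (hker x h) hx
        · exact h
        · rw [h, hN]; rfl
        · exact absurd (hker x (by rw [h, hN]; rfl)) hx
      rw [key g hg, key h hh, neg_one_mul, neg_neg]
    · have hz2 : (2 : ZMod N) * 2 ^ (k - 1) = 0 := by
        rw [← pow_succ', show k - 1 + 1 = k by omega]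
        have := ZMod.natCast_self N
        rw [hN] at this ⊢
        push_cast at this
        exact this
      have hzz2 : (2 : ZMod N) ^ (k - 1) * 2 ^ (k - 1) = 0 := by
        calc (2 : ZMod N) ^ (k - 1) * 2 ^ (k - 1) = 2 ^ (k - 2) * (2 * 2 ^ (k - 1)) := by
              rw [← mul_assoc, ← pow_succ, show k - 2 + 1 = k - 1 by omega]
          _ = 0 := by rw [hz2, mul_zero]
      rcases hsq g (hsqA g) with eg | eg | eg | eg
      · exact absurd (hker g eg) hg
      rotate_left
      · exact absurd eg (hbad hk3 g)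
      all_goals
        rcases hsq h (hsqA h) with eh | eh | eh | eh
      all_goals first
        | exact absurd (hker h eh) hh
        | exact absurd eh (hbad hk3 h)
        | (rw [eg, eh]; linear_combination (0 : ZMod N))
        | (exfalso; refine hbad hk3 (g * h) ?_; rw [hmul, eg, eh]; linear_combination -hz2)
        | (rw [eg, eh]; linear_combination hzz2 - hz2)
  have hi : (Subgroup.zpowers a).index = 2 := by
    rw [Subgroup.index_eq_two_iff]
    refine ⟨g₀, fun b => ?_⟩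
    by_cases hb : b ∈ Subgroup.zpowers a
    · exact Or.inr ⟨hb, fun h => hg₀ (by simpa using (Subgroup.zpowers a).mul_mem ((Subgroup.zpowers a).inv_mem hb) h)⟩
    · refine Or.inl ⟨?_, hb⟩
      have := hone' (b⁻¹) g₀ (fun h => hb (by simpa using (Subgroup.zpowers a).inv_mem h)) hg₀
      rwa [inv_inv] at this
  rw [← (Subgroup.zpowers a).card_mul_index, hi, Nat.card_zpowers, hk, pow_succ]

end CfsgLib.LocalEven.HalfTransitive
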