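/-
Strongly p-embedded subgroups: the definition through the 1-generated core, the criterion
"centralizers of elements of order p and the normalizer of a Sylow subgroup", the classical definition,
and the elementary consequences.
-/
import Cfsg.Prelude.Def_LocalEven
import Cfsg.Agent.Lib.LocalEven.SylowIn
import Mathlib.GroupTheory.Nilpotent

set_option autoImplicit false

namespace CfsgLib.LocalEven.StronglyEmbedded

open Cfsg CfsgLib.LocalEven.SylowIn

variable {G : Type*} [Group G] [Finite G] {p : ℕ} [Fact p.Prime]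

theorem exists_order_p {Q : Subgroup G} (hQ : IsPGroup p Q) (hne : Q ≠ ⊥) :
    ∃ x ∈ Q, orderOf x = p := by
  haveI : Nontrivial Q := (Subgroup.nontrivial_iff_ne_bot Q).2 hne
  obtain ⟨n, hn, hcard⟩ := hQ.nontrivial_iff_card.1 inferInstance
  obtain ⟨x, hx⟩ := exists_prime_orderOf_dvd_card' (G := Q) p (hcard ▸ dvd_pow_self p hn.ne')
  exact ⟨x, x.2, by rwa [Subgroup.orderOf_coe]⟩

omit [Finite G] in
theorem ne_one_of_order_p {x : G} (hx : orderOf x = p) : x ≠ 1 := by
  rintro rfl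
  exact (Fact.out : p.Prime).one_lt.ne (by rw [← hx, orderOf_one])

omit [Finite G] in
theorem isPGroup_zpowers' {x : G} (hx : orderOf x = p) : IsPGroup p (Subgroup.zpowers x) :=
  IsPGroup.of_card (n := 1) (by rw [pow_one, Nat.card_zpowers, hx])

omit [Finite G] in
theorem not_prankLE_zero {Q : Subgroup G} {x : G} (hxQ : x ∈ Q) (hx : orderOf x = p) :
    ¬ PRankLE p 0 Q := by
  intro h
  have hx' : orderOf (⟨x, hxQ⟩ : Q) = p := by rw [Subgroup.orderOf_mk]; exact hx
  have := h (Subgroup.zpowers (⟨x, hxQ⟩ : Q)) inferInstance (fun a ha => by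
    obtain ⟨k, rfl⟩ := Subgroup.mem_zpowers_iff.1 ha
    rw [← zpow_natCast, ← zpow_mul, mul_comm, zpow_mul, zpow_natCast, ← hx', pow_orderOf_eq_one,
      one_zpow])
  rw [Nat.card_zpowers, hx', pow_zero] at this
  exact absurd this (not_le.2 (Fact.out : p.Prime).one_lt)

omit [Finite G] [Fact p.Prime] in
theorem ne_bot_of_not_prankLE_zero {Q : Subgroup G} (h : ¬ PRankLE p 0 Q) : Q ≠ ⊥ := by
  rintro rfl
  refine h fun A _ _ => ?_
  rw [pow_zero]
  exact le_of_eq (Nat.card_eq_one_iff_unique.2 ⟨inferInstance, inferInstance⟩)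

theorem kGeneratedCore_le_iff {P X : Subgroup G} (hP : IsPGroup p P) :
    kGeneratedCore p 1 P ≤ X ↔
      ∀ Q : Subgroup G, Q ≤ P → Q ≠ ⊥ → Subgroup.normalizer (Q : Set G) ≤ X := by
  constructor
  · intro h Q hQP hne
    obtain ⟨x, hx, hxp⟩ := exists_order_p (hP.to_le hQP) hne
    exact le_trans (le_iSup
      (fun Q : {Q : Subgroup G // Q ≤ P ∧ ¬ PRankLE p (1 - 1) Q} =>
        Subgroup.normalizer ((Q : Subgroup G) : Set G))
      ⟨Q, hQP, by simpa using not_prankLE_zero hx hxp⟩) h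
  · exact fun h => iSup_le fun Q => h Q Q.2.1 (ne_bot_of_not_prankLE_zero Q.2.2)

/-- A `p`-subgroup meeting `H` nontrivially lies in `H` when `H` contains its `p`-local normalizers. -/
theorem pgroup_le {H : Subgroup G}
    (hN : ∀ A : Subgroup G, A ≤ H → IsPGroup p A → A ≠ ⊥ → Subgroup.normalizer (A : Set G) ≤ H)
    {R : Subgroup G} (hR : IsPGroup p R) (hne : R ⊓ H ≠ ⊥) : R ≤ H := by
  by_contra hle
  haveI := hR.isNilpotent
  have hlt : (R ⊓ H).subgroupOf R < ⊤ := lt_top_iff_ne_top.2 fun he =>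
    hle fun x hx => ((SetLike.ext_iff.1 he ⟨x, hx⟩).2 (Subgroup.mem_top _) : x ∈ R ⊓ H).2
  obtain ⟨g, hg, hg'⟩ := SetLike.exists_of_lt (normalizerCondition_of_isNilpotent _ hlt)
  refine hg' (?_ : (g : G) ∈ R ⊓ H)
  refine ⟨g.2, hN _ inf_le_right (hR.to_le inf_le_left) hne ?_⟩
  rw [Subgroup.mem_normalizer_iff]
  intro x
  constructor
  · intro hx
    exact (Subgroup.mem_normalizer_iff.1 hg ⟨x, hx.1⟩).1 hx
  · intro hx
    have hxR : x ∈ R := by
      have : (g : G) * x * (g : G)⁻¹ ∈ R := hx.1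
      have := mul_mem (mul_mem (inv_mem g.2) this) g.2
      simpa [mul_assoc] using this
    exact (Subgroup.mem_normalizer_iff.1 hg ⟨x, hxR⟩).2 hx

/-- The criterion: if `H` is proper and contains the centralizers of its elements of order `p` in some Sylow
subgroup `S` of `H`, and `N(S)`, then `S` is a Sylow subgroup of `G` and no element of order `p` of `H` is moved
into `H` from outside. -/
theorem of_centralizer {H : Subgroup G} (hH : H ≠ ⊤) {S : Subgroup G} (hS : IsSylowIn p S H)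
    (hC : ∀ x ∈ S, orderOf x = p → Subgroup.centralizer ({x} : Set G) ≤ H)
    (hN : Subgroup.normalizer (S : Set G) ≤ H) :
    IsSylowIn p S ⊤ ∧ S ≠ ⊥ ∧
      ∀ (x g : G), x ∈ H → orderOf x = p → g * x * g⁻¹ ∈ H → g ∈ H := by
  have hne : S ≠ ⊥ := by
    rintro rfl
    refine hH (eq_top_iff.2 fun g _ => hN ?_)
    rw [Subgroup.mem_normalizer_iff]
    intro x
    simp
  have htop : IsSylowIn p S ⊤ := by
    refine ⟨le_top, hS.2.1, fun R _ hR hSR => ?_⟩
    refine le_antisymm (fun x hx => by_contra fun hxS => ?_) hSR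
    haveI := hR.isNilpotent
    have hlt : S.subgroupOf R < ⊤ := lt_top_iff_ne_top.2 fun he =>
      hxS ((SetLike.ext_iff.1 he ⟨x, hx⟩).2 (Subgroup.mem_top _))
    obtain ⟨g, hg, hg'⟩ := SetLike.exists_of_lt (normalizerCondition_of_isNilpotent _ hlt)
    have hgn : (g : G) ∈ Subgroup.normalizer (S : Set G) := by
      rw [Subgroup.mem_normalizer_iff]
      intro y
      by_cases hy : y ∈ R
      · exact Subgroup.mem_normalizer_iff.1 hg ⟨y, hy⟩
      · refine ⟨fun h => absurd (hSR h) hy, fun h => absurd ?_ hy⟩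
        have := mul_mem (mul_mem (inv_mem g.2) (hSR h)) g.2
        simpa [mul_assoc] using this
    have e := hS.2.2 (R ⊓ H) inf_le_right (hR.to_le inf_le_left) (le_inf hSR hS.1)
    exact hg' (show (g : G) ∈ S from e ▸ (⟨g.2, hN hgn⟩ : (g : G) ∈ R ⊓ H))
  refine ⟨htop, hne, ?_⟩
  have intoS : ∀ x : G, x ∈ H → orderOf x = p → ∃ h ∈ H, h * x * h⁻¹ ∈ S := by
    intro x hxH hxp
    obtain ⟨V, hV, hxV⟩ := exists_isSylowIn H ((Subgroup.zpowers_le).2 hxH) (isPGroup_zpowers' hxp)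
    obtain ⟨h, hh, he⟩ := hV.conjugate hS
    exact ⟨h, hh, by rw [he]; exact ⟨x, hxV (Subgroup.mem_zpowers x), rfl⟩⟩
  have hord : ∀ (g x : G), orderOf (g * x * g⁻¹) = orderOf x := fun g x => by
    rw [← orderOf_injective (MulAut.conj g).toMonoidHom (MulAut.conj g).injective x]; rfl
  have cent : ∀ x : G, x ∈ H → orderOf x = p → Subgroup.centralizer ({x} : Set G) ≤ H := by
    intro x hxH hxp c hc
    obtain ⟨h, hh, hhS⟩ := intoS x hxH hxp
    have h1 : h * c * h⁻¹ ∈ H := by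
      refine hC _ hhS (by rw [hord]; exact hxp) ?_
      rw [Subgroup.mem_centralizer_singleton_iff] at hc ⊢
      calc h * c * h⁻¹ * (h * x * h⁻¹) = h * (c * x) * h⁻¹ := by group
        _ = h * (x * c) * h⁻¹ := by rw [hc]
        _ = h * x * h⁻¹ * (h * c * h⁻¹) := by group
    have := mul_mem (mul_mem (inv_mem hh) h1) hh
    simpa [mul_assoc] using this
  haveI : Nontrivial S := (Subgroup.nontrivial_iff_ne_bot S).2 hne
  haveI := hS.2.1.center_nontrivial
  obtain ⟨n, hn, hcard⟩ := (hS.2.1.to_subgroup (Subgroup.center S)).nontrivial_iff_card.1 inferInstance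
  obtain ⟨z, hz⟩ := exists_prime_orderOf_dvd_card' (G := Subgroup.center S) p (hcard ▸ dvd_pow_self p hn.ne')
  have hzS : ((z : S) : G) ∈ S := (z : S).2
  have hzp : orderOf ((z : S) : G) = p := by rw [Subgroup.orderOf_coe, Subgroup.orderOf_coe, hz]
  have hzc : S ≤ Subgroup.centralizer ({((z : S) : G)} : Set G) := fun s hs => by
    rw [Subgroup.mem_centralizer_singleton_iff]
    exact congrArg Subtype.val (Subgroup.mem_center_iff.1 z.2 ⟨s, hs⟩)
  have zmove : ∀ g : G, g * ((z : S) : G) * g⁻¹ ∈ H → g ∈ H := by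
    intro g hg
    have hgS : S.map (MulAut.conj g).toMonoidHom ≤ H := by
      rintro _ ⟨s, hs, rfl⟩
      refine cent _ hg (by rw [hord]; exact hzp) ?_
      rw [Subgroup.mem_centralizer_singleton_iff]
      have := Subgroup.mem_centralizer_singleton_iff.1 (hzc hs)
      simp only [MulEquiv.coe_toMonoidHom, MulAut.conj_apply]
      calc g * s * g⁻¹ * (g * _ * g⁻¹) = g * (s * ((z : S) : G)) * g⁻¹ := by group
        _ = g * (((z : S) : G) * s) * g⁻¹ := by rw [this]
        _ = _ := by group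
    have h1 : IsSylowIn p (S.map (MulAut.conj g).toMonoidHom) H := by
      refine ⟨hgS, hS.2.1.map _, fun U hU hUp hle => ?_⟩
      have h2 := htop.map_conj g
      exact h2.2.2 U (fun u _ => ⟨g⁻¹ * u * g, Subgroup.mem_top _, by simp [mul_assoc]⟩) hUp hle
    obtain ⟨h, hh, he⟩ := hS.conjugate h1
    have h3 : h⁻¹ * g ∈ H := hN (map_conj_eq_iff.1 (by
      rw [← map_conj_conj, he, map_conj_conj, inv_mul_cancel, map_conj_one]))
    simpa using mul_mem hh h3
  intro x g hxH hxp hgx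
  obtain ⟨h, hh, hhS⟩ := intoS x hxH hxp
  have hzx : ((z : S) : G) * (h * x * h⁻¹) = h * x * h⁻¹ * ((z : S) : G) :=
    (Subgroup.mem_centralizer_singleton_iff.1 (hzc hhS)).symm
  have h4 : g * h⁻¹ * ((z : S) : G) * (g * h⁻¹)⁻¹ ∈ H := by
    refine cent _ hgx (by rw [hord]; exact hxp) ?_
    rw [Subgroup.mem_centralizer_singleton_iff]
    calc g * h⁻¹ * ((z : S) : G) * (g * h⁻¹)⁻¹ * (g * x * g⁻¹)
        = g * h⁻¹ * (((z : S) : G) * (h * x * h⁻¹)) * (g * h⁻¹)⁻¹ := by group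
      _ = g * h⁻¹ * (h * x * h⁻¹ * ((z : S) : G)) * (g * h⁻¹)⁻¹ := by rw [hzx]
      _ = _ := by group
  simpa using mul_mem (zmove _ h4) hh

/-- Consequences of the `moving` property. -/
theorem normalizer_le {H : Subgroup G}
    (hm : ∀ (x g : G), x ∈ H → orderOf x = p → g * x * g⁻¹ ∈ H → g ∈ H)
    {A : Subgroup G} (hA : A ≤ H) (hAp : IsPGroup p A) (hne : A ≠ ⊥) :
    Subgroup.normalizer (A : Set G) ≤ H := by
  intro g hg
  obtain ⟨x, hx, hxp⟩ := exists_order_p hAp hne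
  exact hm x g (hA hx) hxp (hA ((Subgroup.mem_normalizer_iff.1 hg x).1 hx))

theorem spe_of_normalizer_le {H : Subgroup G} (hH : H ≠ ⊤) {T : Sylow p G}
    (hne : (T : Subgroup G) ≠ ⊥)
    (hN : ∀ A : Subgroup G, A ≤ (T : Subgroup G) → A ≠ ⊥ → Subgroup.normalizer (A : Set G) ≤ H) :
    IsStronglyPEmbedded p H := by
  obtain ⟨x, _, hxp⟩ := exists_order_p T.2 hne
  exact ⟨hxp ▸ orderOf_dvd_natCard x, hH, T, (kGeneratedCore_le_iff T.2).2 hN⟩

/-- The basic package of a strongly p-embedded subgroup. -/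
theorem spe_basic {H : Subgroup G} (hH : IsStronglyPEmbedded p H) :
    ∃ T : Sylow p G, (T : Subgroup G) ≤ H ∧ (T : Subgroup G) ≠ ⊥ ∧
      ∀ (x g : G), x ∈ H → orderOf x = p → g * x * g⁻¹ ∈ H → g ∈ H := by
  obtain ⟨hdvd, hne, T, hT⟩ := hH
  rw [kGeneratedCore_le_iff T.2] at hT
  have hTne : (T : Subgroup G) ≠ ⊥ := T.ne_bot_of_dvd_card hdvd
  have hTH : (T : Subgroup G) ≤ H := Subgroup.le_normalizer.trans (hT _ le_rfl hTne)
  have hS : IsSylowIn p (T : Subgroup G) H :=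
    ⟨hTH, T.2, fun U _ hUp hle => T.3 hUp hle⟩
  refine ⟨T, hTH, hTne, (of_centralizer hne hS (fun x hx hxp => ?_) (hT _ le_rfl hTne)).2.2⟩
  refine le_trans (fun c hc => ?_) (hT (Subgroup.zpowers x) (Subgroup.zpowers_le.2 hx)
    (fun h => ne_one_of_order_p hxp (Subgroup.zpowers_eq_bot.1 h)))
  suffices hcc : c ∈ Subgroup.centralizer ((Subgroup.zpowers x : Subgroup G) : Set G) from
    Subgroup.centralizer_le_normalizer _ hcc
  rw [Subgroup.mem_centralizer_iff]
  intro y hy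
  obtain ⟨k, rfl⟩ := Subgroup.mem_zpowers_iff.1 hy
  have h : Commute c x := Subgroup.mem_centralizer_singleton_iff.1 hc
  exact (h.zpow_right k).eq.symm

theorem spe_move {H : Subgroup G} (hH : IsStronglyPEmbedded p H) {x g : G} (hx : x ∈ H)
    (hxp : orderOf x = p) (hg : g * x * g⁻¹ ∈ H) : g ∈ H :=
  let ⟨_, _, _, hm⟩ := spe_basic hH
  hm x g hx hxp hg

theorem spe_normalizer_le {H : Subgroup G} (hH : IsStronglyPEmbedded p H) {A : Subgroup G}
    (hA : A ≤ H) (hAp : IsPGroup p A) (hne : A ≠ ⊥) : Subgroup.normalizer (A : Set G) ≤ H :=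
  normalizer_le (fun _ _ => spe_move hH) hA hAp hne

theorem spe_dvd {H : Subgroup G} (hH : IsStronglyPEmbedded p H) : p ∣ Nat.card H := by
  obtain ⟨T, hT, hne, -⟩ := spe_basic hH
  obtain ⟨x, hx, hxp⟩ := exists_order_p T.2 hne
  exact hxp ▸ Subgroup.orderOf_dvd_natCard _ (hT hx)

theorem spe_sylow {H : Subgroup G} (hH : IsStronglyPEmbedded p H) {S : Subgroup G}
    (hS : IsSylowIn p S H) : IsSylowIn p S ⊤ := by
  obtain ⟨T, hT, hne, hm⟩ := spe_basic hH
  have hT' : IsSylowIn p (T : Subgroup G) H := ⟨hT, T.2, fun U _ hUp hle => T.3 hUp hle⟩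
  obtain ⟨h, hh, rfl⟩ := hT'.conjugate hS
  have h0 : IsSylowIn p (T : Subgroup G) ⊤ := ⟨le_top, T.2, fun U _ hUp hle => T.3 hUp hle⟩
  have h1 := h0.map_conj h
  refine ⟨le_top, h1.2.1, fun U _ hUp hle => h1.2.2 U (fun u _ => ?_) hUp hle⟩
  exact ⟨h⁻¹ * u * h, Subgroup.mem_top _, by simp [mul_assoc]⟩

theorem spe_iff_normalizer {H : Subgroup G} (hH : H ≠ ⊤) (hdvd : p ∣ Nat.card H) :
    IsStronglyPEmbedded p H ↔
      ∀ A : Subgroup G, A ≤ H → IsPGroup p A → A ≠ ⊥ → Subgroup.normalizer (A : Set G) ≤ H := by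
  refine ⟨fun h A hA hAp hne => spe_normalizer_le h hA hAp hne, fun hN => ?_⟩
  obtain ⟨x, hxp⟩ := exists_prime_orderOf_dvd_card' (G := H) p hdvd
  have hxp' : orderOf (x : G) = p := by rw [Subgroup.orderOf_coe, hxp]
  obtain ⟨T, hT⟩ := (isPGroup_zpowers' hxp').exists_le_sylow
  have hTH : (T : Subgroup G) ≤ H := pgroup_le hN T.2 fun h => by
    have : (x : G) ∈ (T : Subgroup G) ⊓ H := ⟨hT (Subgroup.mem_zpowers _), x.2⟩
    rw [h, Subgroup.mem_bot] at this
    exact ne_one_of_order_p hxp' this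
  refine spe_of_normalizer_le hH (fun h => ?_) fun A hA hne => hN A (hA.trans hTH) (T.2.to_le hA) hne
  exact ne_one_of_order_p hxp' (Subgroup.mem_bot.1 (h ▸ hT (Subgroup.mem_zpowers _)))

theorem spe_iff_classical {H : Subgroup G} (hH : H ≠ ⊤) (hdvd : p ∣ Nat.card H) :
    IsStronglyPEmbedded p H ↔
      ∀ g : G, g ∉ H → ¬ p ∣ Nat.card ↥(H ⊓ H.map (MulAut.conj g).toMonoidHom) := by
  constructor
  · intro h g hg hdv
    obtain ⟨x, hxp⟩ := exists_prime_orderOf_dvd_card' (G := ↥(H ⊓ H.map (MulAut.conj g).toMonoidHom)) p hdv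
    refine hg ?_
    have := spe_move h (x := (x : G)) (g := g⁻¹) x.2.1 (by rw [Subgroup.orderOf_coe, hxp])
      (by simpa using mem_map_conj.1 x.2.2)
    simpa using inv_mem this
  · intro h
    refine (spe_iff_normalizer hH hdvd).2 fun A hA hAp hne g hg => ?_
    by_contra hgH
    obtain ⟨x, hx, hxp⟩ := exists_order_p hAp hne
    refine h g hgH (hxp ▸ Subgroup.orderOf_dvd_natCard _ ⟨hA hx, mem_map_conj.2 (hA ?_)⟩)
    exact (Subgroup.mem_normalizer_iff''.1 hg x).1 hx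

omit [Finite G] [Fact p.Prime] in
theorem spe_mono {H K : Subgroup G} (hH : IsStronglyPEmbedded p H) (hK : K ≠ ⊤) (hle : H ≤ K) :
    IsStronglyPEmbedded p K :=
  ⟨hH.1, hK, hH.2.2.choose, hH.2.2.choose_spec.trans hle⟩

end CfsgLib.LocalEven.StronglyEmbedded
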