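/-
Small general lemmas on commutator subgroups: normalisation, the three subgroup lemma modulo a subgroup.
-/
import Cfsg.Agent.Lib.LocalEven.Residual

set_option autoImplicit false

open scoped commutatorElement

namespace CfsgLib.LocalEven.Commutators

open CfsgLib.LocalEven.SylowIn

variable {G : Type*} [Group G]

/-- `K` normalizes `[K, Y]`. -/
theorem normalizer_commutator_left (K Y : Subgroup G) :
    K ≤ Subgroup.normalizer ((⁅K, Y⁆ : Subgroup G) : Set G) := by
  intro k hk
  rw [← map_conj_eq_iff]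
  have key : ∀ k ∈ K, (⁅K, Y⁆ : Subgroup G).map (MulAut.conj k).toMonoidHom ≤ ⁅K, Y⁆ := by
    intro k hk
    rw [Subgroup.map_le_iff_le_comap, Subgroup.commutator_le]
    intro a ha y hy
    show k * ⁅a, y⁆ * k⁻¹ ∈ ⁅K, Y⁆
    rw [show k * ⁅a, y⁆ * k⁻¹ = ⁅k * a, y⁆ * ⁅k, y⁆⁻¹ by simp only [commutatorElement_def]; group]
    exact mul_mem (Subgroup.commutator_mem_commutator (mul_mem hk ha) hy)
      (inv_mem (Subgroup.commutator_mem_commutator hk hy))
  refine le_antisymm (key k hk) ?_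
  have := Subgroup.map_mono (f := (MulAut.conj k).toMonoidHom) (key k⁻¹ (inv_mem hk))
  rwa [map_conj_conj, mul_inv_cancel, map_conj_one] at this

/-- `Y` normalizes `[K, Y]`. -/
theorem normalizer_commutator_right (K Y : Subgroup G) :
    Y ≤ Subgroup.normalizer ((⁅K, Y⁆ : Subgroup G) : Set G) := by
  rw [Subgroup.commutator_comm]
  exact normalizer_commutator_left Y K

/-- Three subgroup lemma modulo a subgroup normalised by all three. -/
theorem three_subgroup_mod {N P A B : Subgroup G} (hP : P ≤ Subgroup.normalizer (N : Set G))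
    (hA : A ≤ Subgroup.normalizer (N : Set G)) (hB : B ≤ Subgroup.normalizer (N : Set G))
    (h1 : ⁅⁅A, B⁆, P⁆ ≤ N) (h2 : ⁅⁅B, P⁆, A⁆ ≤ N) : ⁅⁅P, A⁆, B⁆ ≤ N := by
  set X := Subgroup.normalizer (N : Set G)
  let f := QuotientGroup.mk' (N.subgroupOf X)
  have push : ∀ {U V W : Subgroup G}, U ≤ X → V ≤ X → W ≤ X →
      ((⁅⁅(U.subgroupOf X).map f, (V.subgroupOf X).map f⁆, (W.subgroupOf X).map f⁆ = ⊥) ↔
        ⁅⁅U, V⁆, W⁆ ≤ N) := by
    intro U V W hU hV hW
    rw [← Subgroup.map_commutator, ← Subgroup.map_commutator, Subgroup.map_eq_bot_iff, QuotientGroup.ker_mk']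
    have e : ⁅⁅U.subgroupOf X, V.subgroupOf X⁆, W.subgroupOf X⁆.map X.subtype = ⁅⁅U, V⁆, W⁆ := by
      rw [Subgroup.map_commutator, Subgroup.map_commutator, Subgroup.map_subgroupOf_eq_of_le hU,
        Subgroup.map_subgroupOf_eq_of_le hV, Subgroup.map_subgroupOf_eq_of_le hW]
    rw [← e, Subgroup.map_le_iff_le_comap]
    rfl
  exact (push hP hA hB).1
    (Subgroup.commutator_commutator_eq_bot_of_rotate ((push hA hB hP).2 h1) ((push hB hP hA).2 h2))

end CfsgLib.LocalEven.Commutators
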