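/-
p-reduced normal subgroups, in the ambient group: `IsReducedIn p V L`; the largest one; behaviour under
overgroups of a Sylow subgroup and under subnormal subgroups.
-/
import Cfsg.Prelude.Def_LocalEven
import Cfsg.Prelude.Def_LocalStructure
import Cfsg.Agent.Lib.LocalEven.Residual
import Cfsg.Agent.Lib.Coprime.Action

set_option autoImplicit false

open scoped commutatorElement

namespace CfsgLib.LocalEven.PReduced

open Cfsg CfsgLib.Fusion.Basic CfsgLib.LocalEven.SylowIn CfsgLib.LocalEven.Residual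

variable {G : Type*} [Group G] {p : ℕ}

/-- `V` is a `p`-reduced normal subgroup of `L`, both seen in the ambient group. -/
def IsReducedIn (p : ℕ) (V L : Subgroup G) : Prop :=
  V ≤ L ∧ L ≤ Subgroup.normalizer (V : Set G) ∧ IsElementaryAbelian p V ∧
    ∀ N : Subgroup G, N ≤ L → L ≤ Subgroup.normalizer (N : Set G) →
      (∀ x ∈ N, (orderOf x).Coprime p → x ∈ Subgroup.centralizer (V : Set G)) →
      N ≤ Subgroup.centralizer (V : Set G)

/-! ### Elementary abelian subgroups -/

theorem elab_le_centralizer {V : Subgroup G} (h : IsElementaryAbelian p V) :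
    V ≤ Subgroup.centralizer (V : Set G) :=
  haveI := h.1
  Subgroup.le_centralizer V

theorem elab_isPGroup {V : Subgroup G} (h : IsElementaryAbelian p V) : IsPGroup p V :=
  fun a => ⟨1, Subtype.ext (by simpa using h.2 a a.2)⟩

theorem elab_of_le {V W : Subgroup G} (h : IsElementaryAbelian p V) (hW : W ≤ V) :
    IsElementaryAbelian p W :=
  ⟨Subgroup.le_centralizer_iff_isMulCommutative.1
    (hW.trans ((elab_le_centralizer h).trans (Subgroup.centralizer_le hW))),
    fun a ha => h.2 a (hW ha)⟩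

theorem elab_omegaOne {Z : Subgroup G} (hZ : Z ≤ Subgroup.centralizer (Z : Set G)) :
    IsElementaryAbelian p (omegaOne p Z) := by
  refine ⟨Subgroup.le_centralizer_iff_isMulCommutative.1
    ((omegaOne_le Z).trans (hZ.trans (Subgroup.centralizer_le (omegaOne_le Z)))), fun a ha => ?_⟩
  refine (Subgroup.closure_induction (p := fun x _ => x ∈ Z ∧ x ^ p = 1) (fun x hx => hx)
    ⟨one_mem _, one_pow _⟩ (fun x y _ _ hx hy => ⟨mul_mem hx.1 hy.1, ?_⟩)
    (fun x _ hx => ⟨inv_mem hx.1, by rw [inv_pow, hx.2, inv_one]⟩) ha).2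
  rw [Commute.mul_pow (Subgroup.mem_centralizer_iff.1 (hZ hy.1) x hx.1), hx.2, hy.2, one_mul]

theorem elab_omegaCenter (T : Subgroup G) : IsElementaryAbelian p (omegaCenter p T) :=
  elab_omegaOne (inf_le_right.trans (Subgroup.centralizer_le inf_le_left))

theorem le_omegaCenter {T V : Subgroup G} (hV : IsElementaryAbelian p V) (hVT : V ≤ T)
    (hc : V ≤ Subgroup.centralizer (T : Set G)) : V ≤ omegaCenter p T :=
  fun v hv => Subgroup.subset_closure ⟨⟨hVT hv, hc hv⟩, hV.2 v hv⟩

theorem normalizer_inf_centralizer {L Z : Subgroup G} (h : L ≤ Subgroup.normalizer (Z : Set G)) :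
    L ≤ Subgroup.normalizer (((Z ⊓ Subgroup.centralizer (Z : Set G)) : Subgroup G) : Set G) := by
  refine le_normalizer_of_map_conj fun g hg => ?_
  rw [Subgroup.map_inf _ _ _ (MulAut.conj g).injective, ← centralizer_map_conj, map_conj_eq_iff.2 (h hg)]

theorem normalizer_omegaCenter {L T : Subgroup G} (h : L ≤ Subgroup.normalizer (T : Set G)) :
    L ≤ Subgroup.normalizer (omegaCenter p T : Set G) :=
  le_normalizer_of_map_conj fun g hg => by rw [omegaCenter_map, map_conj_eq_iff.2 (h hg)]

theorem normalizer_centralizer {L Z : Subgroup G} (h : L ≤ Subgroup.normalizer (Z : Set G)) :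
    L ≤ Subgroup.normalizer (Subgroup.centralizer (Z : Set G) : Set G) :=
  le_normalizer_of_map_conj fun g hg => by rw [← centralizer_map_conj, map_conj_eq_iff.2 (h hg)]

theorem normalizer_inf {L A B : Subgroup G} (hA : L ≤ Subgroup.normalizer (A : Set G))
    (hB : L ≤ Subgroup.normalizer (B : Set G)) :
    L ≤ Subgroup.normalizer ((A ⊓ B : Subgroup G) : Set G) :=
  le_normalizer_of_map_conj fun g hg => by
    rw [Subgroup.map_inf _ _ _ (MulAut.conj g).injective, map_conj_eq_iff.2 (hA hg),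
      map_conj_eq_iff.2 (hB hg)]

theorem normalizer_sup {L A B : Subgroup G} (hA : L ≤ Subgroup.normalizer (A : Set G))
    (hB : L ≤ Subgroup.normalizer (B : Set G)) :
    L ≤ Subgroup.normalizer ((A ⊔ B : Subgroup G) : Set G) :=
  le_normalizer_of_map_conj fun g hg => by
    rw [Subgroup.map_sup, map_conj_eq_iff.2 (hA hg), map_conj_eq_iff.2 (hB hg)]

theorem normalizer_commutator {L A B : Subgroup G} (hA : L ≤ Subgroup.normalizer (A : Set G))
    (hB : L ≤ Subgroup.normalizer (B : Set G)) :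
    L ≤ Subgroup.normalizer ((⁅A, B⁆ : Subgroup G) : Set G) :=
  le_normalizer_of_map_conj fun g hg => by
    rw [Subgroup.map_commutator, map_conj_eq_iff.2 (hA hg), map_conj_eq_iff.2 (hB hg)]

/-! ### Elements of order prime to `p` -/

theorem eq_one_of_coprime_of_isPGroup {N : Subgroup G} (hN : IsPGroup p N) {x : G} (hx : x ∈ N)
    (hc : (orderOf x).Coprime p) : x = 1 := by
  have := eq_one_of_isPGroup_of_coprime hN (x := ⟨x, hx⟩) (by rwa [Subgroup.orderOf_mk])
  simpa using congrArg Subtype.val this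

/-- If the elements of `N` of order prime to `p` lie in `C`, so do those of `N ⊔ C`. -/
theorem coprime_mem_sup [Finite G] [Fact p.Prime] {N C : Subgroup G}
    (hNC : N ≤ Subgroup.normalizer (C : Set G))
    (h : ∀ x ∈ N, (orderOf x).Coprime p → x ∈ C) {x : G} (hx : x ∈ N ⊔ C)
    (hc : (orderOf x).Coprime p) : x ∈ C := by
  set K := Subgroup.normalizer (C : Set G)
  let f := QuotientGroup.mk' (C.subgroupOf K)
  have hxK : x ∈ K := (sup_le hNC Subgroup.le_normalizer) hx
  have hp : IsPGroup p ((N.subgroupOf K).map f) := by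
    rintro ⟨_, y, hy, rfl⟩
    obtain ⟨k, hk⟩ := exists_pow_coprime (p := p) (y : G)
    refine ⟨k, Subtype.ext ?_⟩
    show f y ^ p ^ k = 1
    rw [← map_pow, QuotientGroup.mk'_apply, QuotientGroup.eq_one_iff, Subgroup.mem_subgroupOf,
      SubmonoidClass.coe_pow]
    exact h _ (pow_mem hy _) hk
  have hm : f ⟨x, hxK⟩ ∈ (N.subgroupOf K).map f := by
    have h1 : (N ⊔ C).subgroupOf K = N.subgroupOf K ⊔ C.subgroupOf K :=
      Subgroup.subgroupOf_sup hNC Subgroup.le_normalizer
    have h2 : f ⟨x, hxK⟩ ∈ ((N ⊔ C).subgroupOf K).map f := ⟨⟨x, hxK⟩, hx, rfl⟩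
    rw [h1, Subgroup.map_sup] at h2
    have h3 : (C.subgroupOf K).map f = ⊥ := by rw [Subgroup.map_eq_bot_iff, QuotientGroup.ker_mk']
    rwa [h3, sup_bot_eq] at h2
  have h4 := eq_one_of_coprime_of_isPGroup hp hm (Nat.Coprime.coprime_dvd_left (orderOf_map_dvd' f _)
    (by rwa [Subgroup.orderOf_mk]))
  rwa [QuotientGroup.mk'_apply, QuotientGroup.eq_one_iff, Subgroup.mem_subgroupOf] at h4

/-- `N = O^p(N) (N ∩ T)`: a criterion for containment. -/
theorem le_of_coprime_of_sylow [Finite G] [Fact p.Prime] {N P C : Subgroup G} (hP : IsSylowIn p P N)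
    (h : ∀ x ∈ N, (orderOf x).Coprime p → x ∈ C) (hPC : P ≤ C) : N ≤ C := by
  intro x hx
  obtain ⟨w, hw, u, hu, he⟩ := exists_eq_pResidual_mul hP.toSylow (⟨x, hx⟩ : N)
  have hw' : (w : G) ∈ C :=
    (map_pResidual_le_iff.2 h) ⟨w, hw, rfl⟩
  have : x = w * u := congrArg Subtype.val he
  exact this ▸ mul_mem hw' (hPC hu)

/-- The intersection of a Sylow subgroup with a normal subgroup is a Sylow subgroup of it. -/
theorem IsSylowIn.inf_normal [Finite G] [Fact p.Prime] {T L N : Subgroup G} (hT : IsSylowIn p T L)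
    (hN : N ≤ L) (hn : L ≤ Subgroup.normalizer (N : Set G)) : IsSylowIn p (T ⊓ N) N := by
  refine ⟨inf_le_right, hT.2.1.to_le inf_le_left, fun U hU hUp hle => ?_⟩
  obtain ⟨T', hT', hUT'⟩ := exists_isSylowIn L (hU.trans hN) hUp
  obtain ⟨g, hg, rfl⟩ := hT.conjugate hT'
  have h1 : U ≤ (T ⊓ N).map (MulAut.conj g).toMonoidHom := by
    rw [Subgroup.map_inf _ _ _ (MulAut.conj g).injective, map_conj_eq_iff.2 (hn hg)]
    exact le_inf hUT' hU
  exact (Subgroup.eq_of_le_of_card_ge hle ((Subgroup.card_le_of_le h1).trans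
    (Nat.card_congr ((T ⊓ N).equivMapOfInjective _ (MulAut.conj g).injective).toEquiv).ge)).symm

theorem IsSylowIn.mono {T L M : Subgroup G} (hT : IsSylowIn p T L) (hTM : T ≤ M) (hML : M ≤ L) :
    IsSylowIn p T M :=
  ⟨hTM, hT.2.1, fun U hU => hT.2.2 U (hU.trans hML)⟩

theorem isSylowIn_of_sylow (T : Sylow p G) {L : Subgroup G} (hTL : (T : Subgroup G) ≤ L) :
    IsSylowIn p (T : Subgroup G) L :=
  ⟨hTL, T.2, fun _ _ hU h => T.3 hU h⟩

/-! ### Basic facts about `IsReducedIn` -/

section Basic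

variable {V L : Subgroup G}

theorem IsReducedIn.le (h : IsReducedIn p V L) : V ≤ L := h.1

theorem IsReducedIn.normalizer (h : IsReducedIn p V L) : L ≤ Subgroup.normalizer (V : Set G) := h.2.1

theorem IsReducedIn.elab (h : IsReducedIn p V L) : IsElementaryAbelian p V := h.2.2.1

theorem IsReducedIn.le_centralizer_of_coprime (h : IsReducedIn p V L) {N : Subgroup G} (hN : N ≤ L)
    (hn : L ≤ Subgroup.normalizer (N : Set G))
    (hx : ∀ x ∈ N, (orderOf x).Coprime p → x ∈ Subgroup.centralizer (V : Set G)) :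
    N ≤ Subgroup.centralizer (V : Set G) :=
  h.2.2.2 N hN hn hx

theorem IsReducedIn.le_centralizer (h : IsReducedIn p V L) {N : Subgroup G} (hN : N ≤ L)
    (hn : L ≤ Subgroup.normalizer (N : Set G)) (hp : IsPGroup p N) :
    N ≤ Subgroup.centralizer (V : Set G) :=
  h.le_centralizer_of_coprime hN hn fun x hx hc => by
    rw [eq_one_of_coprime_of_isPGroup hp hx hc]; exact one_mem _

theorem IsReducedIn.le_pCoreOf (h : IsReducedIn p V L) : V ≤ pCoreOf p L :=
  SylowIn.le_pCoreOf h.le h.normalizer (elab_isPGroup h.elab)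

theorem IsReducedIn.pCoreOf_le_centralizer [Finite G] [Fact p.Prime] (h : IsReducedIn p V L) :
    pCoreOf p L ≤ Subgroup.centralizer (V : Set G) :=
  h.le_centralizer (pCoreOf_le L) (normalizer_pCoreOf L) (isPGroup_pCoreOf L)

theorem IsReducedIn.le_omegaCenter [Finite G] [Fact p.Prime] (h : IsReducedIn p V L) :
    V ≤ omegaCenter p (pCoreOf p L) :=
  PReduced.le_omegaCenter h.elab h.le_pCoreOf (Subgroup.le_centralizer_iff.1 h.pCoreOf_le_centralizer)

theorem IsReducedIn.map_iff {H : Type*} [Group H] {f : G →* H} (hf : Function.Injective f)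
    (V L : Subgroup G) : IsReducedIn p (V.map f) (L.map f) ↔ IsReducedIn p V L := by
  have hnorm : ∀ A B : Subgroup G,
      B.map f ≤ Subgroup.normalizer ((A.map f : Subgroup H) : Set H) ↔ B ≤ Subgroup.normalizer (A : Set G) := by
    intro A B
    rw [Subgroup.map_le_iff_le_comap]
    refine ⟨fun h b hb => ?_, fun h b hb => ?_⟩
    · refine Subgroup.mem_normalizer_iff.2 fun a => ?_
      have := Subgroup.mem_normalizer_iff.1 (h hb) (f a)
      rwa [← map_inv, ← map_mul, ← map_mul, Subgroup.mem_map_iff_mem hf,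
        Subgroup.mem_map_iff_mem hf] at this
    · exact Subgroup.le_normalizer_map f ⟨b, h hb, rfl⟩
  have hcen : ∀ (A : Subgroup G) (x : G),
      f x ∈ Subgroup.centralizer ((A.map f : Subgroup H) : Set H) ↔ x ∈ Subgroup.centralizer (A : Set G) := by
    intro A x
    refine ⟨fun h => fun a ha => hf (by simpa using h (f a) ⟨a, ha, rfl⟩), ?_⟩
    rintro h _ ⟨a, ha, rfl⟩
    rw [← map_mul, ← map_mul, h a ha]
  have helab : IsElementaryAbelian p (V.map f) ↔ IsElementaryAbelian p V := by
    unfold IsElementaryAbelian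
    rw [← Subgroup.le_centralizer_iff_isMulCommutative, ← Subgroup.le_centralizer_iff_isMulCommutative]
    refine and_congr ⟨fun h x hx => (hcen V x).1 (h ⟨x, hx, rfl⟩), ?_⟩ ⟨fun h a ha => ?_, ?_⟩
    · rintro h _ ⟨x, hx, rfl⟩
      exact (hcen V x).2 (h hx)
    · exact hf (by rw [map_pow, map_one]; exact h _ ⟨a, ha, rfl⟩)
    · rintro h _ ⟨a, ha, rfl⟩
      rw [← map_pow, h a ha, map_one]
  unfold IsReducedIn
  rw [Subgroup.map_le_map_iff_of_injective hf, hnorm, helab]
  refine and_congr_right fun _ => and_congr_right fun _ => and_congr_right fun _ => ?_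
  constructor
  · intro h N hN hn hx n hnN
    refine (hcen V n).1 (h (N.map f) (Subgroup.map_mono hN) ((hnorm N L).2 hn) ?_ ⟨n, hnN, rfl⟩)
    rintro _ ⟨y, hy, rfl⟩ hc
    exact (hcen V y).2 (hx y hy (by rwa [orderOf_injective f hf] at hc))
  · intro h N hN hn hx
    have hNf : (N.comap f).map f = N :=
      Subgroup.map_comap_eq_self (hN.trans (Subgroup.map_le_range f L))
    rw [← hNf] at hn ⊢
    rintro _ ⟨y, hy, rfl⟩
    refine (hcen V y).2 (h (N.comap f) ?_ ((hnorm _ L).1 hn) (fun z hz hc => (hcen V z).1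
      (hx (f z) hz (by rwa [orderOf_injective f hf]))) hy)
    rw [← Subgroup.map_le_map_iff_of_injective hf, hNf]; exact hN

end Basic

theorem IsReducedIn.of_forall_mem_sSup {L : Subgroup G} {S : Set (Subgroup G)}
    (h : ∀ V ∈ S, IsReducedIn p V L) : IsReducedIn p (sSup S) L := by
  have hcomm : sSup S ≤ Subgroup.centralizer ((sSup S : Subgroup G) : Set G) := by
    refine sSup_le fun V hV => Subgroup.le_centralizer_iff.1 (sSup_le fun W hW => ?_)
    exact (h V hV).le_centralizer (h W hW).le (h W hW).normalizer (elab_isPGroup (h W hW).elab)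
  refine ⟨sSup_le fun V hV => (h V hV).le, ?_, ?_, fun N hN hn hx => ?_⟩
  · refine le_normalizer_of_map_conj fun g hg => ?_
    rw [(Subgroup.gc_map_comap _).l_sSup, sSup_eq_iSup]
    exact iSup_congr fun V => iSup_congr fun hV => map_conj_eq_iff.2 ((h V hV).normalizer hg)
  · have h0 : sSup S = omegaOne p (sSup S) := le_antisymm
      (sSup_le fun V hV x hx => Subgroup.subset_closure ⟨le_sSup hV hx, (h V hV).elab.2 x hx⟩)
      (omegaOne_le _)
    rw [h0]
    exact elab_omegaOne hcomm
  · refine Subgroup.le_centralizer_iff.1 (sSup_le fun V hV => Subgroup.le_centralizer_iff.1 ?_)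
    exact (h V hV).le_centralizer_of_coprime hN hn fun x hxN hc =>
      Subgroup.centralizer_le (show (V : Set G) ⊆ _ from fun v hv => le_sSup hV hv) (hx x hxN hc)

/-! ### Bridge with `IsPReducedNormal` -/

theorem isPReducedNormal_iff [Finite G] [Fact p.Prime] {V : Subgroup G} :
    IsPReducedNormal p V ↔ IsReducedIn p V ⊤ := by
  constructor
  · rintro ⟨hV, hel, hC, hcore⟩
    haveI := hV
    refine ⟨le_top, (Subgroup.normalizer_eq_top (H := V)).ge, hel, fun N _ hn hx => ?_⟩
    haveI : N.Normal := Subgroup.normalizer_eq_top_iff.1 (top_le_iff.1 hn)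
    let f := QuotientGroup.mk' (Subgroup.centralizer (V : Set G))
    haveI : (N.map f).Normal := Subgroup.Normal.map inferInstance f (QuotientGroup.mk'_surjective _)
    have hp : IsPGroup p (N.map f) := by
      rintro ⟨_, y, hy, rfl⟩
      obtain ⟨k, hk⟩ := exists_pow_coprime (p := p) y
      refine ⟨k, Subtype.ext ?_⟩
      show f y ^ p ^ k = 1
      rw [← map_pow, QuotientGroup.mk'_apply, QuotientGroup.eq_one_iff]
      exact hx _ (pow_mem hy _) hk
    have h1 := SylowIn.le_pCore hp
    rw [hcore, le_bot_iff, Subgroup.map_eq_bot_iff, QuotientGroup.ker_mk'] at h1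
    exact h1
  · rintro ⟨-, hn, hel, hN⟩
    haveI hVn : V.Normal := Subgroup.normalizer_eq_top_iff.1 (top_le_iff.1 hn)
    haveI hC : (Subgroup.centralizer (V : Set G)).Normal :=
      Subgroup.normalizer_eq_top_iff.1 (top_le_iff.1 (normalizer_centralizer hn))
    refine ⟨hVn, hel, hC, ?_⟩
    let f := QuotientGroup.mk' (Subgroup.centralizer (V : Set G))
    haveI := SylowIn.pCore_normal (G ⧸ Subgroup.centralizer (V : Set G)) p
    have h1 := hN ((pCore p _).comap f) le_top
      (Subgroup.normalizer_eq_top (H := (pCore p (G ⧸ Subgroup.centralizer (V : Set G))).comap f)).ge fun x hx hc => by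
        rw [← QuotientGroup.eq_one_iff]
        exact eq_one_of_coprime_of_isPGroup (SylowIn.isPGroup_pCore _ p) hx
          (Nat.Coprime.coprime_dvd_left (orderOf_map_dvd' f x) hc)
    rw [eq_bot_iff, ← Subgroup.map_comap_eq_self_of_surjective (QuotientGroup.mk'_surjective _) (pCore p _)]
    rintro _ ⟨y, hy, rfl⟩
    exact (QuotientGroup.eq_one_iff y).2 (h1 hy)

theorem isPReducedNormal_subgroupOf [Finite G] [Fact p.Prime] {V L : Subgroup G} (hV : V ≤ L) :
    IsPReducedNormal p (V.subgroupOf L) ↔ IsReducedIn p V L := by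
  rw [isPReducedNormal_iff, ← IsReducedIn.map_iff L.subtype_injective,
    Subgroup.map_subgroupOf_eq_of_le hV, ← MonoidHom.range_eq_map, Subgroup.range_subtype]

theorem isReducedIn_map_subtype [Finite G] [Fact p.Prime] {L : Subgroup G} {W : Subgroup L} :
    IsReducedIn p (W.map L.subtype) L ↔ IsPReducedNormal p W := by
  rw [← isPReducedNormal_subgroupOf (Subgroup.map_subtype_le W), Subgroup.subgroupOf,
    Subgroup.comap_map_eq_self_of_injective L.subtype_injective]

theorem isPReducedNormal_largestPReduced (p : ℕ) (L : Type*) [Group L] [Finite L] [Fact p.Prime] :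
    IsPReducedNormal p (largestPReduced p L) :=
  isPReducedNormal_iff.2 (IsReducedIn.of_forall_mem_sSup fun _ hV => isPReducedNormal_iff.1 hV)

theorem isReducedIn_largest [Finite G] [Fact p.Prime] (L : Subgroup G) :
    IsReducedIn p (largestPReducedOf p L) L :=
  isReducedIn_map_subtype.2 (isPReducedNormal_largestPReduced p L)

theorem isReducedIn_largestPReduced [Finite G] [Fact p.Prime] :
    IsReducedIn p (largestPReduced p G) ⊤ :=
  isPReducedNormal_iff.1 (isPReducedNormal_largestPReduced p G)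

theorem IsReducedIn.le_largest [Finite G] [Fact p.Prime] {V L : Subgroup G} (h : IsReducedIn p V L) :
    V ≤ largestPReducedOf p L := by
  rw [← Subgroup.map_subgroupOf_eq_of_le h.le]
  exact Subgroup.map_mono (le_sSup ((isPReducedNormal_subgroupOf h.le).2 h))

theorem IsReducedIn.le_largestPReduced [Finite G] [Fact p.Prime] {V : Subgroup G}
    (h : IsReducedIn p V ⊤) : V ≤ largestPReduced p G :=
  le_sSup (isPReducedNormal_iff.2 h)

theorem pCore_le_pCoreOf_top [Finite G] [Fact p.Prime] : pCore p G ≤ pCoreOf p (⊤ : Subgroup G) :=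
  SylowIn.le_pCoreOf le_top (Subgroup.normalizer_eq_top (H := pCore p G) (h := SylowIn.pCore_normal G p)).ge
    (SylowIn.isPGroup_pCore G p)

theorem charP_top_of [Finite G] [Fact p.Prime]
    (h : Subgroup.centralizer (pCore p G : Set G) ≤ pCore p G) :
    (⊤ : Subgroup G) ⊓ Subgroup.centralizer (pCoreOf p (⊤ : Subgroup G) : Set G) ≤
      pCoreOf p (⊤ : Subgroup G) :=
  inf_le_right.trans ((Subgroup.centralizer_le pCore_le_pCoreOf_top).trans (h.trans pCore_le_pCoreOf_top))

/-! ### Overgroups of a Sylow subgroup -/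

theorem isReducedIn_omegaCenter_sylow {T : Subgroup G} :
    IsReducedIn p (omegaCenter p T) T :=
  ⟨omegaCenter_le T, normalizer_omegaCenter Subgroup.le_normalizer, elab_omegaCenter T,
    fun _ hN _ _ => hN.trans (Subgroup.le_centralizer_iff.1 (omegaCenter_le_centralizer T))⟩

variable [Finite G] [Fact p.Prime]

/-- Closure under `L` of a reduced subgroup of an overgroup of a Sylow subgroup. -/
theorem IsReducedIn.closure {T R L X Y : Subgroup G}
    (hc : L ⊓ Subgroup.centralizer (pCoreOf p L : Set G) ≤ pCoreOf p L)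
    (hT : IsSylowIn p T L) (hTR : T ≤ R) (hRL : R ≤ L) (hX : IsReducedIn p X R) (hXY : X ≤ Y)
    (hY : L ≤ Subgroup.normalizer (Y : Set G))
    (hmin : ∀ W : Subgroup G, X ≤ W → L ≤ Subgroup.normalizer (W : Set G) → Y ≤ W) :
    IsReducedIn p Y L := by
  have hOR : pCoreOf p L ≤ R := (pCoreOf_le_sylowIn hT).trans hTR
  have hXC : X ≤ Subgroup.centralizer (pCoreOf p L : Set G) :=
    Subgroup.le_centralizer_iff.1 (hX.le_centralizer hOR (hRL.trans (normalizer_pCoreOf L))
      (isPGroup_pCoreOf L))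
  have hYO : Y ≤ omegaCenter p (pCoreOf p L) :=
    hmin _ (PReduced.le_omegaCenter hX.elab
      ((le_inf (hX.le.trans hRL) hXC).trans hc) hXC) (normalizer_omegaCenter (normalizer_pCoreOf L))
  refine ⟨hYO.trans ((omegaCenter_le _).trans (pCoreOf_le L)), hY,
    elab_of_le (elab_omegaCenter _) hYO, fun N hN hn hx => ?_⟩
  have hxX : ∀ x ∈ N, (orderOf x).Coprime p → x ∈ Subgroup.centralizer (X : Set G) :=
    fun x h1 h2 => Subgroup.centralizer_le hXY (hx x h1 h2)
  have h1 : N ⊓ R ≤ Subgroup.centralizer (X : Set G) :=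
    hX.le_centralizer_of_coprime inf_le_right (normalizer_inf (hRL.trans hn) Subgroup.le_normalizer)
      fun x hx' => hxX x hx'.1
  have h2 : N ≤ Subgroup.centralizer (X : Set G) :=
    le_of_coprime_of_sylow (IsSylowIn.inf_normal hT hN hn) hxX
      ((le_inf inf_le_right (inf_le_left.trans hTR)).trans h1)
  exact Subgroup.le_centralizer_iff.1
    (hmin _ (Subgroup.le_centralizer_iff.1 h2) (normalizer_centralizer hn))

theorem IsReducedIn.le_largest_of_overgroup {T R L X : Subgroup G}
    (hc : L ⊓ Subgroup.centralizer (pCoreOf p L : Set G) ≤ pCoreOf p L)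
    (hT : IsSylowIn p T L) (hTR : T ≤ R) (hRL : R ≤ L) (hX : IsReducedIn p X R) :
    X ≤ largestPReducedOf p L := by
  set S : Set (Subgroup G) := {W | X ≤ W ∧ L ≤ Subgroup.normalizer (W : Set G)}
  have hX' : X ≤ sInf S := le_sInf fun W hW => hW.1
  have hL : L ≤ Subgroup.normalizer ((sInf S : Subgroup G) : Set G) := by
    intro g hg
    rw [Subgroup.mem_normalizer_iff]
    intro x
    simp only [Subgroup.mem_sInf]
    exact ⟨fun h W hW => (Subgroup.mem_normalizer_iff.1 (hW.2 hg) x).1 (h W hW),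
      fun h W hW => (Subgroup.mem_normalizer_iff.1 (hW.2 hg) x).2 (h W hW)⟩
  exact hX'.trans (IsReducedIn.closure hc hT hTR hRL hX hX' hL fun W h1 h2 => sInf_le ⟨h1, h2⟩).le_largest

theorem sylowCenterClosure_le_largest {L : Subgroup G}
    (hc : L ⊓ Subgroup.centralizer (pCoreOf p L : Set G) ≤ pCoreOf p L) :
    sylowCenterClosure p L ≤ largestPReducedOf p L :=
  sylowCenterClosure_le_iff.2 fun _ hT =>
    IsReducedIn.le_largest_of_overgroup hc hT le_rfl hT.1 isReducedIn_omegaCenter_sylow

/-- Frattini argument for `C_L(Y)`. -/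
theorem frattini_centralizer {T L Y : Subgroup G} (hT : IsSylowIn p T L)
    (hY : L ≤ Subgroup.normalizer (Y : Set G)) {g : G} (hg : g ∈ L) :
    ∃ c ∈ L ⊓ Subgroup.centralizer (Y : Set G),
      ∃ n ∈ L ⊓ Subgroup.normalizer ((T ⊓ Subgroup.centralizer (Y : Set G) : Subgroup G) : Set G),
      g = c * n := by
  have hC := normalizer_inf (Subgroup.le_normalizer (H := L)) (normalizer_centralizer hY)
  have h1 := IsSylowIn.inf_normal hT (inf_le_left : L ⊓ Subgroup.centralizer (Y : Set G) ≤ L) hC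
  have e : T ⊓ (L ⊓ Subgroup.centralizer (Y : Set G)) = T ⊓ Subgroup.centralizer (Y : Set G) := by
    rw [← inf_assoc, inf_eq_left.2 hT.1]
  rw [e] at h1
  exact frattini_argument h1 hC inf_le_left hg

/-- A subgroup normalized by `N_L(T ∩ C(Y))` becomes normal in `L` when joined with `C_L(Y)`. -/
theorem normalizer_sup_centralizer {T L Y N : Subgroup G} (hT : IsSylowIn p T L)
    (hY : L ≤ Subgroup.normalizer (Y : Set G))
    (hN : L ⊓ Subgroup.normalizer ((T ⊓ Subgroup.centralizer (Y : Set G) : Subgroup G) : Set G) ≤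
      Subgroup.normalizer (N : Set G)) :
    L ≤ Subgroup.normalizer ((N ⊔ (L ⊓ Subgroup.centralizer (Y : Set G)) : Subgroup G) : Set G) := by
  intro g hg
  obtain ⟨c, hc, n, hn, rfl⟩ := frattini_centralizer hT hY hg
  exact mul_mem (Subgroup.le_normalizer (Subgroup.mem_sup_right hc))
    (normalizer_sup hN (inf_le_left.trans
      (normalizer_inf (Subgroup.le_normalizer (H := L)) (normalizer_centralizer hY))) hn)

/-- `Y_L = Ω₁(Z(C_T(Y_L)))`. -/
theorem largest_eq_omegaCenter {T L : Subgroup G}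
    (hc : L ⊓ Subgroup.centralizer (pCoreOf p L : Set G) ≤ pCoreOf p L) (hT : IsSylowIn p T L) :
    largestPReducedOf p L =
      omegaCenter p (T ⊓ Subgroup.centralizer (largestPReducedOf p L : Set G)) := by
  set Y := largestPReducedOf p L
  have hY : IsReducedIn p Y L := isReducedIn_largest L
  set TL := T ⊓ Subgroup.centralizer (Y : Set G)
  set R := L ⊓ Subgroup.normalizer (TL : Set G)
  have hle : Y ≤ omegaCenter p TL :=
    le_omegaCenter hY.elab (le_inf (hY.le_pCoreOf.trans (pCoreOf_le_sylowIn hT)) (elab_le_centralizer hY.elab))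
      (Subgroup.le_centralizer_iff.1 inf_le_right)
  have hTR : T ≤ R := le_inf hT.1 (normalizer_inf Subgroup.le_normalizer
    (normalizer_centralizer (hT.1.trans hY.normalizer)))
  refine le_antisymm hle (IsReducedIn.le_largest_of_overgroup hc hT hTR inf_le_left
    ⟨(omegaCenter_le TL).trans (inf_le_left.trans hTR), normalizer_omegaCenter inf_le_right,
      elab_omegaCenter TL, fun N hN hn hx => ?_⟩)
  have hC : L ≤ Subgroup.normalizer ((L ⊓ Subgroup.centralizer (Y : Set G) : Subgroup G) : Set G) :=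
    normalizer_inf Subgroup.le_normalizer (normalizer_centralizer hY.normalizer)
  have hNL : N ≤ L := hN.trans inf_le_left
  have h1 : N ⊔ (L ⊓ Subgroup.centralizer (Y : Set G)) ≤ Subgroup.centralizer (Y : Set G) :=
    hY.le_centralizer_of_coprime (sup_le hNL inf_le_left)
      (normalizer_sup_centralizer hT hY.normalizer hn) fun x hx' hc' =>
        (coprime_mem_sup (hNL.trans hC)
          (fun y hy hcy => ⟨hNL hy, Subgroup.centralizer_le hle (hx y hy hcy)⟩) hx' hc').2
  refine le_of_coprime_of_sylow (IsSylowIn.inf_normal (IsSylowIn.mono hT hTR inf_le_left) hN hn) hx ?_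
  refine le_trans ?_ (Subgroup.le_centralizer_iff.1 (omegaCenter_le_centralizer TL))
  exact le_inf inf_le_left (inf_le_right.trans (le_sup_left.trans h1))

/-- A factorization `L C = M C` with `C = C(Y)` carries reducedness from `M` to `L`. -/
theorem IsReducedIn.of_sup_eq {Y L M : Subgroup G} (hY : IsReducedIn p Y M) (hYL : Y ≤ L)
    (h : L ⊔ Subgroup.centralizer (Y : Set G) = M ⊔ Subgroup.centralizer (Y : Set G)) :
    IsReducedIn p Y L := by
  set C := Subgroup.centralizer (Y : Set G)
  have hCn : C ≤ Subgroup.normalizer (Y : Set G) := Subgroup.centralizer_le_normalizer _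
  have hLY : L ≤ Subgroup.normalizer (Y : Set G) :=
    le_trans le_sup_left (h.le.trans (sup_le hY.normalizer hCn))
  refine ⟨hYL, hLY, hY.elab, fun N hN hn hx => ?_⟩
  have hLC : L ⊔ C ≤ Subgroup.normalizer ((N ⊔ C : Subgroup G) : Set G) :=
    sup_le (normalizer_sup hn (normalizer_centralizer hLY)) (le_sup_right.trans Subgroup.le_normalizer)
  have h1 : M ⊓ (N ⊔ C) ≤ C :=
    hY.le_centralizer_of_coprime inf_le_left
      (normalizer_inf Subgroup.le_normalizer ((le_sup_left.trans h.ge).trans hLC))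
      fun x hx' hc => coprime_mem_sup (hN.trans (normalizer_centralizer hLY)) hx hx'.2 hc
  intro x hxN
  have hxM : x ∈ M ⊔ C := h.le (Subgroup.mem_sup_left (hN hxN))
  rw [← SetLike.mem_coe, Subgroup.coe_mul_of_left_le_normalizer_right _ _
    (normalizer_centralizer hY.normalizer)] at hxM
  obtain ⟨m, hm, c, hcC, rfl⟩ := Set.mem_mul.1 hxM
  refine mul_mem (h1 ⟨hm, ?_⟩) hcC
  have := mul_mem (Subgroup.mem_sup_left (T := C) hxN) (inv_mem (Subgroup.mem_sup_right (S := N) hcC))
  simpa using this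

/-! ### Subnormal subgroups -/

/-- `[Y, x] ≤ K` for a normal `p`-subgroup `Y` and an element `x` of a subnormal `K` of order prime to `p`. -/
theorem commutator_zpowers_le_of_isSubnormal {Y K : Subgroup G} [Y.Normal] (hY : IsPGroup p Y)
    (hK : K.IsSubnormal) :
    ∀ x ∈ K, (orderOf x).Coprime p → ⁅Y, Subgroup.zpowers x⁆ ≤ K := by
  induction hK with
  | top => exact fun _ _ _ => le_top
  | step H K hle _ hn ih =>
    intro x hx hc
    have hA : Subgroup.zpowers x ≤ Subgroup.normalizer (Y : Set G) :=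
      (Subgroup.normalizer_eq_top (H := Y)).symm ▸ le_top
    rw [← CfsgLib.Coprime.commutator_commutator_self hA
      (by rw [Nat.card_zpowers]; exact mem_of_coprime_card hY hc)
      (.inl (CfsgLib.Coprime.isSolvable_zpowers x))]
    refine (Subgroup.commutator_mono (ih x (hle hx) hc) (Subgroup.zpowers_le.2 hx)).trans ?_
    rw [Subgroup.commutator_comm]
    exact (Subgroup.commutator_comm H K).le.trans
      (Subgroup.le_normalizer_iff_commutator_le_right.1
        ((Subgroup.normal_subgroupOf_iff_le_normalizer hle).1 hn))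

/-- An element of order prime to `p` of a subnormal `K` centralizing `Y ∩ K` centralizes `Y`. -/
theorem mem_centralizer_of_isSubnormal {Y K : Subgroup G} [Y.Normal] (hY : IsPGroup p Y)
    (hK : K.IsSubnormal) {x : G} (hx : x ∈ K) (hc : (orderOf x).Coprime p)
    (hxc : x ∈ Subgroup.centralizer ((Y ⊓ K : Subgroup G) : Set G)) :
    x ∈ Subgroup.centralizer (Y : Set G) := by
  have hA : Subgroup.zpowers x ≤ Subgroup.normalizer (Y : Set G) :=
    (Subgroup.normalizer_eq_top (H := Y)).symm ▸ le_top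
  have h1 : ⁅Y, Subgroup.zpowers x⁆ ≤ Y ⊓ K :=
    le_inf (Subgroup.le_normalizer_iff_commutator_le_left.1 hA)
      (commutator_zpowers_le_of_isSubnormal hY hK x hx hc)
  have h2 : ⁅Y, Subgroup.zpowers x⁆ = ⊥ := by
    refine CfsgLib.Coprime.commutator_eq_bot_of_commutator_commutator ?_ ?_
    · rw [Nat.card_zpowers]; exact mem_of_coprime_card (hY.to_le (h1.trans inf_le_left)) hc
    · rw [Subgroup.commutator_comm, Subgroup.commutator_eq_bot_iff_le_centralizer]
      exact Subgroup.zpowers_le.2 (Subgroup.centralizer_le h1 hxc)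
  rw [Subgroup.commutator_comm, Subgroup.commutator_eq_bot_iff_le_centralizer] at h2
  exact h2 (Subgroup.mem_zpowers x)

/-- A subnormal subgroup whose elements of order prime to `p` centralize a reduced `Y` centralizes it. -/
theorem IsReducedIn.le_centralizer_of_isSubnormal {Y N : Subgroup G} (hY : IsReducedIn p Y ⊤)
    (hN : N.IsSubnormal)
    (hx : ∀ x ∈ N, (orderOf x).Coprime p → x ∈ Subgroup.centralizer (Y : Set G)) :
    N ≤ Subgroup.centralizer (Y : Set G) := by
  obtain ⟨-, -, hC, hcore⟩ := isPReducedNormal_iff.2 hY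
  let f := QuotientGroup.mk' (Subgroup.centralizer (Y : Set G))
  have hp : IsPGroup p (N.map f) := by
    rintro ⟨_, y, hy, rfl⟩
    obtain ⟨k, hk⟩ := exists_pow_coprime (p := p) y
    refine ⟨k, Subtype.ext ?_⟩
    show f y ^ p ^ k = 1
    rw [← map_pow, QuotientGroup.mk'_apply, QuotientGroup.eq_one_iff]
    exact hx _ (pow_mem hy _) hk
  have h1 := le_pCore_of_isSubnormal (hN.map (f := f) (QuotientGroup.mk'_surjective _)) hp
  rw [hcore, le_bot_iff, Subgroup.map_eq_bot_iff, QuotientGroup.ker_mk'] at h1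
  exact h1

omit [Finite G] [Fact p.Prime] in
theorem isSubnormal_of_normal {N L : Subgroup G} (hL : L.IsSubnormal) (hN : N ≤ L)
    (hn : L ≤ Subgroup.normalizer (N : Set G)) : N.IsSubnormal :=
  .step N L hN hL ((Subgroup.normal_subgroupOf_iff_le_normalizer hN).2 hn)

/-- An element of order prime to `p` commuting, on an abelian `p`-group `X`, with a `p`-group `P` and
centralizing `C_X(P)`, centralizes `X`. -/
theorem mem_centralizer_of_fixed {X P : Subgroup G} {x : G} (hX : X ≤ Subgroup.centralizer (X : Set G))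
    (hXp : IsPGroup p X) (hP : IsPGroup p P) (hPX : P ≤ Subgroup.normalizer (X : Set G))
    (hxX : x ∈ Subgroup.normalizer (X : Set G)) (hc : (orderOf x).Coprime p)
    (hcomm : ∀ a ∈ P, ⁅a, x⁆ ∈ Subgroup.centralizer (X : Set G))
    (hfix : ∀ v ∈ X ⊓ Subgroup.centralizer (P : Set G), x * v = v * x) :
    x ∈ Subgroup.centralizer (X : Set G) := by
  have hbX : ∀ v ∈ X, ⁅x, v⁆ ∈ X := fun v hv => by
    rw [commutatorElement_def]
    exact mul_mem ((Subgroup.mem_normalizer_iff.1 hxX v).1 hv) (inv_mem hv)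
  have hmul : ∀ v ∈ X, ∀ w ∈ X, ⁅x, v * w⁆ = ⁅x, v⁆ * ⁅x, w⁆ := fun v hv w hw => by
    have h1 : v * ⁅x, w⁆ = ⁅x, w⁆ * v :=
      Subgroup.mem_centralizer_iff.1 (hX (hbX w hw)) v hv
    calc ⁅x, v * w⁆ = ⁅x, v⁆ * (v * ⁅x, w⁆) * v⁻¹ := by simp only [commutatorElement_def]; group
      _ = ⁅x, v⁆ * (⁅x, w⁆ * v) * v⁻¹ := by rw [h1]
      _ = _ := by group
  let φ : ↥X →* ↥X :=
    { toFun := fun v => ⟨⁅x, (v : G)⁆, hbX v v.2⟩
      map_one' := Subtype.ext (by simp)
      map_mul' := fun v w => Subtype.ext (hmul v v.2 w w.2) }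
  set D := φ.range.map X.subtype
  have hDX : D ≤ X := Subgroup.map_subtype_le _
  have hDn : P ≤ Subgroup.normalizer (D : Set G) := by
    have key : ∀ a ∈ P, D.map (MulAut.conj a).toMonoidHom ≤ D := by
      intro a ha
      rintro _ ⟨_, ⟨_, ⟨v, rfl⟩, rfl⟩, rfl⟩
      have hav : a * (v : G) * a⁻¹ ∈ X := (Subgroup.mem_normalizer_iff.1 (hPX ha) v).1 v.2
      refine ⟨_, ⟨⟨a * v * a⁻¹, hav⟩, rfl⟩, ?_⟩
      show ⁅x, a * (v : G) * a⁻¹⁆ = a * ⁅x, (v : G)⁆ * a⁻¹
      have h0 : ⁅a, x⁆⁻¹ ∈ Subgroup.centralizer (X : Set G) := inv_mem (hcomm a ha)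
      have hw : ⁅a, x⁆ * (x * (a * v * a⁻¹) * x⁻¹) * ⁅a, x⁆⁻¹ = x * (a * v * a⁻¹) * x⁻¹ := by
        rw [← Subgroup.mem_centralizer_iff.1 (hcomm a ha) _ ((Subgroup.mem_normalizer_iff.1 hxX _).1 hav),
          mul_inv_cancel_right]
      calc ⁅x, a * (v : G) * a⁻¹⁆ = x * (a * v * a⁻¹) * x⁻¹ * (a * v * a⁻¹)⁻¹ := rfl
        _ = ⁅a, x⁆ * (x * (a * v * a⁻¹) * x⁻¹) * ⁅a, x⁆⁻¹ * (a * v * a⁻¹)⁻¹ := by rw [hw]
        _ = _ := by simp only [commutatorElement_def]; group
    refine le_normalizer_of_map_conj fun a ha => le_antisymm (key a ha) ?_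
    have := Subgroup.map_mono (f := (MulAut.conj a).toMonoidHom) (key a⁻¹ (inv_mem ha))
    rwa [map_conj_conj, mul_inv_cancel, map_conj_one] at this
  -- the image of `φ` meets its kernel trivially
  have hker : ∀ v : ↥X, φ (φ v) = 1 → φ v = 1 := by
    intro v hv
    have h1 : x * ⁅x, (v : G)⁆ = ⁅x, (v : G)⁆ * x :=
      commutatorElement_eq_one_iff_mul_comm.1 (congrArg Subtype.val hv)
    refine Subtype.ext (commutatorElement_eq_one_iff_mul_comm.2 ?_)
    exact (CfsgLib.Coprime.commute_of_stabilizes (N := X ⊓ Subgroup.centralizer {x})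
      (mem_of_coprime_card (hXp.to_le inf_le_left) hc)
      (fun w hw => (Subgroup.mem_centralizer_iff.1 hw.2 x rfl).symm)
      ⟨hbX v v.2, fun y hy => by rw [Set.mem_singleton_iff.1 hy]; exact h1⟩).eq
  suffices hD : D = ⊥ by
    intro v hv
    have h1 : ⁅x, v⁆ ∈ D := ⟨_, ⟨⟨v, hv⟩, rfl⟩, rfl⟩
    rw [hD, Subgroup.mem_bot, commutatorElement_eq_one_iff_mul_comm] at h1
    exact h1.symm
  by_contra hne
  obtain ⟨M, hMD, ⟨hM0, hMn, hMD'⟩, hmin⟩ := Finite.exists_le_minimal
    (p := fun M : Subgroup G => M ≠ ⊥ ∧ P ≤ Subgroup.normalizer (M : Set G) ∧ M ≤ D) (a := D) ⟨hne, hDn, le_rfl⟩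
  have hlt := CfsgLib.Coprime.commutator_lt_of_isPGroup hP (hXp.to_le (hMD.trans hDX)) hMn hM0
  have hMP : ⁅M, P⁆ = ⊥ := by_contra fun h => hlt.not_ge
    (hmin ⟨h, normalizer_commutator hMn Subgroup.le_normalizer, hlt.le.trans hMD⟩ hlt.le)
  obtain ⟨m, hm, hm1⟩ := (Subgroup.bot_or_exists_ne_one M).resolve_left hM0
  obtain ⟨_, ⟨v, rfl⟩, rfl⟩ := hMD hm
  refine hm1 (congrArg Subtype.val (hker v (Subtype.ext ?_)))
  exact commutatorElement_eq_one_iff_mul_comm.2
    (hfix _ ⟨(φ v).2, Subgroup.commutator_eq_bot_iff_le_centralizer.1 hMP hm⟩)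

theorem coprime_relIndex_of_pow {T L : Subgroup G} (hT : IsSylowIn p T L) {v : G} (hv : v ^ p = 1) :
    (T.relIndex L).Coprime (orderOf v) :=
  Nat.Coprime.coprime_dvd_right (orderOf_dvd_of_pow_eq_one hv)
    ((Nat.Prime.coprime_iff_not_dvd Fact.out).2 hT.toSylow.not_dvd_index).symm

/-- `T ∩ C(Y)` is a Sylow subgroup of `C(Y)` when the Sylow subgroup `T` normalizes `Y`. -/
theorem IsSylowIn.inf_centralizer (T : Sylow p G) {Y : Subgroup G}
    (hY : (T : Subgroup G) ≤ Subgroup.normalizer (Y : Set G)) :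
    IsSylowIn p ((T : Subgroup G) ⊓ Subgroup.centralizer (Y : Set G)) (Subgroup.centralizer (Y : Set G)) :=
  IsSylowIn.inf_normal (isSylowIn_of_sylow T hY) (Subgroup.centralizer_le_normalizer _)
    (normalizer_centralizer le_rfl)

theorem largestPReducedOf_top :
    largestPReducedOf p (⊤ : Subgroup G) = largestPReduced p G :=
  le_antisymm (isReducedIn_largest (⊤ : Subgroup G)).le_largestPReduced isReducedIn_largestPReduced.le_largest

theorem largestPReducedOf_map (L : Subgroup G) (g : G) :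
    (largestPReducedOf p L).map (MulAut.conj g).toMonoidHom =
      largestPReducedOf p (L.map (MulAut.conj g).toMonoidHom) := by
  have key : ∀ (L : Subgroup G) (g : G), (largestPReducedOf p L).map (MulAut.conj g).toMonoidHom ≤
      largestPReducedOf p (L.map (MulAut.conj g).toMonoidHom) := fun L g =>
    ((IsReducedIn.map_iff (MulAut.conj g).injective _ _).2 (isReducedIn_largest L)).le_largest
  refine le_antisymm (key L g) ?_
  have := Subgroup.map_mono (f := (MulAut.conj g).toMonoidHom)
    (key (L.map (MulAut.conj g).toMonoidHom) g⁻¹)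
  rwa [map_conj_conj, mul_inv_cancel, map_conj_one, map_conj_conj, inv_mul_cancel, map_conj_one] at this

theorem normalizer_largest (L : Subgroup G) :
    Subgroup.normalizer (L : Set G) ≤ Subgroup.normalizer (largestPReducedOf p L : Set G) :=
  le_normalizer_of_map_conj fun g hg => by rw [largestPReducedOf_map, map_conj_eq_iff.2 hg]

/-- For `L` normal in `K`, the centralizer in `L` of `Y_K` centralizes `Y_L`. -/
theorem centralizer_largest_of_normal {L K : Subgroup G} (hle : L ≤ K)
    (hn : K ≤ Subgroup.normalizer (L : Set G)) :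
    L ⊓ Subgroup.centralizer (largestPReducedOf p K : Set G) ≤
      Subgroup.centralizer (largestPReducedOf p L : Set G) := by
  set Y := largestPReducedOf p L
  have hY : IsReducedIn p Y L := isReducedIn_largest L
  suffices h : ∀ n : ℕ, ∀ X : Subgroup G, Nat.card X = n → X ≤ Y → K ≤ Subgroup.normalizer (X : Set G) →
      L ⊓ Subgroup.centralizer (X : Set G) ≤ Subgroup.centralizer (Y : Set G) →
      L ⊓ Subgroup.centralizer (largestPReducedOf p K : Set G) ≤ Subgroup.centralizer (Y : Set G) from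
    h _ Y rfl le_rfl (hn.trans (normalizer_largest L)) inf_le_right
  intro n
  induction n using Nat.strong_induction_on with
  | _ n ih =>
    intro X hcard hXY hXK hXC
    by_cases hred : IsReducedIn p X K
    · exact (inf_le_inf_left _ (Subgroup.centralizer_le hred.le_largest)).trans hXC
    obtain ⟨N, hN, hNn, hNx, hNX⟩ : ∃ N : Subgroup G, N ≤ K ∧ K ≤ Subgroup.normalizer (N : Set G) ∧
        (∀ x ∈ N, (orderOf x).Coprime p → x ∈ Subgroup.centralizer (X : Set G)) ∧
        ¬ N ≤ Subgroup.centralizer (X : Set G) := by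
      by_contra hno
      refine hred ⟨(hXY.trans hY.le).trans hle, hXK, elab_of_le hY.elab hXY, fun N h1 h2 h3 => ?_⟩
      by_contra h4
      exact hno ⟨N, h1, h2, h3, h4⟩
    have hNL : N ⊓ L ≤ Subgroup.centralizer (X : Set G) :=
      (hY.le_centralizer_of_coprime inf_le_right (normalizer_inf (hle.trans hNn) Subgroup.le_normalizer)
        fun x hx hc => hXC ⟨hx.2, hNx x hx.1 hc⟩).trans (Subgroup.centralizer_le hXY)
    set X' := X ⊓ Subgroup.centralizer (N : Set G)
    have hlt : X' < X := lt_of_le_of_ne inf_le_left fun e =>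
      hNX (Subgroup.le_centralizer_iff.1 (e ▸ inf_le_right))
    refine ih (Nat.card X') (hcard ▸ lt_of_le_of_ne (Subgroup.card_le_of_le hlt.le) fun h =>
        hlt.ne (Subgroup.eq_of_le_of_card_ge hlt.le h.ge)) X' rfl (hlt.le.trans hXY)
      (normalizer_inf hXK (normalizer_centralizer hNn)) ?_
    refine hY.le_centralizer_of_coprime inf_le_left (normalizer_inf Subgroup.le_normalizer
      (normalizer_centralizer (hle.trans (normalizer_inf hXK (normalizer_centralizer hNn))))) fun x hx hc => ?_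
    obtain ⟨P, hP, -⟩ := exists_isSylowIn (p := p) N bot_le IsPGroup.of_bot
    refine hXC ⟨hx.1, mem_centralizer_of_fixed
      ((hXY.trans (elab_le_centralizer hY.elab)).trans (Subgroup.centralizer_le hXY))
      ((elab_isPGroup hY.elab).to_le hXY) hP.2.1 ((hP.1.trans hN).trans hXK) (hXK (hle hx.1)) hc
      (fun a ha => hNL (Subgroup.mem_inf.2 ⟨?_, ?_⟩)) fun v hv => ?_⟩
    · rw [commutatorElement_def, mul_assoc, mul_assoc]
      exact mul_mem (hP.1 ha) (by
        simpa [mul_assoc] using (Subgroup.mem_normalizer_iff.1 (hNn (hle hx.1)) a⁻¹).1 (inv_mem (hP.1 ha)))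
    · rw [commutatorElement_def]
      exact mul_mem ((Subgroup.mem_normalizer_iff.1 (hn (hN (hP.1 ha))) x).1 hx.1) (inv_mem hx.1)
    · refine (Subgroup.mem_centralizer_iff.1 hx.2 v ⟨hv.1, Subgroup.mem_centralizer_iff.2 fun y hy => ?_⟩).symm
      have hNv : N ≤ Subgroup.centralizer ({v} : Set G) :=
        le_of_coprime_of_sylow hP
          (fun z hz hcz => Subgroup.centralizer_le (Set.singleton_subset_iff.2 hv.1) (hNx z hz hcz))
          (fun a ha w hw => by
            rw [Set.mem_singleton_iff.1 hw]; exact (Subgroup.mem_centralizer_iff.1 hv.2 a ha).symm)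
      exact (hNv hy v rfl).symm

theorem centralizer_largest_of_isSubnormal {L : Subgroup G} (hL : L.IsSubnormal) :
    L ⊓ Subgroup.centralizer (largestPReduced p G : Set G) ≤
      L ⊓ Subgroup.centralizer (largestPReducedOf p L : Set G) := by
  refine le_inf inf_le_left ?_
  induction hL with
  | top => rw [largestPReducedOf_top]; exact inf_le_right
  | step L K hle _ hn ih =>
    refine le_trans (le_inf inf_le_left ((inf_le_inf_right _ hle).trans ih))
      (centralizer_largest_of_normal hle ((Subgroup.normal_subgroupOf_iff_le_normalizer hle).1 hn))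

end CfsgLib.LocalEven.PReduced
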