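/-
Weakly closed p-subgroups and large subgroups: the basic criteria and inheritance.
-/
import Cfsg.Agent.Lib.LocalEven.PReduced

set_option autoImplicit false

open scoped commutatorElement

namespace CfsgLib.LocalEven.WeakClosure

open Cfsg CfsgLib.LocalEven.SylowIn CfsgLib.LocalEven.PReduced

variable {G : Type*} [Group G] {p : ℕ}

/-- Conjugate of a subgroup, `g Q g⁻¹`. -/
local notation:70 Q:70 " ^ᶜ " g:71 => Subgroup.map (MulEquiv.toMonoidHom (MulAut.conj g)) Q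

theorem le_normalizer_map {Q R : Subgroup G} {g : G} (h : R ≤ Subgroup.normalizer (Q : Set G)) :
    R ^ᶜ g ≤ Subgroup.normalizer ((Q ^ᶜ g : Subgroup G) : Set G) := by
  rw [normalizer_map_conj]; exact Subgroup.map_mono h

theorem mutual_normalizer {Q P : Subgroup G} (h : ⁅Q, P⁆ ≤ Q ⊓ P) :
    P ≤ Subgroup.normalizer (Q : Set G) ∧ Q ≤ Subgroup.normalizer (P : Set G) :=
  ⟨Subgroup.le_normalizer_iff_commutator_le_left.2 (h.trans inf_le_left),
    Subgroup.le_normalizer_iff_commutator_le_right.2 (h.trans inf_le_right)⟩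

theorem commutator_le_inf {Q P : Subgroup G} (hP : P ≤ Subgroup.normalizer (Q : Set G))
    (hQ : Q ≤ Subgroup.normalizer (P : Set G)) : ⁅Q, P⁆ ≤ Q ⊓ P :=
  le_inf (Subgroup.le_normalizer_iff_commutator_le_left.1 hP)
    (Subgroup.le_normalizer_iff_commutator_le_right.1 hQ)

theorem isPGroup_sup {Q P : Subgroup G} (hQ : IsPGroup p Q) (hP : IsPGroup p P)
    (h : Q ≤ Subgroup.normalizer (P : Set G)) : IsPGroup p ↥(Q ⊔ P) :=
  hQ.to_sup_of_normal_right' hP h

variable [Finite G] [Fact p.Prime]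

/-- Two conjugates of a weakly closed subgroup inside one `p`-subgroup are equal. -/
theorem eq_of_le_pgroup {Q : Subgroup G} (hwc : IsWeaklyClosedSubgroup p Q) {R : Subgroup G}
    (hR : IsPGroup p R) {a b : G} (ha : Q ^ᶜ a ≤ R) (hb : Q ^ᶜ b ≤ R) : Q ^ᶜ a = Q ^ᶜ b := by
  obtain ⟨T, hQT, hT⟩ := hwc
  obtain ⟨T', hRT'⟩ := hR.exists_le_sylow
  obtain ⟨h, hh⟩ := (isSylowIn_of_sylow T' (L := ⊤) le_top).conjugate (isSylowIn_of_sylow T (L := ⊤) le_top)
  have key : ∀ c : G, Q ^ᶜ c ≤ R → Q ^ᶜ c = Q ^ᶜ h⁻¹ := by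
    intro c hc
    have h1 : Q ^ᶜ (h * c) ≤ (T : Subgroup G) := by
      rw [← map_conj_conj, hh.2]
      exact Subgroup.map_mono (hc.trans hRT')
    conv_rhs => rw [← hT (h * c) h1]
    rw [map_conj_conj, inv_mul_cancel_left]
  rw [key a ha, key b hb]

theorem eq_of_le_pgroup' {Q : Subgroup G} (hwc : IsWeaklyClosedSubgroup p Q) {R : Subgroup G}
    (hR : IsPGroup p R) (hQ : Q ≤ R) {a : G} (ha : Q ^ᶜ a ≤ R) : Q ^ᶜ a = Q := by
  have := eq_of_le_pgroup hwc hR ha (b := 1) (by rwa [map_conj_one])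
  rwa [map_conj_one] at this

theorem isPGroup_of_wc {Q : Subgroup G} (hwc : IsWeaklyClosedSubgroup p Q) : IsPGroup p Q :=
  let ⟨T, hQT, _⟩ := hwc
  T.2.to_le hQT

/-- `N(R) ≤ N(Q)` for a `p`-group `R ≥ Q`. -/
theorem normalizer_le {Q : Subgroup G} (hwc : IsWeaklyClosedSubgroup p Q) {R : Subgroup G}
    (hR : IsPGroup p R) (hQ : Q ≤ R) :
    Subgroup.normalizer (R : Set G) ≤ Subgroup.normalizer (Q : Set G) :=
  le_normalizer_of_map_conj fun g hg => eq_of_le_pgroup' hwc hR hQ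
    ((Subgroup.map_mono hQ).trans (map_conj_eq_iff.2 hg).le)

/-- The normalizer criterion. -/
theorem of_normalizer_le {Q : Subgroup G} (hQp : IsPGroup p Q)
    (h : ∀ R : Subgroup G, IsPGroup p R → Q ≤ R →
      Subgroup.normalizer (R : Set G) ≤ Subgroup.normalizer (Q : Set G)) :
    IsWeaklyClosedSubgroup p Q := by
  obtain ⟨T, hQT⟩ := hQp.exists_le_sylow
  refine ⟨T, hQT, fun g hg => ?_⟩
  -- `T` and `T^g⁻¹` are Sylow subgroups of `N(Q)`
  have hTN : (T : Subgroup G) ≤ Subgroup.normalizer (Q : Set G) :=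
    Subgroup.le_normalizer.trans (h _ T.2 hQT)
  have hT1 : IsSylowIn p (T : Subgroup G) (Subgroup.normalizer (Q : Set G)) := isSylowIn_of_sylow T hTN
  have hQ' : Q ≤ (T : Subgroup G) ^ᶜ g⁻¹ := by
    have := Subgroup.map_mono (f := (MulAut.conj g⁻¹).toMonoidHom) hg
    rwa [map_conj_conj, inv_mul_cancel, map_conj_one] at this
  have hT2 : IsSylowIn p ((T : Subgroup G) ^ᶜ g⁻¹) (Subgroup.normalizer (Q : Set G)) :=
    IsSylowIn.mono ((isSylowIn_of_sylow T (L := ⊤) le_top).map_conj g⁻¹)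
      (Subgroup.le_normalizer.trans (h _ (T.2.map _) hQ'))
      (fun x _ => ⟨g * x * g⁻¹, Subgroup.mem_top _, by simp [mul_assoc]⟩)
  obtain ⟨n, hn, he⟩ := hT1.conjugate hT2
  have h1 : g * n ∈ Subgroup.normalizer ((T : Subgroup G) : Set G) := by
    rw [← map_conj_eq_iff, ← map_conj_conj, ← he, map_conj_conj, mul_inv_cancel, map_conj_one]
  refine map_conj_eq_iff.2 ?_
  simpa using mul_mem (h _ T.2 hQT h1) (inv_mem hn)

/-- The criterion with mutually normalizing conjugates. -/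
theorem of_forall_conj {Q : Subgroup G} (hQp : IsPGroup p Q)
    (h : ∀ g : G, ⁅Q, Q ^ᶜ g⁆ ≤ Q ⊓ Q ^ᶜ g → Q ^ᶜ g = Q) : IsWeaklyClosedSubgroup p Q := by
  have hn : ∀ R : Subgroup G, IsPGroup p R → Q ≤ R → R ≤ Subgroup.normalizer (Q : Set G) := by
    intro R hR hQ
    by_contra hle
    set N := R ⊓ Subgroup.normalizer (Q : Set G)
    have hlt : N.subgroupOf R < ⊤ := lt_top_iff_ne_top.2 fun he =>
      hle fun x hx => ((SetLike.ext_iff.1 he ⟨x, hx⟩).2 (Subgroup.mem_top _) : x ∈ N).2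
    haveI := hR.isNilpotent
    obtain ⟨u, hu, hu'⟩ := SetLike.exists_of_lt (Group.normalizerCondition_of_isNilpotent _ hlt)
    refine hu' (?_ : (u : G) ∈ N)
    have hNu : (u : G) ∈ Subgroup.normalizer (N : Set G) := by
      rw [← map_conj_eq_iff]
      refine Subgroup.eq_of_le_of_card_ge ?_
        (Nat.card_congr (N.equivMapOfInjective _ (MulAut.conj (u : G)).injective).toEquiv).le
      rintro _ ⟨x, hx, rfl⟩
      exact (Subgroup.mem_normalizer_iff.1 hu ⟨x, hx.1⟩).1 hx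
    have hQN : Q ≤ N := le_inf hQ Subgroup.le_normalizer
    have hQuN : Q ^ᶜ (u : G) ≤ N := (Subgroup.map_mono hQN).trans (map_conj_eq_iff.2 hNu).le
    refine ⟨u.2, map_conj_eq_iff.1 (h u (commutator_le_inf (hQuN.trans inf_le_right) ?_))⟩
    refine (hQN.trans ((map_conj_eq_iff.2 hNu).ge.trans ?_))
    exact le_normalizer_map inf_le_right
  refine of_normalizer_le hQp fun R hR hQR => le_normalizer_of_map_conj fun g hg => ?_
  have hgR := map_conj_eq_iff.2 hg
  refine h g (commutator_le_inf (((Subgroup.map_mono hQR).trans hgR.le).trans (hn R hR hQR)) ?_)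
  refine (hQR.trans hgR.ge).trans ?_
  exact le_normalizer_map (hn R hR hQR)

/-- Weakly closed subgroups: mutually normalizing conjugates coincide. -/
theorem eq_of_commutator_le {Q : Subgroup G} (hwc : IsWeaklyClosedSubgroup p Q) {g : G}
    (h : ⁅Q, Q ^ᶜ g⁆ ≤ Q ⊓ Q ^ᶜ g) : Q ^ᶜ g = Q :=
  eq_of_le_pgroup' hwc (isPGroup_sup (isPGroup_of_wc hwc) ((isPGroup_of_wc hwc).map _) (mutual_normalizer h).2)
    le_sup_left le_sup_right

/-- Conjugates of `Q` inside `K` are conjugate in `K`. -/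
theorem exists_conj_in {Q : Subgroup G} (hwc : IsWeaklyClosedSubgroup p Q) {K : Subgroup G} (hQK : Q ≤ K)
    {g : G} (hg : Q ^ᶜ g ≤ K) : ∃ k ∈ K, Q ^ᶜ g = Q ^ᶜ k := by
  obtain ⟨P, hP, hQP⟩ := exists_isSylowIn (p := p) K hQK (isPGroup_of_wc hwc)
  obtain ⟨P', hP', hgP'⟩ := exists_isSylowIn (p := p) K hg ((isPGroup_of_wc hwc).map _)
  obtain ⟨k, hk, he⟩ := hP.conjugate hP'
  exact ⟨k, hk, eq_of_le_pgroup hwc hP'.2.1 hgP' (he ▸ Subgroup.map_mono hQP)⟩

/-- For a nontrivial large `p`-subgroup `Q`, normalizers of overlying `p`-groups normalize `Q`. -/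
theorem normalizer_le_of_large {Q : Subgroup G} (hL : IsLarge Q) (hQ1 : Q ≠ ⊥) {R : Subgroup G}
    (hR : IsPGroup p R) (hQR : Q ≤ R) :
    Subgroup.normalizer (R : Set G) ≤ Subgroup.normalizer (Q : Set G) := by
  set Z := R ⊓ Subgroup.centralizer (R : Set G)
  have hZ : Z ≠ ⊥ := by
    intro he
    haveI : Nontrivial R := (Subgroup.nontrivial_iff_ne_bot R).2 fun hb => hQ1 (le_bot_iff.1 (hb ▸ hQR))
    haveI := hR.center_nontrivial
    obtain ⟨⟨z, hz⟩, hne⟩ := exists_ne (1 : Subgroup.center R)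
    have : (z : G) ∈ Z := ⟨z.2, Subgroup.mem_centralizer_iff.2 fun y hy =>
      congrArg Subtype.val (Subgroup.mem_center_iff.1 hz ⟨y, hy⟩)⟩
    rw [he, Subgroup.mem_bot] at this
    exact hne (Subtype.ext (Subtype.ext this))
  exact (normalizer_inf_centralizer le_rfl).trans
    (hL.2 Z (inf_le_right.trans (Subgroup.centralizer_le hQR)) hZ)

theorem isWeaklyClosedSubgroup_of_large {Q : Subgroup G} (hQp : IsPGroup p Q) (hQ1 : Q ≠ ⊥)
    (hL : IsLarge Q) : IsWeaklyClosedSubgroup p Q :=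
  of_normalizer_le hQp fun _ hR hQR => normalizer_le_of_large hL hQ1 hR hQR

/-- Distinct conjugates of a large subgroup have centralizers meeting trivially. -/
theorem centralizer_inf_eq_bot {Q : Subgroup G} (hQp : IsPGroup p Q) (hL : IsLarge Q) {g : G}
    (hg : g ∉ Subgroup.normalizer (Q : Set G)) :
    Subgroup.centralizer (Q : Set G) ⊓ Subgroup.centralizer ((Q ^ᶜ g : Subgroup G) : Set G) = ⊥ := by
  set U := Subgroup.centralizer (Q : Set G) ⊓ Subgroup.centralizer ((Q ^ᶜ g : Subgroup G) : Set G)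
  by_contra hU
  have hQ1 : Q ≠ ⊥ := fun h => hg (by
    rw [← map_conj_eq_iff, h, Subgroup.map_bot])
  have h1 : Q ^ᶜ g ≤ Subgroup.normalizer (Q : Set G) :=
    ((Subgroup.le_centralizer_iff.1 inf_le_right).trans (Subgroup.centralizer_le_normalizer _)).trans
      (hL.2 U inf_le_left hU)
  -- the same for `Q^g`
  have hU' : U ^ᶜ g⁻¹ ≠ ⊥ := by
    rwa [ne_eq, Subgroup.map_eq_bot_iff_of_injective _ (MulAut.conj g⁻¹).injective]
  have hUc : U ^ᶜ g⁻¹ ≤ Subgroup.centralizer (Q : Set G) := by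
    refine (Subgroup.map_mono (inf_le_right : U ≤ _)).trans ?_
    rw [← centralizer_map_conj, map_conj_conj, inv_mul_cancel, map_conj_one]
  have h2 := hL.2 _ hUc hU'
  have h3 : Q ^ᶜ g⁻¹ ≤ Subgroup.normalizer (Q : Set G) := by
    refine le_trans ?_ h2
    rw [normalizer_map_conj]
    exact Subgroup.map_mono ((Subgroup.le_centralizer_iff.1 inf_le_left).trans
      (Subgroup.centralizer_le_normalizer _))
  have h4 : Q ≤ Subgroup.normalizer ((Q ^ᶜ g : Subgroup G) : Set G) := by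
    have := le_normalizer_map (g := g) h3
    rwa [map_conj_conj, mul_inv_cancel, map_conj_one] at this
  exact hg (map_conj_eq_iff.1 (eq_of_commutator_le (isWeaklyClosedSubgroup_of_large hQp hQ1 hL)
    (commutator_le_inf h1 h4)))

end CfsgLib.LocalEven.WeakClosure
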