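/-
Weakly closed and large p-subgroups against p-local subgroups: centralizers of `O_p` are p-groups.
-/
import Cfsg.Agent.Lib.LocalEven.WeakClosure
import Cfsg.Agent.Lib.LocalEven.Commutators
import Cfsg.Agent.Lib.LocalEvenB.CharP

set_option autoImplicit false

open scoped commutatorElement

namespace CfsgLib.LocalEven.Large

open Cfsg CfsgLib.LocalEven.SylowIn CfsgLib.LocalEven.PReduced CfsgLib.LocalEven.WeakClosure

variable {G : Type*} [Group G] [Finite G] {p : ℕ} [Fact p.Prime]

/-- In a group `K` of characteristic `p`, a subgroup over a weakly closed `Q` with `C(Q) ≤ Q` has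
characteristic `p`. -/
theorem charP_over {Q K L : Subgroup G} (hwc : IsWeaklyClosedSubgroup p Q)
    (hCQ : Subgroup.centralizer (Q : Set G) ≤ Q)
    (hK : Subgroup.centralizer (pCore p K : Set K) ≤ pCore p K) (hQL : Q ≤ L) (hLK : L ≤ K) :
    L ⊓ Subgroup.centralizer (pCoreOf p L : Set G) ≤ pCoreOf p L := by
  obtain ⟨T, hT, hQT⟩ := exists_isSylowIn (p := p) K (hQL.trans hLK) (isPGroup_of_wc hwc)
  have hTn : T ≤ Subgroup.normalizer (Q : Set G) := Subgroup.le_normalizer.trans (normalizer_le hwc hT.2.1 hQT)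
  have h : Subgroup.centralizer (pCore p ↥(L.subgroupOf K) : Set ↥(L.subgroupOf K)) ≤ pCore p ↥(L.subgroupOf K) := by
    refine LocalEvenB.CharP.charP_of_ge hK hT.toSylow (Q := Q.subgroupOf K) (fun x hx => hQT hx)
      (fun t ht => ?_) (fun x hx => ?_) _ (fun x hx => hQL hx)
    · exact Subgroup.mem_normalizer_iff.2 fun y => Subgroup.mem_normalizer_iff.1 (hTn ht) y
    · exact hCQ fun q hq => congrArg Subtype.val (hx.2 (⟨q, hLK (hQL hq)⟩ : K) hq)
  exact (charP_iff L).1 (LocalEvenB.CharP.charP_congr (Subgroup.subgroupOfEquivOfLe hLK) h)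

/-- The main lemma: `D = C(O_p(L))` is a `p`-group and `[Q, D] ≤ Q ∩ O_p(L)`. -/
theorem centralizer_pCoreOf {Q K L : Subgroup G} (hwc : IsWeaklyClosedSubgroup p Q)
    (hCQ : Subgroup.centralizer (Q : Set G) ≤ Q)
    (hK : Subgroup.centralizer (pCore p K : Set K) ≤ pCore p K) (hQL : Q ≤ L) (hQK : Q ≤ K)
    (hDK : Subgroup.centralizer (pCoreOf p L : Set G) ≤ K) :
    ⁅Q, Subgroup.centralizer (pCoreOf p L : Set G)⁆ ≤ Q ⊓ pCoreOf p L ∧
      IsPGroup p (Subgroup.centralizer (pCoreOf p L : Set G)) ∧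
      L ⊓ Subgroup.centralizer (pCoreOf p L : Set G) ≤ pCoreOf p L := by
  set O := pCoreOf p L
  set D := Subgroup.centralizer (O : Set G)
  have hLO : L ≤ Subgroup.normalizer (O : Set G) := normalizer_pCoreOf L
  have hLD : L ≤ Subgroup.normalizer (D : Set G) := normalizer_centralizer hLO
  have hQD : Q ≤ Subgroup.normalizer (D : Set G) := hQL.trans hLD
  have hQp := isPGroup_of_wc hwc
  have cop : ∀ {R : Subgroup G}, IsPGroup p R → ∀ x : G, (orderOf x).Coprime p → (orderOf x).Coprime (Nat.card R) :=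
    fun hR _ hx => CfsgLib.LocalEven.Residual.mem_of_coprime_card hR hx
  -- `C_L(O) ≤ O`
  have hM : L ⊓ D ≤ O := by
    set L₁ := L ⊓ K
    have hc := (charP_iff L₁).2 (charP_over hwc hCQ hK (le_inf hQL hQK) inf_le_right)
    have hML : L ⊓ D ≤ L₁ := inf_le_inf_left _ hDK
    have hMn : L ≤ Subgroup.normalizer ((L ⊓ D : Subgroup G) : Set G) :=
      normalizer_inf Subgroup.le_normalizer hLD
    haveI : ((L ⊓ D).subgroupOf L₁).Normal :=
      (Subgroup.normal_subgroupOf_iff_le_normalizer hML).2 (inf_le_left.trans hMn)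
    have hcM := (charP_iff (L ⊓ D)).1 (LocalEvenB.CharP.charP_congr (Subgroup.subgroupOfEquivOfLe hML)
      (LocalEvenB.CharP.charP_of_subnormal hc (Subgroup.Normal.isSubnormal inferInstance)))
    have h1 : pCoreOf p (L ⊓ D) ≤ O := by
      refine SylowIn.le_pCoreOf ((pCoreOf_le _).trans inf_le_left) ?_ (isPGroup_pCoreOf _)
      refine le_normalizer_of_map_conj fun g hg => ?_
      rw [pCoreOf_map_conj, map_conj_eq_iff.2 (hMn hg)]
    exact ((le_inf le_rfl (inf_le_right.trans (Subgroup.centralizer_le h1))).trans hcM).trans h1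
  set E := pCoreOf p D
  have hEp : IsPGroup p E := isPGroup_pCoreOf D
  have hDE : D ≤ Subgroup.normalizer (E : Set G) := normalizer_pCoreOf D
  have hQE : Q ≤ Subgroup.normalizer (E : Set G) := le_normalizer_of_map_conj fun g hg => by
    rw [pCoreOf_map_conj, map_conj_eq_iff.2 (hQD hg)]
  have hdown : ∀ R : Subgroup G, IsPGroup p R → Q ≤ Subgroup.normalizer (R : Set G) →
      R ≤ Subgroup.normalizer (Q : Set G) := fun R hR hQR =>
    (le_sup_right.trans Subgroup.le_normalizer).trans (normalizer_le hwc (isPGroup_sup hQp hR hQR) le_sup_left)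
  have hQEO : ⁅E, Q⁆ ≤ O := by
    refine le_trans (le_inf ?_ ?_) hM
    · exact ((Subgroup.le_normalizer_iff_commutator_le_right.1 (hdown E hEp hQE))).trans hQL
    · exact (Subgroup.le_normalizer_iff_commutator_le_left.1 hQE).trans (pCoreOf_le D)
  set Z := E ⊓ O
  have hQEZ : ⁅E, Q⁆ ≤ Z := le_inf (Subgroup.le_normalizer_iff_commutator_le_left.1 hQE) hQEO
  have hDO : D ≤ Subgroup.normalizer (O : Set G) := Subgroup.centralizer_le_normalizer _
  have h3 : ⁅⁅Q, D⁆, E⁆ ≤ Z := by
    refine Commutators.three_subgroup_mod (normalizer_inf hQE (hQL.trans hLO)) (normalizer_inf hDE hDO)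
      (normalizer_inf Subgroup.le_normalizer ((pCoreOf_le D).trans hDO)) ?_ ?_
    · exact (Subgroup.commutator_mono ((Subgroup.commutator_comm D E).le.trans
        (Subgroup.le_normalizer_iff_commutator_le_left.1 hDE)) le_rfl).trans hQEZ
    · refine le_trans ?_ bot_le
      rw [le_bot_iff, Subgroup.commutator_eq_bot_iff_le_centralizer]
      exact hQEO.trans (Subgroup.le_centralizer_iff.1 le_rfl)
  set X := ⁅Q, D⁆
  have hXD : X ≤ D := Subgroup.le_normalizer_iff_commutator_le_right.1 hQD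
  set L' := Q ⊔ D
  have hL' : L' ⊓ Subgroup.centralizer (pCoreOf p L' : Set G) ≤ pCoreOf p L' :=
    charP_over hwc hCQ hK le_sup_left (sup_le hQK hDK)
  set O' := pCoreOf p L'
  have hO'n : D ≤ Subgroup.normalizer (O' : Set G) := le_sup_right.trans (normalizer_pCoreOf L')
  have hO'E : O' ⊓ D ≤ E := SylowIn.le_pCoreOf inf_le_right
    (normalizer_inf hO'n Subgroup.le_normalizer) ((isPGroup_pCoreOf L').to_le inf_le_left)
  have hO'D : O' ≤ Subgroup.normalizer (D : Set G) :=
    (pCoreOf_le L').trans (sup_le hQD Subgroup.le_normalizer)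
  have hXp : IsPGroup p X := by
    refine CfsgLib.LocalEven.Residual.isPGroup_of_forall_coprime fun x hx hc => ?_
    have hxE : x ∈ Subgroup.centralizer (E : Set G) := Subgroup.mem_centralizer_iff.2 fun e he =>
      (CfsgLib.Coprime.commute_of_stabilizes (N := Z) (cop (hEp.to_le inf_le_left) x hc)
        (Subgroup.centralizer_le inf_le_right (hXD hx))
        (h3 (Subgroup.commutator_mem_commutator hx he))).eq.symm
    have hxO' : x ∈ Subgroup.centralizer (O' : Set G) := Subgroup.mem_centralizer_iff.2 fun r hr =>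
      (CfsgLib.Coprime.commute_of_stabilizes (N := E) (cop hEp x hc) hxE
        (hO'E ⟨Subgroup.le_normalizer_iff_commutator_le_right.1 hO'n (Subgroup.commutator_mem_commutator (hXD hx) hr),
          Subgroup.le_normalizer_iff_commutator_le_left.1 hO'D (Subgroup.commutator_mem_commutator (hXD hx) hr)⟩)).eq.symm
    exact eq_one_of_coprime_of_isPGroup (isPGroup_pCoreOf L') (hL' ⟨Subgroup.mem_sup_right (hXD hx), hxO'⟩) hc
  have hDQ : D ≤ Subgroup.normalizer (Q : Set G) := by
    have hQX : Q ≤ Subgroup.normalizer (X : Set G) := Commutators.normalizer_commutator_left Q D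
    refine le_trans ?_ (normalizer_le hwc (isPGroup_sup hQp hXp hQX) le_sup_left)
    refine le_normalizer_of_map_conj fun d hd => Subgroup.eq_of_le_of_card_ge ?_
      (Nat.card_congr ((Q ⊔ X).equivMapOfInjective _ (MulAut.conj d).injective).toEquiv).le
    rw [Subgroup.map_sup, sup_le_iff]
    refine ⟨?_, le_trans (map_conj_eq_iff.2 (Commutators.normalizer_commutator_right Q D hd)).le le_sup_right⟩
    rintro _ ⟨q, hq, rfl⟩
    show d * q * d⁻¹ ∈ Q ⊔ X
    rw [show d * q * d⁻¹ = ⁅d, q⁆ * q by simp only [commutatorElement_def]; group]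
    exact mul_mem (Subgroup.mem_sup_right
      ((Subgroup.commutator_comm D Q).le (Subgroup.commutator_mem_commutator hd hq))) (Subgroup.mem_sup_left hq)
  have hfinal : X ≤ Q ⊓ O :=
    le_inf (Subgroup.le_normalizer_iff_commutator_le_left.1 hDQ)
      ((le_inf ((Subgroup.le_normalizer_iff_commutator_le_left.1 hDQ).trans hQL) hXD).trans hM)
  refine ⟨hfinal, CfsgLib.LocalEven.Residual.isPGroup_of_forall_coprime fun x hx hc => ?_, hM⟩
  have hxQ : x ∈ Subgroup.centralizer (Q : Set G) := Subgroup.mem_centralizer_iff.2 fun q hq =>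
    (CfsgLib.Coprime.commute_of_stabilizes (N := Q ⊓ O) (cop (hQp.to_le inf_le_left) x hc)
      (Subgroup.centralizer_le inf_le_right hx)
      (hfinal ((Subgroup.commutator_comm D Q).le (Subgroup.commutator_mem_commutator hx hq)))).eq.symm
  exact eq_one_of_coprime_of_isPGroup hQp (hCQ hxQ) hc

theorem isLarge_map {Q : Subgroup G} (hL : IsLarge Q) (g : G) :
    IsLarge (Q.map (MulAut.conj g).toMonoidHom) := by
  refine ⟨by rw [centralizer_map_conj]; exact Subgroup.map_mono hL.1, fun U hU hne => ?_⟩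
  rw [centralizer_map_conj] at hU
  have hU' : U.map (MulAut.conj g⁻¹).toMonoidHom ≤ Subgroup.centralizer (Q : Set G) := by
    have := Subgroup.map_mono (f := (MulAut.conj g⁻¹).toMonoidHom) hU
    rwa [map_conj_conj, inv_mul_cancel, map_conj_one] at this
  have h := hL.2 _ hU' (by rwa [ne_eq, Subgroup.map_eq_bot_iff_of_injective _ (MulAut.conj g⁻¹).injective])
  rw [normalizer_map_conj] at h
  have := Subgroup.map_mono (f := (MulAut.conj g).toMonoidHom) h
  rwa [map_conj_conj, mul_inv_cancel, map_conj_one, ← normalizer_map_conj] at this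

omit [Fact p.Prime] in
/-- A nontrivial `p`-group normalised by a `p`-group `Q` meets `C(Q)`. -/
theorem exists_fixed [Fact p.Prime] {Q Y : Subgroup G} (hQ : IsPGroup p Q) (hY : IsPGroup p Y) (hY1 : Y ≠ ⊥)
    (hQY : Q ≤ Subgroup.normalizer (Y : Set G)) :
    ∃ y ∈ Y ⊓ Subgroup.centralizer (Q : Set G), y ≠ 1 := by
  obtain ⟨M, hMY, ⟨hM0, hMn, -⟩, hmin⟩ := Finite.exists_le_minimal
    (p := fun M : Subgroup G => M ≠ ⊥ ∧ Q ≤ Subgroup.normalizer (M : Set G) ∧ M ≤ Y) (a := Y) ⟨hY1, hQY, le_rfl⟩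
  have hlt := CfsgLib.Coprime.commutator_lt_of_isPGroup hQ (hY.to_le hMY) hMn hM0
  have hMQ : ⁅M, Q⁆ = ⊥ := by_contra fun h => hlt.not_ge
    (hmin ⟨h, normalizer_commutator hMn Subgroup.le_normalizer, hlt.le.trans hMY⟩ hlt.le)
  obtain ⟨m, hm, hm1⟩ := (Subgroup.bot_or_exists_ne_one M).resolve_left hM0
  exact ⟨m, ⟨hMY hm, Subgroup.commutator_eq_bot_iff_le_centralizer.1 hMQ hm⟩, hm1⟩

/-- `C(Y) ≤ N(Q)` for a large `Q` normalising the nontrivial `p`-group `Y`. -/
theorem centralizer_le_normalizer {Q Y : Subgroup G} (hQ : IsPGroup p Q) (hL : IsLarge Q)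
    (hY : IsPGroup p Y) (hY1 : Y ≠ ⊥) (hQY : Q ≤ Subgroup.normalizer (Y : Set G)) :
    Subgroup.centralizer (Y : Set G) ≤ Subgroup.normalizer (Q : Set G) := by
  obtain ⟨y, hy, hy1⟩ := exists_fixed hQ hY hY1 hQY
  refine le_trans ?_ (hL.2 (Subgroup.zpowers y) (Subgroup.zpowers_le.2 hy.2) (by simpa using hy1))
  refine le_trans (Subgroup.centralizer_le ?_) (Subgroup.centralizer_le_normalizer _)
  exact Subgroup.zpowers_le.2 hy.1

theorem pCore_ne_bot_iff {L : Subgroup G} : pCore p L ≠ ⊥ ↔ pCoreOf p L ≠ ⊥ := by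
  rw [ne_eq, ne_eq, pCoreOf, Subgroup.map_eq_bot_iff_of_injective _ L.subtype_injective]

/-- A subgroup with nontrivial `O_p` over a large subgroup: characteristic `p`. -/
theorem centralizer_pCoreOf_of_large {Q L : Subgroup G} (hQp : IsPGroup p Q) (hQ1 : Q ≠ ⊥) (hL : IsLarge Q)
    (hQL : Q ≤ L) (hO : pCoreOf p L ≠ ⊥) :
    IsPGroup p (Subgroup.centralizer (pCoreOf p L : Set G)) ∧
      L ⊓ Subgroup.centralizer (pCoreOf p L : Set G) ≤ pCoreOf p L := by
  set N := Subgroup.normalizer (Q : Set G)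
  have hN : Subgroup.centralizer (pCore p N : Set N) ≤ pCore p N :=
    (charP_iff N).2 (by
      have hQO : Q ≤ pCoreOf p N := SylowIn.le_pCoreOf Subgroup.le_normalizer le_rfl hQp
      exact inf_le_right.trans (((Subgroup.centralizer_le hQO).trans hL.1).trans hQO))
  exact (centralizer_pCoreOf (isWeaklyClosedSubgroup_of_large hQp hQ1 hL) hL.1 hN hQL Subgroup.le_normalizer
    (centralizer_le_normalizer hQp hL (isPGroup_pCoreOf L) hO (hQL.trans (normalizer_pCoreOf L)))).2

end CfsgLib.LocalEven.Large
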