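/-
The Sylow 2-subgroups of the alternating group of degree eight are self-normalizing.
-/
import Mathlib.GroupTheory.SpecificGroups.Alternating
import Mathlib.GroupTheory.Sylow

set_option autoImplicit false
set_option maxRecDepth 40000

namespace CfsgLib.LocalEven.AltEightSylow

abbrev Pt : Type := Fin 4 × Bool

/-- Every Sylow 2-subgroup is self-normalizing. -/
def SelfNorm (X : Type*) [Group X] : Prop :=
  ∀ Q : Sylow 2 X, ∀ x ∈ Subgroup.normalizer ((Q : Subgroup X) : Set X), x ∈ (Q : Subgroup X)

theorem selfNorm_of {X : Type*} [Group X] [Finite X] (Q : Sylow 2 X)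
    (h : ∀ x ∈ Subgroup.normalizer ((Q : Subgroup X) : Set X), x ∈ (Q : Subgroup X)) : SelfNorm X := by
  intro R x hx
  obtain ⟨g, rfl⟩ := MulAction.exists_smul_eq X Q R
  rw [Sylow.coe_subgroup_smul] at hx ⊢
  refine Subgroup.mem_pointwise_smul_iff_inv_smul_mem.2 (h _ ?_)
  rw [Subgroup.mem_normalizer_iff] at hx ⊢
  intro q
  have h1 := hx (MulAut.conj g q)
  rw [Subgroup.mem_pointwise_smul_iff_inv_smul_mem, Subgroup.mem_pointwise_smul_iff_inv_smul_mem] at h1
  simpa [MulAut.smul_def, mul_assoc] using h1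

theorem SelfNorm.congr {X Y : Type*} [Group X] [Group Y] [Finite X] (e : X ≃* Y) (h : SelfNorm X) :
    SelfNorm Y := by
  haveI : Finite Y := Finite.of_equiv X e.toEquiv
  obtain ⟨Q⟩ : Nonempty (Sylow 2 X) := inferInstance
  refine selfNorm_of (Q.mapSurjective (f := e.toMonoidHom) e.surjective) fun y hy => ?_
  obtain ⟨x, rfl⟩ := e.surjective y
  refine ⟨x, h Q x (Subgroup.mem_normalizer_iff.2 fun q => ?_), rfl⟩
  have h1 := Subgroup.mem_normalizer_iff.1 hy (e q)
  rw [← map_mul, ← map_inv, ← map_mul] at h1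
  have key : ∀ w : X, w ∈ (Q : Subgroup X) ↔ e w ∈ ((Q.mapSurjective (f := e.toMonoidHom) e.surjective : Sylow 2 Y) : Subgroup Y) :=
    fun w => (Subgroup.mem_map_iff_mem e.injective).symm
  rwa [key, key]

/-- The element with pairs permuted by `σ` and flipped by `ε`. -/
def el (x : Equiv.Perm (Fin 4) × (Fin 4 → Bool)) : Equiv.Perm Pt where
  toFun q := (x.1 q.1, xor q.2 (x.2 q.1))
  invFun q := (x.1.symm q.1, xor q.2 (x.2 (x.1.symm q.1)))
  left_inv q := by simp
  right_inv q := by simp

def flip : Equiv.Perm Pt := el (1, fun _ => true)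

def InP (g : Equiv.Perm Pt) : Prop :=
  (∀ q, g (flip q) = flip (g q)) ∧ ∀ q q' : Pt, q.1.val / 2 = q'.1.val / 2 ↔ (g q).1.val / 2 = (g q').1.val / 2

instance (g : Equiv.Perm Pt) : Decidable (InP g) := by unfold InP; infer_instance

def P : Subgroup (Equiv.Perm Pt) where
  carrier := {g | InP g}
  one_mem' := ⟨fun _ => rfl, fun _ _ => Iff.rfl⟩
  mul_mem' := fun {a b} ha hb => ⟨fun q => by
    rw [Equiv.Perm.mul_apply, Equiv.Perm.mul_apply, hb.1, ha.1], fun q q' => (hb.2 q q').trans (ha.2 (b q) (b q'))⟩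
  inv_mem' := fun {a} ha => ⟨fun q => a.injective (by
    rw [ha.1]; simp), fun q q' => by
    have := ha.2 (a⁻¹ q) (a⁻¹ q')
    simpa using this.symm⟩

theorem exists_el (g : Equiv.Perm Pt) (h : ∀ q, g (flip q) = flip (g q)) : ∃ x, el x = g := by
  have hf : ∀ i, g (i, true) = ((g (i, false)).1, !(g (i, false)).2) := fun i => by
    have := h (i, false)
    simpa [flip, el] using this
  have hinj : Function.Injective fun i => (g (i, false)).1 := fun i j hij => by
    rcases hi : (g (i, false)) with ⟨a, c⟩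
    rcases hj : (g (j, false)) with ⟨a', c'⟩
    simp only [hi, hj] at hij
    subst hij
    by_cases hc : c = c'
    · subst hc
      exact (Prod.ext_iff.1 (g.injective (hi.trans hj.symm))).1
    · have : g (i, true) = g (j, false) := by
        rw [hf, hi, hj]; cases c <;> cases c' <;> first | rfl | exact absurd rfl hc
      exact (Prod.ext_iff.1 (g.injective this)).1
  refine ⟨(Equiv.ofBijective _ ((Finite.injective_iff_bijective).1 hinj), fun i => (g (i, false)).2),
    Equiv.ext fun q => ?_⟩
  obtain ⟨i, b⟩ := q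
  cases b
  · simp [el]
  · simp [el, hf]

theorem el_injective : Function.Injective el := by
  intro x y h
  refine Prod.ext (Equiv.ext fun i => ?_) (funext fun i => ?_)
  · exact congrArg Prod.fst (Equiv.congr_fun h (i, false))
  · simpa [el] using congrArg Prod.snd (Equiv.congr_fun h (i, false))

theorem card_filter : (Finset.univ.filter fun x => InP (el x)).card = 128 := by decide +kernel

theorem card_P : Nat.card P = 128 := by
  classical
  rw [← card_filter, ← Fintype.card_subtype, ← Nat.card_eq_fintype_card]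
  refine (Nat.card_congr (Equiv.ofBijective
    (fun x : {x // InP (el x)} => (⟨el x.1, x.2⟩ : P)) ⟨fun a b h => Subtype.ext (el_injective
      (congrArg Subtype.val h)), fun g => ?_⟩)).symm
  obtain ⟨x, hx⟩ := exists_el g g.2.1
  exact ⟨⟨x, hx ▸ g.2⟩, Subtype.ext hx⟩

def t₁ : Equiv.Perm Pt := el (1, ![true, true, false, false])
def t₂ : Equiv.Perm Pt := el (Equiv.swap 0 1, fun _ => false)
def t₃ : Equiv.Perm Pt := el (Equiv.swap 0 2 * Equiv.swap 1 3, fun _ => false)
def t₄ : Equiv.Perm Pt := el (1, ![true, false, true, false])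

theorem gens_mem : ∀ t ∈ [t₁, t₂, t₃, t₄, flip], InP t ∧ Equiv.Perm.sign t = 1 := by
  have h₁ : InP t₁ := by decide +kernel
  have h₂ : InP t₂ := by decide +kernel
  have h₃ : InP t₃ := by decide +kernel
  have h₄ : InP t₄ := by decide +kernel
  have h₅ : InP flip := by decide +kernel
  intro t ht
  have e₁ : t₁ = Equiv.swap (0, false) (0, true) * Equiv.swap (1, false) (1, true) := by decide +kernel
  have e₂ : t₂ = Equiv.swap (0, false) (1, false) * Equiv.swap (0, true) (1, true) := by decide +kernel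
  have e₃ : t₃ = Equiv.swap (0, false) (2, false) * Equiv.swap (0, true) (2, true) *
      (Equiv.swap (1, false) (3, false) * Equiv.swap (1, true) (3, true)) := by decide +kernel
  have e₄ : t₄ = Equiv.swap (0, false) (0, true) * Equiv.swap (2, false) (2, true) := by decide +kernel
  have e₅ : flip = Equiv.swap (0, false) (0, true) * Equiv.swap (1, false) (1, true) *
      (Equiv.swap (2, false) (2, true) * Equiv.swap (3, false) (3, true)) := by decide +kernel
  simp only [List.mem_cons, List.not_mem_nil, or_false] at ht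
  rcases ht with h | h | h | h | h <;> subst h <;> refine ⟨by assumption, ?_⟩
  · rw [e₁, map_mul, Equiv.Perm.sign_swap (by decide), Equiv.Perm.sign_swap (by decide)]; rfl
  · rw [e₂, map_mul, Equiv.Perm.sign_swap (by decide), Equiv.Perm.sign_swap (by decide)]; rfl
  · rw [e₃, map_mul, map_mul, map_mul, Equiv.Perm.sign_swap (by decide), Equiv.Perm.sign_swap (by decide),
      Equiv.Perm.sign_swap (by decide), Equiv.Perm.sign_swap (by decide)]; rfl
  · rw [e₄, map_mul, Equiv.Perm.sign_swap (by decide), Equiv.Perm.sign_swap (by decide)]; rfl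
  · rw [e₅, map_mul, map_mul, map_mul, Equiv.Perm.sign_swap (by decide), Equiv.Perm.sign_swap (by decide),
      Equiv.Perm.sign_swap (by decide), Equiv.Perm.sign_swap (by decide)]; rfl

theorem central : ∀ x, (∀ q, el x (t₁ q) = t₁ (el x q)) → (∀ q, el x (t₂ q) = t₂ (el x q)) →
    (∀ q, el x (t₃ q) = t₃ (el x q)) → (∀ q, el x (t₄ q) = t₄ (el x q)) →
    (∀ q, el x q = q) ∨ ∀ q, el x q = flip q := by
  decide +kernel

theorem normal : ∀ x, InP (el x * t₁ * (el x)⁻¹) → InP (el x * t₂ * (el x)⁻¹) →
    InP (el x * t₃ * (el x)⁻¹) → InP (el x * t₄ * (el x)⁻¹) → InP (el x) := by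
  decide +kernel

theorem selfNorm : SelfNorm (alternatingGroup Pt) := by
  set A := alternatingGroup Pt
  set T := P.subgroupOf A
  have hT : Nat.card T = 64 := by
    have h2 : (Equiv.Perm.sign.comp P.subtype).range = ⊤ := by
      refine eq_top_iff.2 fun u _ => ?_
      rcases Int.units_eq_one_or u with rfl | rfl
      · exact one_mem _
      · exact ⟨⟨el (1, ![true, false, false, false]), (by decide +kernel : InP _)⟩, (by
          rw [show el (1, ![true, false, false, false]) = Equiv.swap ((0 : Fin 4), false) (0, true) by decide +kernel]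
          exact Equiv.Perm.sign_swap (by decide) :
          Equiv.Perm.sign (el (1, ![true, false, false, false])) = -1)⟩
    have h3 := (Equiv.Perm.sign.comp P.subtype).ker.card_mul_index
    rw [Subgroup.index_ker, h2, Subgroup.card_top, card_P, Nat.card_eq_fintype_card (α := ℤˣ), Fintype.card_units_int] at h3
    have e : (Equiv.Perm.sign.comp P.subtype).ker = A.subgroupOf P := by ext; rfl
    rw [e] at h3
    have h4 : Nat.card T = Nat.card (A.subgroupOf P) := Nat.card_congr
      ⟨fun g => ⟨⟨g.1.1, g.2⟩, g.1.2⟩, fun g => ⟨⟨g.1.1, g.2⟩, g.1.2⟩, fun _ => rfl, fun _ => rfl⟩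
    omega
  have hTp : IsPGroup 2 T := IsPGroup.of_card (n := 6) (by rw [hT]; rfl)
  have hidx : ¬ 2 ∣ T.index := by
    have h := T.card_mul_index
    rw [hT, show Nat.card A = 20160 by rw [Nat.card_eq_fintype_card, card_alternatingGroup]; rfl] at h
    omega
  refine selfNorm_of (hTp.toSylow hidx) fun x hx => ?_
  set g := (x : Equiv.Perm Pt)
  have hconj : ∀ t : Equiv.Perm Pt, InP t → Equiv.Perm.sign t = 1 → InP (g * t * g⁻¹) := fun t h1 h2 =>
    (Subgroup.mem_normalizer_iff.1 hx ⟨t, Equiv.Perm.mem_alternatingGroup.2 h2⟩).1 h1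
  have hconj' : ∀ t : Equiv.Perm Pt, InP t → Equiv.Perm.sign t = 1 → InP (g⁻¹ * t * g) := fun t h1 h2 => by
    have := (Subgroup.mem_normalizer_iff.1 (inv_mem hx) ⟨t, Equiv.Perm.mem_alternatingGroup.2 h2⟩).1 h1
    rw [inv_inv] at this
    exact this
  obtain ⟨hflip, hsflip⟩ := gens_mem flip (by simp)
  -- `g` fixes the central involution
  have hz : ∀ q, g (flip q) = flip (g q) := by
    set w := g * flip * g⁻¹
    have hw : InP w := hconj _ hflip hsflip
    obtain ⟨y, hy⟩ := exists_el w hw.1
    have hcom : ∀ t ∈ [t₁, t₂, t₃, t₄], ∀ q, el y (t q) = t (el y q) := fun t ht q => by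
      obtain ⟨h1, h2⟩ := gens_mem t (by simp only [List.mem_cons] at ht ⊢; tauto)
      have h3 := (hconj' t h1 h2).1 (g⁻¹ q)
      simp only [Equiv.Perm.mul_apply, show ∀ z, g (g⁻¹ z) = z from g.apply_symm_apply] at h3
      rw [hy]
      simp only [w, Equiv.Perm.mul_apply]
      have h4 := congrArg g h3
      simp only [show ∀ z, g (g⁻¹ z) = z from g.apply_symm_apply] at h4
      rw [← h4]
    rcases central y (hcom _ (by simp)) (hcom _ (by simp)) (hcom _ (by simp)) (hcom _ (by simp)) with h | h
    · exfalso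
      have h1 : g * flip * g⁻¹ = 1 := (hy.symm.trans (Equiv.ext h) : w = 1)
      rw [conj_eq_one_iff] at h1
      exact absurd (Equiv.congr_fun h1 (0, false)) (by decide)
    · intro q
      have h1 : w (g q) = flip (g q) := by rw [← hy]; exact h (g q)
      simpa [w] using h1
  obtain ⟨y, hy⟩ := exists_el g hz
  show InP g
  rw [← hy]
  have hn : ∀ t ∈ [t₁, t₂, t₃, t₄], InP (el y * t * (el y)⁻¹) := fun t ht => ?_
  exact normal y (hn _ (by simp)) (hn _ (by simp)) (hn _ (by simp)) (hn _ (by simp))
  obtain ⟨h1, h2⟩ := gens_mem t (by simp only [List.mem_cons] at ht ⊢; tauto)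
  rw [hy]
  exact hconj t h1 h2

theorem selfNorm_alternating {α : Type*} [Fintype α] [DecidableEq α] (h : Fintype.card α = 8) :
    SelfNorm (alternatingGroup α) :=
  selfNorm.congr (Equiv.altCongrHom (Fintype.equivOfCardEq (α := Pt) (β := α) (by rw [h]; rfl)))

end CfsgLib.LocalEven.AltEightSylow
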