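/-
A nontrivial strongly closed subgroup of a Sylow 2-subgroup of the alternating group of degree eight is the whole
Sylow subgroup.
-/
import Cfsg.Agent.Lib.LocalEven.AltEightSylow
import Cfsg.Agent.Lib.Solvable.FrattiniFitting
import Mathlib.GroupTheory.Perm.Cycle.Type

set_option autoImplicit false
set_option maxRecDepth 40000

namespace CfsgLib.LocalEven.AltEightSylow

open scoped Pointwise

/-- A Sylow 2-subgroup has no nontrivial proper strongly closed subgroup. -/
def ClosedTop (X : Type*) [Group X] : Prop :=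
  ∀ Q : Sylow 2 X, ∀ K : Subgroup X, K ≤ (Q : Subgroup X) → K ≠ ⊥ →
    (∀ x ∈ K, ∀ g : X, g * x * g⁻¹ ∈ (Q : Subgroup X) → g * x * g⁻¹ ∈ K) → (Q : Subgroup X) ≤ K

theorem closedTop_of {X : Type*} [Group X] [Finite X] (Q : Sylow 2 X)
    (h : ∀ K : Subgroup X, K ≤ (Q : Subgroup X) → K ≠ ⊥ →
      (∀ x ∈ K, ∀ g : X, g * x * g⁻¹ ∈ (Q : Subgroup X) → g * x * g⁻¹ ∈ K) → (Q : Subgroup X) ≤ K) :
    ClosedTop X := by
  intro R K hK hne hcl
  obtain ⟨a, rfl⟩ := MulAction.exists_smul_eq X Q R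
  rw [Sylow.coe_subgroup_smul] at hK hcl ⊢
  have mem : ∀ {M : Subgroup X} {x : X}, x ∈ MulAut.conj a • M ↔ a⁻¹ * x * a ∈ M := fun {M x} => by
    rw [Subgroup.mem_pointwise_smul_iff_inv_smul_mem]
    simp [MulAut.smul_def]
  have h' := h (K.map (MulAut.conj a⁻¹).toMonoidHom) ?_ ?_ ?_
  · intro x hx
    obtain ⟨y, hy, e⟩ := h' (mem.1 hx)
    have : y = x := (MulAut.conj a⁻¹).injective (e.trans (by simp))
    exact this ▸ hy
  · rintro _ ⟨x, hx, rfl⟩
    simpa using mem.1 (hK hx)
  · exact fun e => hne ((Subgroup.map_eq_bot_iff_of_injective K (MulAut.conj a⁻¹).injective).1 e)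
  · rintro _ ⟨x, hx, rfl⟩ g hg
    refine ⟨a * g * a⁻¹ * x * (a * g * a⁻¹)⁻¹, hcl x hx (a * g * a⁻¹) (mem.2 ?_), ?_⟩
    · simpa [mul_assoc] using hg
    · simp [mul_assoc]

theorem ClosedTop.congr {X Y : Type*} [Group X] [Group Y] [Finite X] (e : X ≃* Y) (h : ClosedTop X) :
    ClosedTop Y := by
  have : Finite Y := Finite.of_equiv X e.toEquiv
  obtain ⟨Q⟩ : Nonempty (Sylow 2 X) := inferInstance
  refine closedTop_of (Q.mapSurjective (f := e.toMonoidHom) e.surjective) fun K hK hne hcl => ?_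
  have h' := h Q (K.comap e.toMonoidHom) (fun x hx => (Subgroup.mem_map_iff_mem e.injective).1 (hK hx))
    (fun hb => hne (by rw [← Subgroup.map_comap_eq_self_of_surjective (f := e.toMonoidHom) e.surjective K, hb,
      Subgroup.map_bot]))
    fun x hx g hg => ?_
  · rintro _ ⟨x, hx, rfl⟩
    exact h' hx
  · show e (g * x * g⁻¹) ∈ K
    have h1 : e (g * x * g⁻¹) ∈ ((Q.mapSurjective (f := e.toMonoidHom) e.surjective : Sylow 2 Y) : Subgroup Y) :=
      ⟨_, hg, rfl⟩
    rw [map_mul, map_mul, map_inv] at h1 ⊢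
    exact hcl _ hx _ h1

/-- Six fixed-point-free involutions of the model group. -/
def six : Fin 6 → Equiv.Perm Pt :=
  ![flip, el (Equiv.swap 0 1 * Equiv.swap 2 3, fun _ => true),
    el (Equiv.swap 0 2 * Equiv.swap 1 3, fun _ => false), el (Equiv.swap 2 3, fun _ => true),
    el (Equiv.swap 2 3, ![true, true, false, false]),
    el (Equiv.swap 0 3 * Equiv.swap 1 2, ![true, false, false, true])]

/-- The products of subsets of the six involutions, in a fixed order. -/
def prodBits (a : Fin 64) : Equiv.Perm Pt :=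
  ((List.finRange 6).map fun i => if a.val.testBit i.val then six i else 1).prod

theorem prodBits_inj : ∀ a b : Fin 64, (∀ q, prodBits a q = prodBits b q) → a = b := by decide +kernel

theorem six_facts : ∀ i, InP (six i) ∧ (∀ q, six i (six i q) = q) ∧ ∀ q, six i q ≠ q := by decide +kernel

theorem cycleType_fpf {f : Equiv.Perm Pt} (h2 : ∀ q, f (f q) = q) (hne : ∀ q, f q ≠ q) :
    f.cycleType = Multiset.replicate 4 2 := by
  have hord : orderOf f = 2 := orderOf_eq_prime (by rw [pow_two]; exact Equiv.ext h2)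
    (fun e => hne (0, false) (Equiv.congr_fun e (0, false)))
  obtain ⟨n, hn⟩ := Equiv.Perm.cycleType_prime_order (σ := f) (by rw [hord]; exact Nat.prime_two)
  have hs := f.sum_cycleType
  rw [hn, Multiset.sum_replicate, hord, show f.support = Finset.univ from
    Finset.eq_univ_of_forall fun q => Equiv.Perm.mem_support.2 (hne q), Finset.card_univ,
    show Fintype.card Pt = 8 from rfl, smul_eq_mul] at hs
  rw [hn, hord, show n + 1 = 4 by omega]

theorem exists_even_conj {f : Equiv.Perm Pt} (h2 : ∀ q, f (f q) = q) (hne : ∀ q, f q ≠ q) :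
    ∃ g : Equiv.Perm Pt, Equiv.Perm.sign g = 1 ∧ g * flip * g⁻¹ = f := by
  have hfl : (∀ q, flip (flip q) = q) ∧ ∀ q, flip q ≠ q := by decide +kernel
  obtain ⟨g, hg⟩ := isConj_iff.1 (Equiv.Perm.isConj_iff_cycleType_eq.2
    ((cycleType_fpf hfl.1 hfl.2).trans (cycleType_fpf h2 hne).symm))
  rcases Int.units_eq_one_or (Equiv.Perm.sign g) with h | h
  · exact ⟨g, h, hg⟩
  · set τ : Equiv.Perm Pt := Equiv.swap (0, false) (0, true)
    have hτ : τ * flip * τ⁻¹ = flip := by decide +kernel
    refine ⟨g * τ, ?_, ?_⟩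
    · rw [map_mul, h, Equiv.Perm.sign_swap (by decide)]; rfl
    · conv_rhs => rw [← hg, ← hτ]
      rw [mul_inv_rev]
      simp only [mul_assoc]

theorem closedTop : ClosedTop (alternatingGroup Pt) := by
  have : Fact (Nat.Prime 2) := ⟨Nat.prime_two⟩
  set A := alternatingGroup Pt
  set T := P.subgroupOf A
  have hT : Nat.card T = 64 := by
    have h2 : (Equiv.Perm.sign.comp P.subtype).range = ⊤ := by
      refine eq_top_iff.2 fun u _ => ?_
      rcases Int.units_eq_one_or u with rfl | rfl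
      · exact one_mem _
      · exact ⟨⟨el (1, ![true, false, false, false]), (by decide +kernel : InP _)⟩, (by
          rw [show el (1, ![true, false, false, false]) = Equiv.swap ((0 : Fin 4), false) (0, true) by decide +kernel]
          exact Equiv.Perm.sign_swap (by decide) :
          Equiv.Perm.sign (el (1, ![true, false, false, false])) = -1)⟩
    have h3 := (Equiv.Perm.sign.comp P.subtype).ker.card_mul_index
    rw [Subgroup.index_ker, h2, Subgroup.card_top, card_P, Nat.card_eq_fintype_card (α := ℤˣ),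
      Fintype.card_units_int] at h3
    have e : (Equiv.Perm.sign.comp P.subtype).ker = A.subgroupOf P := by ext; rfl
    rw [e] at h3
    have h4 : Nat.card T = Nat.card (A.subgroupOf P) := Nat.card_congr
      ⟨fun g => ⟨⟨g.1.1, g.2⟩, g.1.2⟩, fun g => ⟨⟨g.1.1, g.2⟩, g.1.2⟩, fun _ => rfl, fun _ => rfl⟩
    omega
  have hTp : IsPGroup 2 T := IsPGroup.of_card (n := 6) (by rw [hT]; rfl)
  have hidx : ¬ 2 ∣ T.index := by
    have h := T.card_mul_index
    rw [hT, show Nat.card A = 20160 by rw [Nat.card_eq_fintype_card, card_alternatingGroup]; rfl] at h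
    omega
  refine closedTop_of (hTp.toSylow hidx) fun K hK hne hcl => ?_
  have hK' : K ≤ T := hK
  have hcl' : ∀ x ∈ K, ∀ g : A, g * x * g⁻¹ ∈ T → g * x * g⁻¹ ∈ K := hcl
  change T ≤ K
  clear hK hcl
  have : Group.IsNilpotent T := hTp.isNilpotent
  have : (K.subgroupOf T).Normal := ⟨fun x hx g =>
    hcl' x hx g (T.mul_mem (T.mul_mem g.2 x.2) (T.inv_mem g.2))⟩
  have hne' : K.subgroupOf T ≠ ⊥ := by
    rw [Ne, Subgroup.subgroupOf_eq_bot]
    exact fun hd => hne ((disjoint_iff.1 hd) ▸ (inf_eq_left.2 hK').symm)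
  obtain ⟨⟨z, hzK, hzc⟩, hz1⟩ := (Subgroup.ne_bot_iff_exists_ne_one).1
    (CfsgLib.Solvable.FrattiniFitting.inf_center_ne_bot (K.subgroupOf T) hne')
  have hzP : InP ((z : A) : Equiv.Perm Pt) := z.2
  obtain ⟨y, hy⟩ := exists_el _ hzP.1
  have hcom : ∀ t ∈ [t₁, t₂, t₃, t₄], ∀ q, el y (t q) = t (el y q) := fun t ht q => by
    obtain ⟨h1, h2⟩ := gens_mem t (by simp only [List.mem_cons] at ht ⊢; tauto)
    have h := Subgroup.mem_center_iff.1 hzc ⟨⟨t, Equiv.Perm.mem_alternatingGroup.2 h2⟩, h1⟩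
    have h' := congrArg (fun w : T => ((w : A) : Equiv.Perm Pt) q) h
    simp only [Subgroup.coe_mul, Equiv.Perm.mul_apply] at h'
    rw [hy]
    exact h'.symm
  have hflip : ((z : A) : Equiv.Perm Pt) = flip := by
    rw [← hy]
    rcases central y (hcom _ (by simp)) (hcom _ (by simp)) (hcom _ (by simp)) (hcom _ (by simp)) with h | h
    · exact absurd (Subtype.ext (Subtype.ext (Subtype.ext (hy.symm.trans (Equiv.ext h))))) hz1
    · exact Equiv.ext h
  have hsix : ∀ i, ∃ x : A, x ∈ K ∧ x ∈ T ∧ (x : Equiv.Perm Pt) = six i := fun i => by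
    obtain ⟨hP, h2, hfix⟩ := six_facts i
    obtain ⟨g, hg, he⟩ := exists_even_conj h2 hfix
    let g' : A := ⟨g, Equiv.Perm.mem_alternatingGroup.2 hg⟩
    have e : ((g' * (z : A) * g'⁻¹ : A) : Equiv.Perm Pt) = six i := by
      rw [Subgroup.coe_mul, Subgroup.coe_mul, Subgroup.coe_inv, hflip]
      exact he
    have hmem : g' * (z : A) * g'⁻¹ ∈ T := by
      change InP ((g' * (z : A) * g'⁻¹ : A) : Equiv.Perm Pt)
      rw [e]; exact hP
    exact ⟨_, hcl' _ hzK g' hmem, hmem, e⟩
  have hbits : ∀ a, ∃ x : A, x ∈ K ∧ (x : Equiv.Perm Pt) = prodBits a := by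
    intro a
    have : prodBits a ∈ K.map A.subtype := Subgroup.list_prod_mem _ fun w hw => by
      obtain ⟨i, -, rfl⟩ := List.mem_map.1 hw
      split
      · obtain ⟨x, hx, -, he⟩ := hsix i
        exact ⟨x, hx, he⟩
      · exact one_mem _
    obtain ⟨x, hx, he⟩ := this
    exact ⟨x, hx, he⟩
  choose w hwK hwe using hbits
  have hinj : Function.Injective fun a => (⟨w a, hwK a⟩ : K) := fun a b h => prodBits_inj a b fun q => by
    rw [← hwe, ← hwe, show w a = w b from congrArg Subtype.val h]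
  have hcard := Nat.card_le_card_of_injective _ hinj
  rw [Nat.card_eq_fintype_card, Fintype.card_fin] at hcard
  exact le_of_eq (Subgroup.eq_of_le_of_card_ge hK' (hT.trans_le hcard)).symm

theorem closedTop_alternating {α : Type*} [Fintype α] [DecidableEq α] (h : Fintype.card α = 8) :
    ClosedTop (alternatingGroup α) :=
  closedTop.congr (Equiv.altCongrHom (Fintype.equivOfCardEq (α := Pt) (β := α) (by rw [h]; rfl)))

end CfsgLib.LocalEven.AltEightSylow
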