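/-
A group generated by conjugates of an abelian subgroup `Y` that act quadratically on a normal `p`-subgroup `V`:
elements that are not `p`-elements fix nothing in `V`, provided they are powers of products of two conjugates.
-/
import Mathlib

set_option autoImplicit false
set_option linter.unusedSectionVars false
set_option linter.style.haveILetI false

open scoped Pointwise

namespace CfsgLib.LocalEven.FixedFree

/-- The conjugate `g Y g⁻¹`. -/
abbrev cj {X : Type*} [Group X] (g : X) (Y : Subgroup X) : Subgroup X := Y.map (MulAut.conj g).toMonoidHom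

/-- What is used of the quotient and the image of `Y` in it. -/
structure Model {X : Type*} [Group X] (p : ℕ) (Y : Subgroup X) : Prop where
  ti : ∀ g y : X, y ∈ Y → y ≠ 1 → y ∈ Subgroup.normalizer (cj g Y : Set X) → cj g Y = Y
  prod : ∀ x : X, (¬ ∃ k, orderOf x = p ^ k) →
    ∃ g h s t : X, ∃ k : ℕ, s ∈ Y ∧ t ∈ Y ∧ (g * s * g⁻¹ * (h * t * h⁻¹)) ^ p ^ k = x

theorem cj_map {X X' : Type*} [Group X] [Group X'] (f : X →* X') (g : X) (Y : Subgroup X) :
    (cj g Y).map f = cj (f g) (Y.map f) := by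
  simp only [cj, Subgroup.map_map]
  congr 1
  ext y
  simp

theorem Model.map {X X' : Type*} [Group X] [Group X'] {p : ℕ} {Y : Subgroup X} (h : Model p Y) (e : X ≃* X') :
    Model p (Y.map e.toMonoidHom) where
  ti g y hy hy1 hn := by
    obtain ⟨y, hy', rfl⟩ := hy
    obtain ⟨g, rfl⟩ := e.surjective g
    have hc : cj (e g) (Y.map e.toMonoidHom) = (cj g Y).map e.toMonoidHom := (cj_map e.toMonoidHom g Y).symm
    rw [hc] at hn ⊢
    rw [h.ti g y hy' (fun h' => hy1 (by rw [h', map_one])) ?_]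
    refine Subgroup.mem_normalizer_iff.2 fun z => ?_
    have h1 := Subgroup.mem_normalizer_iff.1 hn (e z)
    rwa [show e.toMonoidHom y * e z * (e.toMonoidHom y)⁻¹ = e (y * z * y⁻¹) by simp,
      show e z = e.toMonoidHom z from rfl, show e (y * z * y⁻¹) = e.toMonoidHom (y * z * y⁻¹) from rfl,
      Subgroup.mem_map_iff_mem e.injective, Subgroup.mem_map_iff_mem e.injective] at h1
  prod x hx := by
    obtain ⟨x, rfl⟩ := e.surjective x
    obtain ⟨g, h', s, t, k, hs, ht, he⟩ := h.prod x fun ⟨k, hk⟩ => hx ⟨k, (e.orderOf_eq x).trans hk⟩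
    exact ⟨e g, e h', e s, e t, k, ⟨s, hs, rfl⟩, ⟨t, ht, rfl⟩, by rw [← he]; simp⟩

variable {Q X : Type*} [Group Q] [Finite Q] [Group X] {p : ℕ} [Fact p.Prime]

/-- The hypotheses. -/
structure Hyp (p : ℕ) (π : Q →* X) (Y : Subgroup Q) : Prop where
  pgroup : IsPGroup p π.ker
  elab_p : ∀ y ∈ Y, y ^ p = 1
  comm : ∀ a ∈ Y, ∀ b ∈ Y, a * b = b * a
  norm : π.ker ≤ Subgroup.normalizer (Y : Set Q)
  max : ∀ K : Subgroup Q, Y ≤ K → K ≠ ⊤ → K ≤ Subgroup.normalizer (Y : Set Q)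
  gen : Subgroup.normalClosure ((Y ⊓ π.ker : Subgroup Q) : Set Q) = π.ker
  nocentre : ∀ v ∈ Y, v ∈ Subgroup.center Q → v = 1
  model : Model p (Y.map π)

variable {π : Q →* X} {Y : Subgroup Q}

theorem mem_cj {g y : Q} : y ∈ cj g Y ↔ g⁻¹ * y * g ∈ Y := by
  refine ⟨?_, fun h => ⟨_, h, by simp [mul_assoc]⟩⟩
  rintro ⟨u, hu, rfl⟩
  simpa [mul_assoc] using hu

theorem Hyp.norm_cj (H : Hyp p π Y) (a : Q) : π.ker ≤ Subgroup.normalizer (cj a Y : Set Q) := by
  intro v hv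
  refine Subgroup.mem_normalizer_iff.2 fun z => ?_
  rw [mem_cj, mem_cj, Subgroup.mem_normalizer_iff.1 (H.norm (π.normal_ker.conj_mem v hv a⁻¹)) (a⁻¹ * z * a)]
  simp [mul_assoc]

theorem Hyp.comm_cj (H : Hyp p π Y) (a : Q) : ∀ u ∈ cj a Y, ∀ v ∈ cj a Y, u * v = v * u := by
  rintro _ ⟨u, hu, rfl⟩ _ ⟨v, hv, rfl⟩
  rw [← map_mul, ← map_mul, H.comm u hu v hv]

/-- Two conjugates with distinct images generate. -/
theorem Hyp.gen_two (H : Hyp p π Y) {a s : Q} (hs : s ∈ Y) (hs1 : π s ≠ 1)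
    (hne : (cj a Y).map π ≠ Y.map π) : Subgroup.zpowers s ⊔ cj a Y = ⊤ := by
  by_contra hK
  set K := Subgroup.zpowers s ⊔ cj a Y with hKdef
  have h1 : cj a⁻¹ K ≤ Subgroup.normalizer (Y : Set Q) := by
    refine H.max _ (fun y hy => ⟨a * y * a⁻¹, Subgroup.mem_sup_right ⟨y, hy, rfl⟩, by simp [mul_assoc]⟩) ?_
    intro htop
    refine hK (Subgroup.map_injective (f := (MulAut.conj a⁻¹).toMonoidHom) (MulAut.conj a⁻¹).injective ?_)
    rw [Subgroup.map_top_of_surjective (MulAut.conj a⁻¹).toMonoidHom (MulAut.conj a⁻¹).surjective]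
    exact htop
  have h2 : a⁻¹ * s * a ∈ Subgroup.normalizer (Y : Set Q) :=
    h1 ⟨s, Subgroup.mem_sup_left (Subgroup.mem_zpowers s), by simp⟩
  have h3 : π s ∈ Subgroup.normalizer ((cj a Y).map π : Set X) := by
    refine Subgroup.le_normalizer_map π ⟨s, ?_, rfl⟩
    refine Subgroup.le_normalizer_map (MulAut.conj a).toMonoidHom ⟨a⁻¹ * s * a, h2, ?_⟩
    simp [mul_assoc]
  rw [cj_map] at h3 hne
  exact hne (H.model.ti _ _ ⟨s, hs, rfl⟩ hs1 h3)

theorem Hyp.two_top (H : Hyp p π Y) {a s : Q} (hs : s ∈ Y) (hs1 : π s ≠ 1)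
    (hne : (cj a Y).map π ≠ Y.map π) : Y ⊔ cj a Y = ⊤ :=
  top_le_iff.1 (H.gen_two hs hs1 hne ▸ sup_le_sup_right (Subgroup.zpowers_le.2 hs) _)

theorem mem_center_of_gen {A B : Subgroup Q} (h : A ⊔ B = ⊤) {v : Q} (hA : ∀ x ∈ A, x * v = v * x)
    (hB : ∀ x ∈ B, x * v = v * x) : v ∈ Subgroup.center Q := by
  refine Subgroup.mem_center_iff.2 fun x => ?_
  have : A ⊔ B ≤ Subgroup.centralizer {v} :=
    sup_le (fun x hx => Subgroup.mem_centralizer_singleton_iff.2 (hA x hx))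
      fun x hx => Subgroup.mem_centralizer_singleton_iff.2 (hB x hx)
  exact Subgroup.mem_centralizer_singleton_iff.1 (this (h ▸ Subgroup.mem_top x))

theorem Hyp.nocentre_cj (H : Hyp p π Y) (a : Q) : ∀ v ∈ cj a Y, v ∈ Subgroup.center Q → v = 1 := by
  intro v hv hc
  refine H.nocentre v ?_ hc
  have h1 := mem_cj.1 hv
  rwa [mul_assoc, ← Subgroup.mem_center_iff.1 hc a, inv_mul_cancel_left] at h1

theorem Hyp.comm_mem (H : Hyp p π Y) (a : Q) {u v : Q} (hu : u ∈ cj a Y) (hv : v ∈ π.ker) :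
    u * v * u⁻¹ * v⁻¹ ∈ cj a Y ⊓ π.ker := by
  refine Subgroup.mem_inf.2 ⟨?_, mul_mem (π.normal_ker.conj_mem v hv u) (inv_mem hv)⟩
  rw [show u * v * u⁻¹ * v⁻¹ = u * (v * u⁻¹ * v⁻¹) by simp [mul_assoc]]
  exact mul_mem hu ((Subgroup.mem_normalizer_iff.1 (H.norm_cj a hv) _).1 (inv_mem hu))

theorem cj_one (Y : Subgroup Q) : cj (1 : Q) Y = Y := by
  ext y
  simp [mem_cj]

theorem Hyp.comm_mem_one (H : Hyp p π Y) {u v : Q} (hu : u ∈ Y) (hv : v ∈ π.ker) :
    u * v * u⁻¹ * v⁻¹ ∈ Y ⊓ π.ker := by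
  have := H.comm_mem 1 (by rwa [cj_one]) hv
  rwa [cj_one] at this

/-- `V = (Y ∩ V) (Y ^ a ∩ V)`, the two factors commuting. -/
theorem Hyp.split (H : Hyp p π Y) {a s : Q} (hs : s ∈ Y) (hs1 : π s ≠ 1)
    (hne : (cj a Y).map π ≠ Y.map π) {v : Q} (hv : v ∈ π.ker) :
    ∃ b ∈ Y ⊓ π.ker, ∃ c ∈ cj a Y ⊓ π.ker, v = b * c ∧ b * c = c * b := by
  set B := Y ⊓ π.ker with hB
  set C := cj a Y ⊓ π.ker with hC
  have htop := H.two_top hs hs1 hne
  have hbc : ∀ b ∈ B, ∀ c ∈ C, b * c = c * b := by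
    intro b hb c hc
    have h1 : b * c * b⁻¹ * c⁻¹ ∈ Y := (H.comm_mem_one hb.1 hc.2).1
    have h2 : b * c * b⁻¹ * c⁻¹ ∈ cj a Y :=
      mul_mem ((Subgroup.mem_normalizer_iff.1 (H.norm_cj a hb.2) c).1 hc.1) (inv_mem hc.1)
    have h3 := H.nocentre _ h1 (mem_center_of_gen htop (fun x hx => H.comm x hx _ h1)
      (fun x hx => H.comm_cj a x hx _ h2))
    calc b * c = b * c * b⁻¹ * c⁻¹ * (c * b) := by simp [mul_assoc]
      _ = c * b := by rw [h3, one_mul]
  have hnorm : ∀ (A : Subgroup Q), A ≤ B ⊔ C → A ≤ π.ker := fun A hA =>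
    hA.trans (sup_le inf_le_right inf_le_right)
  have hinv : ∀ u : Q, (u ∈ Y ∨ u ∈ cj a Y) → ∀ z ∈ B ⊔ C, u * z * u⁻¹ ∈ B ⊔ C := by
    intro u hu z hz
    have h1 : u * z * u⁻¹ * z⁻¹ ∈ B ⊔ C := by
      rcases hu with hu | hu
      · exact Subgroup.mem_sup_left (H.comm_mem_one hu (hnorm _ le_rfl hz))
      · exact Subgroup.mem_sup_right (H.comm_mem a hu (hnorm _ le_rfl hz))
    simpa [mul_assoc] using mul_mem h1 hz
  have hn : Subgroup.normalizer ((B ⊔ C : Subgroup Q) : Set Q) = ⊤ := by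
    refine top_le_iff.1 (htop ▸ sup_le ?_ ?_) <;> intro u hu <;>
      refine Subgroup.mem_normalizer_iff.2 fun z => ⟨hinv u (by tauto) z, fun h => ?_⟩
    · simpa [mul_assoc] using hinv u⁻¹ (Or.inl (inv_mem hu)) _ h
    · simpa [mul_assoc] using hinv u⁻¹ (Or.inr (inv_mem hu)) _ h
  haveI := Subgroup.normalizer_eq_top_iff.1 hn
  have hVle : π.ker ≤ B ⊔ C := by
    conv_lhs => rw [← H.gen]
    exact Subgroup.normalClosure_le_normal (fun z hz => Subgroup.mem_sup_left hz)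
  have hCn : C ≤ Subgroup.normalizer (B : Set Q) := fun c hc =>
    Subgroup.centralizer_le_normalizer _ (fun b hb => hbc b hb c hc)
  have hm : v ∈ ((B : Set Q) * (C : Set Q)) := by
    rw [← Subgroup.coe_mul_of_right_le_normalizer_left B C hCn]
    exact hVle hv
  obtain ⟨b, hb, c, hc, rfl⟩ := Set.mem_mul.1 hm
  exact ⟨b, hb, c, hc, rfl, hbc b hb c hc⟩

theorem Hyp.fix (H : Hyp p π Y) {a s : Q} (hs : s ∈ Y) (hs1 : π s ≠ 1)
    (hne : (cj a Y).map π ≠ Y.map π) {v : Q} (hv : v ∈ π.ker) (hsv : s * v = v * s) : v ∈ Y := by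
  obtain ⟨b, hb, c, hc, rfl, -⟩ := H.split hs hs1 hne hv
  have hsc : s * c = c * s := by
    have h1 : s * b = b * s := H.comm s hs b hb.1
    rw [← mul_assoc, h1, mul_assoc, mul_assoc] at hsv
    exact mul_left_cancel hsv
  have hcz : c ∈ Subgroup.center Q := mem_center_of_gen (H.gen_two hs hs1 hne)
    (fun x hx => by
      obtain ⟨i, rfl⟩ := hx
      exact ((show Commute s c from hsc).zpow_left i).eq)
    (fun x hx => H.comm_cj a x hx c hc.1)
  rw [H.nocentre_cj a c hc.1 hcz, mul_one]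
  exact hb.1

/-- The product of two elements from conjugates with distinct images fixes nothing. -/
theorem Hyp.prod_free (H : Hyp p π Y) {a s t : Q} (hs : s ∈ Y) (ht : t ∈ cj a Y) (hs1 : π s ≠ 1)
    (ht1 : π t ≠ 1) (hne : (cj a Y).map π ≠ Y.map π) {v : Q} (hv : v ∈ π.ker)
    (hstv : s * t * v = v * (s * t)) : v = 1 := by
  have htop := H.two_top hs hs1 hne
  have h1 : s⁻¹ * v * s * v⁻¹ ∈ Y := by
    have := (H.comm_mem_one (inv_mem hs) hv).1
    rwa [inv_inv] at this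
  have h2 : t * v * t⁻¹ * v⁻¹ ∈ cj a Y := (H.comm_mem a ht hv).1
  have he : t * v * t⁻¹ * v⁻¹ = s⁻¹ * v * s * v⁻¹ := by
    have e1 : t * v = s⁻¹ * v * s * t := by
      rw [mul_assoc (s⁻¹ * v), mul_assoc, ← hstv]; simp [mul_assoc]
    rw [e1]; simp [mul_assoc]
  have hd := H.nocentre _ h1 (mem_center_of_gen htop (fun x hx => H.comm x hx _ h1)
    (fun x hx => H.comm_cj a x hx _ (he ▸ h2)))
  have hsv : s * v = v * s := by
    calc s * v = s * (s⁻¹ * v * s * v⁻¹ * v) := by rw [hd, one_mul]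
      _ = v * s := by simp [mul_assoc]
  have htv : t * v = v * t := by
    rw [hd] at he
    calc t * v = t * v * t⁻¹ * v⁻¹ * (v * t) := by simp [mul_assoc]
      _ = v * t := by rw [he, one_mul]
  have hvY : v ∈ Y := H.fix hs hs1 hne hv hsv
  have hvY' : v ∈ cj a Y := by
    rw [mem_cj]
    refine H.fix (a := a⁻¹) (mem_cj.1 ht) ?_ ?_ (by simpa using π.normal_ker.conj_mem v hv a⁻¹) ?_
    · rw [map_mul, map_mul, map_inv]
      intro h'
      refine ht1 ?_
      calc π t = π a * ((π a)⁻¹ * π t * π a) * (π a)⁻¹ := by simp [mul_assoc]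
        _ = 1 := by rw [h']; simp
    · intro h'
      refine hne ?_
      rw [cj_map] at h' ⊢
      conv_lhs => rw [← h']
      simp only [cj, Subgroup.map_map]
      congr 1
      ext z
      simp [mul_assoc]
    · calc a⁻¹ * t * a * (a⁻¹ * v * a) = a⁻¹ * (t * v) * a := by simp [mul_assoc]
        _ = a⁻¹ * (v * t) * a := by rw [htv]
        _ = _ := by simp [mul_assoc]
  exact H.nocentre v hvY (mem_center_of_gen htop (fun x hx => H.comm x hx v hvY)
    (fun x hx => H.comm_cj a x hx v hvY'))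

theorem isPow_of_pow (x : X) {k : ℕ} (h : x ^ p ^ k = 1) : ∃ j, orderOf x = p ^ j := by
  obtain ⟨j, -, hj⟩ := (Nat.dvd_prime_pow (Fact.out : p.Prime)).1 (orderOf_dvd_of_pow_eq_one h)
  exact ⟨j, hj⟩

/-- Elements whose image is not a `p`-element fix nothing in the kernel. -/
theorem main (H : Hyp p π Y) (hπ : Function.Surjective π) {x : Q} (hx : ¬ ∃ k, orderOf (π x) = p ^ k)
    {v : Q} (hv : v ∈ π.ker) (hxv : x * v = v * x) : v = 1 := by
  classical
  obtain ⟨g', h', _, _, k, ⟨s, hs, rfl⟩, ⟨t, ht, rfl⟩, he⟩ := H.model.prod (π x) hx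
  obtain ⟨g, rfl⟩ := hπ g'
  obtain ⟨h, rfl⟩ := hπ h'
  set w := g * s * g⁻¹ * (h * t * h⁻¹) with hw
  have hwx : π (w ^ p ^ k) = π x := by rw [← he]; simp [hw]
  have hwnp : ¬ ∃ j, orderOf (π w) = p ^ j := by
    rintro ⟨j, hj⟩
    refine hx (isPow_of_pow _ (k := j) ?_)
    rw [← hwx, map_pow, ← pow_mul, mul_comm, pow_mul, ← hj, pow_orderOf_eq_one, one_pow]
  -- reduce to the case `g = 1`
  set a := g⁻¹ * h
  have hwconj : g⁻¹ * w * g = s * (a * t * a⁻¹) := by simp [hw, a, mul_assoc]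
  have hst : ¬ ∃ j, orderOf (π (s * (a * t * a⁻¹))) = p ^ j := by
    rw [← hwconj, show π (g⁻¹ * w * g) = MulAut.conj (π g)⁻¹ (π w) by simp, MulEquiv.orderOf_eq]
    exact hwnp
  have hyp : ∀ y ∈ Y, (π y) ^ p = 1 := fun y hy => by rw [← map_pow, H.elab_p y hy, map_one]
  have hs1 : π s ≠ 1 := fun h1 => hst (isPow_of_pow _ (k := 1) (by
    rw [map_mul, h1, one_mul, map_mul, map_mul, map_inv, conj_pow, pow_one, hyp t ht, mul_one, mul_inv_cancel]))
  have ht1 : π (a * t * a⁻¹) ≠ 1 := fun h1 => hst (isPow_of_pow _ (k := 1) (by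
    rw [map_mul, h1, mul_one, pow_one, hyp s hs]))
  have hne : (cj a Y).map π ≠ Y.map π := by
    intro h1
    obtain ⟨t', ht', hte⟩ : π (a * t * a⁻¹) ∈ Y.map π := h1 ▸ ⟨a * t * a⁻¹, ⟨t, ht, rfl⟩, rfl⟩
    refine hst (isPow_of_pow _ (k := 1) ?_)
    rw [map_mul, ← hte, ← map_mul, pow_one, hyp _ (mul_mem hs ht')]
  -- `V` is abelian
  have hVab : ∀ u ∈ π.ker, ∀ u' ∈ π.ker, u * u' = u' * u := by
    have key : ∀ u ∈ π.ker, ∀ b ∈ Y ⊓ π.ker, u * b = b * u := by
      intro u hu b hb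
      obtain ⟨b₁, hb₁, c₁, hc₁, rfl, hcm⟩ := H.split hs hs1 hne hu
      obtain ⟨b₂, hb₂, c₂, hc₂, hbe, -⟩ := H.split hs hs1 hne hb.2
      have hc : c₁ * b = b * c₁ := by
        have h1 : b * c₁ * b⁻¹ * c₁⁻¹ ∈ Y := (H.comm_mem_one hb.1 hc₁.2).1
        have h2 : b * c₁ * b⁻¹ * c₁⁻¹ ∈ cj a Y :=
          mul_mem ((Subgroup.mem_normalizer_iff.1 (H.norm_cj a hb.2) c₁).1 hc₁.1) (inv_mem hc₁.1)
        have h3 := H.nocentre _ h1 (mem_center_of_gen (H.two_top hs hs1 hne) (fun x hx => H.comm x hx _ h1)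
          (fun x hx => H.comm_cj a x hx _ h2))
        exact (show b * c₁ = c₁ * b from calc b * c₁ = b * c₁ * b⁻¹ * c₁⁻¹ * (c₁ * b) := by simp [mul_assoc]
          _ = c₁ * b := by rw [h3, one_mul]).symm
      rw [mul_assoc, hc, ← mul_assoc, H.comm b₁ hb₁.1 b hb.1, mul_assoc]
    intro u hu u' hu'
    have hle : π.ker ≤ Subgroup.centralizer (π.ker : Set Q) := by
      haveI : (Subgroup.centralizer (π.ker : Set Q)).Normal := inferInstance
      conv_lhs => rw [← H.gen]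
      exact Subgroup.normalClosure_le_normal fun b hb z hz => key z hz b hb
    exact hle hu' u hu
  have hwv : w ^ p ^ k * v = v * w ^ p ^ k := by
    have hu : w ^ p ^ k * x⁻¹ ∈ π.ker := by rw [MonoidHom.mem_ker, map_mul, hwx, ← map_mul, mul_inv_cancel, map_one]
    calc w ^ p ^ k * v = w ^ p ^ k * x⁻¹ * (x * v) := by simp [mul_assoc]
      _ = w ^ p ^ k * x⁻¹ * v * x := by rw [hxv]; simp [mul_assoc]
      _ = v * (w ^ p ^ k * x⁻¹) * x := by rw [hVab _ hu v hv]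
      _ = _ := by simp [mul_assoc]
  -- `w` fixes nothing
  have hfree : ∀ u ∈ π.ker, w * u = u * w → u = 1 := by
    intro u hu hwu
    have h1 := H.prod_free hs (show a * t * a⁻¹ ∈ cj a Y from ⟨t, ht, rfl⟩) hs1 ht1 hne
      (by simpa using π.normal_ker.conj_mem u hu g⁻¹ : g⁻¹ * u * g ∈ π.ker) (by
        rw [← hwconj]
        calc g⁻¹ * w * g * (g⁻¹ * u * g) = g⁻¹ * (w * u) * g := by simp [mul_assoc]
          _ = g⁻¹ * (u * w) * g := by rw [hwu]
          _ = _ := by simp [mul_assoc])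
    calc u = g * (g⁻¹ * u * g) * g⁻¹ := by simp [mul_assoc]
      _ = 1 := by rw [h1]; simp
  -- a `p`-element of the action on the fixed points of `w ^ p ^ k` fixes something
  by_contra hv1
  set C := π.ker ⊓ Subgroup.centralizer {w ^ p ^ k} with hC
  have hinv : ∀ z : Q, z ∈ C ↔ w * z * w⁻¹ ∈ C := by
    intro z
    have hw' : Commute w (w ^ p ^ k) := (Commute.refl w).pow_right _
    rw [hC, Subgroup.mem_inf, Subgroup.mem_inf, Subgroup.mem_centralizer_singleton_iff,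
      Subgroup.mem_centralizer_singleton_iff, show w * z * w⁻¹ ∈ π.ker ↔ z ∈ π.ker by
        simp [MonoidHom.mem_ker]]
    refine and_congr_right fun _ => ⟨fun h1 => ?_, fun h1 => ?_⟩
    · exact ((hw'.mul_left (show Commute z _ from h1)).mul_left hw'.inv_left).eq
    · have h2 := ((hw'.inv_left.mul_left (show Commute _ _ from h1)).mul_left hw').eq
      simpa [mul_assoc] using h2
  let σ : Equiv.Perm C :=
    { toFun := fun z => ⟨w * z * w⁻¹, (hinv z).1 z.2⟩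
      invFun := fun z => ⟨w⁻¹ * z * w, (hinv _).2 (by simp [mul_assoc])⟩
      left_inv := fun z => Subtype.ext (by simp [mul_assoc])
      right_inv := fun z => Subtype.ext (by simp [mul_assoc]) }
  have hσi : ∀ (i : ℕ) (z : C), ((σ ^ i) z : Q) = w ^ i * z * (w ^ i)⁻¹ := by
    intro i
    induction i with
    | zero => simp
    | succ i ih =>
      intro z
      rw [pow_succ', Equiv.Perm.mul_apply]
      show w * ((σ ^ i) z : Q) * w⁻¹ = _
      rw [ih, pow_succ', show (w * w ^ i)⁻¹ = (w ^ i)⁻¹ * w⁻¹ from mul_inv_rev _ _]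
      simp only [mul_assoc]
  have hσ : σ ^ p ^ k = 1 := Equiv.ext fun z => Subtype.ext (by
    rw [hσi, Equiv.Perm.one_apply]
    have h1 := Subgroup.mem_centralizer_singleton_iff.1 (Subgroup.mem_inf.1 z.2).2
    rw [← h1, mul_inv_cancel_right])
  obtain ⟨n, hn⟩ := (H.pgroup.to_le (inf_le_left : C ≤ π.ker)).exists_card_eq
  have hn0 : n ≠ 0 := by
    rintro rfl
    rw [pow_zero] at hn
    have := (Subgroup.eq_bot_of_card_eq _ hn).le
      (show v ∈ C from ⟨hv, Subgroup.mem_centralizer_singleton_iff.2 hwv.symm⟩)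
    exact hv1 (Subgroup.mem_bot.1 this)
  haveI := Fintype.ofFinite C
  obtain ⟨z, hz, hz1⟩ := Equiv.Perm.exists_fixed_point_of_prime' (p := p) (n := k)
    (by rw [← Nat.card_eq_fintype_card, hn]; exact dvd_pow_self p hn0) hσ (a := (1 : C))
    (Subtype.ext (by show w * 1 * w⁻¹ = 1; simp))
  refine hz1 (Subtype.ext (hfree _ (Subgroup.mem_inf.1 z.2).1 ?_))
  have h1 : w * (z : Q) * w⁻¹ = z := congrArg Subtype.val hz
  exact mul_inv_eq_iff_eq_mul.1 h1

end CfsgLib.LocalEven.FixedFree
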