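/-
Coordinates for a faithful natural `SL₂(F)`-module in which a given Sylow subgroup is upper unitriangular.
-/
import Cfsg.Prelude.Def_LocalEven
import Cfsg.Agent.Lib.Classical.SL2Sylow
import Mathlib.Algebra.CharP.CharAndCard
import Mathlib.LinearAlgebra.Matrix.Notation
import Mathlib.Tactic.LinearCombination
import Mathlib.Tactic.FinCases

set_option autoImplicit false

open Matrix
open scoped MatrixGroups Pointwise

namespace CfsgLib.LocalEven.NaturalSL2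

variable {G : Type*} [Group G] {F : Type*} [Field F]

/-- `V` is the module `F²` for `L ≅ SL₂(F)`, with `T` the upper unitriangular subgroup. -/
structure Coord (F : Type*) [Field F] (V L T : Subgroup G) where
  ρ : ↥L →* SL(2, F)
  c : (Fin 2 → F) → G
  ρ_surj : Function.Surjective ρ
  ρ_inj : Function.Injective ρ
  c_mem : ∀ v, c v ∈ V
  c_surj : ∀ g ∈ V, ∃ v, c v = g
  c_inj : Function.Injective c
  c_add : ∀ v w, c (v + w) = c v * c w
  act : ∀ (l : ↥L) v, (l : G) * c v * (l : G)⁻¹ = c ((ρ l : Matrix (Fin 2) (Fin 2) F).mulVec v)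
  T_le : T ≤ L
  mem_T : ∀ l : ↥L, (l : G) ∈ T ↔ ρ l ∈ CfsgLib.Classical.unipSL F

theorem mem_unipSL_iff (M : SL(2, F)) : M ∈ CfsgLib.Classical.unipSL F ↔
    (M : Matrix (Fin 2) (Fin 2) F) 1 0 = 0 ∧ (M : Matrix (Fin 2) (Fin 2) F) 0 0 = 1 ∧
      (M : Matrix (Fin 2) (Fin 2) F) 1 1 = 1 := by
  constructor
  · rintro ⟨x, rfl⟩
    have h := CfsgLib.Classical.uSL_coe x.toAdd
    rw [ofAdd_toAdd] at h
    rw [h]
    simp
  · rintro ⟨h1, h2, h3⟩
    refine ⟨Multiplicative.ofAdd ((M : Matrix (Fin 2) (Fin 2) F) 0 1), Matrix.SpecialLinearGroup.ext _ _ fun i j => ?_⟩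
    rw [CfsgLib.Classical.uSL_coe]
    fin_cases i <;> fin_cases j <;> simp [h1, h2, h3]

theorem exists_coord [Fintype F] [Finite G] {p : ℕ} [Fact p.Prime] {n : ℕ} (hF : Fintype.card F = p ^ n)
    (V L : Subgroup G) (hnat : Cfsg.IsNaturalSL2Module F V L) (hf : L ⊓ Subgroup.centralizer (V : Set G) = ⊥)
    (S : Sylow p ↥L) (T : Subgroup G) (hT : T = ((S : Subgroup ↥L).map L.subtype)) :
    Nonempty (Coord F V L T) := by
  haveI := charP_of_card_eq_prime_pow hF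
  obtain ⟨-, ρ, ψ, hρ, hker, hact⟩ := hnat
  have hinj : Function.Injective ρ := by
    rw [← MonoidHom.ker_eq_bot_iff, hker, Subgroup.subgroupOf_eq_bot, disjoint_iff, inf_comm, hf]
  let e := MulEquiv.ofBijective ρ ⟨hinj, hρ⟩
  obtain ⟨x, hx⟩ := CfsgLib.Classical.sylowSL2_exists_conj (S.mapSurjective (f := ρ) hρ)
  let ρ' : ↥L →* SL(2, F) := (MulAut.conj x⁻¹).toMonoidHom.comp ρ
  let c : (Fin 2 → F) → G := fun v => ((ψ.symm ((x : Matrix (Fin 2) (Fin 2) F).mulVec v)).toMul : V)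
  have hx1 : ((x⁻¹ : SL(2, F)) : Matrix (Fin 2) (Fin 2) F) * (x : Matrix (Fin 2) (Fin 2) F) = 1 := by
    rw [← Matrix.SpecialLinearGroup.coe_mul, inv_mul_cancel, Matrix.SpecialLinearGroup.coe_one]
  have hx2 : (x : Matrix (Fin 2) (Fin 2) F) * ((x⁻¹ : SL(2, F)) : Matrix (Fin 2) (Fin 2) F) = 1 := by
    rw [← Matrix.SpecialLinearGroup.coe_mul, mul_inv_cancel, Matrix.SpecialLinearGroup.coe_one]
  refine ⟨⟨ρ', c, (MulAut.conj x⁻¹).surjective.comp hρ, (MulAut.conj x⁻¹).injective.comp hinj,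
    fun v => (ψ.symm _).toMul.2, fun g hg => ⟨((x⁻¹ : SL(2, F)) : Matrix (Fin 2) (Fin 2) F).mulVec (ψ (Additive.ofMul ⟨g, hg⟩)), ?_⟩,
    fun v w h => ?_, fun v w => ?_, fun l v => ?_, by rw [hT]; exact Subgroup.map_subtype_le _, fun l => ?_⟩⟩
  · show (((ψ.symm _).toMul : V) : G) = g
    rw [Matrix.mulVec_mulVec, hx2, Matrix.one_mulVec, AddEquiv.symm_apply_apply]
    rfl
  · have h1 : (x : Matrix (Fin 2) (Fin 2) F).mulVec v = (x : Matrix (Fin 2) (Fin 2) F).mulVec w :=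
      ψ.symm.injective (Additive.toMul.injective (Subtype.ext h))
    have h2 := congrArg (((x⁻¹ : SL(2, F)) : Matrix (Fin 2) (Fin 2) F).mulVec) h1
    rwa [Matrix.mulVec_mulVec, Matrix.mulVec_mulVec, hx1, Matrix.one_mulVec, Matrix.one_mulVec] at h2
  · simp only [c, Matrix.mulVec_add, map_add, toMul_add, Subgroup.coe_mul]
  · obtain ⟨w, hw, hψ⟩ := hact l (ψ.symm ((x : Matrix (Fin 2) (Fin 2) F).mulVec v)).toMul
    show (l : G) * c v * (l : G)⁻¹ = c _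
    simp only [c] at *
    rw [← hw]
    have h3 : Additive.ofMul w = ψ.symm ((ρ l : Matrix (Fin 2) (Fin 2) F).mulVec ((x : Matrix (Fin 2) (Fin 2) F).mulVec v)) := by
      rw [AddEquiv.eq_symm_apply, hψ, ofMul_toMul, AddEquiv.apply_symm_apply]
    have h4 : (x : Matrix (Fin 2) (Fin 2) F).mulVec ((ρ' l : Matrix (Fin 2) (Fin 2) F).mulVec v)
        = (ρ l : Matrix (Fin 2) (Fin 2) F).mulVec ((x : Matrix (Fin 2) (Fin 2) F).mulVec v) := by
      show (x : Matrix (Fin 2) (Fin 2) F).mulVec ((((MulAut.conj x⁻¹) (ρ l) : SL(2, F)) : Matrix (Fin 2) (Fin 2) F).mulVec v) = _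
      rw [MulAut.conj_apply, inv_inv, Matrix.SpecialLinearGroup.coe_mul, Matrix.SpecialLinearGroup.coe_mul,
        Matrix.mulVec_mulVec, Matrix.mulVec_mulVec, ← Matrix.mul_assoc, ← Matrix.mul_assoc, hx2, Matrix.one_mul]
    rw [h4, ← h3]
    rfl
  · rw [hT]
    have hmem : (l : G) ∈ (S : Subgroup ↥L).map L.subtype ↔ ρ l ∈ (S : Subgroup ↥L).map ρ :=
      ⟨fun ⟨y, hy, he⟩ => ⟨y, hy, congrArg ρ (Subtype.ext he)⟩, fun ⟨y, hy, he⟩ => ⟨l, hinj he ▸ hy, rfl⟩⟩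
    rw [hmem]
    have hx' : (S : Subgroup ↥L).map ρ = MulAut.conj x • CfsgLib.Classical.unipSL F := hx
    rw [hx', Subgroup.mem_pointwise_smul_iff_inv_smul_mem]
    show (MulAut.conj x)⁻¹ (ρ l) ∈ _ ↔ (MulAut.conj x⁻¹) (ρ l) ∈ _
    rw [map_inv]

namespace Coord

variable {V L T : Subgroup G} (C : Coord F V L T)

theorem c_zero : C.c 0 = 1 := by
  have h := C.c_add 0 0
  rw [add_zero] at h
  exact mul_left_cancel (a := C.c 0) (by rw [← h, mul_one])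

theorem c_neg (v : Fin 2 → F) : C.c (-v) = (C.c v)⁻¹ :=
  eq_inv_of_mul_eq_one_left (by rw [← C.c_add, neg_add_cancel, C.c_zero])

theorem c_comm (v w : Fin 2 → F) : C.c v * C.c w = C.c w * C.c v := by
  rw [← C.c_add, ← C.c_add, add_comm]

/-- The image of the line `F × 0`. -/
def axis : Subgroup G where
  carrier := {g | ∃ x : F, C.c ![x, 0] = g}
  one_mem' := ⟨0, by rw [show (![0, 0] : Fin 2 → F) = 0 by ext i; fin_cases i <;> rfl, C.c_zero]⟩
  mul_mem' := by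
    rintro _ _ ⟨x, rfl⟩ ⟨y, rfl⟩
    exact ⟨x + y, by rw [← C.c_add]; congr 1; ext i; fin_cases i <;> simp⟩
  inv_mem' := by
    rintro _ ⟨x, rfl⟩
    exact ⟨-x, by rw [← C.c_neg]; congr 1; ext i; fin_cases i <;> simp⟩

theorem mem_axis (v : Fin 2 → F) : C.c v ∈ C.axis ↔ v 1 = 0 := by
  constructor
  · rintro ⟨x, hx⟩
    rw [← C.c_inj hx]
    simp
  · intro h
    refine ⟨v 0, congrArg C.c ?_⟩
    ext i; fin_cases i <;> simp [h]

/-- Every parameter gives an element of `T`. -/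
theorem exists_T (t : F) : ∃ l : ↥L, (l : G) ∈ T ∧ (C.ρ l : Matrix (Fin 2) (Fin 2) F) = !![1, t; 0, 1] := by
  obtain ⟨l, hl⟩ := C.ρ_surj (CfsgLib.Classical.uSL (Multiplicative.ofAdd t))
  refine ⟨l, (C.mem_T l).2 (hl ▸ ⟨_, rfl⟩), ?_⟩
  rw [hl, CfsgLib.Classical.uSL_coe]

theorem exists_param {s : G} (hs : s ∈ T) :
    ∃ (l : ↥L) (t : F), (l : G) = s ∧ (C.ρ l : Matrix (Fin 2) (Fin 2) F) = !![1, t; 0, 1] := by
  obtain ⟨h1, h2, h3⟩ := (mem_unipSL_iff _).1 ((C.mem_T ⟨s, C.T_le hs⟩).1 hs)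
  refine ⟨⟨s, C.T_le hs⟩, (C.ρ ⟨s, C.T_le hs⟩ : Matrix (Fin 2) (Fin 2) F) 0 1, rfl, ?_⟩
  ext i j; fin_cases i <;> fin_cases j <;> simp [h1, h2, h3]

theorem param_ne_zero {l : ↥L} {t : F} (hl : (C.ρ l : Matrix (Fin 2) (Fin 2) F) = !![1, t; 0, 1])
    (h1 : (l : G) ≠ 1) : t ≠ 0 := by
  rintro rfl
  refine h1 ?_
  have : C.ρ l = 1 := Matrix.SpecialLinearGroup.ext _ _ fun i j => by
    rw [hl]; fin_cases i <;> fin_cases j <;> simp
  rw [C.ρ_inj (this.trans (map_one C.ρ).symm)]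
  rfl

theorem conj_c {l : ↥L} {t : F} (hl : (C.ρ l : Matrix (Fin 2) (Fin 2) F) = !![1, t; 0, 1]) (v : Fin 2 → F) :
    (l : G) * C.c v * (l : G)⁻¹ = C.c ![v 0 + t * v 1, v 1] := by
  rw [C.act, hl]
  congr 1
  ext i; fin_cases i <;> simp [Matrix.mulVec, dotProduct, Fin.sum_univ_two]

theorem commutator_c {l : ↥L} {t : F} (hl : (C.ρ l : Matrix (Fin 2) (Fin 2) F) = !![1, t; 0, 1]) (v : Fin 2 → F) :
    C.c v * (l : G) * (C.c v)⁻¹ * (l : G)⁻¹ = C.c ![-(t * v 1), 0] := by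
  have h := C.conj_c hl (-v)
  rw [C.c_neg] at h
  calc C.c v * (l : G) * (C.c v)⁻¹ * (l : G)⁻¹ = C.c v * ((l : G) * (C.c v)⁻¹ * (l : G)⁻¹) := by group
    _ = _ := by
      rw [h, ← C.c_add]
      congr 1
      ext i; fin_cases i <;> simp

theorem fixed_of_comm {l : ↥L} {t : F} (hl : (C.ρ l : Matrix (Fin 2) (Fin 2) F) = !![1, t; 0, 1]) (ht : t ≠ 0)
    {v : Fin 2 → F} (h : (l : G) * C.c v = C.c v * (l : G)) : v 1 = 0 := by
  have h2 := C.conj_c hl v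
  rw [h, mul_inv_cancel_right] at h2
  have h3 := congrFun (C.c_inj h2) 0
  simp at h3
  exact h3.resolve_left ht

theorem comm_axis {g s : G} (hg : g ∈ C.axis) (hs : s ∈ T) : s * g = g * s := by
  obtain ⟨x, rfl⟩ := hg
  obtain ⟨l, t, rfl, hl⟩ := C.exists_param hs
  have h := C.conj_c hl ![x, 0]
  simp at h
  exact mul_inv_eq_iff_eq_mul.1 h

theorem centralizer_T : V ⊓ Subgroup.centralizer (T : Set G) = C.axis := by
  refine le_antisymm ?_ fun g hg => ⟨?_, Subgroup.mem_centralizer_iff.2 fun s hs => C.comm_axis hg hs⟩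
  · rintro g ⟨hgV, hgc⟩
    obtain ⟨v, rfl⟩ := C.c_surj g hgV
    obtain ⟨l, hlT, hl⟩ := C.exists_T 1
    exact (C.mem_axis v).2 (C.fixed_of_comm hl one_ne_zero (Subgroup.mem_centralizer_iff.1 hgc _ hlT))
  · obtain ⟨x, rfl⟩ := hg
    exact C.c_mem _

theorem centralizer_elem {s : G} (hs : s ∈ T) (hs1 : s ≠ 1) :
    V ⊓ Subgroup.centralizer ({s} : Set G) = C.axis := by
  refine le_antisymm ?_ ?_
  · rintro g ⟨hgV, hgc⟩
    obtain ⟨v, rfl⟩ := C.c_surj g hgV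
    obtain ⟨l, t, rfl, hl⟩ := C.exists_param hs
    exact (C.mem_axis v).2 (C.fixed_of_comm hl (C.param_ne_zero hl hs1)
      (Subgroup.mem_centralizer_singleton_iff.1 hgc).symm)
  · rw [← C.centralizer_T]
    exact inf_le_inf_left _ (Subgroup.centralizer_le (Set.singleton_subset_iff.2 hs))

end Coord

end CfsgLib.LocalEven.NaturalSL2
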