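/-
In `SL₂(q)`, `Sz(q)` and dihedral groups of twice prime order: the subgroup with a given root group
has only one nontrivial elementary abelian normal `p`-subgroup.
-/
import Cfsg.Agent.Lib.LocalEven.NaturalSL2
import Cfsg.Agent.Lib.Classical.SL2Sylow
import Cfsg.Agent.Lib.KnownB.SuzukiSylow
import Cfsg.Prelude.Def_LocalStructure
import Mathlib.Algebra.CharP.CharAndCard
import Mathlib.GroupTheory.SpecificGroups.Dihedral
import Mathlib.Tactic.LinearCombination
import Mathlib.Tactic.FinCases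

set_option autoImplicit false

open Matrix
open scoped MatrixGroups Pointwise

namespace CfsgLib.LocalEven.RootBorel

variable {p : ℕ}

/-- The setting: `N` contains `Y`, normalises it and contains every proper overgroup of it. -/
structure Setup {X : Type*} [Group X] (p : ℕ) (Y N : Subgroup X) : Prop where
  yn : Y ≤ N
  norm : N ≤ Subgroup.normalizer (Y : Set X)
  proper : N ≠ ⊤
  max : ∀ K : Subgroup X, Y ≤ K → K ≠ ⊤ → K ≤ N
  elab_y : Cfsg.IsElementaryAbelian p Y

/-- A candidate normal subgroup. -/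
structure Cand {X : Type*} [Group X] (p : ℕ) (N V : Subgroup X) : Prop where
  le : V ≤ N
  norm : N ≤ Subgroup.normalizer (V : Set X)
  elab_v : Cfsg.IsElementaryAbelian p V
  ne : V ≠ ⊥

theorem isPGroup_of_elab {X : Type*} [Group X] {A : Subgroup X} (h : Cfsg.IsElementaryAbelian p A) :
    IsPGroup p A := fun a => ⟨1, Subtype.ext (by simpa using h.2 a a.2)⟩

section Map

variable {X X' : Type*} [Group X] [Group X']

theorem mem_normalizer_map (e : X ≃* X') {A : Subgroup X} {g : X}
    (hg : g ∈ Subgroup.normalizer (A : Set X)) :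
    e g ∈ Subgroup.normalizer ((A.map e.toMonoidHom : Subgroup X') : Set X') :=
  Subgroup.le_normalizer_map (f := e.toMonoidHom) (Subgroup.mem_map_of_mem e.toMonoidHom hg)

theorem elab_map (f : X →* X') {A : Subgroup X} (h : Cfsg.IsElementaryAbelian p A) :
    Cfsg.IsElementaryAbelian p (A.map f) := by
  refine ⟨⟨⟨fun ⟨_, a, ha, rfl⟩ ⟨_, b, hb, rfl⟩ => Subtype.ext ?_⟩⟩, ?_⟩
  · have := congrArg (fun c : A => f (c : X)) (h.1.is_comm.comm ⟨a, ha⟩ ⟨b, hb⟩)
    simpa using this
  · rintro _ ⟨a, ha, rfl⟩; rw [← map_pow, h.2 a ha, map_one]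

theorem Setup.map {Y N : Subgroup X} (h : Setup p Y N) (e : X ≃* X') :
    Setup p (Y.map e.toMonoidHom) (N.map e.toMonoidHom) where
  yn := Subgroup.map_mono h.yn
  norm := (Subgroup.map_mono h.norm).trans (Subgroup.le_normalizer_map _)
  proper hN := h.proper (Subgroup.map_injective (f := e.toMonoidHom) e.injective
    (hN.trans (Subgroup.map_top_of_surjective _ e.surjective).symm))
  max K hK hKt := by
    have h1 := h.max (K.comap e.toMonoidHom) (Subgroup.map_le_iff_le_comap.1 hK) fun hc => hKt (by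
      rw [← Subgroup.map_comap_eq_self_of_surjective (f := e.toMonoidHom) e.surjective K, hc,
        Subgroup.map_top_of_surjective _ e.surjective])
    rw [← Subgroup.map_comap_eq_self_of_surjective (f := e.toMonoidHom) e.surjective K]
    exact Subgroup.map_mono h1
  elab_y := elab_map _ h.elab_y

theorem Cand.map {N V : Subgroup X} (h : Cand p N V) (e : X ≃* X') :
    Cand p (N.map e.toMonoidHom) (V.map e.toMonoidHom) where
  le := Subgroup.map_mono h.le
  norm := (Subgroup.map_mono h.norm).trans (Subgroup.le_normalizer_map _)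
  elab_v := elab_map _ h.elab_v
  ne hV := h.ne (Subgroup.map_injective (f := e.toMonoidHom) e.injective (hV.trans (Subgroup.map_bot _).symm))

theorem eq_of_map_eq (e : X ≃* X') {V Y : Subgroup X} (h : V.map e.toMonoidHom = Y.map e.toMonoidHom) : V = Y :=
  Subgroup.map_injective (f := e.toMonoidHom) e.injective h

/-- A `p`-subgroup normalising a Sylow subgroup lies in it. -/
theorem le_of_sylow [Finite X] [Fact p.Prime] {U V : Subgroup X} (hU : IsPGroup p U)
    (hmax : ∀ P : Subgroup X, IsPGroup p P → U ≤ P → P = U) (hV : IsPGroup p V)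
    (hn : V ≤ Subgroup.normalizer (U : Set X)) : V ≤ U := by
  have h := hV.to_sup_of_normal_right' hU hn
  exact (le_sup_left : V ≤ V ⊔ U).trans (hmax _ h le_sup_right).le

end Map

section SL2

variable {F : Type*} [Field F] [Fintype F] [Fact p.Prime]

/-- The Weyl element. -/
def wEl : SL(2, F) := ⟨!![0, -1; 1, 0], by simp [Matrix.det_fin_two]⟩

theorem coe_wEl : ((wEl : SL(2, F)) : Matrix (Fin 2) (Fin 2) F) = !![0, -1; 1, 0] := rfl

/-- A torus element. -/
def dEl (t : Fˣ) : SL(2, F) := ⟨!![(t : F), 0; 0, ((t⁻¹ : Fˣ) : F)], by simp [Matrix.det_fin_two]⟩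

theorem coe_dEl (t : Fˣ) : ((dEl t : SL(2, F)) : Matrix (Fin 2) (Fin 2) F) = !![(t : F), 0; 0, ((t⁻¹ : Fˣ) : F)] := rfl

theorem uSL_one_conj_not_mem :
    ∃ g : SL(2, F), g * CfsgLib.Classical.uSL (Multiplicative.ofAdd 1) * g⁻¹ ∉ CfsgLib.Classical.unipSL F := by
  refine ⟨wEl, ?_⟩
  rintro ⟨x, hx⟩
  have h := congrArg (fun g : SL(2, F) => (g : Matrix (Fin 2) (Fin 2) F) 1 0) hx
  have h2 := CfsgLib.Classical.uSL_coe (F := F) x.toAdd
  rw [ofAdd_toAdd] at h2
  simp [h2, coe_wEl, CfsgLib.Classical.uSL_coe, Matrix.SpecialLinearGroup.coe_mul, Matrix.SpecialLinearGroup.coe_inv, Matrix.mul_apply, Fin.sum_univ_two, Matrix.adjugate_fin_two] at h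

theorem exists_sum_two_squares (c : F) : ∃ u v : F, c = u ^ 2 + v ^ 2 := by
  by_cases h : ringChar F = 2
  · obtain ⟨r, hr⟩ := FiniteField.isSquare_of_char_two h c
    exact ⟨r, 0, by rw [hr]; ring⟩
  · obtain ⟨a, b, hab⟩ := FiniteField.exists_root_sum_quadratic (R := F) (f := Polynomial.X ^ 2)
      (g := Polynomial.X ^ 2 - Polynomial.C c) (Polynomial.degree_X_pow 2)
      (Polynomial.degree_X_pow_sub_C two_pos c) (FiniteField.odd_card_of_char_ne_two h)
    refine ⟨a, b, ?_⟩
    simp at hab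
    linear_combination -hab

theorem sl2_case {n : ℕ} (hq : Fintype.card F = p ^ n) {Y N V : Subgroup SL(2, F)} (hs : Setup p Y N)
    (hv : Cand p N V) (hY : Nat.card Y = Fintype.card F) : V = Y := by
  haveI := charP_of_card_eq_prime_pow hq
  obtain ⟨P, hP⟩ := (isPGroup_of_elab hs.elab_y).exists_le_sylow
  obtain ⟨x, hx⟩ := CfsgLib.Classical.sylowSL2_exists_conj P
  have hYP : Y = P := Subgroup.eq_of_le_of_card_ge hP
    (by rw [hY, CfsgLib.Classical.card_sylowSL2_subgroup P])
  let e : SL(2, F) ≃* SL(2, F) := MulAut.conj x⁻¹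
  have hYe : Y.map e.toMonoidHom = CfsgLib.Classical.unipSL F := by
    rw [hYP, hx]
    ext g
    simp [e, Subgroup.mem_map, Subgroup.mem_pointwise_smul_iff_inv_smul_mem, MulAut.smul_def, mul_assoc]
    constructor
    · rintro ⟨y, h, rfl⟩; exact h
    · intro h; exact ⟨x * g * x⁻¹, by simpa [mul_assoc] using h, by simp [mul_assoc]⟩
  refine eq_of_map_eq e ?_
  have hs' := hs.map e
  have hv' := hv.map e
  rw [hYe] at hs' ⊢
  generalize N.map e.toMonoidHom = N' at hs' hv'
  generalize V.map e.toMonoidHom = W at hv'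
  set U := CfsgLib.Classical.unipSL F with hU
  have hWU : W ≤ U := by
    refine le_of_sylow (isPGroup_of_elab hs'.elab_y) (fun Q hQ hle => ?_) (isPGroup_of_elab hv'.elab_v)
      (hv'.le.trans hs'.norm)
    exact (CfsgLib.Classical.unipSLSylow (F := F) p).is_maximal' hQ hle
  refine le_antisymm hWU ?_
  -- the torus
  have htor : ∀ t : Fˣ, dEl t ∈ N' := by
    intro t
    set d : SL(2, F) := dEl t with hd0
    have hd : d ∈ Subgroup.normalizer (U : Set SL(2, F)) := by
      refine Subgroup.mem_normalizer_iff.2 fun g => ?_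
      rw [NaturalSL2.mem_unipSL_iff, NaturalSL2.mem_unipSL_iff]
      simp [hd0, coe_dEl, Matrix.vecMul, dotProduct, Matrix.SpecialLinearGroup.coe_mul, Matrix.SpecialLinearGroup.coe_inv, Matrix.mul_apply, Fin.sum_univ_two, Matrix.adjugate_fin_two]
      field_simp
      simp
    have hne : Subgroup.normalizer (U : Set SL(2, F)) ≠ ⊤ := fun h => by
      obtain ⟨g, hg⟩ := uSL_one_conj_not_mem (F := F)
      exact hg ((Subgroup.mem_normalizer_iff.1 (h ▸ Subgroup.mem_top g) _).1 ⟨_, rfl⟩)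
    exact hs'.max _ Subgroup.le_normalizer hne hd
  obtain ⟨w, hw, hw1⟩ := (Subgroup.bot_or_exists_ne_one W).resolve_left hv'.ne
  obtain ⟨b₀, rfl⟩ := hWU hw
  set b := b₀.toAdd
  have hb : b ≠ 0 := fun h => hw1 (by
    have : b₀ = 1 := Multiplicative.toAdd.injective (h.trans toAdd_one.symm)
    rw [this, map_one])
  have hsq : ∀ t : F, CfsgLib.Classical.uSL (Multiplicative.ofAdd (t ^ 2 * b)) ∈ W := by
    intro t
    by_cases ht : t = 0
    · subst ht; simp
    · have h := (Subgroup.mem_normalizer_iff.1 (hv'.norm (htor (Units.mk0 t ht))) _).1 hw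
      convert h using 1
      refine Matrix.SpecialLinearGroup.ext _ _ fun i j => ?_
      have h2 := CfsgLib.Classical.uSL_coe (F := F) b
      rw [ofAdd_toAdd] at h2
      rw [CfsgLib.Classical.uSL_coe]
      fin_cases i <;> fin_cases j <;>
        simp [h2, coe_dEl, Matrix.SpecialLinearGroup.coe_mul, Matrix.SpecialLinearGroup.coe_inv, Matrix.mul_apply, Fin.sum_univ_two, Matrix.adjugate_fin_two, ht] <;> ring
  rintro _ ⟨c, rfl⟩
  obtain ⟨u, v, huv⟩ := exists_sum_two_squares (c.toAdd * b⁻¹)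
  have hc : c = Multiplicative.ofAdd (u ^ 2 * b) * Multiplicative.ofAdd (v ^ 2 * b) := by
    rw [← ofAdd_add, ← add_mul, ← huv, mul_assoc, inv_mul_cancel₀ hb, mul_one, ofAdd_toAdd]
  rw [hc, map_mul]
  exact mul_mem (hsq u) (hsq v)

end SL2

section Sz

open Cfsg.Lie CfsgLib.KnownB.Suzuki CfsgLib.KnownB.SzElem

variable {F : Type*} [Field F] [Fintype F] {e : ℕ}

theorem le_zGroup (he : Twist F e) {A : Subgroup (Sz F e)} (hA : A ≤ uGroup he) (h2 : ∀ a ∈ A, a ^ 2 = 1) :
    A ≤ zGroup he := by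
  intro g hg
  obtain ⟨⟨a, b⟩, rfl⟩ := hA hg
  have h := h2 _ hg
  rw [pow_two, P_mul, ← P_zero he] at h
  obtain ⟨-, h3⟩ := P_injective he h
  have hz : a ^ e * a = 0 := by
    have := he.two
    linear_combination h3 - b * this
  have ha : a = 0 := by
    rcases mul_eq_zero.1 hz with h' | h'
    · exact eq_zero_of_pow_eq_zero h'
    · exact h'
  exact ⟨b, by simp [ha]⟩

theorem sz_case (he : Twist F e) {Y N V : Subgroup (Sz F e)} (hs : Setup 2 Y N) (hv : Cand 2 N V)
    (hY : Nat.card Y = Fintype.card F) : V = Y := by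
  classical
  haveI : Fact (Nat.Prime 2) := ⟨Nat.prime_two⟩
  obtain ⟨S₀, hP⟩ := (isPGroup_of_elab hs.elab_y).exists_le_sylow
  obtain ⟨x, hx⟩ := MulAction.exists_smul_eq (Sz F e) S₀ (sylow2 he)
  let c : Sz F e ≃* Sz F e := MulAut.conj x
  have hYU : Y.map c.toMonoidHom ≤ uGroup he := by
    rintro _ ⟨y, hy, rfl⟩
    rw [← coe_sylow2 he, ← hx, Sylow.coe_subgroup_smul]
    exact Subgroup.smul_mem_pointwise_smul y (MulAut.conj x) _ (hP hy)
  have hzc : Nat.card (zGroup he) = Fintype.card F := by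
    rw [← Nat.card_eq_fintype_card]
    exact (Nat.card_congr (Equiv.ofBijective (fun b => (⟨P he 0 b, b, rfl⟩ : zGroup he))
      ⟨fun u v h => (P_injective he (congrArg Subtype.val h)).2,
        fun g => by obtain ⟨b, hb⟩ := g.2; exact ⟨b, Subtype.ext hb⟩⟩)).symm
  have hYe : Y.map c.toMonoidHom = zGroup he := Subgroup.eq_of_le_of_card_ge
    (le_zGroup he hYU (elab_map _ hs.elab_y).2)
    (le_of_eq (by rw [hzc, ← hY, Subgroup.card_map_of_injective c.injective]))
  refine eq_of_map_eq c ?_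
  have hs' := hs.map c
  have hv' := hv.map c
  rw [hYe] at hs' ⊢
  generalize N.map c.toMonoidHom = N' at hs' hv'
  generalize V.map c.toMonoidHom = V' at hv'
  have hBn : borel F e ≤ Subgroup.normalizer (zGroup he : Set (Sz F e)) := by
    intro g hg
    refine Subgroup.mem_normalizer_iff.2 fun h => ?_
    have h1 := borel_conj_z he hg
    constructor
    · intro hh
      rw [← h1]
      exact Subgroup.smul_mem_pointwise_smul h (MulAut.conj g) _ hh
    · intro hh
      rw [← h1, Subgroup.mem_pointwise_smul_iff_inv_smul_mem] at hh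
      simpa [MulAut.smul_def, mul_assoc] using hh
  have hBN : borel F e ≤ N' := hs'.max _
    (fun g hg => by obtain ⟨b, rfl⟩ := hg; exact P_mem_borel he 0 b)
    (fun h => W_notMem_borel he (h ▸ Subgroup.mem_top _))
  have hNB : N' ≤ borel F e := by
    intro g hg
    by_contra hgb
    obtain ⟨a, b, c', d, t, rfl⟩ := exists_bruhat' he g hgb
    have hW : W he ∈ Subgroup.normalizer (zGroup he : Set (Sz F e)) := by
      have h1 := hs'.norm hg
      have hl := hBn (P_mem_borel he a b)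
      have hr := hBn (mul_mem (P_mem_borel he c' d) (H_mem_borel he t))
      have := mul_mem (mul_mem (inv_mem hl) h1) (inv_mem hr)
      simpa [mul_assoc] using this
    obtain ⟨z, hz⟩ := (Subgroup.mem_normalizer_iff''.1 hW (P he 0 1)).1 ⟨1, rfl⟩
    have hb : (P he 0 0 * W he)⁻¹ * (P he 0 1 * W he) ∈ borel F e := by
      rw [P_zero, one_mul, ← mul_assoc, ← hz]
      exact P_mem_borel he 0 z
    exact zero_ne_one (P_W_P_mem_borel_iff he hb).2
  have hWU : V' ≤ uGroup he := le_of_sylow (uGroup_isPGroup he)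
    (fun Q hQ hle => (sylow2 he).is_maximal' hQ hle) (isPGroup_of_elab hv'.elab_v)
    (hv'.le.trans (hNB.trans (borel_le_normalizer he)))
  have hWZ : V' ≤ zGroup he := le_zGroup he hWU hv'.elab_v.2
  refine le_antisymm hWZ ?_
  obtain ⟨w, hw, hw1⟩ := (Subgroup.bot_or_exists_ne_one V').resolve_left hv'.ne
  obtain ⟨b, rfl⟩ := hWZ hw
  have hb : b ≠ 0 := fun h => hw1 (by rw [h]; exact P_zero he)
  rintro _ ⟨d, rfl⟩
  by_cases hd : d = 0
  · rw [hd]; show P he 0 0 ∈ V'; rw [P_zero]; exact one_mem V'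
  obtain ⟨t, ht⟩ := (units_pow_e2_bijective he).2 (Units.mk0 (d * b⁻¹) (mul_ne_zero hd (inv_ne_zero hb)))
  have h := (Subgroup.mem_normalizer_iff.1 (hv'.norm (hBN (H_mem_borel he t))) _).1 hw
  rw [H_conj_P, mul_zero] at h
  have ht' : (t : F) ^ (e + 2) = d * b⁻¹ := by
    simpa using congrArg (Units.val : Fˣ → F) ht
  rw [ht', mul_assoc, inv_mul_cancel₀ hb, mul_one] at h
  exact h

end Sz

theorem dihedral_case {r : ℕ} (hr : r.Prime) (hr2 : r ≠ 2) {Y N V : Subgroup (DihedralGroup r)}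
    (hs : Setup 2 Y N) (hv : Cand 2 N V) (hY : Y ≠ ⊥) : V = Y := by
  haveI : NeZero r := ⟨hr.ne_zero⟩
  haveI : Fact (Nat.Prime 2) := ⟨Nat.prime_two⟩
  have key : ∀ Q : Subgroup (DihedralGroup r), IsPGroup 2 Q → Nat.card Q ≤ 2 := by
    intro Q hQ
    obtain ⟨k, hk⟩ := hQ.exists_card_eq
    have h := Subgroup.card_subgroup_dvd_card Q
    rw [hk, DihedralGroup.nat_card] at h
    have hcop : Nat.Coprime (2 ^ k) r := ((Nat.coprime_primes Nat.prime_two hr).2 (Ne.symm hr2)).pow_left k
    rw [hk]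
    exact Nat.le_of_dvd two_pos (hcop.dvd_of_dvd_mul_right h)
  have hp := (isPGroup_of_elab hv.elab_v).to_sup_of_normal_right' (isPGroup_of_elab hs.elab_y) (hv.le.trans hs.norm)
  have h1 : ∀ A : Subgroup (DihedralGroup r), A ≠ ⊥ → A ≤ V ⊔ Y → A = V ⊔ Y := fun A hA hle =>
    Subgroup.eq_of_le_of_card_ge hle ((key _ hp).trans (by
      have := Subgroup.one_lt_card_iff_ne_bot A |>.2 hA
      omega))
  exact (h1 V hv.ne le_sup_left).trans (h1 Y hY le_sup_right).symm

end CfsgLib.LocalEven.RootBorel
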