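/-
`SL₂(q)`, `Sz(q)` and dihedral groups of twice prime order satisfy the hypotheses of `FixedFree`.
-/
import Cfsg.Agent.Lib.LocalEven.FixedFree
import Cfsg.Agent.Lib.LocalEven.RootBorel
import Cfsg.Agent.Lib.KnownB.SuzukiPartition
import Cfsg.Agent.Lib.KnownB.SuzukiFacts

set_option autoImplicit false
set_option linter.unusedSectionVars false
set_option linter.style.haveILetI false

open Matrix
open scoped MatrixGroups

namespace CfsgLib.LocalEven.FixedFreeModels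

open CfsgLib.LocalEven.FixedFree

section General

variable {X : Type*} [Group X] {p : ℕ}

theorem zpowers_isPGroup {y : X} (hy : y ^ p = 1) : IsPGroup p (Subgroup.zpowers y) := by
  rintro ⟨z, hz⟩
  obtain ⟨i, rfl⟩ := Subgroup.mem_zpowers_iff.1 hz
  refine ⟨1, Subtype.ext ?_⟩
  simp only [pow_one, Subgroup.coe_pow, Subgroup.coe_one]
  rw [← zpow_natCast, ← _root_.zpow_mul, mul_comm, _root_.zpow_mul, zpow_natCast, hy, _root_.one_zpow]

theorem conj_mem_normalizer {g y : X} {Y : Subgroup X} (h : y ∈ Subgroup.normalizer (cj g Y : Set X)) :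
    g⁻¹ * y * g ∈ Subgroup.normalizer (Y : Set X) := by
  refine Subgroup.mem_normalizer_iff.2 fun z => ?_
  have h1 := Subgroup.mem_normalizer_iff.1 h (g * z * g⁻¹)
  rw [show y * (g * z * g⁻¹) * y⁻¹ = g * (g⁻¹ * y * g * z * (g⁻¹ * y * g)⁻¹) * g⁻¹ by group] at h1
  exact (Subgroup.mem_map_iff_mem (f := (MulAut.conj g).toMonoidHom) (MulAut.conj g).injective).symm.trans
    (h1.trans (Subgroup.mem_map_iff_mem (f := (MulAut.conj g).toMonoidHom) (MulAut.conj g).injective))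

theorem elab_pow {Y : Subgroup X} (h : Cfsg.IsElementaryAbelian p Y) {y : X} (hy : y ∈ Y) : y ^ p = 1 := h.2 y hy

end General

section SL2

variable {F : Type*} [Field F] [Fintype F] {p : ℕ} [Fact p.Prime]

local notation "U" => CfsgLib.Classical.unipSL F

/-- The lower unitriangular element. -/
def lEl (t : F) : SL(2, F) := ⟨!![1, 0; t, 1], by simp [Matrix.det_fin_two]⟩

/-- The upper unitriangular element. -/
def uEl (t : F) : SL(2, F) := ⟨!![1, t; 0, 1], by simp [Matrix.det_fin_two]⟩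

theorem coe_lEl (t : F) : ((lEl t : SL(2, F)) : Matrix (Fin 2) (Fin 2) F) = !![1, 0; t, 1] := rfl

theorem coe_uEl (t : F) : ((uEl t : SL(2, F)) : Matrix (Fin 2) (Fin 2) F) = !![1, t; 0, 1] := rfl

theorem coe_wEl : ((RootBorel.wEl : SL(2, F)) : Matrix (Fin 2) (Fin 2) F) = !![0, -1; 1, 0] := rfl

theorem uEl_mem (t : F) : (uEl t : SL(2, F)) ∈ U :=
  (NaturalSL2.mem_unipSL_iff _).2 ⟨by simp [coe_uEl], by simp [coe_uEl], by simp [coe_uEl]⟩

theorem lEl_eq (t : F) : (lEl t : SL(2, F)) = RootBorel.wEl * uEl (-t) * RootBorel.wEl⁻¹ := by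
  refine Matrix.SpecialLinearGroup.ext _ _ fun i j => ?_
  fin_cases i <;> fin_cases j <;>
    simp [coe_lEl, coe_uEl, coe_wEl, Matrix.SpecialLinearGroup.coe_mul, Matrix.SpecialLinearGroup.coe_inv,
      Matrix.mul_apply, Fin.sum_univ_two, Matrix.adjugate_fin_two]

theorem elab_unipSL (hp : CharP F p) : ∀ y ∈ U, y ^ p = 1 := by
  rintro _ ⟨a, rfl⟩
  have ha : a ^ p = 1 := Multiplicative.toAdd.injective (by simp)
  rw [← map_pow, ha, map_one]

theorem sl2_ti [CharP F p] (g y : SL(2, F)) (hy : y ∈ U) (hy1 : y ≠ 1)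
    (hn : y ∈ Subgroup.normalizer (cj g U : Set SL(2, F))) : cj g U = U := by
  set z := g⁻¹ * y * g with hz
  have hzp : z ^ p = 1 := by
    rw [show z = MulAut.conj g⁻¹ y by simp [hz], ← map_pow, elab_unipSL ‹_› y hy, map_one]
  have hUp : IsPGroup p ↥U := fun u => ⟨1, Subtype.ext (by simpa using elab_unipSL ‹_› u u.2)⟩
  have hzU : z ∈ U := RootBorel.le_of_sylow hUp
    (fun Q hQ hle => (CfsgLib.Classical.unipSLSylow (F := F) p).is_maximal' hQ hle)
    (zpowers_isPGroup hzp) (Subgroup.zpowers_le.2 (conj_mem_normalizer hn)) (Subgroup.mem_zpowers z)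
  obtain ⟨y1, y2, y3⟩ := (NaturalSL2.mem_unipSL_iff y).1 hy
  obtain ⟨z1, z2, z3⟩ := (NaturalSL2.mem_unipSL_iff z).1 hzU
  have hb : (z : Matrix (Fin 2) (Fin 2) F) 0 1 ≠ 0 := by
    intro hb
    refine hy1 ?_
    have hz1 : z = 1 := Matrix.SpecialLinearGroup.ext _ _ fun i j => by
      fin_cases i <;> fin_cases j <;> simp [z1, z2, z3, hb]
    calc y = g * z * g⁻¹ := by simp [hz, mul_assoc]
      _ = 1 := by rw [hz1]; simp
  have he : g * z = y * g := by simp [hz, mul_assoc]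
  have h11 := congrArg (fun m : SL(2, F) => (m : Matrix (Fin 2) (Fin 2) F) 1 1) he
  simp [Matrix.SpecialLinearGroup.coe_mul, Matrix.mul_apply, Fin.sum_univ_two, y1, y2, y3, z1, z2, z3] at h11
  have hg : (g : Matrix (Fin 2) (Fin 2) F) 1 0 = 0 := h11.resolve_right hb
  refine Subgroup.eq_of_le_of_card_ge ?_
    (le_of_eq (Subgroup.card_map_of_injective (MulAut.conj g).injective).symm)
  rintro _ ⟨u, hu, rfl⟩
  obtain ⟨u1, u2, u3⟩ := (NaturalSL2.mem_unipSL_iff u).1 hu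
  have hdet := g.2
  rw [Matrix.det_fin_two, hg, mul_zero, sub_zero] at hdet
  refine (NaturalSL2.mem_unipSL_iff _).2 ⟨?_, ?_, ?_⟩ <;>
    simp [MulAut.conj_apply, Matrix.SpecialLinearGroup.coe_mul, Matrix.SpecialLinearGroup.coe_inv, Matrix.mul_apply,
      Fin.sum_univ_two, Matrix.adjugate_fin_two, u1, u2, u3, hg] <;> linear_combination hdet

/-- A noncentral element is conjugate to a product `u l`. -/
theorem exists_ul (x : SL(2, F)) {v₀ v₁ : F}
    (ht : v₀ * ((x : Matrix (Fin 2) (Fin 2) F) 1 0 * v₀ + (x : Matrix (Fin 2) (Fin 2) F) 1 1 * v₁) -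
      v₁ * ((x : Matrix (Fin 2) (Fin 2) F) 0 0 * v₀ + (x : Matrix (Fin 2) (Fin 2) F) 0 1 * v₁) ≠ 0) :
    ∃ (P : SL(2, F)) (s t : F), x = P * (uEl s * lEl t) * P⁻¹ := by
  set a := (x : Matrix (Fin 2) (Fin 2) F) 0 0 with ha
  set b := (x : Matrix (Fin 2) (Fin 2) F) 0 1 with hb
  set c := (x : Matrix (Fin 2) (Fin 2) F) 1 0 with hc
  set d := (x : Matrix (Fin 2) (Fin 2) F) 1 1 with hd
  have hdet : a * d - b * c = 1 := by rw [ha, hb, hc, hd, ← Matrix.det_fin_two]; exact x.2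
  set t := v₀ * (c * v₀ + d * v₁) - v₁ * (a * v₀ + b * v₁) with htdef
  let P : SL(2, F) := ⟨!![v₀, ((a * v₀ + b * v₁) - (a + d - 1) * v₀) / t; v₁, ((c * v₀ + d * v₁) - (a + d - 1) * v₁) / t],
    by
      rw [Matrix.det_fin_two]
      simp
      field_simp
      rw [htdef]
      ring⟩
  have hP : (P : Matrix (Fin 2) (Fin 2) F) = !![v₀, ((a * v₀ + b * v₁) - (a + d - 1) * v₀) / t;
      v₁, ((c * v₀ + d * v₁) - (a + d - 1) * v₁) / t] := rfl
  refine ⟨P, (a + d - 2) / t, t, ?_⟩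
  rw [eq_mul_inv_iff_mul_eq]
  refine Matrix.SpecialLinearGroup.ext _ _ fun i j => ?_
  fin_cases i <;> fin_cases j <;>
    simp [hP, coe_lEl, coe_uEl, Matrix.SpecialLinearGroup.coe_mul, Matrix.mul_apply, Fin.sum_univ_two, ← ha, ← hb,
      ← hc, ← hd] <;> field_simp <;>
    first
    | ring1
    | linear_combination (-v₀) * hdet
    | linear_combination v₀ * hdet
    | linear_combination (-v₁) * hdet
    | linear_combination v₁ * hdet

theorem eq_scalar (x : SL(2, F))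
    (h : ∀ v₀ v₁ : F, v₀ * ((x : Matrix (Fin 2) (Fin 2) F) 1 0 * v₀ + (x : Matrix (Fin 2) (Fin 2) F) 1 1 * v₁) -
      v₁ * ((x : Matrix (Fin 2) (Fin 2) F) 0 0 * v₀ + (x : Matrix (Fin 2) (Fin 2) F) 0 1 * v₁) = 0) :
    x = 1 ∨ (x : Matrix (Fin 2) (Fin 2) F) = -1 := by
  have h1 : (x : Matrix (Fin 2) (Fin 2) F) 1 0 = 0 := by simpa using h 1 0
  have h2 : (x : Matrix (Fin 2) (Fin 2) F) 0 1 = 0 := by simpa using h 0 1
  have h3 := h 1 1
  simp [h1, h2, sub_eq_zero] at h3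
  have hdet := x.2
  rw [Matrix.det_fin_two, h1, h2, h3, mul_zero, sub_zero] at hdet
  rcases mul_self_eq_one_iff.1 hdet with h4 | h4
  · left
    refine Matrix.SpecialLinearGroup.ext _ _ fun i j => ?_
    fin_cases i <;> fin_cases j <;> simp [h1, h2, h3, h4]
  · right
    ext i j
    fin_cases i <;> fin_cases j <;> simp [h1, h2, h3, h4]

theorem sl2_prod [CharP F p] (x : SL(2, F)) (hx : ¬ ∃ k, orderOf x = p ^ k) :
    ∃ g h s t : SL(2, F), ∃ k : ℕ, s ∈ U ∧ t ∈ U ∧ (g * s * g⁻¹ * (h * t * h⁻¹)) ^ p ^ k = x := by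
  have hp : p.Prime := Fact.out
  by_cases hv : ∃ v₀ v₁ : F,
      v₀ * ((x : Matrix (Fin 2) (Fin 2) F) 1 0 * v₀ + (x : Matrix (Fin 2) (Fin 2) F) 1 1 * v₁) -
        v₁ * ((x : Matrix (Fin 2) (Fin 2) F) 0 0 * v₀ + (x : Matrix (Fin 2) (Fin 2) F) 0 1 * v₁) ≠ 0
  · obtain ⟨v₀, v₁, ht⟩ := hv
    obtain ⟨P, s, t, he⟩ := exists_ul x ht
    refine ⟨P, P * RootBorel.wEl, uEl s, uEl (-t), 0, uEl_mem s, uEl_mem _, ?_⟩
    rw [pow_zero, pow_one, he, lEl_eq]
    group
  push Not at hv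
  rcases eq_scalar x hv with h | h
  · exact absurd ⟨0, by rw [h, orderOf_one, pow_zero]⟩ hx
  have hp2 : p ≠ 2 := fun h2 => by
    subst h2
    refine hx ⟨0, ?_⟩
    rw [pow_zero, orderOf_eq_one_iff]
    refine Matrix.SpecialLinearGroup.ext _ _ fun i j => ?_
    rw [h, Matrix.SpecialLinearGroup.coe_one, Matrix.neg_apply, CharTwo.neg_eq]
  refine ⟨1, RootBorel.wEl, uEl (-4), uEl (-1), 1, uEl_mem _, uEl_mem _, ?_⟩
  rw [← lEl_eq, one_mul, inv_one, mul_one, pow_one]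
  apply Subtype.ext
  have e : ((uEl (-4) * lEl 1 : SL(2, F)) : Matrix (Fin 2) (Fin 2) F) = -1 + !![-2, -4; 1, 2] := by
    ext i j
    fin_cases i <;> fin_cases j <;>
      simp [coe_uEl, coe_lEl, Matrix.SpecialLinearGroup.coe_mul, Matrix.mul_apply, Fin.sum_univ_two] <;> norm_num
  have hN : (!![-2, -4; 1, 2] : Matrix (Fin 2) (Fin 2) F) ^ 2 = 0 := by
    rw [pow_two]
    ext i j
    fin_cases i <;> fin_cases j <;> simp [Matrix.mul_apply, Fin.sum_univ_two] <;> norm_num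
  show ((uEl (-4) * lEl 1 : SL(2, F)) ^ p : SL(2, F)).1 = x.1
  rw [Matrix.SpecialLinearGroup.coe_pow, e, add_pow_char_of_commute p (Commute.neg_left (Commute.one_left _)),
    (hp.odd_of_ne_two hp2).neg_one_pow, show p = 2 + (p - 2) from (Nat.add_sub_cancel' hp.two_le).symm, pow_add,
    hN, zero_mul, add_zero]
  exact h.symm

theorem sl2_model {n : ℕ} (hq : Fintype.card F = p ^ n) {Y : Subgroup SL(2, F)}
    (hel : Cfsg.IsElementaryAbelian p Y) (hY : Nat.card Y = Fintype.card F) : Model p Y := by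
  haveI := charP_of_card_eq_prime_pow hq
  obtain ⟨P, hP⟩ := (RootBorel.isPGroup_of_elab hel).exists_le_sylow
  obtain ⟨x, hx⟩ := CfsgLib.Classical.sylowSL2_exists_conj P
  have hYP : Y = P := Subgroup.eq_of_le_of_card_ge hP
    (by rw [hY, CfsgLib.Classical.card_sylowSL2_subgroup P])
  have hU : Model p U := ⟨fun g y => sl2_ti (p := p) g y, fun x => sl2_prod (p := p) x⟩
  have e : (U).map (MulAut.conj x).toMonoidHom = Y := by
    rw [hYP, hx, Subgroup.pointwise_smul_def]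
    rfl
  exact e ▸ hU.map (MulAut.conj x : SL(2, F) ≃* SL(2, F))

end SL2

section Sz

open Cfsg.Lie CfsgLib.KnownB.Suzuki CfsgLib.KnownB.SzElem CfsgLib.KnownB.TICount

variable {F : Type*} [Field F] [Fintype F] {e : ℕ}

theorem z_sq (he : Twist F e) : ∀ y ∈ zGroup he, y ^ 2 = 1 := by
  rintro _ ⟨b, rfl⟩
  rw [pow_two, P_mul, ← P_zero he]
  have h2 := he.two
  congr 1 <;> simp [zero_pow (Nat.ne_zero_of_lt he.one_lt)]
  linear_combination b * h2

theorem zGroup_le_uGroup (he : Twist F e) : zGroup he ≤ uGroup he := by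
  rintro _ ⟨b, rfl⟩
  exact P_mem_uGroup he 0 b

theorem involution_conj_z (he : Twist F e) {t : Sz F e} (ht : t ^ 2 = 1) : ∃ g, g * t * g⁻¹ ∈ zGroup he := by
  haveI : Fact (Nat.Prime 2) := ⟨Nat.prime_two⟩
  obtain ⟨S, hS⟩ := (zpowers_isPGroup ht).exists_le_sylow
  obtain ⟨g, hg⟩ := MulAction.exists_smul_eq (Sz F e) S (sylow2 he)
  refine ⟨g, ?_⟩
  have hmem : g * t * g⁻¹ ∈ uGroup he := by
    rw [← coe_sylow2 he, ← hg, Sylow.coe_subgroup_smul]
    exact Subgroup.smul_mem_pointwise_smul t (MulAut.conj g) _ (hS (Subgroup.mem_zpowers t))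
  have h2 : (g * t * g⁻¹) ^ 2 = 1 := by rw [conj_pow, ht, mul_one, mul_inv_cancel]
  refine RootBorel.le_zGroup he (Subgroup.zpowers_le.2 hmem) (fun a ha => ?_) (Subgroup.mem_zpowers _)
  obtain ⟨i, rfl⟩ := Subgroup.mem_zpowers_iff.1 ha
  rw [← zpow_natCast, ← _root_.zpow_mul, mul_comm, _root_.zpow_mul, zpow_natCast, h2, _root_.one_zpow]

theorem sz_ti (he : Twist F e) (g y : Sz F e) (hy : y ∈ zGroup he) (hy1 : y ≠ 1)
    (hn : y ∈ Subgroup.normalizer (cj g (zGroup he) : Set (Sz F e))) : cj g (zGroup he) = zGroup he := by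
  haveI : Fact (Nat.Prime 2) := ⟨Nat.prime_two⟩
  set z := g⁻¹ * y * g with hz
  have hz2 : z ^ 2 = 1 := by
    rw [show z = MulAut.conj g⁻¹ y by simp [hz], ← map_pow, z_sq he y hy, map_one]
  have hZp : IsPGroup 2 (zGroup he) := fun u => ⟨1, Subtype.ext (by simpa using z_sq he u u.2)⟩
  -- `z` lies in a Sylow subgroup containing the centre
  obtain ⟨S, hS⟩ := ((zpowers_isPGroup hz2).to_sup_of_normal_right' hZp
    (Subgroup.zpowers_le.2 (conj_mem_normalizer hn))).exists_le_sylow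
  obtain ⟨x, hx⟩ := MulAction.exists_smul_eq (Sz F e) S (sylow2 he)
  have hmem : ∀ w ∈ (S : Subgroup (Sz F e)), x * w * x⁻¹ ∈ uGroup he := fun w hw => by
    rw [← coe_sylow2 he, ← hx, Sylow.coe_subgroup_smul]
    exact Subgroup.smul_mem_pointwise_smul w (MulAut.conj x) _ hw
  have hle : cj x (Subgroup.zpowers z ⊔ zGroup he) ≤ uGroup he := by
    rintro _ ⟨w, hw, rfl⟩
    exact hmem w (hS hw)
  have hxZ : cj x (zGroup he) = zGroup he := by
    refine Subgroup.eq_of_le_of_card_ge (RootBorel.le_zGroup he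
      ((Subgroup.map_mono le_sup_right).trans hle) ?_)
      (le_of_eq (Subgroup.card_map_of_injective (MulAut.conj x).injective).symm)
    rintro _ ⟨w, hw, rfl⟩
    rw [← map_pow, z_sq he w hw, map_one]
  have hzZ : z ∈ zGroup he := by
    have h1 : cj x (Subgroup.zpowers z) ≤ cj x (zGroup he) := by
      refine (RootBorel.le_zGroup he ((Subgroup.map_mono le_sup_left).trans hle) ?_).trans hxZ.ge
      rintro _ ⟨w, hw, rfl⟩
      obtain ⟨i, rfl⟩ := Subgroup.mem_zpowers_iff.1 hw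
      rw [← map_pow, ← zpow_natCast, ← _root_.zpow_mul, mul_comm, _root_.zpow_mul, zpow_natCast, hz2, _root_.one_zpow,
        map_one]
    exact (Subgroup.mem_map_iff_mem (f := (MulAut.conj x).toMonoidHom) (MulAut.conj x).injective).1
      (h1 ⟨z, Subgroup.mem_zpowers z, rfl⟩)
  obtain ⟨b, hb⟩ := hzZ
  obtain ⟨c, hc⟩ := hy
  have hb1 : P he 0 b ≠ 1 := by
    intro h
    refine hy1 ?_
    calc y = g * z * g⁻¹ := by simp [hz, mul_assoc]
      _ = 1 := by rw [← hb]; simp [h]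
  have hg : g⁻¹ ∈ borel F e := mem_borel_of_conj_fix he hb1 (g := y)
    (by simp only at hb; rw [hb, hz]; simp [mul_assoc]) (hc ▸ P_mem_borel he 0 c)
  have := borel_conj_z he (inv_mem_iff.1 hg)
  rwa [Subgroup.pointwise_smul_def] at this

/-- In `Sz(2)` an element of order 5 is inverted by an involution. -/
theorem inverted_small (he : Twist F e) (hq : Fintype.card F = 2) {x : Sz F e}
    (hx : ¬ ∃ k, orderOf x = 2 ^ k) : ∃ t : Sz F e, t ^ 2 = 1 ∧ t * x * t⁻¹ = x⁻¹ := by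
  classical
  haveI : Fact (Nat.Prime 5) := ⟨by norm_num⟩
  have hcard : Nat.card (Sz F e) = 20 := by rw [card_Sz he, hq]; norm_num
  -- no element of order 5 commutes with an involution
  have hno : ∀ t y : Sz F e, t ^ 2 = 1 → t ≠ 1 → orderOf y = 5 → t * y ≠ y * t := by
    intro t y ht ht1 hy hc
    obtain ⟨g, b, hb⟩ := involution_conj_z he ht
    have hb1 : P he 0 b ≠ 1 := fun h => ht1 (conj_eq_one_iff.1 (hb.symm.trans h))
    have hyb : (g * y * g⁻¹)⁻¹ ∈ borel F e := by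
      refine mem_borel_of_conj_fix he hb1 (g := P he 0 b) ?_ (P_mem_borel he 0 b)
      simp only at hb
      rw [hb]
      calc g * y * g⁻¹ * (g * t * g⁻¹) * (g * y * g⁻¹)⁻¹ = g * (y * t) * y⁻¹ * g⁻¹ := by group
        _ = _ := by rw [← hc]; group
    have h4 := Subgroup.orderOf_dvd_natCard _ hyb
    rw [orderOf_inv, show g * y * g⁻¹ = MulAut.conj g y from rfl, MulEquiv.orderOf_eq, hy, card_borel he, hq] at h4
    norm_num at h4
  have hn20 : orderOf x ∣ 20 := hcard ▸ orderOf_dvd_natCard x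
  have hn : orderOf x = 5 := by
    have h1 : orderOf x ∈ Nat.divisors 20 := Nat.mem_divisors.2 ⟨hn20, by norm_num⟩
    have hpos := orderOf_pos x
    rw [show Nat.divisors 20 = {1, 2, 4, 5, 10, 20} by decide] at h1
    simp only [Finset.mem_insert, Finset.mem_singleton] at h1
    rcases h1 with h | h | h | h | h | h
    · exact absurd ⟨0, h⟩ hx
    · exact absurd ⟨1, h⟩ hx
    · exact absurd ⟨2, h⟩ hx
    · exact h
    · exfalso
      refine hno (x ^ 5) (x ^ 2) (by rw [← pow_mul]; exact orderOf_dvd_iff_pow_eq_one.1 (by rw [h])) ?_ ?_ ((Commute.refl x).pow_pow _ _).eq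
      · intro h5; have := orderOf_dvd_of_pow_eq_one h5; rw [h] at this; norm_num at this
      · rw [orderOf_pow' x (by norm_num : (2 : ℕ) ≠ 0), h]; norm_num
    · exfalso
      refine hno (x ^ 10) (x ^ 4) (by rw [← pow_mul]; exact orderOf_dvd_iff_pow_eq_one.1 (by rw [h])) ?_ ?_ ((Commute.refl x).pow_pow _ _).eq
      · intro h5; have := orderOf_dvd_of_pow_eq_one h5; rw [h] at this; norm_num at this
      · rw [orderOf_pow' x (by norm_num : (4 : ℕ) ≠ 0), h]; norm_num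
  set t := P he (0 : F) 1
  have ht : t ^ 2 = 1 := z_sq he t ⟨1, rfl⟩
  have ht1 : t ≠ 1 := fun h => one_ne_zero (P_injective he (h.trans (P_zero he).symm)).2
  -- the subgroup of order 5 is normal
  obtain ⟨S, hS⟩ := (IsPGroup.of_card (p := 5) (n := 1) (by rw [Nat.card_zpowers, hn, pow_one]) :
    IsPGroup 5 (Subgroup.zpowers x)).exists_le_sylow
  have hScard : Nat.card S = 5 := by
    rw [S.card_eq_multiplicity, hcard]
    have h5 : (20 : ℕ).factorization 5 = 1 := by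
      rw [show (20 : ℕ) = 5 * 4 by norm_num, Nat.factorization_mul (by norm_num) (by norm_num), Finsupp.add_apply,
        (show Nat.Prime 5 by norm_num).factorization_self, Nat.factorization_eq_zero_of_not_dvd (by norm_num)]
    rw [h5, pow_one]
  have hone : Nat.card (Sylow 5 (Sz F e)) = 1 := by
    have h1 := card_sylow_modEq_one 5 (Sz F e)
    have h2 : Nat.card (Sylow 5 (Sz F e)) ∣ 4 := by
      refine S.card_dvd_index.trans (dvd_of_eq ?_)
      have := Subgroup.index_mul_card (S : Subgroup (Sz F e))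
      rw [hScard, hcard] at this
      omega
    have h3 : Nat.card (Sylow 5 (Sz F e)) ≤ 4 := Nat.le_of_dvd (by norm_num) h2
    unfold Nat.ModEq at h1
    omega
  have hSx : (S : Subgroup (Sz F e)) = Subgroup.zpowers x :=
    (Subgroup.eq_of_le_of_card_ge hS (by rw [Nat.card_zpowers, hn, hScard])).symm
  haveI : Subsingleton (Sylow 5 (Sz F e)) := (Nat.card_eq_one_iff_unique.1 hone).1
  have hmem : t * x * t⁻¹ ∈ Subgroup.zpowers x := by
    have h1 : t • S = S := Subsingleton.elim _ _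
    rw [← hSx]
    conv => arg 1; rw [← h1]
    exact Subgroup.smul_mem_pointwise_smul x (MulAut.conj t) _ (hS (Subgroup.mem_zpowers x))
  obtain ⟨i, hi⟩ := Subgroup.mem_zpowers_iff.1 hmem
  have hii : x ^ (i * i) = x := by
    rw [_root_.zpow_mul, hi, conj_zpow, hi]
    calc t * (t * x * t⁻¹) * t⁻¹ = t ^ 2 * x * (t ^ 2)⁻¹ := by rw [pow_two]; simp [mul_assoc]
      _ = x := by rw [ht]; simp
  have h2 : x ^ (i * i - 1) = 1 := by rw [_root_.zpow_sub, hii, zpow_one, mul_inv_cancel]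
  rw [← orderOf_dvd_iff_zpow_eq_one, hn, show i * i - 1 = (i - 1) * (i + 1) by ring] at h2
  refine ⟨t, ht, ?_⟩
  rcases (Nat.prime_iff_prime_int.1 (by norm_num : Nat.Prime 5)).dvd_mul.1 h2 with h3 | h3
  · exfalso
    have h4 : x ^ (i - 1) = 1 := orderOf_dvd_iff_zpow_eq_one.1 (by rwa [hn])
    rw [_root_.zpow_sub, zpow_one, mul_inv_eq_one, hi] at h4
    exact hno t x ht ht1 hn (mul_inv_eq_iff_eq_mul.1 h4)
  · have h4 : x ^ (i + 1) = 1 := orderOf_dvd_iff_zpow_eq_one.1 (by rwa [hn])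
    rw [_root_.zpow_add, zpow_one, hi] at h4
    exact eq_inv_of_mul_eq_one_left h4

/-- An element not of 2-power order is inverted by an involution. -/
theorem inverted {m : ℕ} (hF : Fintype.card F = 2 ^ (2 * m + 1)) {x : Sz F (2 ^ (m + 1))}
    (hx : ¬ ∃ k, orderOf x = 2 ^ k) : ∃ t : Sz F (2 ^ (m + 1)), t ^ 2 = 1 ∧ t * x * t⁻¹ = x⁻¹ := by
  classical
  rcases Nat.eq_zero_or_pos m with rfl | hm
  · exact inverted_small (twist_of_card hF) (by simpa using hF) hx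
  have hp := params_of_card hm hF
  have hx1 : x ≠ 1 := fun h => hx ⟨0, by rw [h, orderOf_one, pow_zero]⟩
  have back : ∀ (g : Sz F (2 ^ (m + 1))), (∃ t, t ^ 2 = 1 ∧ t * (g * x * g⁻¹) * t⁻¹ = (g * x * g⁻¹)⁻¹) →
      ∃ t, t ^ 2 = 1 ∧ t * x * t⁻¹ = x⁻¹ := by
    rintro g ⟨t, ht, he⟩
    refine ⟨g⁻¹ * t * g, ?_, ?_⟩
    · rw [show g⁻¹ * t * g = MulAut.conj g⁻¹ t by simp, ← map_pow, ht, map_one]
    · calc g⁻¹ * t * g * x * (g⁻¹ * t * g)⁻¹ = g⁻¹ * (t * (g * x * g⁻¹) * t⁻¹) * g := by group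
        _ = x⁻¹ := by rw [he]; group
  rcases exists_cases hp hx1 with ⟨-, g, hg⟩ | ⟨-, g, t, ht⟩ | hT
  · obtain ⟨k, hk⟩ := IsPGroup.iff_orderOf.1 (uGroup_isPGroup hp.twist) ⟨_, hg⟩
    refine absurd ⟨k, ?_⟩ hx
    rw [← (MulAut.conj g).orderOf_eq x]
    simpa [Subgroup.orderOf_mk] using hk
  · refine back g ⟨W hp.twist, by rw [pow_two, W_mul_W], ?_⟩
    rw [W_inv, show g * x * g⁻¹ = H _ hp.twist t from ht.symm, W_conj_H, H_inv]
  obtain ⟨A, B, hA, hB, -, -, hNA, hNB, hcover⟩ := exists_tori hp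
  obtain ⟨T, hT', hN, g, hg⟩ : ∃ T, IsTorus T ∧
      Nat.card (Subgroup.normalizer (T : Set (Sz F (2 ^ (m + 1))))) = 4 * Nat.card T ∧ ∃ g, g * x * g⁻¹ ∈ T := by
    rcases hcover hT with ⟨-, h⟩ | ⟨-, h⟩
    · exact ⟨A, hA, hNA, h⟩
    · exact ⟨B, hB, hNB, h⟩
  haveI : Fact (Nat.Prime 2) := ⟨Nat.prime_two⟩
  obtain ⟨t, ht⟩ := exists_prime_orderOf_dvd_card'
    (G := Subgroup.normalizer (T : Set (Sz F (2 ^ (m + 1))))) 2 (hN ▸ Dvd.dvd.mul_right (by norm_num) _)
  have ht2 : (t : Sz F (2 ^ (m + 1))) ^ 2 = 1 := orderOf_dvd_iff_pow_eq_one.1 (by rw [Subgroup.orderOf_coe, ht])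
  refine back g ⟨(t : Sz F (2 ^ (m + 1))), ht2, ?_⟩
  set y := g * x * g⁻¹
  have hy' : (t : Sz F (2 ^ (m + 1))) * y * (t : Sz F (2 ^ (m + 1)))⁻¹ ∈ T := (Subgroup.mem_normalizer_iff.1 t.2 y).1 hg
  have hcomm : ∀ a ∈ T, ∀ b ∈ T, a * b = b * a := by
    haveI := hT'.cyclic hp
    intro a ha b hb
    exact congrArg Subtype.val (IsCyclic.commGroup.mul_comm (⟨a, ha⟩ : T) ⟨b, hb⟩)
  set w := y * ((t : Sz F (2 ^ (m + 1))) * y * (t : Sz F (2 ^ (m + 1)))⁻¹) with hw
  by_contra hne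
  have hw1 : w ≠ 1 := fun h' => hne (inv_eq_of_mul_eq_one_right h').symm
  have htw : (t : Sz F (2 ^ (m + 1))) ∈ T := by
    refine (hT'.centralizer_eq hp (mul_mem hg hy') hw1).le ?_
    rw [Subgroup.mem_centralizer_singleton_iff]
    have e2 : (t : Sz F (2 ^ (m + 1))) * t = 1 := by rw [← pow_two, ht2]
    have e3 : ((t : Sz F (2 ^ (m + 1))))⁻¹ = t := inv_eq_of_mul_eq_one_right e2
    conv_rhs => rw [hcomm y hg _ hy']
    rw [e3]
    simp only [mul_assoc]
  have h1 := Subgroup.orderOf_dvd_natCard _ htw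
  rw [Subgroup.orderOf_coe, ht] at h1
  exact odd_sq_add_one hp (h1.trans (hT'.card_dvd hp))

theorem sz_prod {m : ℕ} (hF : Fintype.card F = 2 ^ (2 * m + 1)) (x : Sz F (2 ^ (m + 1)))
    (hx : ¬ ∃ k, orderOf x = 2 ^ k) :
    ∃ g h s t : Sz F (2 ^ (m + 1)), ∃ k : ℕ, s ∈ zGroup (twist_of_card hF) ∧ t ∈ zGroup (twist_of_card hF) ∧
      (g * s * g⁻¹ * (h * t * h⁻¹)) ^ 2 ^ k = x := by
  obtain ⟨t, ht, he⟩ := inverted hF hx
  have e2 : t * t = 1 := by rw [← pow_two, ht]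
  have e3 : t⁻¹ = t := inv_eq_of_mul_eq_one_right e2
  have htx : (t * x) ^ 2 = 1 := by
    rw [pow_two, show t * x * (t * x) = t * x * t⁻¹ * x by rw [e3]; simp [mul_assoc], he, inv_mul_cancel]
  obtain ⟨g, hg⟩ := involution_conj_z (twist_of_card hF) ht
  obtain ⟨h, hh⟩ := involution_conj_z (twist_of_card hF) htx
  refine ⟨g⁻¹, h⁻¹, _, _, 0, hg, hh, ?_⟩
  rw [pow_zero, pow_one]
  calc g⁻¹ * (g * t * g⁻¹) * g⁻¹⁻¹ * (h⁻¹ * (h * (t * x) * h⁻¹) * h⁻¹⁻¹) = t * t * x := by group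
    _ = x := by rw [e2, one_mul]

theorem sz_model {m : ℕ} (hF : Fintype.card F = 2 ^ (2 * m + 1)) {Y : Subgroup (Sz F (2 ^ (m + 1)))}
    (hel : Cfsg.IsElementaryAbelian 2 Y) (hY : Nat.card Y = Fintype.card F) : Model 2 Y := by
  haveI : Fact (Nat.Prime 2) := ⟨Nat.prime_two⟩
  set he := twist_of_card hF
  obtain ⟨S₀, hP⟩ := (RootBorel.isPGroup_of_elab hel).exists_le_sylow
  obtain ⟨x, hx⟩ := MulAction.exists_smul_eq (Sz F (2 ^ (m + 1))) S₀ (sylow2 he)
  have hYU : Y.map (MulAut.conj x).toMonoidHom ≤ uGroup he := by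
    rintro _ ⟨y, hy, rfl⟩
    rw [← coe_sylow2 he, ← hx, Sylow.coe_subgroup_smul]
    exact Subgroup.smul_mem_pointwise_smul y (MulAut.conj x) _ (hP hy)
  have hzc : Nat.card (zGroup he) = Fintype.card F := by
    rw [← Nat.card_eq_fintype_card]
    exact (Nat.card_congr (Equiv.ofBijective (fun b => (⟨P he 0 b, b, rfl⟩ : zGroup he))
      ⟨fun u v h => (P_injective he (congrArg Subtype.val h)).2,
        fun g => by obtain ⟨b, hb⟩ := g.2; exact ⟨b, Subtype.ext hb⟩⟩)).symm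
  have hYe : Y.map (MulAut.conj x).toMonoidHom = zGroup he := Subgroup.eq_of_le_of_card_ge
    (RootBorel.le_zGroup he hYU (RootBorel.elab_map _ hel).2)
    (le_of_eq (by rw [hzc, ← hY, Subgroup.card_map_of_injective (MulAut.conj x).injective]))
  have hZ : Model 2 (zGroup he) := ⟨fun g y => sz_ti he g y, fun x => sz_prod hF x⟩
  have h := hZ.map (MulAut.conj x).symm
  rw [← hYe, Subgroup.map_map] at h
  convert h using 1
  ext z
  simp

end Sz

theorem dihedral_model {r : ℕ} (hr : r.Prime) (hr2 : r ≠ 2) {Y : Subgroup (DihedralGroup r)}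
    (hel : Cfsg.IsElementaryAbelian 2 Y) (hY : Y ≠ ⊥) : Model 2 Y := by
  haveI : NeZero r := ⟨hr.ne_zero⟩
  haveI : Fact (Nat.Prime 2) := ⟨Nat.prime_two⟩
  have key : ∀ Q : Subgroup (DihedralGroup r), IsPGroup 2 Q → Nat.card Q ≤ 2 := by
    intro Q hQ
    obtain ⟨k, hk⟩ := hQ.exists_card_eq
    have h := Subgroup.card_subgroup_dvd_card Q
    rw [hk, DihedralGroup.nat_card] at h
    have hcop : Nat.Coprime (2 ^ k) r := ((Nat.coprime_primes Nat.prime_two hr).2 (Ne.symm hr2)).pow_left k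
    rw [hk]
    exact Nat.le_of_dvd two_pos (hcop.dvd_of_dvd_mul_right h)
  have hYp := RootBorel.isPGroup_of_elab hel
  have h2 : ∀ A : Subgroup (DihedralGroup r), IsPGroup 2 A → ∀ B ≤ A, B ≠ ⊥ → B = A := fun A hA B hB hB1 =>
    Subgroup.eq_of_le_of_card_ge hB ((key A hA).trans (Subgroup.one_lt_card_iff_ne_bot B |>.2 hB1))
  refine ⟨fun g y hy hy1 hn => ?_, fun x hx => ?_⟩
  · have hc : IsPGroup 2 (cj g Y) := hYp.map _
    have hsup : IsPGroup 2 ↥(Subgroup.zpowers y ⊔ cj g Y) :=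
      (zpowers_isPGroup (hel.2 y hy)).to_sup_of_normal_right' hc (Subgroup.zpowers_le.2 hn)
    have hyne : Subgroup.zpowers y ≠ ⊥ := fun h => hy1 (Subgroup.zpowers_eq_bot.1 h)
    have h3 : Subgroup.zpowers y = Y := h2 Y hYp _ (Subgroup.zpowers_le.2 hy) hyne
    have h4 := h2 _ hsup _ le_sup_left hyne
    have h5 := h2 _ hsup _ le_sup_right fun h => hY ((Subgroup.map_eq_bot_iff_of_injective Y
      (MulAut.conj g).injective).1 h)
    rw [h5, ← h4, h3]
  · obtain ⟨y, hy, hy1⟩ := (Subgroup.bot_or_exists_ne_one Y).resolve_left hY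
    have hconj : ∀ i : ZMod r, ∃ g, DihedralGroup.sr i = g * y * g⁻¹ := by
      intro i
      obtain ⟨S, hS⟩ := (zpowers_isPGroup (p := 2) (show DihedralGroup.sr i ^ 2 = 1 by
        rw [pow_two, DihedralGroup.sr_mul_self])).exists_le_sylow
      obtain ⟨T, hT⟩ := hYp.exists_le_sylow
      obtain ⟨g, hg⟩ := MulAction.exists_smul_eq (DihedralGroup r) T S
      have hyS : g * y * g⁻¹ ∈ (S : Subgroup (DihedralGroup r)) := by
        rw [← hg, Sylow.coe_subgroup_smul]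
        exact Subgroup.smul_mem_pointwise_smul y (MulAut.conj g) _ (hT hy)
      refine ⟨g, ?_⟩
      have hne : Subgroup.zpowers (DihedralGroup.sr i) ≠ ⊥ := fun h => by
        have := Subgroup.zpowers_eq_bot.1 h
        cases this
      rw [← h2 _ S.isPGroup' _ hS hne, Subgroup.mem_zpowers_iff] at hyS
      obtain ⟨k, hk⟩ := hyS
      have hsq : DihedralGroup.sr i * DihedralGroup.sr i = 1 := DihedralGroup.sr_mul_self i
      rcases Int.even_or_odd' k with ⟨j, rfl | rfl⟩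
      · rw [_root_.zpow_mul, zpow_two, hsq, _root_.one_zpow] at hk
        exact absurd (conj_eq_one_iff.1 hk.symm) hy1
      · rw [_root_.zpow_add, _root_.zpow_mul, zpow_two, hsq, _root_.one_zpow, zpow_one, one_mul] at hk
        exact hk
    cases x with
    | sr i => exact absurd ⟨1, by rw [DihedralGroup.orderOf_sr, pow_one]⟩ hx
    | r i =>
      obtain ⟨g, hg⟩ := hconj 0
      obtain ⟨h, hh⟩ := hconj i
      refine ⟨g, h, y, y, 0, hy, hy, ?_⟩
      rw [pow_zero, pow_one, ← hg, ← hh, DihedralGroup.sr_mul_sr, sub_zero]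

end CfsgLib.LocalEven.FixedFreeModels
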