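/-
Lower bounds for the codimension of fixed points from elements of a quotient whose order `r` makes `p` have
a large order: products of two conjugates.
-/
import Cfsg.Agent.Lib.LocalEven.SL2Bound
import Cfsg.Prelude.Def_Solvable

set_option autoImplicit false
set_option linter.style.haveILetI false
set_option linter.unusedSectionVars false

namespace CfsgLib.LocalEven.ModuleBounds

variable {G : Type*} [Group G] [Finite G] {p : ℕ} [Fact p.Prime] {Q : Type*} [Group Q]

/-- A `p`-element of `H` survives in a quotient by `O_{p'}(H)`. -/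
theorem quotient_ne_one {H : Subgroup G} (e : ↥H ⧸ Cfsg.pPrimeCore p ↥H ≃* Q) {s : G} (hs : s ∈ H) {j : ℕ}
    (hj : s ^ p ^ j = 1) (hs1 : s ≠ 1) : e (QuotientGroup.mk (⟨s, hs⟩ : ↥H)) ≠ 1 := fun h => by
  have h1 : (⟨s, hs⟩ : ↥H) ∈ Cfsg.pPrimeCore p ↥H := by
    rw [← QuotientGroup.eq_one_iff]
    exact e.injective (h.trans (map_one e).symm)
  have h2 : (⟨s, hs⟩ : ↥H) ^ p ^ j = 1 := Subtype.ext (by simpa using hj)
  have h3 := pow_gcd_eq_one.2 ⟨h2, pow_orderOf_eq_one (⟨s, hs⟩ : ↥H)⟩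
  have h4 : orderOf (⟨s, hs⟩ : ↥H) ∣ Nat.card (Cfsg.pPrimeCore p ↥H) := by
    rw [← Subgroup.orderOf_mk _ h1]; exact orderOf_dvd_natCard _
  have hcop : Nat.Coprime (p ^ j) (orderOf (⟨s, hs⟩ : ↥H)) :=
    Nat.Coprime.pow_left j ((Solvable.Cores.coprime_card_pPrimeCore p).coprime_dvd_left h4).symm
  rw [hcop, pow_one] at h3
  exact hs1 (congrArg Subtype.val h3)

/-- Two conjugates whose product maps to an element of order `r`. -/
theorem bounds_two {V H : Subgroup G} (hVc : IsMulCommutative V) (hVp : ∀ v ∈ V, v ^ p = 1)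
    (hHV : H ≤ Subgroup.normalizer (V : Set G)) (hf : H ⊓ Subgroup.centralizer (V : Set G) = ⊥)
    (φ : ↥H →* Q) (hφ : Function.Surjective φ) {a : G} (ha : a ∈ H) {h : Q} {r N : ℕ} (hr : r.Prime)
    (hrp : r ≠ p) (hN : orderOf (p : ZMod r) = N)
    (hord : orderOf (φ ⟨a, ha⟩ * (h * φ ⟨a, ha⟩ * h⁻¹)) = r) :
    p ^ N ≤ Nat.card V ∧ p ^ N ≤ ((V ⊓ Subgroup.centralizer ({a} : Set G)).relIndex V) ^ 2 := by
  obtain ⟨kk, hkk⟩ := hφ h
  set z : ↥H := ⟨a, ha⟩ * (kk * ⟨a, ha⟩ * kk⁻¹) with hz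
  have hzφ : orderOf (φ z) = r := by
    rw [← hord, hz, map_mul, map_mul, map_mul, map_inv, hkk]
  have hdvd : r ∣ orderOf z := hzφ ▸ orderOf_map_dvd φ z
  set y : G := ((z ^ (orderOf z / r) : ↥H) : G) with hy
  have hyord : orderOf y = r ^ 1 := by
    rw [hy, Subgroup.orderOf_coe, pow_one]
    exact orderOf_pow_orderOf_div (orderOf_pos z).ne' hdvd
  subst hN
  have key := SL2Bound.pow_le_relIndex hVc hVp hr hrp one_ne_zero (N := orderOf (p : ZMod r)) (by rw [pow_one])
    (hHV (z ^ (orderOf z / r)).2) hyord (fun hcen => by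
      rw [Nat.sub_self, pow_zero, pow_one] at hcen
      have h1 := (Subgroup.eq_bot_iff_forall _).1 hf _ ⟨(z ^ (orderOf z / r)).2, hcen⟩
      rw [← orderOf_eq_one_iff, hyord, pow_one] at h1
      exact hr.ne_one h1)
  refine ⟨key.trans (Nat.le_of_dvd Nat.card_pos (Subgroup.index_dvd_card _)), ?_⟩
  set A := V ⊓ Subgroup.centralizer ({a} : Set G) with hA
  have hle : A ⊓ A.map (MulAut.conj (kk : G)).toMonoidHom ≤ V ⊓ Subgroup.centralizer ({y} : Set G) := by
    rintro v ⟨⟨hvV, hva⟩, w, hw, rfl⟩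
    refine ⟨hvV, ?_⟩
    show (MulAut.conj (kk : G)) w ∈ Subgroup.centralizer ({y} : Set G)
    rw [Subgroup.mem_centralizer_singleton_iff]
    have hva : Commute ((MulAut.conj (kk : G)) w) a := Subgroup.mem_centralizer_singleton_iff.1 hva
    have h2 : Commute w a := Subgroup.mem_centralizer_singleton_iff.1 hw.2
    have h3 : Commute (MulAut.conj (kk : G) w) (MulAut.conj (kk : G) a) := h2.map _
    have h4 : Commute (MulAut.conj (kk : G) w) (a * ((kk : G) * a * (kk : G)⁻¹)) := Commute.mul_right hva h3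
    exact h4.pow_right _
  have hidx : (A.map (MulAut.conj (kk : G)).toMonoidHom).relIndex V = A.relIndex V := by
    conv_lhs => rw [← (Subgroup.mem_normalizer_iff_map_conj_eq.1 (hHV kk.2) : V.map _ = V)]
    exact Subgroup.relIndex_map_map_of_injective _ _ (MulAut.conj (kk : G)).injective
  have h5 := key.trans ((Nat.le_of_dvd (Nat.pos_of_ne_zero Subgroup.index_ne_zero_of_finite)
    (Subgroup.relIndex_dvd_of_le_left V hle)).trans Subgroup.relIndex_inf_le)
  rw [hidx, ← pow_two] at h5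
  exact h5

end CfsgLib.LocalEven.ModuleBounds
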