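/-
Elements of a Singer torus of `SU₃(q)` recognised by their trace, and the equation for writing a prescribed
trace as that of a product of three transvections.
-/
import Cfsg.Agent.Lib.Classical.HermField
import Mathlib

set_option autoImplicit false
set_option linter.unusedSectionVars false

open Matrix Polynomial

namespace CfsgLib.LocalEven.UnitaryTrace

/-- The characteristic equation of a matrix of size three. -/
theorem cayley_three {F : Type*} [CommRing F] (P : Matrix (Fin 3) (Fin 3) F) :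
    P ^ 3 - P.trace • P ^ 2 + (adjugate P).trace • P - P.det • (1 : Matrix (Fin 3) (Fin 3) F) = 0 := by
  ext i j
  fin_cases i <;> fin_cases j <;>
    simp [pow_succ, Matrix.mul_apply, Fin.sum_univ_three, adjugate_fin_three, det_fin_three, trace_fin_three] <;>
    ring

variable {F : Type*} [Field F] [Fintype F] {q r : ℕ}

/-- There is a trace forcing the order `r`, for a primitive divisor `r` of `q ^ 6 - 1`. -/
theorem exists_torus_trace {σ : F →+* F} (hF : Fintype.card F = q ^ 2) (hσ : ∀ x, σ x = x ^ q) (hr : r.Prime)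
    (hrF : (r : F) ≠ 0) (hdvd : (r : ℤ) ∣ (q : ℤ) ^ 2 - q + 1) (hprim : ¬ (r : ℤ) ∣ (q : ℤ) ^ 2 - 1) :
    ∃ τ : F, σ τ ≠ τ ∧ ∀ P : Matrix (Fin 3) (Fin 3) F, P.det = 1 → P.trace = τ → (adjugate P).trace = σ τ →
      P ^ r = 1 ∧ ∀ v : Fin 3 → F, v ≠ 0 → ∀ l : F, P *ᵥ v ≠ l • v := by
  classical
  haveI : Fact r.Prime := ⟨hr⟩
  let K := AlgebraicClosure F
  let ι : F →+* K := algebraMap F K
  haveI : NeZero ((r : ℕ) : K) := ⟨by
    rw [← map_natCast ι r]; exact (map_ne_zero ι).2 hrF⟩
  obtain ⟨ζ, hζ⟩ := HasEnoughRootsOfUnity.exists_primitiveRoot K r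
  have hζ0 : ζ ≠ 0 := hζ.ne_zero hr.ne_zero
  have hq2 := CfsgLib.Classical.two_le_of_card_sq hF
  have hpow : ∀ {a b : ℕ}, (r : ℤ) ∣ (a : ℤ) - b → ζ ^ a = ζ ^ b := by
    intro a b h
    rw [← pow_mod_orderOf, ← hζ.eq_orderOf, ← pow_mod_orderOf (x := ζ) (n := b), ← hζ.eq_orderOf]
    congr 1
    exact_mod_cast (Int.modEq_iff_dvd.2 h : (b : ℤ) ≡ a [ZMOD r]).symm
  obtain ⟨p, hp⟩ := CharP.exists F
  obtain ⟨m, hpp, hm⟩ := FiniteField.card F p
  haveI := Fact.mk hpp
  haveI : CharP K p := charP_of_injective_ringHom ι.injective p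
  obtain ⟨i, -, hi⟩ := (Nat.dvd_prime_pow hpp).1 (show q ∣ p ^ (m : ℕ) by
    rw [← hm, hF]; exact dvd_pow_self q two_ne_zero)
  have hfr : ∀ x y : K, (x + y) ^ q = x ^ q + y ^ q := fun x y => by rw [hi]; exact add_pow_char_pow ..
  have hfr2 : ∀ x y : K, (x + y) ^ q ^ 2 = x ^ q ^ 2 + y ^ q ^ 2 := fun x y => by
    rw [hi, ← pow_mul]; exact add_pow_char_pow ..
  set a := ζ with ha
  set b := ζ ^ q ^ 2 with hb
  set c := ζ ^ q ^ 4 with hc
  have habc : a * b * c = 1 := by
    rw [ha, hb, hc, ← pow_succ', ← pow_add, ← pow_zero ζ]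
    refine hpow ?_
    push_cast
    have e : (q : ℤ) ^ 2 + 1 + q ^ 4 - 0 = ((q : ℤ) ^ 2 - q + 1) * (q ^ 2 + q + 1) := by ring
    rw [e]
    exact hdvd.mul_right _
  have h3 : a * ζ ^ q ^ 3 = 1 := by
    rw [ha, ← pow_succ', ← pow_zero ζ]
    refine hpow ?_
    push_cast
    rw [show (q : ℤ) ^ 3 + 1 - 0 = ((q : ℤ) ^ 2 - q + 1) * (q + 1) by ring]
    exact hdvd.mul_right _
  have hq4 : (r : ℤ) ∣ (q : ℤ) ^ 6 - 1 := by
    rw [show (q : ℤ) ^ 6 - 1 = ((q : ℤ) ^ 2 - q + 1) * ((q + 1) * (q ^ 3 - 1)) by ring]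
    exact hdvd.mul_right _
  -- the conjugates
  have hab : a ≠ b := fun h => hprim (by
    have h1 : ζ ^ (q ^ 2) = ζ ^ 1 := by rw [pow_one]; exact h.symm
    rw [← pow_mod_orderOf, ← hζ.eq_orderOf, ← pow_mod_orderOf (x := ζ) (n := 1), ← hζ.eq_orderOf] at h1
    have h2 : (1 : ℕ) ≡ q ^ 2 [MOD r] :=
      (hζ.pow_inj (Nat.mod_lt _ hr.pos) (Nat.mod_lt _ hr.pos) h1).symm
    have h3 := Nat.modEq_iff_dvd.1 h2
    push_cast at h3
    exact h3)
  have hbq : b ^ q ^ 2 = c := by rw [hb, hc, ← pow_mul, ← pow_add]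
  have hcq : c ^ q ^ 2 = a := by
    rw [hc, ha, ← pow_mul, ← pow_add]
    conv_rhs => rw [← pow_one ζ]
    exact hpow (by push_cast; exact hq4)
  have hbc : b ≠ c := fun h => by
    have h1 : c = a := by rw [← hbq, h, hcq]
    exact hab (h1 ▸ h).symm
  have hac : a ≠ c := fun h => by
    have h1 : b = a := by
      calc b = a ^ q ^ 2 := rfl
        _ = c ^ q ^ 2 := by rw [h]
        _ = a := hcq
    exact hab h1.symm
  have h1r : ∀ x ∈ ({a, b, c} : Finset K), x ^ r = 1 := by
    intro x hx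
    simp only [Finset.mem_insert, Finset.mem_singleton] at hx
    rcases hx with rfl | rfl | rfl
    · exact hζ.pow_eq_one
    · rw [hb, pow_right_comm, hζ.pow_eq_one, one_pow]
    · rw [hc, pow_right_comm, hζ.pow_eq_one, one_pow]
  -- the trace lies in `F`
  set t := a + b + c with ht
  have htfix : t ^ q ^ 2 = t := by
    rw [ht, hfr2, hfr2, show a ^ q ^ 2 = b from rfl, hbq, hcq]; ring
  obtain ⟨τ, hτ⟩ : ∃ τ : F, ι τ = t := by
    by_contra hall
    push Not at hall
    have hne : (X ^ q ^ 2 - X : K[X]) ≠ 0 := FiniteField.X_pow_card_sub_X_ne_zero K (by nlinarith)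
    have hsub : insert t (Finset.univ.image ι) ⊆ (X ^ q ^ 2 - X : K[X]).roots.toFinset := by
      intro x hx
      rw [Multiset.mem_toFinset, mem_roots hne, IsRoot.def, eval_sub, eval_pow, eval_X, sub_eq_zero]
      rcases Finset.mem_insert.1 hx with rfl | hx
      · exact htfix
      · obtain ⟨f, -, rfl⟩ := Finset.mem_image.1 hx
        rw [← map_pow, ← hF, FiniteField.pow_card]
    have h1 := Finset.card_le_card hsub
    rw [Finset.card_insert_of_notMem (by simpa using hall), Finset.card_image_of_injective _ ι.injective,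
      Finset.card_univ, hF] at h1
    have h2 := (Multiset.toFinset_card_le _).trans (card_roots' (X ^ q ^ 2 - X : K[X]))
    rw [FiniteField.X_pow_card_sub_X_natDegree_eq K (by nlinarith)] at h2
    omega
  have hinv : ι (σ τ) = a * b + b * c + c * a := by
    rw [hσ, map_pow, hτ, ht, hfr, hfr]
    have e1 : a ^ q = a * b := by
      rw [ha, hb, ← pow_succ']
      refine hpow ?_
      push_cast
      rw [show (q : ℤ) - (q ^ 2 + 1) = -((q : ℤ) ^ 2 - q + 1) by ring]
      exact hdvd.neg_right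
    have e2 : b ^ q = b * c := by
      have h := habc
      have : a * (b ^ q) = a * (b * c) := by
        rw [← mul_assoc a b, habc, hb, ← pow_mul, ← pow_succ]; exact h3
      exact mul_left_cancel₀ hζ0 this
    have e3 : c ^ q = c * a := by
      rw [ha, hc, ← pow_mul, ← pow_succ, ← pow_succ]
      refine hpow ?_
      push_cast
      rw [show (q : ℤ) ^ (4 + 1) - (q ^ 4 + 1) = ((q : ℤ) ^ 2 - q + 1) * (q ^ 3 - q - 1) by ring]
      exact hdvd.mul_right _
    rw [e1, e2, e3]
  have hroot : ∀ x : K, x ^ 3 - t * x ^ 2 + ι (σ τ) * x - 1 = (x - a) * (x - b) * (x - c) := by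
    intro x
    rw [hinv, ht]
    linear_combination habc
  refine ⟨τ, fun hfix => ?_, fun P hdet htr hadj => ?_⟩
  · have h := hroot 1
    rw [hfix, hτ] at h
    have h' : ((1 : K) - a) * (1 - b) * (1 - c) = 0 := by linear_combination -h
    have one_ne : ∀ {e : ℕ}, ζ ^ e = 1 → r ∣ e := fun he => (hζ.pow_eq_one_iff_dvd _).1 he
    have hrq : ∀ e : ℕ, r ∣ q ^ e → False := fun e he => by
      have h1 : r ∣ q := hr.dvd_of_dvd_pow he
      apply hrF
      obtain ⟨d, hd⟩ := h1
      have : (q : F) = 0 := by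
        rw [hi, Nat.cast_pow, CharP.cast_eq_zero, zero_pow]
        rintro rfl
        rw [pow_zero] at hi
        omega
      have h3 : (r : ℤ) ∣ 1 := by
        have h4 : (r : ℤ) ∣ (q : ℤ) ^ 2 - q := by
          rw [hd]; push_cast; exact ⟨(r : ℤ) * d * d - d, by ring⟩
        have := dvd_sub hdvd h4
        simpa using this
      exact absurd (Int.natCast_dvd.1 h3) (by simpa using hr.ne_one)
    rcases mul_eq_zero.1 h' with h'' | h''
    · rcases mul_eq_zero.1 h'' with h''' | h'''
      · exact hζ.ne_one hr.one_lt (sub_eq_zero.1 h''').symm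
      · exact hrq _ (one_ne (sub_eq_zero.1 h''').symm)
    · exact hrq _ (one_ne (sub_eq_zero.1 h'').symm)
  · have hP := cayley_three P
    rw [hdet, htr, hadj, one_smul] at hP
    constructor
    · have h1 : aeval P (X ^ 3 - C τ * X ^ 2 + C (σ τ) * X - 1 : F[X]) = 0 := by
        simpa [Algebra.smul_def] using hP
      have h2 : (X ^ 3 - C τ * X ^ 2 + C (σ τ) * X - 1 : F[X]) ∣ X ^ r - 1 := by
        refine (Polynomial.map_dvd_map' ι).1 ?_
        have e : (X ^ 3 - C τ * X ^ 2 + C (σ τ) * X - 1 : F[X]).map ι =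
            ∏ x ∈ ({a, b, c} : Finset K), (X - C x) := by
          rw [Finset.prod_insert (by simp [hab, hac]), Finset.prod_insert (by simp [hbc]), Finset.prod_singleton]
          simp only [Polynomial.map_sub, Polynomial.map_add, Polynomial.map_mul, Polynomial.map_pow, map_X, map_C,
            Polynomial.map_one, hτ, hinv, ht]
          have h1 : (C a * C b * C c : K[X]) = 1 := by rw [← map_mul, ← map_mul, habc, map_one]
          simp only [map_add, map_mul]
          linear_combination h1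
        rw [e]
        refine Finset.prod_dvd_of_coprime ((pairwise_coprime_X_sub_C Function.injective_id).set_pairwise _) ?_
        intro x hx
        rw [dvd_iff_isRoot, IsRoot.def]
        simp [h1r x hx]
      obtain ⟨Q, hQ⟩ := h2
      have h3 := congrArg (aeval P) hQ
      rw [map_mul, h1, zero_mul, map_sub, map_pow, aeval_X, map_one, sub_eq_zero] at h3
      exact h3
    · intro v hv l hl
      have hk : ∀ k : ℕ, P ^ k *ᵥ v = l ^ k • v := by
        intro k
        induction k with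
        | zero => simp
        | succ k ih => rw [pow_succ', ← mulVec_mulVec, ih, mulVec_smul, hl, smul_smul, pow_succ]
      have h := congrArg (· *ᵥ v) hP
      simp only [sub_mulVec, add_mulVec, smul_mulVec, one_mulVec, zero_mulVec, hk, hl, smul_smul,
        ← sub_smul, ← add_smul] at h
      have h1 : (l ^ 3 - τ * l ^ 2 + σ τ * l - 1) • v = 0 := by
        rw [sub_smul, one_smul]; exact h
      have h2 := congrArg ι ((smul_eq_zero.1 h1).resolve_right hv)
      rw [map_sub, map_add, map_sub, map_mul, map_mul, map_pow, map_pow, map_one, map_zero, hτ, hroot] at h2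
      have hlfix : (ι l) ^ q ^ 2 = ι l := by rw [← map_pow, ← hF, FiniteField.pow_card]
      rcases mul_eq_zero.1 h2 with h2 | h2
      · rcases mul_eq_zero.1 h2 with h2 | h2
        · rw [sub_eq_zero.1 h2] at hlfix
          exact hab hlfix.symm
        · rw [sub_eq_zero.1 h2, hbq] at hlfix
          exact hbc hlfix.symm
      · rw [sub_eq_zero.1 h2, hcq] at hlfix
        exact hac hlfix

/-- The scalars needed for three transvections. -/
theorem exists_scalars {σ : F →+* F} (hc : CfsgLib.Classical.IsConjugation σ) {c0 : F} (hc0 : c0 ≠ 0)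
    (hc0' : c0 + σ c0 = 0) {E : F} (hE : σ E ≠ E) :
    ∃ k l D : F, k ≠ 0 ∧ l ≠ 0 ∧ σ k = k ∧ σ l = l ∧ k + l + D * σ D / (k * l) + c0 * D = E := by
  classical
  set Φ : F → F := fun s => (E - s) / c0 * σ ((E - s) / c0) with hΦ
  have hΦ0 : ∀ s, σ s = s → Φ s ≠ 0 := by
    intro s hs h
    rcases mul_eq_zero.1 h with h | h
    · rw [div_eq_zero_iff, or_iff_left hc0, sub_eq_zero] at h
      exact hE (by rw [h, hs])
    · rw [map_eq_zero, div_eq_zero_iff, or_iff_left hc0, sub_eq_zero] at h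
      exact hE (by rw [h, hs])
  suffices h : ∃ s k l : F, σ s = s ∧ σ k = k ∧ σ l = l ∧ k * l ≠ 0 ∧ k * l * (s - k - l) = Φ s by
    obtain ⟨s, k, l, -, hk, hl, hkl, he⟩ := h
    refine ⟨k, l, (E - s) / c0, left_ne_zero_of_mul hkl, right_ne_zero_of_mul hkl, hk, hl, ?_⟩
    show k + l + Φ s / (k * l) + c0 * ((E - s) / c0) = E
    rw [← he, mul_div_cancel_left₀ _ hkl, mul_div_cancel₀ _ hc0]
    ring
  have hΦfix : ∀ s, σ (Φ s) = Φ s := fun s => hc.norm_fixed _
  by_cases h2 : (2 : F) = 0
  · -- characteristic two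
    have hsq : Function.Bijective fun x : F => x * x := by
      refine Finite.injective_iff_bijective.1 fun x y h => ?_
      have : (x - y) * (x - y) = 0 := by linear_combination h + (y * y - x * y) * h2
      rwa [mul_self_eq_zero, sub_eq_zero] at this
    obtain ⟨k, hk⟩ := hsq.2 (Φ 1)
    have hkfix : σ k = k := hsq.1 (by
      show σ k * σ k = k * k
      rw [← map_mul, show k * k = Φ 1 from hk, hΦfix])
    refine ⟨1, k, k, map_one σ, hkfix, hkfix, by rw [show k * k = Φ 1 from hk]; exact hΦ0 1 (map_one σ), ?_⟩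
    rw [← show k * k = Φ 1 from hk]
    linear_combination -(k * k * k) * h2
  -- odd characteristic
  set μ := c0 * c0 with hμdef
  have hc0σ : σ c0 = -c0 := by linear_combination hc0'
  have hμ : σ μ = μ := by rw [hμdef, map_mul, hc0σ]; ring
  have hμ0 : μ ≠ 0 := mul_ne_zero hc0 hc0
  obtain ⟨j, hj, hj0, hL⟩ : ∃ j : F, σ j = j ∧ j ≠ 0 ∧ 1 + 4 / (μ * j) ≠ 0 := by
    by_cases h : 1 + 4 / μ = 0
    · refine ⟨-1, by simp, by simp, fun h' => h2 ?_⟩
      rw [mul_neg_one, div_neg] at h'
      linear_combination h + h'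
    · exact ⟨1, map_one σ, one_ne_zero, by rwa [mul_one]⟩
  let F0 : Subfield F := RingHom.eqLocusField σ (RingHom.id F)
  have hmem : ∀ {x : F}, x ∈ F0 ↔ σ x = x := Iff.rfl
  have h4 : σ (4 : F) = 4 := map_ofNat σ 4
  let L : F0 := ⟨1 + 4 / (μ * j), hmem.2 (by rw [map_add, map_div₀, map_mul, map_one, h4, hμ, hj])⟩
  let bb : F0 := ⟨-(2 * j) - 4 / (μ * j) * (E + σ E), hmem.2 (by
    rw [map_sub, map_neg, map_mul, map_mul, map_div₀, map_mul, map_ofNat, h4, map_add, hc.invol, hμ, hj]; ring)⟩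
  let cc : F0 := ⟨j * j + 4 / (μ * j) * (E * σ E), hmem.2 (by
    rw [map_add, map_mul, map_mul, map_mul, map_div₀, map_mul, h4, hc.invol, hμ, hj]; ring)⟩
  letI : Fintype F0 := Fintype.ofFinite _
  have hodd : Fintype.card F0 % 2 = 1 := FiniteField.odd_card_of_char_ne_two fun h => h2 (by
    haveI : CharP F0 2 := h ▸ ringChar.charP F0
    have : ((2 : ℕ) : F0) = 0 := CharP.cast_eq_zero F0 2
    have := congrArg F0.subtype this
    rw [map_natCast, map_zero] at this
    exact_mod_cast this)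
  obtain ⟨s, t, hst⟩ := FiniteField.exists_root_sum_quadratic
    (f := (C L * X ^ 2 + C bb * X + C cc : F0[X])) (g := (-(X ^ 2) : F0[X]))
    (degree_quadratic (fun h => hL (congrArg Subtype.val h))) (by rw [degree_neg, degree_X_pow]; rfl) hodd
  have hs : σ (s : F) = s := hmem.1 s.2
  have ht : σ (t : F) = t := hmem.1 t.2
  have he := congrArg Subtype.val hst
  simp only [eval_add, eval_mul, eval_C, eval_pow, eval_X, eval_neg, Subfield.coe_add, Subfield.coe_mul,
    SubmonoidClass.coe_pow, Subfield.coe_neg, Subfield.coe_zero, L, bb, cc] at he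
  have hΦs : Φ (s : F) = -(E - s) * (σ E - s) / μ := by
    rw [hΦ, hμdef]
    simp only [map_div₀, map_sub, hs, hc0σ]
    field_simp
  have hkl : ((s - j + t : F) / 2) * ((s - j - t) / 2) = Φ (s : F) / j := by
    rw [hΦs]
    field_simp
    field_simp at he
    linear_combination he
  refine ⟨s, (s - j + t) / 2, (s - j - t) / 2, hs, by simp [hs, hj, ht, map_ofNat],
    by simp [hs, hj, ht, map_ofNat], by rw [hkl]; exact div_ne_zero (hΦ0 _ hs) hj0, ?_⟩
  rw [hkl, show (s : F) - (s - j + t) / 2 - (s - j - t) / 2 = j by field_simp; ring, div_mul_cancel₀ _ hj0]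

end CfsgLib.LocalEven.UnitaryTrace
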