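/-
In `PSU₃(q)` an element of order `p` centralised by a Sylow `p`-subgroup has three conjugates whose product
has order a primitive prime divisor of `q ^ 6 - 1`.
-/
import Cfsg.Agent.Lib.LocalEven.UnitaryTrace
import Cfsg.Agent.Lib.KnownC.AutPSU.Main

set_option autoImplicit false
set_option linter.unusedSectionVars false

open Matrix CfsgLib.Classical CfsgLib.KnownC.AutPSU
open scoped Pointwise

namespace CfsgLib.LocalEven.UnitaryThree

section Abstract

variable {F : Type*} [Field F] {V : Type*} [AddCommGroup V] [Module F V] {σ : F →+* F}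
  {B : V →ₛₗ[σ] V →ₗ[F] F} [hB : UCtx B] {p : ℕ} [Fact p.Prime] [CharP F p]

include hB

/-- A lift commuting with the radical modulo the centre commutes with it. -/
theorem lift_commute {g u : sIsom B} (hu : u ^ (p * p) = 1)
    (h : Commute (QuotientGroup.mk g : PG B) (QuotientGroup.mk u)) : g * u = u * g := by
  set z := u⁻¹ * (g * u * g⁻¹) with hz
  have hzc : z ∈ Subgroup.center (sIsom B) := by
    rw [← QuotientGroup.eq_one_iff, hz, QuotientGroup.mk_mul, QuotientGroup.mk_mul, QuotientGroup.mk_mul,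
      QuotientGroup.mk_inv, QuotientGroup.mk_inv, h.eq, mul_inv_cancel_right, inv_mul_cancel]
  have hconj : g * u * g⁻¹ = u * z := by rw [hz, mul_inv_cancel_left]
  have h1 : (u * z) ^ (p * p) = 1 := by rw [← hconj, conj_pow, hu, mul_one, mul_inv_cancel]
  have hcomm : Commute u z := Subgroup.mem_center_iff.1 hzc u
  rw [hcomm.mul_pow, hu, one_mul, pow_mul] at h1
  have h2 := center_pow_eq_one (B := B) (pow_mem hzc p) h1
  have h3 := center_pow_eq_one (B := B) hzc h2
  rw [h3, mul_one] at hconj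
  exact mul_inv_eq_iff_eq_mul.1 hconj

/-- An element of order `p` commuting with the radical is a transvection. -/
theorem exists_transv_of_commute {P : IsoPts B} {x : PG B} (hxp : x ^ p = 1) (hx1 : x ≠ 1)
    (hcomm : ∀ y ∈ radGrp P, Commute x y) :
    ∃ r : V, r ≠ 0 ∧ B r r = 0 ∧ ∃ c : F, c ≠ 0 ∧ c + σ c = 0 ∧ x = QuotientGroup.mk (uzE B r 0 c) := by
  haveI := hB.fin; haveI := hB.findim
  obtain ⟨g, rfl, hgp⟩ := exists_lift hxp
  have hP : P = isoPt B (Projectivization.rep_nonzero P.1) P.2 := Subtype.ext (Projectivization.mk_rep P.1).symm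
  set r := P.1.rep with hrdef
  have hr0 : r ≠ 0 := Projectivization.rep_nonzero _
  have hr : B r r = 0 := P.2
  have hex : ∀ {z : V} {c : F}, RadCond B r z c → g * uzE B r z c = uzE B r z c * g := fun {z c} h =>
    lift_commute (p := p) (uzE_pow_char h p) (hcomm _ ⟨z, c, h, rfl⟩)
  have hfixu : ∀ {z : V} {c : F}, RadCond B r z c → uzE B (g.1.1 r) (g.1.1 z) c = uzE B r z c := fun {z c} h => by
    rw [← uzE_conj h g, hex h, mul_inv_cancel_right]
  obtain ⟨s, hs, hrs⟩ := exists_partner (B := B) hr0 hr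
  obtain ⟨e, he0, he⟩ := hB.herm.conj.exists_trace_zero
  -- `g` fixes `r`
  have hgr : g.1.1 r = r := by
    have h := radCond_tv (B := B) hr he
    have h' := hfixu h
    rw [map_zero] at h'
    have h2 := congrArg (fun k : sIsom B => k.1.1 s) h'
    simp only [uzE_apply h, uzE_apply (show RadCond B (g.1.1 r) 0 e by simpa using radCond_conj h g), smul_zero,
      add_zero, map_zero, LinearMap.zero_apply, sub_zero, hrs, mul_one, add_right_inj] at h2
    obtain ⟨a, ha⟩ : ∃ a : F, g.1.1 r = a • r := by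
      by_cases hd : e * B (g.1.1 r) s = 0
      · rw [hd, zero_smul, eq_comm, smul_eq_zero] at h2
        exact absurd h2 (by simp [he0, hr0])
      · exact ⟨(e * B (g.1.1 r) s)⁻¹ * e, by rw [mul_smul, ← h2, inv_smul_smul₀ hd]⟩
    have hpow : ∀ k : ℕ, (g ^ k).1.1 r = a ^ k • r := by
      intro k
      induction k with
      | zero => simp
      | succ k ih =>
        rw [pow_succ']
        show g.1.1 ((g ^ k).1.1 r) = _
        rw [ih, map_smul, ha, smul_smul, pow_succ]
    have h1 := hpow p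
    rw [hgp] at h1
    have hap : a ^ p = 1 := smul_left_injective F hr0 (by simpa using h1.symm)
    rw [ha, frobenius_inj F p (show frobenius F p a = frobenius F p 1 by
      rw [frobenius_def, frobenius_def, hap, one_pow]), one_smul]
  -- `g` is unipotent on `r^⊥`
  have hd : ∀ z : V, ∃ d : F, d + σ d + B z z = 0 := fun z => by
    obtain ⟨d, hd⟩ := hB.herm.conj.exists_trace_eq (a := -B z z) (by rw [map_neg, hB.herm.self_fixed])
    exact ⟨d, by rw [hd, neg_add_cancel]⟩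
  have hcase : ∀ z, B r z = 0 → ∃ t : F, g.1.1 z - z = t • r := by
    intro z hz
    obtain ⟨d, hd⟩ := hd z
    have h : RadCond B r z d := ⟨hr, hz, hd⟩
    have h' := hfixu h
    have hh := radCond_conj h g
    rw [hgr] at h' hh
    have h2 := congrArg (fun k : sIsom B => k.1.1 s) h'
    simp only [uzE_apply h, uzE_apply hh, hrs, one_smul, mul_one] at h2
    exact ⟨B (g.1.1 z) s - B z s, by linear_combination (norm := module) h2⟩
  obtain ⟨z0, c0, hc0, rfl⟩ := eq_uzE_of_unipotent hr0 hr hgr hcase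
  -- commuting with the whole radical
  have hsymm : ∀ w, B r w = 0 → B z0 w = B w z0 := by
    intro w hw
    obtain ⟨d, hd⟩ := hd w
    have h : RadCond B r w d := ⟨hr, hw, hd⟩
    have h1 := hex h
    rw [uzE_mul hc0 h, uzE_mul h hc0] at h1
    have h2 := congrArg (fun k : sIsom B => k.1.1 s) h1
    simp only [uzE_apply (radCond_mul hc0 h), uzE_apply (radCond_mul h hc0), hrs, one_smul, mul_one, map_add,
      LinearMap.add_apply] at h2
    have h3 : (B z0 w - B w z0) • r = 0 := by linear_combination (norm := module) -h2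
    exact sub_eq_zero.1 ((smul_eq_zero.1 h3).resolve_right hr0)
  obtain ⟨a, ha⟩ := hB.herm.conj.exists_not_fixed
  have hperp : ∀ w, B r w = 0 → B z0 w = 0 := by
    intro w hw
    have h1 := hsymm (a • w) (by rw [map_smul, hw, smul_zero])
    rw [map_smul, map_smulₛₗ, LinearMap.smul_apply, smul_eq_mul, smul_eq_mul, ← hsymm w hw] at h1
    by_contra hne
    exact ha (mul_right_cancel₀ hne h1).symm
  obtain ⟨t, rfl⟩ : ∃ t : F, z0 = t • r := by
    by_contra hall
    push Not at hall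
    obtain ⟨w, hw, hw'⟩ := exists_dual (B := B) hall
    exact hw' (hperp w hw)
  have hc1 : (c0 + t - σ t) + σ (c0 + t - σ t) = 0 := by
    have := hc0.2.2
    rw [map_smul, map_smulₛₗ, LinearMap.smul_apply, hr, smul_zero, smul_zero, add_zero] at this
    rw [map_sub, map_add, sigma_invol (B := B)]
    linear_combination this
  have hshift : uzE B r (t • r) c0 = uzE B r 0 (c0 + t - σ t) := by
    have h1 := radCond_tv (B := B) hr hc1
    have := uzE_shift (t := t) h1 (by rwa [zero_add, show c0 + t - σ t + σ t - t = c0 by ring])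
    rwa [zero_add, show c0 + t - σ t + σ t - t = c0 by ring] at this
  refine ⟨r, hr0, hr, _, fun h => hx1 ?_, hc1, by rw [hshift]⟩
  rw [hshift, h, uzE_zero hr, QuotientGroup.mk_one]

/-- The special group is transitive on non-zero isotropic vectors. -/
theorem exists_move {u v : V} (hu : u ≠ 0) (hu0 : B u u = 0) (hv : v ≠ 0) (hv0 : B v v = 0) :
    ∃ g : sIsom B, g.1.1 u = v := by
  obtain ⟨g, hg⟩ := (tsub_pretransitive (B := B) (k := 1)).exists_smul_eq (ptLine hu hu0) (ptLine hv hv0)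
  have hmem : g.1.1 u ∈ (g • ptLine hu hu0).1 := ⟨u, Submodule.mem_span_singleton_self u, rfl⟩
  rw [hg] at hmem
  obtain ⟨a, ha⟩ := Submodule.mem_span_singleton.1 hmem
  have ha0 : a ≠ 0 := by
    rintro rfl
    rw [zero_smul, eq_comm, LinearEquiv.map_eq_zero_iff] at ha
    exact hu ha
  obtain ⟨h, hh⟩ := exists_scale (B := B) hv hv0 (inv_ne_zero ha0)
  refine ⟨h * g, ?_⟩
  show h.1.1 (g.1.1 u) = v
  rw [← ha, map_smul, hh, smul_smul, mul_inv_cancel₀ ha0, one_smul]

/-- Transvections are conjugate to all their fixed multiples at any isotropic vector. -/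
theorem exists_conj_transv {u v : V} (hu : u ≠ 0) (hu0 : B u u = 0) (hv : v ≠ 0) (hv0 : B v v = 0) {c : F}
    (hc : c + σ c = 0) {k : F} (hk : σ k = k) (hk0 : k ≠ 0) :
    ∃ g : sIsom B, g * uzE B u 0 c * g⁻¹ = uzE B v 0 (k * c) := by
  haveI := hB.fin
  obtain ⟨l, hl⟩ := hB.herm.conj.exists_norm_eq hk
  have hl0 : l ≠ 0 := by rintro rfl; rw [zero_mul] at hl; exact hk0 hl.symm
  obtain ⟨g, hg⟩ := exists_move (B := B) hu hu0 (smul_ne_zero hl0 hv) ((self_smul_eq_zero hl0 v).2 hv0)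
  refine ⟨g, ?_⟩
  have h1 := uzE_conj (radCond_tv hu0 hc) g
  rw [map_zero, hg] at h1
  have h2 : RadCond B v (σ l • (0 : V)) (l * σ l * c) := radCond_smul l (radCond_tv hv0 hc)
  rw [h1, uzE_smul (radCond_tv ((self_smul_eq_zero hl0 v).2 hv0) hc) h2, smul_zero, hl]

end Abstract

section Product

variable {F : Type*} [Field F] [Fintype F] {q r : ℕ}

/-- Three matrices `1 + c w`, `w` of rank one. -/
theorem trace_three {v₁ v₂ v₃ w₁ w₂ w₃ : Fin 3 → F} {c₁ c₂ c₃ : F} (h₁ : w₁ ⬝ᵥ v₁ = 0) (h₂ : w₂ ⬝ᵥ v₂ = 0)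
    (h₃ : w₃ ⬝ᵥ v₃ = 0) :
    ((1 + c₁ • vecMulVec v₁ w₁) * (1 + c₂ • vecMulVec v₂ w₂) * (1 + c₃ • vecMulVec v₃ w₃)).trace =
      3 + c₁ * c₂ * (w₁ ⬝ᵥ v₂ * (w₂ ⬝ᵥ v₁)) + c₁ * c₃ * (w₁ ⬝ᵥ v₃ * (w₃ ⬝ᵥ v₁)) +
        c₂ * c₃ * (w₂ ⬝ᵥ v₃ * (w₃ ⬝ᵥ v₂)) + c₁ * c₂ * c₃ * (w₁ ⬝ᵥ v₂ * (w₂ ⬝ᵥ v₃) * (w₃ ⬝ᵥ v₁)) := by
  simp only [dotProduct, Fin.sum_univ_three] at h₁ h₂ h₃
  simp only [trace_fin_three, Matrix.mul_apply, Fin.sum_univ_three, Matrix.add_apply, Matrix.one_apply_eq,
    Matrix.smul_apply, vecMulVec_apply, smul_eq_mul, dotProduct, Matrix.one_apply, Fin.reduceEq, if_false, if_true,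
    zero_add]
  linear_combination c₁ * h₁ + c₂ * h₂ + c₃ * h₃

variable [Fact (Fintype.card F = q ^ 2)]

/-- The root element of a transvection as a matrix. -/
theorem symm_uzE {θ : F →+* F} (hθ : ∀ x, θ x = x ^ q) [UCtx (stdHerm θ 3)] {v : Fin 3 → F}
    (hv : stdHerm θ 3 v v = 0) {c : F} (hc : c + θ c = 0) :
    (((suEquiv hθ).symm (uzE (stdHerm θ 3) v 0 c)).1 : Matrix (Fin 3) (Fin 3) F) =
      1 + c • vecMulVec v fun i => θ (v i) := by
  refine ext_of_mulVec_single fun j => ?_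
  rw [← suEquiv_apply hθ, MulEquiv.apply_symm_apply, uzE_apply (radCond_tv hv hc)]
  simp only [smul_zero, add_zero, map_zero, LinearMap.zero_apply, sub_zero, add_mulVec, one_mulVec, smul_mulVec,
    vecMulVec_mulVec]
  simp only [stdHerm_apply, dotProduct, mul_smul, op_smul_eq_smul]

theorem adjugate_trace {θ : F →+* F} (hθ : ∀ x, θ x = x ^ q) (A : Cfsg.SU 3 F q) :
    (adjugate (A.1 : Matrix (Fin 3) (Fin 3) F)).trace = θ (A.1 : Matrix (Fin 3) (Fin 3) F).trace := by
  set M := (A.1 : Matrix (Fin 3) (Fin 3) F)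
  have hM : (M.map θ)ᵀ * M = 1 := by
    ext i j
    have h := (suEquiv hθ A).1.2 (Pi.single i 1) (Pi.single j 1)
    rw [suEquiv_apply, suEquiv_apply, stdHerm_apply, stdHerm_apply] at h
    simp only [Matrix.mulVec_single_one, Matrix.col_apply] at h
    rw [Matrix.mul_apply]
    simp only [Matrix.transpose_apply, Matrix.map_apply]
    rw [h]
    rcases eq_or_ne i j with rfl | hij
    · simp [Pi.single_apply, apply_ite θ]
    · simp [Pi.single_apply, Matrix.one_apply, apply_ite θ, hij, hij.symm]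
  have hdet : M.det = 1 := A.1.2
  have e : (M.map θ)ᵀ * (M * adjugate M) = adjugate M := by rw [← Matrix.mul_assoc, hM, Matrix.one_mul]
  rw [mul_adjugate, hdet, one_smul, Matrix.mul_one] at e
  rw [← e, trace_transpose]
  simp [Matrix.trace, map_sum]

/-- In `PSU₃(q)`, three conjugates of an element of order `p` central in a Sylow `p`-subgroup multiply to an
element of order `r`. -/
theorem exists_product {p : ℕ} [Fact p.Prime] [CharP F p] (hq3 : 3 ≤ q) (hr : r.Prime) (hrp : r ≠ p)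
    (hdvd : (r : ℤ) ∣ (q : ℤ) ^ 2 - q + 1) (hprim : ¬ (r : ℤ) ∣ (q : ℤ) ^ 2 - 1)
    (S : Sylow p (Cfsg.PSU 3 F q)) {x : Cfsg.PSU 3 F q} (hxp : x ^ p = 1) (hx1 : x ≠ 1)
    (hxS : ∀ y ∈ S, Commute x y) :
    ∃ h k : Cfsg.PSU 3 F q, orderOf (x * (h * x * h⁻¹) * (k * x * k⁻¹)) = r := by
  classical
  have hF : Fintype.card F = q ^ 2 := Fact.out
  obtain ⟨θ, hθ, hc⟩ := exists_frob hF
  haveI := uctx hθ hc (le_refl 3) (by omega)
  haveI : Finite (sIsom (stdHerm θ 3)) := finite_sIsom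
  set B := stdHerm θ 3 with hBdef
  set e := pgEquiv (n := 3) (F := F) (q := q) hθ
  -- a conjugate of `x` commuting with a radical
  obtain ⟨w0, hw00, hw0⟩ := exists_iso (B := B)
  set P := isoPt B hw00 hw0 with hPdef
  obtain ⟨S', hS'⟩ := IsPGroup.exists_le_sylow (p := p) (G := PG B) (P := radGrp P)
    (fun y => ⟨2, Subtype.ext (by simpa using radGrp_pow_char (p := p) y.2)⟩)
  obtain ⟨m, hm⟩ := MulAction.exists_smul_eq (Cfsg.PSU 3 F q) S
    (S'.mapSurjective (f := e.symm.toMonoidHom) e.symm.surjective)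
  have hcom : ∀ y ∈ radGrp P, Commute (e (m * x * m⁻¹)) y := by
    intro y hy
    have h1 : e.symm y ∈ (S'.mapSurjective (f := e.symm.toMonoidHom) e.symm.surjective : Subgroup _) :=
      ⟨y, hS' hy, rfl⟩
    rw [← hm] at h1
    have h2 : m⁻¹ * e.symm y * m ∈ S := by
      have : e.symm y ∈ MulAut.conj m • (S : Subgroup (Cfsg.PSU 3 F q)) := h1
      rw [Subgroup.mem_pointwise_smul_iff_inv_smul_mem] at this
      show m⁻¹ * e.symm y * m ∈ (S : Subgroup (Cfsg.PSU 3 F q))
      simpa [MulAut.smul_def] using this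
    have h3 := (hxS _ h2).map (MulAut.conj m).toMonoidHom
    have h4 : Commute (m * x * m⁻¹) (e.symm y) := by
      simpa [mul_assoc] using h3
    simpa using h4.map e.toMonoidHom
  obtain ⟨u, hu, hu0, c0, hc00, hc0, hx'⟩ := exists_transv_of_commute (p := p)
    (x := e (m * x * m⁻¹)) (P := P) (by rw [← map_pow, conj_pow, hxp, mul_one, mul_inv_cancel, map_one])
    (fun h => hx1 (by
      rw [← map_one e, e.injective.eq_iff, mul_inv_eq_one] at h
      exact mul_eq_left.1 h)) hcom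
  -- the target trace
  have hrF : (r : F) ≠ 0 := fun h => hrp
    ((Nat.prime_dvd_prime_iff_eq Fact.out hr).1 ((CharP.cast_eq_zero_iff F p r).1 h)).symm
  obtain ⟨τ, hτ, hτP⟩ := UnitaryTrace.exists_torus_trace hF hθ hr hrF hdvd hprim
  set μ := c0 * c0 with hμdef
  have hμ0 : μ ≠ 0 := mul_ne_zero hc00 hc00
  have hc0σ : θ c0 = -c0 := by linear_combination hc0
  have hμ : θ μ = μ := by rw [hμdef, map_mul, hc0σ]; ring
  obtain ⟨k, l, D, hk0, hl0, hk, hl, hE⟩ := UnitaryTrace.exists_scalars hc hc00 hc0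
    (E := (τ - 3) / μ) (fun h => hτ (by
      rw [map_div₀, map_sub, hμ, map_ofNat, div_left_inj' hμ0] at h
      linear_combination h))
  -- three isotropic vectors with the prescribed products
  set A := D / (k * l) with hA
  obtain ⟨lam, hlam⟩ := hc.exists_norm_eq (show θ (-1 : F) = -1 by simp)
  obtain ⟨α, hα⟩ := hc.exists_trace_eq (show θ (1 : F) = 1 by simp)
  obtain ⟨w, hw⟩ := hc.exists_norm_eq (show θ (-(A + θ A)) = -(A + θ A) by
    rw [map_neg, map_add, hc.invol, add_comm])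
  have hlam0 : lam ≠ 0 := fun h => by simp [h] at hlam
  set β := (1 - α) / θ lam with hβ
  let v₁ : Fin 3 → F := ![1, lam, 0]
  let v₂ : Fin 3 → F := ![α, β, 0]
  let v₃ : Fin 3 → F := ![A + α, A * lam + β, w]
  have hθlam : θ lam ≠ 0 := (map_ne_zero θ).2 hlam0
  have hβ' : θ lam * β = 1 - α := by rw [hβ]; field_simp
  have hβ'' : lam * θ β = 1 - θ α := by
    rw [hβ, map_div₀, map_sub, map_one, hc.invol]; field_simp
  have h11 : B v₁ v₁ = 0 := by
    simp [B, v₁, stdHerm_apply, Fin.sum_univ_three]; linear_combination hlam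
  have h22 : B v₂ v₂ = 0 := by
    simp [B, v₂, stdHerm_apply, Fin.sum_univ_three]
    linear_combination (θ β * β) * hlam + hα - (lam * θ β) * hβ' - (1 - α) * hβ''
  have h12 : B v₁ v₂ = 1 := by
    simp [B, v₁, v₂, stdHerm_apply, Fin.sum_univ_three]; linear_combination hβ'
  have h21 : B v₂ v₁ = 1 := by
    simp [B, v₁, v₂, stdHerm_apply, Fin.sum_univ_three]; linear_combination hβ''
  have hv₃ : v₃ = A • v₁ + v₂ + w • Pi.single 2 1 := by
    funext i; fin_cases i <;> simp [v₁, v₂, v₃]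
  have hs : ∀ (v : Fin 3 → F), v 2 = 0 → B v (Pi.single 2 1) = 0 ∧ B (Pi.single 2 1) v = 0 := fun v hv => by
    simp [B, stdHerm_apply, Fin.sum_univ_three, hv]
  have hss : B (Pi.single 2 1) (Pi.single 2 1) = 1 := by simp [B, stdHerm_apply, Fin.sum_univ_three]
  have h33 : B v₃ v₃ = 0 := by
    rw [hv₃]
    simp only [map_add, map_smul, map_smulₛₗ, LinearMap.add_apply, LinearMap.smul_apply, smul_eq_mul, h11, h22,
      h12, h21, hss, hs v₁ rfl, hs v₂ rfl]
    linear_combination hw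
  have h13 : B v₁ v₃ = 1 := by
    rw [hv₃]; simp only [map_add, map_smul, smul_eq_mul, h11, h12, hs v₁ rfl]; ring
  have h31 : B v₃ v₁ = 1 := by
    rw [hv₃]
    simp only [map_add, map_smulₛₗ, LinearMap.add_apply, LinearMap.smul_apply, smul_eq_mul, h11, h21, hs v₁ rfl]
    ring
  have h23 : B v₂ v₃ = A := by
    rw [hv₃]; simp only [map_add, map_smul, smul_eq_mul, h21, h22, hs v₂ rfl]; ring
  have h32 : B v₃ v₂ = θ A := by
    rw [hv₃]
    simp only [map_add, map_smulₛₗ, LinearMap.add_apply, LinearMap.smul_apply, smul_eq_mul, h12, h22, hs v₂ rfl]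
    ring
  have hv1 : v₁ ≠ 0 := fun h => one_ne_zero (congrFun h 0)
  have hv2 : v₂ ≠ 0 := fun h => one_ne_zero (h12.symm.trans (by rw [h, map_zero]))
  have hv3 : v₃ ≠ 0 := fun h => one_ne_zero (h13.symm.trans (by rw [h, map_zero]))
  have hkc : k * c0 + θ (k * c0) = 0 := by rw [map_mul, hk]; linear_combination k * hc0
  have hlc : l * c0 + θ (l * c0) = 0 := by rw [map_mul, hl]; linear_combination l * hc0
  obtain ⟨g₁, hg₁⟩ := exists_conj_transv (B := B) hu hu0 hv1 h11 hc0 (map_one θ) one_ne_zero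
  obtain ⟨g₂, hg₂⟩ := exists_conj_transv (B := B) hu hu0 hv2 h22 hc0 hk hk0
  obtain ⟨g₃, hg₃⟩ := exists_conj_transv (B := B) hu hu0 hv3 h33 hc0 hl hl0
  rw [one_mul] at hg₁
  set M := (suEquiv hθ).symm (uzE B v₁ 0 c0 * uzE B v₂ 0 (k * c0) * uzE B v₃ 0 (l * c0)) with hMdef
  have hBw : ∀ a b : Fin 3 → F, (fun i => θ (a i)) ⬝ᵥ b = B a b := fun a b => rfl
  have htr : (M.1 : Matrix (Fin 3) (Fin 3) F).trace = τ := by
    have hMmat : (M.1 : Matrix (Fin 3) (Fin 3) F) =
        (((suEquiv hθ).symm (uzE B v₁ 0 c0)).1 : Matrix (Fin 3) (Fin 3) F) *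
          (((suEquiv hθ).symm (uzE B v₂ 0 (k * c0))).1 : Matrix (Fin 3) (Fin 3) F) *
          (((suEquiv hθ).symm (uzE B v₃ 0 (l * c0))).1 : Matrix (Fin 3) (Fin 3) F) := by
      rw [hMdef, map_mul, map_mul]; rfl
    rw [hMmat, symm_uzE hθ h11 hc0, symm_uzE hθ h22 hkc, symm_uzE hθ h33 hlc,
      trace_three ((hBw _ _).trans h11) ((hBw _ _).trans h22) ((hBw _ _).trans h33), hBw, hBw, hBw, hBw, hBw, hBw,
      h12, h21, h13, h31, h23, h32]
    have hk' : k * l ≠ 0 := mul_ne_zero hk0 hl0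
    rw [eq_div_iff hμ0] at hE
    have hθA : θ A = θ D / (k * l) := by rw [hA, map_div₀, map_mul, hk, hl]
    rw [hθA, hA]
    field_simp at hE ⊢
    linear_combination hE
  obtain ⟨hMr, hMne⟩ := hτP _ M.1.2 htr (by rw [adjugate_trace hθ, htr])
  have hord : orderOf (QuotientGroup.mk M : Cfsg.PSU 3 F q) = r := by
    haveI := Fact.mk hr
    refine orderOf_eq_prime ?_ fun h => ?_
    · rw [← QuotientGroup.mk_pow, show M ^ r = 1 from Subtype.ext (Subtype.ext (by simpa using hMr)),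
        QuotientGroup.mk_one]
    · have h' := congrArg e h
      rw [map_one, pgEquiv_mk, QuotientGroup.eq_one_iff] at h'
      obtain ⟨a, -, ha⟩ := center_smul h' hv1 h11
      rw [suEquiv_apply] at ha
      exact hMne v₁ hv1 a ha
  have himg : e (QuotientGroup.mk M) = (QuotientGroup.mk g₁ : PG B) * e (m * x * m⁻¹) * (QuotientGroup.mk g₁)⁻¹ *
      ((QuotientGroup.mk g₂ : PG B) * e (m * x * m⁻¹) * (QuotientGroup.mk g₂)⁻¹) *
      ((QuotientGroup.mk g₃ : PG B) * e (m * x * m⁻¹) * (QuotientGroup.mk g₃)⁻¹) := by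
    rw [pgEquiv_mk, hMdef, MulEquiv.apply_symm_apply, hx', ← hg₁, ← hg₂, ← hg₃]
    rfl
  set a₁ := e.symm (QuotientGroup.mk g₁) * m
  set a₂ := e.symm (QuotientGroup.mk g₂) * m
  set a₃ := e.symm (QuotientGroup.mk g₃) * m
  refine ⟨a₁⁻¹ * a₂, a₁⁻¹ * a₃, ?_⟩
  have h1 : (QuotientGroup.mk M : Cfsg.PSU 3 F q) =
      MulAut.conj a₁ (x * (a₁⁻¹ * a₂ * x * (a₁⁻¹ * a₂)⁻¹) * (a₁⁻¹ * a₃ * x * (a₁⁻¹ * a₃)⁻¹)) := by
    apply e.injective
    rw [himg, MulAut.conj_apply]
    simp only [a₁, a₂, a₃, map_mul, map_inv, MulEquiv.apply_symm_apply]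
    group
    rfl
  rw [← orderOf_injective (MulAut.conj a₁).toMonoidHom (MulAut.conj a₁).injective, MulEquiv.coe_toMonoidHom, ← h1,
    hord]

end Product

end CfsgLib.LocalEven.UnitaryThree
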