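/-
Fixed points of transvections of `PSU₃(q)` on faithful modules in the defining characteristic.
-/
import Cfsg.Agent.Lib.LocalEven.UnitaryThree
import Cfsg.Agent.Lib.LocalEven.ModuleBounds

set_option autoImplicit false
set_option linter.style.haveILetI false
set_option linter.unusedSectionVars false

namespace CfsgLib.LocalEven.UnitaryBound

variable {G : Type*} [Group G] [Finite G] {p : ℕ} [Fact p.Prime]

/-- Three conjugates whose product maps to an element of order `r`. -/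
theorem bounds_three {Q : Type*} [Group Q] {V H : Subgroup G} (hVc : IsMulCommutative V) (hVp : ∀ v ∈ V, v ^ p = 1)
    (hHV : H ≤ Subgroup.normalizer (V : Set G)) (hf : H ⊓ Subgroup.centralizer (V : Set G) = ⊥)
    (φ : ↥H →* Q) (hφ : Function.Surjective φ) {a : G} (ha : a ∈ H) {h k : Q} {r N : ℕ} (hr : r.Prime)
    (hrp : r ≠ p) (hN : orderOf (p : ZMod r) = N)
    (hord : orderOf (φ ⟨a, ha⟩ * (h * φ ⟨a, ha⟩ * h⁻¹) * (k * φ ⟨a, ha⟩ * k⁻¹)) = r) :
    p ^ N ≤ Nat.card V ∧ p ^ N ≤ ((V ⊓ Subgroup.centralizer ({a} : Set G)).relIndex V) ^ 3 := by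
  obtain ⟨hh, rfl⟩ := hφ h
  obtain ⟨kk, rfl⟩ := hφ k
  set z : ↥H := ⟨a, ha⟩ * (hh * ⟨a, ha⟩ * hh⁻¹) * (kk * ⟨a, ha⟩ * kk⁻¹) with hz
  have hzφ : orderOf (φ z) = r := by simpa [hz] using hord
  have hdvd : r ∣ orderOf z := hzφ ▸ orderOf_map_dvd φ z
  set y : G := ((z ^ (orderOf z / r) : ↥H) : G) with hy
  have hyord : orderOf y = r ^ 1 := by
    rw [hy, Subgroup.orderOf_coe, pow_one]
    exact orderOf_pow_orderOf_div (orderOf_pos z).ne' hdvd
  subst hN
  have key := SL2Bound.pow_le_relIndex hVc hVp hr hrp one_ne_zero (N := orderOf (p : ZMod r)) (by rw [pow_one])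
    (hHV (z ^ (orderOf z / r)).2) hyord (fun hcen => by
      rw [Nat.sub_self, pow_zero, pow_one] at hcen
      have h1 := (Subgroup.eq_bot_iff_forall _).1 hf _ ⟨(z ^ (orderOf z / r)).2, hcen⟩
      rw [← orderOf_eq_one_iff, hyord, pow_one] at h1
      exact hr.ne_one h1)
  refine ⟨key.trans (Nat.le_of_dvd Nat.card_pos (Subgroup.index_dvd_card _)), ?_⟩
  set A := V ⊓ Subgroup.centralizer ({a} : Set G) with hA
  have hle : A ⊓ A.map (MulAut.conj (hh : G)).toMonoidHom ⊓ A.map (MulAut.conj (kk : G)).toMonoidHom ≤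
      V ⊓ Subgroup.centralizer ({y} : Set G) := by
    rintro v ⟨⟨⟨hvV, hva⟩, w, hw, hwv⟩, u, hu, huv⟩
    refine ⟨hvV, ?_⟩
    show v ∈ Subgroup.centralizer ({y} : Set G)
    rw [Subgroup.mem_centralizer_singleton_iff]
    have h1 : Commute v a := Subgroup.mem_centralizer_singleton_iff.1 hva
    have h2 : Commute v (MulAut.conj (hh : G) a) :=
      hwv ▸ (show Commute w a from Subgroup.mem_centralizer_singleton_iff.1 hw.2).map _
    have h3 : Commute v (MulAut.conj (kk : G) a) :=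
      huv ▸ (show Commute u a from Subgroup.mem_centralizer_singleton_iff.1 hu.2).map _
    have h4 : Commute v (a * ((hh : G) * a * (hh : G)⁻¹) * ((kk : G) * a * (kk : G)⁻¹)) := (h1.mul_right h2).mul_right h3
    exact h4.pow_right _
  have hidx : ∀ g : ↥H, (A.map (MulAut.conj (g : G)).toMonoidHom).relIndex V = A.relIndex V := fun g => by
    conv_lhs => rw [← (Subgroup.mem_normalizer_iff_map_conj_eq.1 (hHV g.2) : V.map _ = V)]
    exact Subgroup.relIndex_map_map_of_injective _ _ (MulAut.conj (g : G)).injective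
  have h5 := key.trans ((Nat.le_of_dvd (Nat.pos_of_ne_zero Subgroup.index_ne_zero_of_finite)
    (Subgroup.relIndex_dvd_of_le_left V hle)).trans
      (Subgroup.relIndex_inf_le.trans (Nat.mul_le_mul_right _ Subgroup.relIndex_inf_le)))
  rw [hidx, hidx, show ∀ i : ℕ, i * i * i = i ^ 3 from fun i => by ring] at h5
  exact h5

/-- The numbers: a prime `r` for which `p` has order `6 n`, dividing `q ^ 2 - q + 1`. -/
theorem exists_prime {n q : ℕ} (hn : 1 ≤ n) (hq : q = p ^ n) (h2 : ¬ (p = 2 ∧ n = 1)) :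
    ∃ r : ℕ, r.Prime ∧ r ≠ p ∧ orderOf (p : ZMod r) = 6 * n ∧ (r : ℤ) ∣ (q : ℤ) ^ 2 - q + 1 ∧
      ¬ (r : ℤ) ∣ (q : ℤ) ^ 2 - 1 := by
  have hp2 := (Fact.out : p.Prime).two_le
  obtain ⟨r, hr, hrd, hprim⟩ := CfsgLib.NT.exists_primitive_prime hp2 (show 2 ≤ 6 * n by omega)
    (fun h => h2 ⟨h.1, by omega⟩) (by omega)
  haveI := Fact.mk hr
  have hrp : r ≠ p := by
    rintro rfl
    have h1 : r ∣ r ^ (6 * n) := dvd_pow_self r (by omega)
    have h3 := Nat.dvd_sub h1 hrd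
    have hpos : 1 ≤ r ^ (6 * n) := Nat.one_le_pow _ _ (by omega)
    rw [show r ^ (6 * n) - (r ^ (6 * n) - 1) = 1 by omega] at h3
    exact hr.ne_one (Nat.dvd_one.1 h3)
  have hone : ∀ k, r ∣ p ^ k - 1 ↔ (p : ZMod r) ^ k = 1 := fun k => by
    rw [← CharP.cast_eq_zero_iff (ZMod r) r, Nat.cast_sub (Nat.one_le_pow _ _ (by omega)), Nat.cast_pow,
      Nat.cast_one, sub_eq_zero]
  have hint : ∀ k, (r : ℤ) ∣ (p : ℤ) ^ k - 1 ↔ r ∣ p ^ k - 1 := fun k => by
    have h1 : ((p ^ k - 1 : ℕ) : ℤ) = (p : ℤ) ^ k - 1 := by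
      rw [Nat.cast_sub (Nat.one_le_pow _ _ (by omega))]; push_cast; ring
    rw [← h1, Int.natCast_dvd_natCast]
  have hord : orderOf (p : ZMod r) = 6 * n := by
    rw [orderOf_eq_iff (by omega)]
    exact ⟨(hone _).1 hrd, fun m hm hm0 h => hprim m hm0 hm ((hone m).2 h)⟩
  have hqk : ∀ k, ((q : ℤ) ^ k - 1) = (p : ℤ) ^ (n * k) - 1 := fun k => by rw [hq, pow_mul]; push_cast; ring
  refine ⟨r, hr, hrp, hord, ?_, ?_⟩
  · have h6 : (r : ℤ) ∣ (q : ℤ) ^ 6 - 1 := by rw [hqk, hint, mul_comm]; exact hrd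
    rw [show (q : ℤ) ^ 6 - 1 = ((q : ℤ) ^ 3 - 1) * ((q ^ 2 - q + 1) * (q + 1)) by ring] at h6
    have hpr : Prime (r : ℤ) := Nat.prime_iff_prime_int.1 hr
    rcases hpr.dvd_or_dvd h6 with h | h
    · rw [hqk, hint] at h
      exact absurd h (hprim _ (by omega) (by omega))
    rcases hpr.dvd_or_dvd h with h | h
    · exact h
    · have h' : (r : ℤ) ∣ (q : ℤ) ^ 2 - 1 := by
        rw [show (q : ℤ) ^ 2 - 1 = (q + 1) * (q - 1) by ring]; exact h.mul_right _
      rw [hqk, hint] at h'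
      exact absurd h' (hprim _ (by omega) (by omega))
  · rw [hqk, hint]
    exact hprim _ (by omega) (by omega)

/-- The lower bounds in `PSU₃(q)`. -/
theorem psu_bounds {V H : Subgroup G} (hVc : IsMulCommutative V) (hVp : ∀ v ∈ V, v ^ p = 1)
    (hHV : H ≤ Subgroup.normalizer (V : Set G)) (hf : H ⊓ Subgroup.centralizer (V : Set G) = ⊥)
    {F : Type*} [Field F] [Fintype F] {n q : ℕ} (hq : q = p ^ n) (hq3 : 3 ≤ q) (hF : Fintype.card F = q ^ 2)
    (e : ↥H ⧸ Cfsg.pPrimeCore p ↥H ≃* Cfsg.PSU 3 F q) (S : Sylow p ↥H) {T : Subgroup G}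
    (hT : T = (S : Subgroup ↥H).map H.subtype) {s : G} (hs : s ∈ T ⊓ Subgroup.centralizer (T : Set G))
    (hs1 : s ≠ 1) :
    q ^ 6 ≤ Nat.card V ∧ q ^ 2 ≤ (V ⊓ Subgroup.centralizer ({s} : Set G)).relIndex V := by
  haveI : Fact (Fintype.card F = q ^ 2) := ⟨hF⟩
  have hn : 1 ≤ n := by
    rcases Nat.eq_zero_or_pos n with rfl | h
    · rw [pow_zero] at hq; omega
    · exact h
  haveI : CharP F p := by
    obtain ⟨p', hp'⟩ := CharP.exists F
    obtain ⟨m, hpp, hm⟩ := FiniteField.card F p'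
    rw [hF, hq, ← pow_mul] at hm
    have : p' = p := (Nat.prime_dvd_prime_iff_eq hpp Fact.out).1
      (hpp.dvd_of_dvd_pow (hm ▸ dvd_pow_self p' m.ne_zero))
    exact this ▸ hp'
  obtain ⟨r, hr, hrp, hord, hdvd, hprim⟩ := exists_prime (p := p) hn hq (fun h => by
    rw [hq, h.1, h.2] at hq3; norm_num at hq3)
  -- a power of order `p`
  obtain ⟨s0, hs0H, rfl⟩ : ∃ s0 : ↥H, s0 ∈ (S : Subgroup ↥H) ∧ (s0 : G) = s := by
    have := hs.1
    rw [hT] at this
    obtain ⟨s0, h1, h2⟩ := this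
    exact ⟨s0, h1, h2⟩
  obtain ⟨j, hj⟩ := S.2 ⟨s0, hs0H⟩
  have hj' : s0 ^ p ^ j = 1 := congrArg Subtype.val hj
  obtain ⟨i, -, hi⟩ := (Nat.dvd_prime_pow Fact.out).1 (orderOf_dvd_of_pow_eq_one hj')
  have hi0 : i ≠ 0 := by
    rintro rfl
    rw [pow_zero, orderOf_eq_one_iff] at hi
    exact hs1 (by rw [hi]; rfl)
  set a := s0 ^ p ^ (i - 1) with hadef
  have hap : a ^ p = 1 := by
    rw [hadef, ← pow_mul, ← pow_succ, Nat.sub_add_cancel (Nat.pos_of_ne_zero hi0), ← hi, pow_orderOf_eq_one]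
  have ha1 : a ≠ 1 := fun h => by
    have := Nat.le_of_dvd (pow_pos (Fact.out : p.Prime).pos _) (hi ▸ orderOf_dvd_of_pow_eq_one h)
    have := (Nat.pow_le_pow_iff_right (Fact.out : p.Prime).one_lt).1 this
    omega
  set φ : ↥H →* Cfsg.PSU 3 F q := e.toMonoidHom.comp (QuotientGroup.mk' _) with hφdef
  have hφ : Function.Surjective φ := e.surjective.comp (QuotientGroup.mk'_surjective _)
  have hφa : φ a ≠ 1 := ModuleBounds.quotient_ne_one e a.2 (j := 1)
    (by rw [pow_one, ← Subgroup.coe_pow, hap, Subgroup.coe_one]) (fun h => ha1 (Subtype.ext h))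
  obtain ⟨h, k, hhk⟩ := UnitaryThree.exists_product hq3 hr hrp hdvd hprim (S.mapSurjective hφ)
    (x := φ a) (by rw [← map_pow, hap, map_one]) hφa (by
      rintro _ ⟨y, hy, rfl⟩
      have h1 : Commute (s0 : G) (y : G) :=
        (Subgroup.mem_centralizer_iff.1 hs.2 (y : G) (hT ▸ ⟨y, hy, rfl⟩)).symm
      have h2 : Commute s0 y := Subtype.ext h1
      exact (h2.pow_left _).map φ)
  obtain ⟨h1, h2⟩ := bounds_three hVc hVp hHV hf φ hφ a.2 hr hrp hord hhk
  have hq6 : p ^ (6 * n) = q ^ 6 := by rw [hq, ← pow_mul, mul_comm]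
  rw [hq6] at h1 h2
  refine ⟨h1, ?_⟩
  rw [show q ^ 6 = (q ^ 2) ^ 3 by ring] at h2
  refine ((Nat.pow_le_pow_iff_left (by norm_num)).1 h2).trans (Nat.le_of_dvd
    (Nat.pos_of_ne_zero Subgroup.index_ne_zero_of_finite) (Subgroup.relIndex_dvd_of_le_left V
      (inf_le_inf_left _ fun g hg => ?_)))
  rw [Subgroup.mem_centralizer_singleton_iff] at hg ⊢
  rw [hadef, Subgroup.coe_pow]
  exact (show Commute g (s0 : G) from hg).pow_right _

end CfsgLib.LocalEven.UnitaryBound
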