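/-
Basic facts on the coset graph of a pair of subgroups: adjacency, stabilizers, transitivity, connectivity,
and the faithfulness argument of the amalgam method.
-/
import Cfsg.Prelude.Def_Amalgam
import Cfsg.Agent.S2740
import Mathlib.Tactic.Group

set_option autoImplicit false

namespace CfsgLib.LocalEven.CosetGraph

variable {X : Type*} [Group X] {M₁ M₂ : Subgroup X}

open Cfsg

theorem adj_iff {a b : CosetVertex M₁ M₂} :
    (cosetGraph M₁ M₂).Adj a b ↔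
      ∃ x : X, (a = Sum.inl (x : X ⧸ M₁) ∧ b = Sum.inr (x : X ⧸ M₂)) ∨
        (b = Sum.inl (x : X ⧸ M₁) ∧ a = Sum.inr (x : X ⧸ M₂)) := by
  simp only [cosetGraph, SimpleGraph.fromRel_adj]
  constructor
  · rintro ⟨-, ⟨x, h⟩ | ⟨x, h⟩⟩
    exacts [⟨x, Or.inl h⟩, ⟨x, Or.inr h⟩]
  · rintro ⟨x, h | h⟩
    · exact ⟨by rw [h.1, h.2]; exact Sum.inl_ne_inr, Or.inl ⟨x, h⟩⟩
    · exact ⟨by rw [h.1, h.2]; exact Sum.inr_ne_inl, Or.inr ⟨x, h⟩⟩

theorem adj_mk (x : X) :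
    (cosetGraph M₁ M₂).Adj (Sum.inl (x : X ⧸ M₁)) (Sum.inr (x : X ⧸ M₂)) :=
  adj_iff.2 ⟨x, Or.inl ⟨rfl, rfl⟩⟩

theorem adj_smul {a b : CosetVertex M₁ M₂} (g : X) (h : (cosetGraph M₁ M₂).Adj a b) :
    (cosetGraph M₁ M₂).Adj (g • a) (g • b) := by
  obtain ⟨x, ⟨rfl, rfl⟩ | ⟨rfl, rfl⟩⟩ := adj_iff.1 h
  · exact adj_mk (g * x)
  · exact (adj_mk (g * x)).symm

theorem adj_smul_iff {a b : CosetVertex M₁ M₂} (g : X) :
    (cosetGraph M₁ M₂).Adj (g • a) (g • b) ↔ (cosetGraph M₁ M₂).Adj a b :=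
  ⟨fun h => by simpa using adj_smul g⁻¹ h, adj_smul g⟩

theorem exists_adj (a : CosetVertex M₁ M₂) : ∃ b, (cosetGraph M₁ M₂).Adj a b := by
  rcases a with q | q <;> induction q using QuotientGroup.induction_on with
  | H x => first | exact ⟨_, adj_mk x⟩ | exact ⟨_, (adj_mk x).symm⟩

/-- the stabilizer of a translate is the conjugate of the stabilizer -/
theorem stabilizer_smul' (g : X) (a : CosetVertex M₁ M₂) :
    MulAction.stabilizer X (g • a) =
      (MulAction.stabilizer X a).map (MulAut.conj g).toMonoidHom :=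
  MulAction.stabilizer_smul_eq_stabilizer_map_conj g a

theorem stabilizer_inl_one :
    MulAction.stabilizer X (Sum.inl ((1 : X) : X ⧸ M₁) : CosetVertex M₁ M₂) = M₁ := by
  ext m
  rw [MulAction.mem_stabilizer_iff, Sum.smul_inl, Sum.inl.injEq,
    MulAction.Quotient.smul_coe, QuotientGroup.eq]
  simp [smul_eq_mul]

theorem stabilizer_inr_one :
    MulAction.stabilizer X (Sum.inr ((1 : X) : X ⧸ M₂) : CosetVertex M₁ M₂) = M₂ := by
  ext m
  rw [MulAction.mem_stabilizer_iff, Sum.smul_inr, Sum.inr.injEq,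
    MulAction.Quotient.smul_coe, QuotientGroup.eq]
  simp [smul_eq_mul]

theorem smul_inl_one (x : X) :
    x • (Sum.inl ((1 : X) : X ⧸ M₁) : CosetVertex M₁ M₂) = Sum.inl (x : X ⧸ M₁) := by
  simp [smul_eq_mul]

theorem smul_inr_one (x : X) :
    x • (Sum.inr ((1 : X) : X ⧸ M₂) : CosetVertex M₁ M₂) = Sum.inr (x : X ⧸ M₂) := by
  simp [smul_eq_mul]

/-- Every edge is a translate of the base edge. -/
theorem edge_cases {a b : CosetVertex M₁ M₂} (h : (cosetGraph M₁ M₂).Adj a b) :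
    ∃ x : X, (a = x • Sum.inl ((1 : X) : X ⧸ M₁) ∧ b = x • Sum.inr ((1 : X) : X ⧸ M₂)) ∨
      (b = x • Sum.inl ((1 : X) : X ⧸ M₁) ∧ a = x • Sum.inr ((1 : X) : X ⧸ M₂)) := by
  obtain ⟨x, hx⟩ := adj_iff.1 h
  refine ⟨x, ?_⟩
  rw [smul_inl_one, smul_inr_one]
  exact hx

theorem vertex_cases (a : CosetVertex M₁ M₂) :
    ∃ x : X, a = x • Sum.inl ((1 : X) : X ⧸ M₁) ∨ a = x • Sum.inr ((1 : X) : X ⧸ M₂) := by
  rcases a with q | q <;> induction q using QuotientGroup.induction_on with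
  | H x => exact ⟨x, by rw [smul_inl_one, smul_inr_one]; simp⟩

theorem neighbour_transitive {δ μ μ' : CosetVertex M₁ M₂} (hμ : (cosetGraph M₁ M₂).Adj δ μ)
    (hμ' : (cosetGraph M₁ M₂).Adj δ μ') : ∃ g ∈ MulAction.stabilizer X δ, g • μ = μ' := by
  obtain ⟨x, ⟨hx, rfl⟩ | ⟨rfl, hx⟩⟩ := adj_iff.1 hμ <;>
    obtain ⟨y, ⟨hy, rfl⟩ | ⟨rfl, hy⟩⟩ := adj_iff.1 hμ' <;> subst hx
  · refine ⟨y * x⁻¹, ?_, by simp [smul_eq_mul]⟩
    simp [MulAction.mem_stabilizer_iff, smul_eq_mul]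
    exact (Sum.inl.injEq _ _ ▸ hy).symm
  · exact absurd hy Sum.inl_ne_inr
  · exact absurd hy Sum.inr_ne_inl
  · refine ⟨y * x⁻¹, ?_, by simp [smul_eq_mul]⟩
    simp [MulAction.mem_stabilizer_iff, smul_eq_mul]
    exact (Sum.inr.injEq _ _ ▸ hy).symm

/-- A subgroup fixing every vertex is contained in both `Mᵢ`, and generates a normal subgroup that does too. -/
theorem eq_bot_of_fixes_all (h : IsAmalgamPair M₁ M₂) (T : Subgroup X)
    (hT : ∀ a : CosetVertex M₁ M₂, T ≤ MulAction.stabilizer X a) : T = ⊥ := by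
  let K : Subgroup X := ⨅ a : CosetVertex M₁ M₂, MulAction.stabilizer X a
  have hK : K.Normal := ⟨fun k hk g => by
    simp only [K, Subgroup.mem_iInf, MulAction.mem_stabilizer_iff] at hk ⊢
    intro a
    rw [mul_smul, mul_smul, hk, smul_inv_smul]⟩
  have hle : K ≤ M₁ ⊓ M₂ :=
    le_inf ((iInf_le _ _).trans stabilizer_inl_one.le) ((iInf_le _ _).trans stabilizer_inr_one.le)
  exact le_bot_iff.1 ((le_iInf hT).trans (h.2.2.2 K hle hK).le)

theorem connected (h : IsAmalgamPair M₁ M₂) : (cosetGraph M₁ M₂).Connected :=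
  Cfsg.Agent.S2740.result M₁ M₂ h.1

/-- Transitivity of `N(T) ∩ stab` on the neighbours at both ends of an edge fixed by `T` forces `T = 1`. -/
theorem eq_bot_of_transitive (h : IsAmalgamPair M₁ M₂) {δ μ : CosetVertex M₁ M₂}
    (hδμ : (cosetGraph M₁ M₂).Adj δ μ) (T : Subgroup X) (hT : T ≤ edgeStabilizer δ μ)
    (hδ : ∀ ν ν', (cosetGraph M₁ M₂).Adj δ ν → (cosetGraph M₁ M₂).Adj δ ν' →
      ∃ g ∈ Subgroup.normalizer (T : Set X) ⊓ MulAction.stabilizer X δ, g • ν = ν')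
    (hμ : ∀ ν ν', (cosetGraph M₁ M₂).Adj μ ν → (cosetGraph M₁ M₂).Adj μ ν' →
      ∃ g ∈ Subgroup.normalizer (T : Set X) ⊓ MulAction.stabilizer X μ, g • ν = ν') : T = ⊥ := by
  set Γ := cosetGraph M₁ M₂
  let P : CosetVertex M₁ M₂ → Prop := fun a => T ≤ MulAction.stabilizer X a ∧
    ∀ ν ν', Γ.Adj a ν → Γ.Adj a ν' →
      ∃ g ∈ Subgroup.normalizer (T : Set X) ⊓ MulAction.stabilizer X a, g • ν = ν'
  have move : ∀ (a : CosetVertex M₁ M₂) (g : X), g ∈ Subgroup.normalizer (T : Set X) → P a → P (g • a) := by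
    intro a g hg ⟨ha, hta⟩
    refine ⟨fun t ht => ?_, fun ν ν' hν hν' => ?_⟩
    · have : g⁻¹ * t * g ∈ MulAction.stabilizer X a :=
        ha ((Subgroup.mem_normalizer_iff''.1 hg t).1 ht)
      rw [MulAction.mem_stabilizer_iff, mul_smul, mul_smul, inv_smul_eq_iff] at this
      exact this
    · obtain ⟨k, hk, hkv⟩ := hta (g⁻¹ • ν) (g⁻¹ • ν')
        (by simpa using adj_smul g⁻¹ hν) (by simpa using adj_smul g⁻¹ hν')
      refine ⟨g * k * g⁻¹, Subgroup.mem_inf.2 ⟨mul_mem (mul_mem hg (Subgroup.mem_inf.1 hk).1) (inv_mem hg), ?_⟩, ?_⟩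
      · rw [MulAction.mem_stabilizer_iff, mul_smul, mul_smul, inv_smul_smul,
          MulAction.mem_stabilizer_iff.1 (Subgroup.mem_inf.1 hk).2]
      · rw [mul_smul, mul_smul, hkv, smul_inv_smul]
  let Q : CosetVertex M₁ M₂ → Prop := fun a => P a ∧ ∃ b, Γ.Adj a b ∧ P b
  have step : ∀ a c, Q a → Γ.Adj a c → Q c := by
    rintro a c ⟨ha, b, hab, hb⟩ hac
    obtain ⟨g, hg, rfl⟩ := ha.2 b c hab hac
    exact ⟨move b g hg.1 hb, a, hac.symm, ha⟩
  have base : Q δ := ⟨⟨le_trans hT inf_le_left, hδ⟩, μ, hδμ, le_trans hT inf_le_right, hμ⟩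
  refine eq_bot_of_fixes_all h T fun a => ?_
  obtain ⟨w⟩ := (connected h).preconnected δ a
  have : ∀ x y, Γ.Walk x y → Q x → Q y := by
    intro x y w
    induction w with
    | nil => exact id
    | cons hxy _ ih => exact fun hx => ih (step _ _ hx hxy)
  exact (this _ _ w base).1.1

end CfsgLib.LocalEven.CosetGraph
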