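import Mathlib
import Cfsg.Agent.Lib.LocalEven.SylowIn
import Cfsg.Agent.Lib.LocalEven.Commutators
import Cfsg.Agent.Lib.LocalEven.PReduced

/-!
Tools for the asymmetric L-lemma: centralizers modulo a subgroup, closures of conjugates, chains.
-/

set_option autoImplicit false
set_option linter.style.haveILetI false
set_option linter.unusedSectionVars false

open scoped commutatorElement

namespace CfsgLib.LocalEven.AsymL

open CfsgLib.LocalEven.SylowIn

variable {G : Type*} [Group G]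

theorem le_normalizer_of_forall {X E : Subgroup G} (h : ∀ x ∈ X, ∀ e ∈ E, x * e * x⁻¹ ∈ E) :
    X ≤ Subgroup.normalizer (E : Set G) := by
  intro x hx
  rw [Subgroup.mem_normalizer_iff]
  intro e
  refine ⟨h x hx e, fun he => ?_⟩
  have := h x⁻¹ (inv_mem hx) _ he
  simpa [mul_assoc] using this

theorem conj_mem_of_normalizer {E : Subgroup G} {x e : G} (hx : x ∈ Subgroup.normalizer (E : Set G)) (he : e ∈ E) :
    x * e * x⁻¹ ∈ E :=
  (Subgroup.mem_normalizer_iff.1 hx e).1 he

theorem mem_sup_decomp {A B : Subgroup G} (h : A ≤ Subgroup.normalizer (B : Set G)) {x : G} (hx : x ∈ A ⊔ B) :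
    ∃ a ∈ A, ∃ b ∈ B, x = a * b := by
  have h1 : x ∈ ((A ⊔ B : Subgroup G) : Set G) := hx
  rw [Subgroup.coe_mul_of_left_le_normalizer_right A B h] at h1
  obtain ⟨a, ha, b, hb, rfl⟩ := h1
  exact ⟨a, ha, b, hb, rfl⟩

/-- The elements normalising `E` that centralise `R` modulo `E`. -/
def centMod (E R : Subgroup G) : Subgroup G where
  carrier := {l | l ∈ Subgroup.normalizer (E : Set G) ∧ ∀ x ∈ R, ⁅l, x⁆ ∈ E}
  one_mem' := ⟨one_mem _, fun x _ => by simp [commutatorElement_def]⟩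
  mul_mem' := fun {a b} ha hb => ⟨mul_mem ha.1 hb.1, fun x hx => by
    rw [show ⁅a * b, x⁆ = a * ⁅b, x⁆ * a⁻¹ * ⁅a, x⁆ by simp only [commutatorElement_def]; group]
    exact mul_mem (conj_mem_of_normalizer ha.1 (hb.2 x hx)) (ha.2 x hx)⟩
  inv_mem' := fun {a} ha => ⟨inv_mem ha.1, fun x hx => by
    rw [show ⁅a⁻¹, x⁆ = a⁻¹ * ⁅a, x⁆⁻¹ * a⁻¹⁻¹ by simp only [commutatorElement_def]; group]
    exact conj_mem_of_normalizer (inv_mem ha.1) (inv_mem (ha.2 x hx))⟩

theorem mem_centMod {E R : Subgroup G} {l : G} :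
    l ∈ centMod E R ↔ l ∈ Subgroup.normalizer (E : Set G) ∧ ∀ x ∈ R, ⁅l, x⁆ ∈ E := Iff.rfl

theorem le_normalizer_centMod {E R : Subgroup G} :
    Subgroup.normalizer (E : Set G) ⊓ Subgroup.normalizer (R : Set G) ≤
      Subgroup.normalizer ((centMod E R : Subgroup G) : Set G) := by
  refine le_normalizer_of_forall fun g hg l hl => ⟨mul_mem (mul_mem hg.1 hl.1) (inv_mem hg.1), fun x hx => ?_⟩
  rw [show ⁅g * l * g⁻¹, x⁆ = g * ⁅l, g⁻¹ * x * g⁻¹⁻¹⁆ * g⁻¹ by simp only [commutatorElement_def]; group]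
  exact conj_mem_of_normalizer hg.1 (hl.2 _ (conj_mem_of_normalizer (inv_mem hg.2) hx))

/-- The subgroup generated by the conjugates of `Y` under `X`. -/
def conjClosure (X Y : Subgroup G) : Subgroup G :=
  Subgroup.closure {x | ∃ a ∈ X, ∃ v ∈ Y, x = a * v * a⁻¹}

theorem conj_mem_conjClosure {X Y : Subgroup G} {a v : G} (ha : a ∈ X) (hv : v ∈ Y) :
    a * v * a⁻¹ ∈ conjClosure X Y :=
  Subgroup.subset_closure ⟨a, ha, v, hv, rfl⟩

theorem le_conjClosure (X Y : Subgroup G) : Y ≤ conjClosure X Y := fun v hv => by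
  simpa using conj_mem_conjClosure (one_mem X) hv

theorem conjClosure_le {X Y K : Subgroup G} (h : ∀ a ∈ X, ∀ v ∈ Y, a * v * a⁻¹ ∈ K) : conjClosure X Y ≤ K :=
  (Subgroup.closure_le _).2 (by rintro _ ⟨a, ha, v, hv, rfl⟩; exact h a ha v hv)

theorem conjClosure_mono {X X' Y : Subgroup G} (h : X ≤ X') : conjClosure X Y ≤ conjClosure X' Y :=
  conjClosure_le fun _ ha _ hv => conj_mem_conjClosure (h ha) hv

theorem le_normalizer_conjClosure (X Y : Subgroup G) :
    X ≤ Subgroup.normalizer ((conjClosure X Y : Subgroup G) : Set G) := by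
  refine le_normalizer_of_forall fun x hx e he => ?_
  have h : conjClosure X Y ≤ (conjClosure X Y).comap (MulAut.conj x).toMonoidHom :=
    conjClosure_le fun a ha v hv => by
      show x * (a * v * a⁻¹) * x⁻¹ ∈ conjClosure X Y
      rw [show x * (a * v * a⁻¹) * x⁻¹ = (x * a) * v * (x * a)⁻¹ by group]
      exact conj_mem_conjClosure (mul_mem hx ha) hv
  exact h he

theorem elab_conjClosure {p : ℕ} {X Y : Subgroup G} (hY : Cfsg.IsElementaryAbelian p Y)
    (hc : ∀ a ∈ X, ∀ u ∈ Y, ∀ v ∈ Y, Commute u (a * v * a⁻¹)) :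
    Cfsg.IsElementaryAbelian p (conjClosure X Y) := by
  have hab : ∀ x ∈ conjClosure X Y, ∀ y ∈ conjClosure X Y, Commute x y := by
    have h : conjClosure X Y ≤ Subgroup.centralizer (conjClosure X Y : Set G) := by
      refine conjClosure_le fun a ha u hu => ?_
      rw [Subgroup.mem_centralizer_iff]
      intro w hw
      have h2 : conjClosure X Y ≤ Subgroup.centralizer {a * u * a⁻¹} := conjClosure_le fun b hb v hv => by
        rw [Subgroup.mem_centralizer_singleton_iff]
        have h := hc (a⁻¹ * b) (mul_mem (inv_mem ha) hb) u hu v hv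
        calc b * v * b⁻¹ * (a * u * a⁻¹) = a * ((a⁻¹ * b) * v * (a⁻¹ * b)⁻¹ * u) * a⁻¹ := by group
          _ = a * (u * ((a⁻¹ * b) * v * (a⁻¹ * b)⁻¹)) * a⁻¹ := by rw [h.eq]
          _ = _ := by group
      exact Subgroup.mem_centralizer_singleton_iff.1 (h2 hw)
    exact fun x hx y hy => (Subgroup.mem_centralizer_iff.1 (h hx) y hy).symm
  refine ⟨⟨⟨fun x y => Subtype.ext (hab x x.2 y y.2)⟩⟩, fun w hw => ?_⟩
  induction hw using Subgroup.closure_induction with
  | mem x hx =>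
    obtain ⟨a, -, v, hv, rfl⟩ := hx
    rw [conj_pow, hY.2 v hv, mul_one, mul_inv_cancel]
  | one => exact one_pow p
  | mul x y hx hy ihx ihy => rw [(hab x hx y hy).mul_pow, ihx, ihy, one_mul]
  | inv x _ ih => rw [inv_pow, ih, inv_one]

/-- Elements of order prime to `p` that centralise a subgroup and centralise a `p`-group modulo it. -/
theorem commute_of_chain {p : ℕ} {V : Subgroup G} (hV : IsPGroup p V) {x b : G} (hb : b ∈ V)
    (hbx : x * b * x⁻¹ ∈ V) (hfix : Commute x ⁅x, b⁆) (hc : (orderOf x).Coprime p) : Commute x b := by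
  set z := ⁅x, b⁆ with hz
  have hzV : z ∈ V := by rw [hz, commutatorElement_def]; exact mul_mem hbx (inv_mem hb)
  have hn : ∀ n : ℕ, x ^ n * b * (x ^ n)⁻¹ = z ^ n * b := by
    intro n
    induction n with
    | zero => simp
    | succ n ih =>
      calc x ^ (n + 1) * b * (x ^ (n + 1))⁻¹ = x * (x ^ n * b * (x ^ n)⁻¹) * x⁻¹ := by group
        _ = (x * z ^ n * x⁻¹) * (x * b * x⁻¹) := by rw [ih]; group
        _ = z ^ n * (z * b) := by
          rw [(hfix.pow_right n).eq, mul_inv_cancel_right, show z * b = x * b * x⁻¹ by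
            rw [hz, commutatorElement_def]; group]
        _ = z ^ (n + 1) * b := by rw [pow_succ, mul_assoc]
  have h1 : z ^ orderOf x = 1 := by
    have := hn (orderOf x)
    rw [pow_orderOf_eq_one, inv_one, one_mul, mul_one] at this
    exact mul_eq_right.mp this.symm
  obtain ⟨k, hk⟩ := hV ⟨z, hzV⟩
  have h2 : z ^ p ^ k = 1 := congrArg Subtype.val hk
  have hg : (orderOf x).gcd (p ^ k) = 1 := hc.pow_right k
  have h3 := pow_gcd_eq_one.mpr (And.intro h1 h2)
  rw [hg, pow_one, hz, commutatorElement_eq_one_iff_commute] at h3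
  exact h3

theorem lt_inf_normalizer' {p : ℕ} [Finite G] [Fact p.Prime] {W D : Subgroup G} (hW : IsPGroup p W) (hD : D < W) :
    ∃ w ∈ W, w ∉ D ∧ w ∈ Subgroup.normalizer (D : Set G) := by
  haveI := hW.isNilpotent
  have hlt : D.subgroupOf W < ⊤ := by
    rw [lt_top_iff_ne_top, Ne, Subgroup.subgroupOf_eq_top]
    exact fun h => hD.not_ge h
  obtain ⟨w, hw, hwD⟩ := SetLike.exists_of_lt (Group.normalizerCondition_of_isNilpotent (G := W) _ hlt)
  refine ⟨w, w.2, fun h => hwD h, ?_⟩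
  have h : ∀ v : W, v ∈ Subgroup.normalizer ((D.subgroupOf W : Subgroup W) : Set W) →
      ∀ d ∈ D, (v : G) * d * (v : G)⁻¹ ∈ D := fun v hv d hd =>
    (Subgroup.mem_normalizer_iff.1 hv ⟨d, hD.le hd⟩).1 hd
  rw [Subgroup.mem_normalizer_iff]
  intro d
  refine ⟨fun hd => h w hw d hd, fun hd => ?_⟩
  have := h w⁻¹ (inv_mem hw) _ hd
  simpa [mul_assoc] using this

end CfsgLib.LocalEven.AsymL
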