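import Mathlib
import Cfsg.Agent.Lib.LocalEven.AsymLBasic
import Cfsg.Agent.Lib.Fusion.Basic

/-!
The key step of the asymmetric L-lemma: subgroups of `L` in which the conjugates of `Y` commute normalise `Y`.
-/

set_option autoImplicit false
set_option linter.style.haveILetI false
set_option linter.unusedSectionVars false

open scoped commutatorElement

namespace CfsgLib.LocalEven.AsymL

open CfsgLib.LocalEven.SylowIn

variable {G : Type*} [Group G]

/-- The configuration: `Y` is asymmetric, `T` a weakly closed `p`-group centralising it, and every proper overgroup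
of `T` in `H` has `Y` in its `p`-core. -/
structure Setup (p : ℕ) (Y T H : Subgroup G) : Prop where
  yel : Cfsg.IsElementaryAbelian p Y
  yT : Y ≤ T
  cent : T ≤ Subgroup.centralizer (Y : Set G)
  tp : IsPGroup p T
  tH : T ≤ H
  rT : Cfsg.pCoreOf p H ≤ Subgroup.normalizer (T : Set G)
  charP : H ⊓ Subgroup.centralizer (Cfsg.pCoreOf p H : Set G) ≤ Cfsg.pCoreOf p H
  comm : ∀ a : G, (∀ v ∈ Y, a * v * a⁻¹ ∈ Subgroup.normalizer (Y : Set G)) →
    (∀ v ∈ Y, a⁻¹ * v * a ∈ Subgroup.normalizer (Y : Set G)) → ∀ u ∈ Y, ∀ v ∈ Y, Commute u (a * v * a⁻¹)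
  weak : ∀ P : Subgroup G, IsPGroup p P → T ≤ P → Subgroup.normalizer (P : Set G) ≤ Subgroup.normalizer (T : Set G)
  nT : Subgroup.normalizer (T : Set G) ≤ Subgroup.normalizer (Y : Set G)
  small : ∀ P : Subgroup G, T ≤ P → P < H → Y ≤ Cfsg.pCoreOf p P
  yH : ¬ Y ≤ Cfsg.pCoreOf p H

variable {p : ℕ} [Fact p.Prime] [Finite G] {Y T H : Subgroup G}

theorem Setup.yHle (h : Setup p Y T H) : Y ≤ H := h.yT.trans h.tH

theorem Setup.commute (h : Setup p Y T H) {u v : G} (hu : u ∈ T) (hv : v ∈ Y) : Commute u v :=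
  (Subgroup.mem_centralizer_iff.1 (h.cent hu) v hv).symm

theorem Setup.rY (h : Setup p Y T H) : Cfsg.pCoreOf p H ≤ Subgroup.normalizer (Y : Set G) := h.rT.trans h.nT

/-- Conjugates of `Y` inside a subgroup between `Y` and its normalizer commute. -/
theorem Setup.comm_of_between (h : Setup p Y T H) {W : Subgroup G} (hYW : Y ≤ W)
    (hWY : W ≤ Subgroup.normalizer (Y : Set G)) {a : G} (ha : a ∈ Subgroup.normalizer (W : Set G)) :
    ∀ u ∈ Y, ∀ v ∈ Y, Commute u (a * v * a⁻¹) := by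
  refine h.comm a (fun v hv => hWY (conj_mem_of_normalizer ha (hYW hv))) fun v hv => hWY ?_
  have := conj_mem_of_normalizer (inv_mem ha) (hYW hv)
  rwa [inv_inv] at this

/-- The key step. -/
theorem Setup.key (h : Setup p Y T H) {g : G} (hgH : g ∈ H)
    (hgen1 : ∀ K : Subgroup G, T ≤ K → (∀ v ∈ Y, g * v * g⁻¹ ∈ K) → H ≤ K)
    (hgen2 : ∀ K : Subgroup G, Y ≤ K → (∀ t ∈ T, g * t * g⁻¹ ∈ K) → H ≤ K)
    {L : Subgroup G} (hLH : L ≤ H) (hYL : Y ≤ L) (hgL : g ∈ L)
    (hLgen : ∀ K : Subgroup G, Y ≤ K → (∀ v ∈ Y, g * v * g⁻¹ ∈ K) → L ≤ K)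
    {X : Subgroup G} (hXL : X ≤ L) (hcomm : ∀ a ∈ X, ∀ u ∈ Y, ∀ v ∈ Y, Commute u (a * v * a⁻¹)) :
    X ≤ Subgroup.normalizer (Y : Set G) := by
  set R := Cfsg.pCoreOf p H with hR
  have hHR : H ≤ Subgroup.normalizer (R : Set G) := normalizer_pCoreOf H
  have hRH : R ≤ H := pCoreOf_le H
  have hRp : IsPGroup p R := isPGroup_pCoreOf H
  have hrY : ∀ x ∈ R, ∀ v ∈ Y, x * v * x⁻¹ ∈ Y := fun x hx v hv => conj_mem_of_normalizer (h.rY hx) hv
  have hrC : ∀ a ∈ H, ∀ x ∈ R, a * x * a⁻¹ ∈ R := fun a ha x hx => conj_mem_of_normalizer (hHR ha) hx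
  have hrC' : ∀ a ∈ H, ∀ x ∈ R, a⁻¹ * x * a ∈ R := fun a ha x hx => by
    have := hrC a⁻¹ (inv_mem ha) x hx; rwa [inv_inv] at this
  -- conjugates of `Y` are normalised by `R`
  have hrYa : ∀ a ∈ H, ∀ x ∈ R, ∀ v ∈ Y, ∃ w ∈ Y, x * (a * v * a⁻¹) * x⁻¹ = a * w * a⁻¹ := fun a ha x hx v hv =>
    ⟨_, hrY _ (hrC' a ha x hx) v hv, by group⟩
  set Yg : Subgroup G := Y.map (MulAut.conj g).toMonoidHom with hYg
  have hmemYg : ∀ w ∈ Yg, ∃ v ∈ Y, w = g * v * g⁻¹ := by
    rintro w ⟨v, hv, rfl⟩; exact ⟨v, hv, rfl⟩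
  have hYgH : Yg ≤ H := by
    rintro w hw
    obtain ⟨v, hv, rfl⟩ := hmemYg w hw
    exact mul_mem (mul_mem hgH (h.yHle hv)) (inv_mem hgH)
  have hRYg : R ≤ Subgroup.normalizer (Yg : Set G) := le_normalizer_of_forall fun x hx w hw => by
    obtain ⟨v, hv, rfl⟩ := hmemYg w hw
    obtain ⟨w, hw, e⟩ := hrYa g hgH x hx v hv
    rw [e]; exact ⟨w, hw, rfl⟩
  set E₁ := ⁅R, Y⁆ with hE1
  set E₂ := ⁅R, Yg⁆ with hE2
  have hE1Y : E₁ ≤ Y := Subgroup.le_normalizer_iff_commutator_le_right.1 h.rY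
  have hE2Y : E₂ ≤ Yg := Subgroup.le_normalizer_iff_commutator_le_right.1 hRYg
  have hE1R : E₁ ≤ R := Subgroup.le_normalizer_iff_commutator_le_left.1 (h.yHle.trans hHR)
  have hE2R : E₂ ≤ R := Subgroup.le_normalizer_iff_commutator_le_left.1 (hYgH.trans hHR)
  set E := E₁ ⊔ E₂ with hE
  have hER : E ≤ R := sup_le hE1R hE2R
  have hE12 : E₁ ≤ Subgroup.normalizer (E₂ : Set G) :=
    hE1R.trans (Commutators.normalizer_commutator_left R Yg)
  -- `Y` and `Yg` normalise `E`
  have hYE : Y ≤ Subgroup.normalizer (E : Set G) := le_normalizer_of_forall fun y hy e he => by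
    obtain ⟨d₁, hd₁, d₂, hd₂, rfl⟩ := mem_sup_decomp hE12 he
    rw [show y * (d₁ * d₂) * y⁻¹ = (y * d₁ * y⁻¹) * (⁅d₂, y⁆⁻¹ * d₂) by simp only [commutatorElement_def]; group]
    exact mul_mem (Subgroup.mem_sup_left (conj_mem_of_normalizer (Commutators.normalizer_commutator_right R Y hy) hd₁))
      (mul_mem (Subgroup.mem_sup_left (inv_mem (Subgroup.commutator_mem_commutator (hE2R hd₂) hy)))
        (Subgroup.mem_sup_right hd₂))
  have hYgE : Yg ≤ Subgroup.normalizer (E : Set G) := le_normalizer_of_forall fun y hy e he => by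
    obtain ⟨d₁, hd₁, d₂, hd₂, rfl⟩ := mem_sup_decomp hE12 he
    rw [show y * (d₁ * d₂) * y⁻¹ = (⁅d₁, y⁆⁻¹ * d₁) * (y * d₂ * y⁻¹) by simp only [commutatorElement_def]; group]
    exact mul_mem (mul_mem (Subgroup.mem_sup_right (inv_mem (Subgroup.commutator_mem_commutator (hE1R hd₁) hy)))
      (Subgroup.mem_sup_left hd₁))
      (Subgroup.mem_sup_right (conj_mem_of_normalizer (Commutators.normalizer_commutator_right R Yg hy) hd₂))
  -- `L` is trivial on `R` modulo `E`
  have hLE : L ≤ centMod E R := hLgen _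
    (fun y hy => ⟨hYE hy, fun x hx => by
      rw [← commutatorElement_inv]; exact inv_mem (Subgroup.mem_sup_left (Subgroup.commutator_mem_commutator hx hy))⟩)
    (fun v hv => ⟨hYgE ⟨v, hv, rfl⟩, fun x hx => by
      rw [← commutatorElement_inv]
      exact inv_mem (Subgroup.mem_sup_right (Subgroup.commutator_mem_commutator hx ⟨v, hv, rfl⟩))⟩)
  set Zh := R ⊓ Subgroup.centralizer (H : Set G) with hZh
  set Zt := E₁ ⊔ Zh with hZt
  have hZtT : ∀ d ∈ Zt, ∀ t ∈ T, Commute t d := by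
    intro d hd t ht
    have : Zt ≤ Subgroup.centralizer {t} := sup_le
      (fun d hd => Subgroup.mem_centralizer_singleton_iff.2 (h.commute ht (hE1Y hd)).symm.eq)
      (fun d hd => Subgroup.mem_centralizer_singleton_iff.2 (Subgroup.mem_centralizer_iff.1 hd.2 t (h.tH ht)).symm)
    exact (show Commute d t from Subgroup.mem_centralizer_singleton_iff.1 (this hd)).symm
  have hCE : ∀ e ∈ E, (∀ y ∈ Y, Commute y e) → e ∈ Zt := by
    intro e he hc
    obtain ⟨d₁, hd₁, d₂, hd₂, rfl⟩ := mem_sup_decomp hE12 he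
    refine mul_mem (Subgroup.mem_sup_left hd₁) (Subgroup.mem_sup_right (Subgroup.mem_inf.2 ⟨hE2R hd₂, ?_⟩))
    have hK : H ≤ Subgroup.centralizer {d₂} := by
      refine hgen2 _ (fun y hy => ?_) (fun t ht => ?_)
      · rw [Subgroup.mem_centralizer_singleton_iff]
        have h1 : Commute y d₁ := h.commute (h.yT hy) (hE1Y hd₁)
        have h2 : Commute y (d₁⁻¹ * (d₁ * d₂)) := h1.inv_right.mul_right (hc y hy)
        rw [inv_mul_cancel_left] at h2
        exact h2.eq
      · obtain ⟨v, hv, rfl⟩ := hmemYg d₂ (hE2Y hd₂)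
        rw [Subgroup.mem_centralizer_singleton_iff]
        exact (Commute.conj_iff g).2 (h.commute ht hv)
    rw [Subgroup.mem_centralizer_iff]
    exact fun x hx => Subgroup.mem_centralizer_singleton_iff.1 (hK hx)
  -- `S₁`
  set C₂ := R ⊓ Subgroup.centralizer (Yg : Set G) with hC2
  set S₁ := E₁ ⊔ C₂ with hS1
  have hE1C : E₁ ≤ Subgroup.normalizer (C₂ : Set G) := le_normalizer_of_forall fun x hx c hc => by
    refine Subgroup.mem_inf.2 ⟨hrC x (hRH (hE1R hx)) c hc.1, ?_⟩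
    rw [Subgroup.mem_centralizer_iff]
    intro w hw
    have hw' : x⁻¹ * w * x ∈ Yg := by
      have := conj_mem_of_normalizer (inv_mem (hRYg (hE1R hx))) hw
      rwa [inv_inv] at this
    have := Subgroup.mem_centralizer_iff.1 hc.2 _ hw'
    calc w * (x * c * x⁻¹) = x * ((x⁻¹ * w * x) * c) * x⁻¹ := by group
      _ = x * (c * (x⁻¹ * w * x)) * x⁻¹ := by rw [this]
      _ = _ := by group
  have hT'2 : ∀ t ∈ T, ∀ x ∈ R, ⁅g * t * g⁻¹, x⁆ ∈ C₂ := by
    intro t ht x hx
    have hx' : g⁻¹ * x * g ∈ R := hrC' g hgH x hx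
    have htR : ⁅t, g⁻¹ * x * g⁆ ∈ R := by
      rw [commutatorElement_def]
      exact mul_mem (hrC t (h.tH ht) _ hx') (inv_mem hx')
    have htT : ⁅t, g⁻¹ * x * g⁆ ∈ T := by
      rw [show ⁅t, g⁻¹ * x * g⁆ = t * ((g⁻¹ * x * g) * t⁻¹ * (g⁻¹ * x * g)⁻¹) by
        simp only [commutatorElement_def]; group]
      exact mul_mem ht (conj_mem_of_normalizer (h.rT hx') (inv_mem ht))
    rw [show ⁅g * t * g⁻¹, x⁆ = g * ⁅t, g⁻¹ * x * g⁆ * g⁻¹ by simp only [commutatorElement_def]; group]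
    refine Subgroup.mem_inf.2 ⟨hrC g hgH _ htR, ?_⟩
    rw [Subgroup.mem_centralizer_iff]
    intro w hw
    obtain ⟨v, hv, rfl⟩ := hmemYg w hw
    exact ((Commute.conj_iff g).2 (h.commute htT hv)).symm.eq
  have hHS1 : H ≤ centMod S₁ R := by
    refine hgen2 _ (fun y hy => ⟨?_, fun x hx => ?_⟩) (fun t ht => ⟨?_, fun x hx => ?_⟩)
    · have : Y ≤ Subgroup.normalizer (S₁ : Set G) := le_normalizer_of_forall fun y hy e he => by
        obtain ⟨d, hd, c, hc, rfl⟩ := mem_sup_decomp hE1C he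
        rw [show y * (d * c) * y⁻¹ = (y * d * y⁻¹) * (⁅c, y⁆⁻¹ * c) by simp only [commutatorElement_def]; group]
        exact mul_mem (Subgroup.mem_sup_left (conj_mem_of_normalizer (Commutators.normalizer_commutator_right R Y hy) hd))
          (mul_mem (Subgroup.mem_sup_left (inv_mem (Subgroup.commutator_mem_commutator hc.1 hy)))
            (Subgroup.mem_sup_right hc))
      exact this hy
    · rw [← commutatorElement_inv]
      exact inv_mem (Subgroup.mem_sup_left (Subgroup.commutator_mem_commutator hx hy))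
    · have : T.map (MulAut.conj g).toMonoidHom ≤ Subgroup.normalizer (S₁ : Set G) :=
        le_normalizer_of_forall fun w hw e he => by
          obtain ⟨t, ht, rfl⟩ := hw
          have heR : e ∈ R := (sup_le hE1R inf_le_left : S₁ ≤ R) he
          show g * t * g⁻¹ * e * (g * t * g⁻¹)⁻¹ ∈ S₁
          rw [show g * t * g⁻¹ * e * (g * t * g⁻¹)⁻¹ = ⁅g * t * g⁻¹, e⁆ * e by
            simp only [commutatorElement_def]; group]
          exact mul_mem (Subgroup.mem_sup_right (hT'2 t ht e heR)) he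
      exact this ⟨t, ht, rfl⟩
    · exact Subgroup.mem_sup_right (hT'2 t ht x hx)
  -- conjugates of `Y` centralise `[R, T]` and `[R, Y^a]` is centralised by `T`
  have hRT : ∀ a ∈ X, ∀ v ∈ Y, ∀ x ∈ R, ∀ t ∈ T, Commute (a * v * a⁻¹) ⁅t, x⁆ := by
    intro a ha v hv x hx t ht
    have hs := (hHS1 (h.tH ht)).2 x hx
    have hsT : ⁅t, x⁆ ∈ T := by
      rw [show ⁅t, x⁆ = t * (x * t⁻¹ * x⁻¹) by simp only [commutatorElement_def]; group]
      exact mul_mem ht (conj_mem_of_normalizer (h.rT hx) (inv_mem ht))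
    obtain ⟨d, hd, c, hc, e⟩ := mem_sup_decomp hE1C hs
    have hdc : Commute (a * v * a⁻¹) d := (hcomm a ha d (hE1Y hd) v hv).symm
    have hcL : L ≤ Subgroup.centralizer {c} := by
      refine hLgen _ (fun y hy => ?_) (fun w hw => ?_)
      · rw [Subgroup.mem_centralizer_singleton_iff]
        have h1 : Commute y d := h.commute (h.yT hy) (hE1Y hd)
        have h2 : Commute y (d⁻¹ * ⁅t, x⁆) := h1.inv_right.mul_right (h.commute hsT hy).symm
        rw [e, inv_mul_cancel_left] at h2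
        exact h2.eq
      · rw [Subgroup.mem_centralizer_singleton_iff]
        exact Subgroup.mem_centralizer_iff.1 hc.2 _ ⟨w, hw, rfl⟩
    rw [e]
    exact hdc.mul_right (Subgroup.mem_centralizer_singleton_iff.1
      (hcL (mul_mem (mul_mem (hXL ha) (hYL hv)) (inv_mem (hXL ha)))))
  have hRYa : ∀ a ∈ X, ∀ v ∈ Y, ∀ x ∈ R, ⁅a * v * a⁻¹, x⁆ ∈ Zt := by
    intro a ha v hv x hx
    refine hCE _ ((hLE (mul_mem (mul_mem (hXL ha) (hYL hv)) (inv_mem (hXL ha)))).2 x hx) fun y hy => ?_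
    obtain ⟨w, hw, e⟩ := hrYa a (hLH (hXL ha)) x hx v⁻¹ (inv_mem hv)
    rw [show ⁅a * v * a⁻¹, x⁆ = (a * v * a⁻¹) * (x * (a * v⁻¹ * a⁻¹) * x⁻¹) by
      simp only [commutatorElement_def]; group, e]
    exact (hcomm a ha y hy v hv).mul_right (hcomm a ha y hy w hw)
  -- `T` centralises the conjugates modulo `R`
  have hTVR : ∀ a ∈ X, ∀ v ∈ Y, ∀ t ∈ T, ⁅a * v * a⁻¹, t⁆ ∈ R := by
    intro a ha v hv t ht
    set Ya := Y.map (MulAut.conj a).toMonoidHom with hYa
    have h1 : ⁅⁅R, T⁆, Ya⁆ = ⊥ := by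
      rw [Subgroup.commutator_eq_bot_iff_le_centralizer, Subgroup.commutator_le]
      intro x hx t ht
      rw [Subgroup.mem_centralizer_iff]
      rintro _ ⟨v, hv, rfl⟩
      rw [← commutatorElement_inv]
      exact (hRT a ha v hv x hx t ht).inv_right.eq
    have h2 : ⁅⁅Ya, R⁆, T⁆ = ⊥ := by
      rw [Subgroup.commutator_eq_bot_iff_le_centralizer, Subgroup.commutator_le]
      rintro _ ⟨v, hv, rfl⟩ x hx
      rw [Subgroup.mem_centralizer_iff]
      exact fun t ht => (hZtT _ (hRYa a ha v hv x hx) t ht).eq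
    have h3 : ⁅⁅T, Ya⁆, R⁆ = ⊥ := Subgroup.commutator_commutator_eq_bot_of_rotate h2 h1
    rw [Subgroup.commutator_eq_bot_iff_le_centralizer] at h3
    rw [← commutatorElement_inv]
    refine inv_mem (h.charP (Subgroup.mem_inf.2 ⟨?_, h3 (Subgroup.commutator_mem_commutator ht ⟨v, hv, rfl⟩)⟩))
    have hv' : a * v * a⁻¹ ∈ H :=
      mul_mem (mul_mem (hLH (hXL ha)) (h.yHle hv)) (inv_mem (hLH (hXL ha)))
    rw [commutatorElement_def]
    exact mul_mem (mul_mem (mul_mem (h.tH ht) hv') (inv_mem (h.tH ht))) (inv_mem hv')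
  -- the group `P₁`
  set V := conjClosure X Y with hV
  have hVel : Cfsg.IsElementaryAbelian p V := elab_conjClosure h.yel hcomm
  have hRV : R ≤ Subgroup.normalizer (V : Set G) := le_normalizer_of_forall fun x hx e he => by
    have hle : V ≤ V.comap (MulAut.conj x).toMonoidHom := conjClosure_le fun a ha v hv => by
      show x * (a * v * a⁻¹) * x⁻¹ ∈ V
      obtain ⟨w, hw, e⟩ := hrYa a (hLH (hXL ha)) x hx v hv
      rw [e]; exact conj_mem_conjClosure ha hw
    exact hle he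
  set BR := V ⊔ R with hBR
  have hBRp : IsPGroup p BR := IsPGroup.to_sup_of_normal_left' (PReduced.elab_isPGroup hVel) hRp hRV
  have hVH : V ≤ H := conjClosure_le fun a ha v hv =>
    mul_mem (mul_mem (hLH (hXL ha)) (h.yHle hv)) (inv_mem (hLH (hXL ha)))
  have hBRH : BR ≤ H := sup_le hVH hRH
  have hXBR : X ≤ Subgroup.normalizer (BR : Set G) :=
    PReduced.normalizer_sup (le_normalizer_conjClosure X Y) ((hXL.trans hLH).trans hHR)
  have hTcent : ∀ b ∈ BR, ∀ t ∈ T, ⁅b, t⁆ ∈ R := by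
    have : BR ≤ centMod R T := sup_le
      (conjClosure_le fun a ha v hv => ⟨hHR (mul_mem (mul_mem (hLH (hXL ha)) (h.yHle hv)) (inv_mem (hLH (hXL ha)))),
        hTVR a ha v hv⟩)
      (fun x hx => ⟨hHR (hRH hx), fun t ht => by
        rw [show ⁅x, t⁆ = x * (t * x⁻¹ * t⁻¹) by simp only [commutatorElement_def]; group]
        exact mul_mem hx (hrC t (h.tH ht) _ (inv_mem hx))⟩)
    exact fun b hb t ht => (this hb).2 t ht
  have hTBR : T ≤ Subgroup.normalizer (BR : Set G) := le_normalizer_of_forall fun t ht b hb => by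
    rw [show t * b * t⁻¹ = ⁅b, t⁆⁻¹ * b by simp only [commutatorElement_def]; group]
    exact mul_mem (Subgroup.mem_sup_right (inv_mem (hTcent b hb t ht))) hb
  set P₁ := T ⊔ X with hP1
  have hP1H : P₁ ≤ H := sup_le h.tH (hXL.trans hLH)
  have hP1BR : P₁ ≤ Subgroup.normalizer (BR : Set G) := sup_le hTBR hXBR
  have hYBR : Y ≤ BR := (le_conjClosure X Y).trans le_sup_left
  have hlt : P₁ < H := lt_of_le_of_ne hP1H fun e =>
    h.yH (hYBR.trans (le_pCoreOf hBRH (e.symm.le.trans hP1BR) hBRp))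
  -- the normal closure in `P₁`
  set R₁ := Cfsg.pCoreOf p P₁ with hR1
  have hYR1 : Y ≤ R₁ := h.small P₁ le_sup_left hlt
  have hP1R1 : P₁ ≤ Subgroup.normalizer (R₁ : Set G) := normalizer_pCoreOf P₁
  have hR1Y : R₁ ≤ Subgroup.normalizer (Y : Set G) := by
    have hp : IsPGroup p (R₁ ⊔ T : Subgroup G) :=
      IsPGroup.to_sup_of_normal_left' (isPGroup_pCoreOf P₁) h.tp ((le_sup_left : T ≤ P₁).trans hP1R1)
    exact ((le_sup_left : R₁ ≤ R₁ ⊔ T).trans Subgroup.le_normalizer).trans ((h.weak _ hp le_sup_right).trans h.nT)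
  set B := conjClosure P₁ Y with hB
  have hBel : Cfsg.IsElementaryAbelian p B :=
    elab_conjClosure h.yel fun a ha => h.comm_of_between hYR1 hR1Y (hP1R1 ha)
  have hBp : IsPGroup p B := PReduced.elab_isPGroup hBel
  have hBBR : B ≤ BR := conjClosure_le fun a ha v hv => conj_mem_of_normalizer (hP1BR ha) (hYBR hv)
  have hP1B : P₁ ≤ Subgroup.normalizer (B : Set G) := le_normalizer_conjClosure P₁ Y
  have hP1R : P₁ ≤ Subgroup.normalizer (R : Set G) := hP1H.trans hHR
  have hBcomm : ∀ b ∈ B, ∀ c ∈ B, Commute b c := fun b hb c hc =>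
    congrArg Subtype.val (hBel.1.is_comm.comm ⟨b, hb⟩ ⟨c, hc⟩)
  -- `Ẑ` is invariant
  have hP1Zt : P₁ ≤ Subgroup.normalizer (Zt : Set G) := by
    refine sup_le (le_normalizer_of_forall fun t ht d hd => ?_) (le_normalizer_of_forall fun a ha d hd => ?_)
    · rw [(hZtT d hd t ht).eq, mul_inv_cancel_right]; exact hd
    · have : Zt ≤ Zt.comap (MulAut.conj a).toMonoidHom := sup_le
        (fun d hd => by
          show a * d * a⁻¹ ∈ Zt
          refine hCE _ (conj_mem_of_normalizer (hLE (hXL ha)).1 (Subgroup.mem_sup_left hd)) fun y hy => ?_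
          exact hcomm a ha y hy d (hE1Y hd))
        (fun d hd => by
          show a * d * a⁻¹ ∈ Zt
          rw [Subgroup.mem_centralizer_iff.1 hd.2 a (hLH (hXL ha)), mul_inv_cancel_right]
          exact Subgroup.mem_sup_right hd)
      exact this hd
  -- the stabiliser of the chain
  set N₁ := P₁ ⊓ centMod R B ⊓ Subgroup.centralizer (Zt : Set G) with hN1
  have hTN1 : T ≤ N₁ := fun t ht => Subgroup.mem_inf.2 ⟨⟨le_sup_left (b := X) ht, hP1R (le_sup_left (b := X) ht), fun b hb => by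
    rw [← commutatorElement_inv]; exact inv_mem (hTcent b (hBBR hb) t ht)⟩, by
    rw [Subgroup.mem_centralizer_iff]; exact fun d hd => ((hZtT d hd t ht).symm).eq⟩
  have hP1N1 : P₁ ≤ Subgroup.normalizer (N₁ : Set G) :=
    PReduced.normalizer_inf (PReduced.normalizer_inf Subgroup.le_normalizer
      ((le_inf hP1R hP1B).trans le_normalizer_centMod)) (PReduced.normalizer_centralizer hP1Zt)
  -- the middle factor
  set Pm := P₁ ⊓ centMod Zt (B ⊓ R) with hPm
  have hP1Pm : P₁ ≤ Subgroup.normalizer (Pm : Set G) :=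
    PReduced.normalizer_inf Subgroup.le_normalizer
      ((le_inf hP1Zt (PReduced.normalizer_inf hP1B hP1R)).trans le_normalizer_centMod)
  have hXPm : X ≤ Pm := fun a ha => ⟨le_sup_right (a := T) ha, hP1Zt (le_sup_right (a := T) ha), fun b hb => by
    refine hCE _ ((hLE (hXL ha)).2 b hb.2) fun y hy => ?_
    refine hBcomm y (le_conjClosure P₁ Y hy) _ ?_
    rw [commutatorElement_def]
    exact mul_mem (conj_mem_of_normalizer (hP1B (le_sup_right (a := T) ha)) hb.1) (inv_mem hb.1)⟩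
  have hcop : ∀ x ∈ P₁, (orderOf x).Coprime p → x ∈ Pm := by
    intro x hx hc
    refine PReduced.coprime_mem_sup (N := T) ((le_sup_left : T ≤ P₁).trans hP1Pm) (fun y hy hcy => ?_)
      ((sup_le le_sup_left (hXPm.trans le_sup_right) : P₁ ≤ T ⊔ Pm) hx) hc
    rw [PReduced.eq_one_of_coprime_of_isPGroup h.tp hy hcy]
    exact one_mem _
  have hcen : ∀ x ∈ N₁, (orderOf x).Coprime p → ∀ b ∈ B, Commute x b := by
    intro x hx hc b hb
    have hxP : x ∈ P₁ := hx.1.1
    have hBR' : ∀ d ∈ B ⊓ R, Commute x d := fun d hd => by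
      refine commute_of_chain hBp hd.1 (conj_mem_of_normalizer (hP1B hxP) hd.1) ?_ hc
      exact (Subgroup.mem_centralizer_iff.1 hx.2 _ ((hcop x hxP hc).2.2 d hd)).symm
    refine commute_of_chain hBp hb (conj_mem_of_normalizer (hP1B hxP) hb) (hBR' _ (Subgroup.mem_inf.2 ⟨?_, hx.1.2.2 b hb⟩)) hc
    rw [commutatorElement_def]
    exact mul_mem (conj_mem_of_normalizer (hP1B hxP) hb) (inv_mem hb)
  -- Frattini
  obtain ⟨S₀, hS₀, hTS₀⟩ := exists_isSylowIn (p := p) N₁ hTN1 h.tp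
  have hS₀Y : Subgroup.normalizer (S₀ : Set G) ≤ Subgroup.normalizer (Y : Set G) :=
    (h.weak S₀ hS₀.2.1 hTS₀).trans h.nT
  have hN1Y : N₁ ≤ Subgroup.normalizer (Y : Set G) :=
    PReduced.le_of_coprime_of_sylow hS₀ (fun x hx hc => by
      rw [Subgroup.mem_normalizer_iff]
      intro v
      constructor
      · intro hv; rw [(hcen x hx hc v (le_conjClosure P₁ Y hv)).eq, mul_inv_cancel_right]; exact hv
      · intro hv
        have := hcen x hx hc _ (le_conjClosure P₁ Y hv)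
        have e : x * (x * v * x⁻¹) * x⁻¹ = x * v * x⁻¹ := by rw [this.eq, mul_inv_cancel_right]
        have e' : x * v * x⁻¹ = v := mul_left_cancel (mul_right_cancel e)
        rwa [e'] at hv)
      (Subgroup.le_normalizer.trans hS₀Y)
  intro a ha
  obtain ⟨l, hl, n, hn, rfl⟩ :=
    frattini_argument hS₀ hP1N1 (inf_le_left.trans inf_le_left) (le_sup_right (a := T) ha : a ∈ P₁)
  exact mul_mem (hN1Y hl) (hS₀Y hn.2)

end CfsgLib.LocalEven.AsymL
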