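import Mathlib
import Cfsg.Agent.Lib.LocalEven.AsymLKey
import Cfsg.Agent.Lib.Involution.BaerSuzuki
import Cfsg.Prelude.Def_LocalStructure

/-!
The asymmetric L-lemma for an abstract configuration.
-/

set_option autoImplicit false
set_option linter.style.haveILetI false
set_option linter.unusedSectionVars false

open scoped commutatorElement

namespace CfsgLib.LocalEven.AsymL

open CfsgLib.LocalEven.SylowIn

variable {G : Type*} [Group G] [Finite G] {p : ℕ} [Fact p.Prime] {Y T H L : Subgroup G}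

/-- The join of `Y` and its conjugate under `g`. -/
def pairGroup (Y : Subgroup G) (g : G) : Subgroup G := Y ⊔ Y.map (MulAut.conj g).toMonoidHom

/-- `L` is minimal over `Y` subject to `Y ≰ O_p(L)`. -/
structure MinOver (p : ℕ) (Y T H L : Subgroup G) : Prop where
  setup : Setup p Y T H
  lH : L ≤ H
  yL : Y ≤ L
  yO : ¬ Y ≤ Cfsg.pCoreOf p L
  min : ∀ L' : Subgroup G, L' ≤ L → Y ≤ L' → ¬ Y ≤ Cfsg.pCoreOf p L' → L' = L

theorem MinOver.conj_le (m : MinOver p Y T H L) {g : G} (hg : g ∈ L) :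
    Y.map (MulAut.conj g).toMonoidHom ≤ L := by
  rintro _ ⟨v, hv, rfl⟩
  exact mul_mem (mul_mem hg (m.yL hv)) (inv_mem hg)

theorem MinOver.not_pGroup (m : MinOver p Y T H L) : ¬ IsPGroup p L := fun hp =>
  m.yO (m.yL.trans (le_pCoreOf le_rfl Subgroup.le_normalizer hp))

theorem MinOver.le_core_of_lt (m : MinOver p Y T H L) {K : Subgroup G} (hKL : K < L) (hYK : Y ≤ K) :
    Y ≤ Cfsg.pCoreOf p K := by
  by_contra h
  exact hKL.ne (m.min K hKL.le hYK h)

theorem MinOver.exists_pair (m : MinOver p Y T H L) : ∃ g ∈ L, ¬ IsPGroup p (pairGroup Y g) := by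
  by_contra hne
  push Not at hne
  obtain ⟨N, hNn, hNp, hYN⟩ := CfsgLib.Involution.BaerSuzuki.exists_normal (p := p) (Y.subgroupOf L) (by
    intro g
    refine IsPGroup.of_injective ((hne g g.2).comap_of_injective L.subtype L.subtype_injective)
      (Subgroup.inclusion (sup_le ?_ ?_)) (Subgroup.inclusion_injective _)
    · exact fun x hx => Subgroup.mem_sup_left hx
    · rintro _ ⟨x, hx, rfl⟩
      exact Subgroup.mem_sup_right ⟨(x : G), hx, rfl⟩)
  refine m.yO fun v hv => ?_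
  exact le_pCoreOf (Subgroup.map_subtype_le N)
    ((Subgroup.normal_subgroupOf_iff_le_normalizer (Subgroup.map_subtype_le N)).1 (by
      rw [Subgroup.subgroupOf, Subgroup.comap_map_eq_self_of_injective L.subtype_injective]; exact hNn))
    (hNp.map _) ⟨⟨v, m.yL hv⟩, hYN hv, rfl⟩

theorem MinOver.pair_eq (m : MinOver p Y T H L) {g : G} (hg : g ∈ L) (hp : ¬ IsPGroup p (pairGroup Y g)) :
    pairGroup Y g = L := by
  have hKL : pairGroup Y g ≤ L := sup_le m.yL (m.conj_le hg)
  by_contra hne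
  have hlt := lt_of_le_of_ne hKL hne
  set K := pairGroup Y g with hK
  have h1 := m.le_core_of_lt hlt le_sup_left
  set K' := K.map (MulAut.conj g⁻¹).toMonoidHom with hK'
  have hK'L : K' < L := by
    refine lt_of_le_of_ne ?_ fun e => hne ?_
    · rintro _ ⟨x, hx, rfl⟩
      exact mul_mem (mul_mem (inv_mem hg) (hKL hx)) (inv_mem (inv_mem hg))
    · refine Subgroup.eq_of_le_of_card_ge hKL ?_
      rw [← e, hK']
      exact (Nat.card_congr (K.equivMapOfInjective _ (MulAut.conj g⁻¹).injective).toEquiv).symm.le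
  have hYK' : Y ≤ K' := fun v hv =>
    mem_map_conj.2 (by rw [inv_inv]; exact Subgroup.mem_sup_right ⟨v, hv, rfl⟩)
  have h2 := m.le_core_of_lt hK'L hYK'
  refine hp ((isPGroup_pCoreOf K).to_le (sup_le h1 ?_))
  rintro _ ⟨v, hv, rfl⟩
  have h3 := h2 hv
  rw [hK', ← pCoreOf_map_conj] at h3
  have h4 := mem_map_conj.1 h3
  rw [inv_inv] at h4
  exact h4

theorem MinOver.sup_eq (m : MinOver p Y T H L) : L ⊔ T = H := by
  have hle : L ⊔ T ≤ H := sup_le m.lH m.setup.tH
  by_contra hne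
  have h1 := m.setup.small (L ⊔ T) le_sup_right (lt_of_le_of_ne hle hne)
  refine m.yO ((le_inf h1 m.yL).trans (le_pCoreOf inf_le_right ?_ ((isPGroup_pCoreOf (L ⊔ T)).to_le inf_le_left)))
  exact PReduced.normalizer_inf ((le_sup_left : L ≤ L ⊔ T).trans (normalizer_pCoreOf _)) Subgroup.le_normalizer

theorem MinOver.gen_L (m : MinOver p Y T H L) {g : G} (hg : g ∈ L) (hp : ¬ IsPGroup p (pairGroup Y g))
    (K : Subgroup G) (hY : Y ≤ K) (hc : ∀ v ∈ Y, g * v * g⁻¹ ∈ K) : L ≤ K := by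
  rw [← m.pair_eq hg hp]
  exact sup_le hY (by rintro _ ⟨v, hv, rfl⟩; exact hc v hv)

theorem MinOver.gen₁ (m : MinOver p Y T H L) {g : G} (hg : g ∈ L) (hp : ¬ IsPGroup p (pairGroup Y g))
    (K : Subgroup G) (hT : T ≤ K) (hc : ∀ v ∈ Y, g * v * g⁻¹ ∈ K) : H ≤ K :=
  m.sup_eq.ge.trans (sup_le (m.gen_L hg hp K (m.setup.yT.trans hT) hc) hT)

theorem MinOver.gen₂ (m : MinOver p Y T H L) {g : G} (hg : g ∈ L) (hp : ¬ IsPGroup p (pairGroup Y g))
    (K : Subgroup G) (hY : Y ≤ K) (hc : ∀ t ∈ T, g * t * g⁻¹ ∈ K) : H ≤ K := by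
  have hp' : ¬ IsPGroup p (pairGroup Y g⁻¹) := by
    intro h
    refine hp ?_
    have e : (pairGroup Y g⁻¹).map (MulAut.conj g).toMonoidHom = pairGroup Y g := by
      rw [pairGroup, Subgroup.map_sup, map_conj_conj, mul_inv_cancel, map_conj_one, sup_comm]; rfl
    exact e ▸ h.map _
  have h1 := m.gen₁ (inv_mem hg) hp' (K.map (MulAut.conj g⁻¹).toMonoidHom)
    (fun t ht => mem_map_conj.2 (by simpa using hc t ht))
    (fun v hv => mem_map_conj.2 (by simpa [mul_assoc] using hY hv))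
  intro x hx
  have hgH := m.lH hg
  have := mem_map_conj.1 (h1 (mul_mem (mul_mem (inv_mem hgH) hx) hgH))
  simpa [mul_assoc] using this

theorem MinOver.key' (m : MinOver p Y T H L) {X : Subgroup G} (hXL : X ≤ L)
    (hcomm : ∀ a ∈ X, ∀ u ∈ Y, ∀ v ∈ Y, Commute u (a * v * a⁻¹)) :
    X ≤ Subgroup.normalizer (Y : Set G) := by
  obtain ⟨g, hg, hp⟩ := m.exists_pair
  exact m.setup.key (m.lH hg) (m.gen₁ hg hp) (m.gen₂ hg hp) m.lH m.yL hg (m.gen_L hg hp) hXL hcomm

/-- `p`-subgroups of `L` containing `Y` normalise it. -/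
theorem MinOver.pSubgroup_le (m : MinOver p Y T H L) {W : Subgroup G} (hWL : W ≤ L) (hYW : Y ≤ W)
    (hW : IsPGroup p W) : W ≤ Subgroup.normalizer (Y : Set G) := by
  by_contra hne
  have hlt : W ⊓ Subgroup.normalizer (Y : Set G) < W :=
    lt_of_le_of_ne inf_le_left fun e => hne (inf_eq_left.1 e)
  obtain ⟨w, hw, hwD, hwN⟩ := lt_inf_normalizer' hW hlt
  refine hwD (Subgroup.mem_inf.2 ⟨hw, ?_⟩)
  refine m.key' (X := Subgroup.zpowers w) (Subgroup.zpowers_le.2 (hWL hw)) (fun a ha => ?_) (Subgroup.mem_zpowers w)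
  exact m.setup.comm_of_between (le_inf hYW Subgroup.le_normalizer) inf_le_right
    ((Subgroup.zpowers_le.2 hwN) ha)

/-- Proper subgroups of `L` containing `Y` normalise it. -/
theorem MinOver.proper_le (m : MinOver p Y T H L) {X : Subgroup G} (hXL : X < L) (hYX : Y ≤ X) :
    X ≤ Subgroup.normalizer (Y : Set G) := by
  have h1 := m.le_core_of_lt hXL hYX
  have h2 := m.pSubgroup_le ((pCoreOf_le X).trans hXL.le) h1 (isPGroup_pCoreOf X)
  exact m.key' hXL.le fun a ha => m.setup.comm_of_between h1 h2 (normalizer_pCoreOf X ha)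

theorem MinOver.normalizer_lt (m : MinOver p Y T H L) : L ⊓ Subgroup.normalizer (Y : Set G) < L := by
  refine lt_of_le_of_ne inf_le_left fun e => m.yO ?_
  exact le_pCoreOf m.yL (inf_eq_left.1 e) (PReduced.elab_isPGroup m.setup.yel)

theorem MinOver.proper_le_M (m : MinOver p Y T H L) {X : Subgroup G} (hYX : Y ≤ X) (hXL : X < L) :
    X ≤ L ⊓ Subgroup.normalizer (Y : Set G) := le_inf hXL.le (m.proper_le hXL hYX)

/-- A conjugate outside `N(Y)` generates `L` with `Y`. -/
theorem MinOver.pair_of_not_normalizer (m : MinOver p Y T H L) {h : G} (hh : h ∈ L)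
    (hn : h ∉ Subgroup.normalizer (Y : Set G)) : ¬ IsPGroup p (pairGroup Y h) := by
  intro hp
  set M₀ := L ⊓ Subgroup.normalizer (Y : Set G) with hM₀
  have hKL : pairGroup Y h ≤ L := sup_le m.yL (m.conj_le hh)
  have hlt : pairGroup Y h < L := lt_of_le_of_ne hKL fun e => m.not_pGroup (e ▸ hp)
  have hKM := m.proper_le_M le_sup_left hlt
  set K' := (pairGroup Y h).map (MulAut.conj h⁻¹).toMonoidHom with hK'
  have hYK' : Y ≤ K' := fun v hv =>
    mem_map_conj.2 (by rw [inv_inv]; exact Subgroup.mem_sup_right ⟨v, hv, rfl⟩)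
  have hK'L : K' ≤ L := by
    rintro _ ⟨x, hx, rfl⟩
    exact mul_mem (mul_mem (inv_mem hh) (hKL hx)) (inv_mem (inv_mem hh))
  have hK'M := m.proper_le_M hYK' (lt_of_le_of_ne hK'L fun e => m.not_pGroup (e ▸ hp.map _))
  set M₁ := M₀.map (MulAut.conj h).toMonoidHom with hM₁
  have hYM₁ : Y ≤ M₁ := fun v hv => by
    have hm : h⁻¹ * v * h ∈ K' := mem_map_conj.2 (by rw [inv_inv, show h * (h⁻¹ * v * h) * h⁻¹ = v by group]; exact Subgroup.mem_sup_left hv)
    exact mem_map_conj.2 (hK'M hm)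
  have hM₁L : M₁ ≤ L := by
    rintro _ ⟨x, hx, rfl⟩
    exact mul_mem (mul_mem hh (Subgroup.mem_inf.1 hx).1) (inv_mem hh)
  have hcard : Nat.card M₁ = Nat.card M₀ :=
    (Nat.card_congr (M₀.equivMapOfInjective _ (MulAut.conj h).injective).toEquiv).symm
  have hM₁lt : M₁ < L := lt_of_le_of_ne hM₁L fun e =>
    m.normalizer_lt.ne (Subgroup.eq_of_le_of_card_ge inf_le_left ((congrArg (fun K : Subgroup G => Nat.card K) e).symm.le.trans hcard.le))
  have hM₁eq : M₁ = M₀ := Subgroup.eq_of_le_of_card_ge (m.proper_le_M hYM₁ hM₁lt) hcard.ge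
  have hhN : h ∈ L ⊓ Subgroup.normalizer (M₀ : Set G) := ⟨hh, map_conj_eq_iff.1 hM₁eq⟩
  have hlt' : L ⊓ Subgroup.normalizer (M₀ : Set G) < L := by
    refine lt_of_le_of_ne inf_le_left fun e => ?_
    obtain ⟨g, hg, hpg⟩ := m.exists_pair
    refine m.normalizer_lt.not_ge (m.gen_L hg hpg M₀ (le_inf m.yL Subgroup.le_normalizer) fun v hv => ?_)
    exact conj_mem_of_normalizer ((inf_eq_left.1 e) hg)
      ((le_inf m.yL Subgroup.le_normalizer : Y ≤ M₀) hv)
  exact hn (m.proper_le hlt' (le_inf m.yL ((le_inf m.yL Subgroup.le_normalizer : Y ≤ M₀).trans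
    Subgroup.le_normalizer)) hhN)

theorem MinOver.conj_sup_eq (m : MinOver p Y T H L) {h : G} (hh : h ∈ L)
    (hn : h ∉ Subgroup.normalizer (Y : Set G)) : Y.map (MulAut.conj h).toMonoidHom ⊔ T = H :=
  le_antisymm (sup_le ((m.conj_le hh).trans m.lH) m.setup.tH)
    (m.gen₁ hh (m.pair_of_not_normalizer hh hn) _ le_sup_right fun v hv =>
      Subgroup.mem_sup_left ⟨v, hv, rfl⟩)

theorem MinOver.minimalOver (m : MinOver p Y T H L) : Cfsg.IsMinimalOver (Y.subgroupOf L) := by
  obtain ⟨g, hg, hp⟩ := m.exists_pair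
  refine ⟨eq_top_iff.2 fun x _ => ?_, (L ⊓ Subgroup.normalizer (Y : Set G)).subgroupOf L, ⟨⟨?_, ?_⟩, ?_⟩, ?_⟩
  · set N := Subgroup.normalClosure ((Y.subgroupOf L : Subgroup L) : Set L)
    obtain ⟨y, hy, e⟩ := m.gen_L hg hp (N.map L.subtype)
      (fun v hv => ⟨⟨v, m.yL hv⟩, Subgroup.subset_normalClosure hv, rfl⟩)
      (fun v hv => ⟨⟨g, hg⟩ * ⟨v, m.yL hv⟩ * ⟨g, hg⟩⁻¹,
        Subgroup.normalClosure_normal.conj_mem (⟨v, m.yL hv⟩ : L) (Subgroup.subset_normalClosure hv) ⟨g, hg⟩, rfl⟩) x.2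
    exact Subtype.ext e ▸ hy
  · intro e
    exact m.normalizer_lt.not_ge (Subgroup.subgroupOf_eq_top.1 e)
  · intro K hK
    by_contra hne
    refine hK.not_ge ?_
    have hKL : K.map L.subtype < L := lt_of_le_of_ne (Subgroup.map_subtype_le K) fun e =>
      hne (Subgroup.map_injective L.subtype_injective
        (e.trans (by rw [← MonoidHom.range_eq_map, Subgroup.range_subtype])))
    have h1 := m.proper_le_M (X := K.map L.subtype)
      (fun v hv => ⟨⟨v, m.yL hv⟩, hK.le (Subgroup.mem_subgroupOf.2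
        ((le_inf m.yL Subgroup.le_normalizer : Y ≤ L ⊓ Subgroup.normalizer (Y : Set G)) hv)), rfl⟩) hKL
    exact fun k hk => h1 ⟨k, hk, rfl⟩
  · exact fun v hv => (le_inf m.yL Subgroup.le_normalizer : Y ≤ L ⊓ Subgroup.normalizer (Y : Set G)) hv
  · rintro N ⟨hN, hYN⟩
    have hNL : N.map L.subtype < L := lt_of_le_of_ne (Subgroup.map_subtype_le N) fun e =>
      hN.1 (Subgroup.map_injective L.subtype_injective
        (e.trans (by rw [← MonoidHom.range_eq_map, Subgroup.range_subtype])))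
    have h1 := m.proper_le_M (X := N.map L.subtype) (fun v hv => ⟨⟨v, m.yL hv⟩, hYN hv, rfl⟩) hNL
    have hle : N ≤ (L ⊓ Subgroup.normalizer (Y : Set G)).subgroupOf L := fun k hk => h1 ⟨k, hk, rfl⟩
    by_contra hne
    exact m.normalizer_lt.not_ge (Subgroup.subgroupOf_eq_top.1 (hN.2 _ (lt_of_le_of_ne hle hne)))

theorem MinOver.core_normalizes (m : MinOver p Y T H L) :
    Cfsg.pCoreOf p L ≤ Subgroup.normalizer (Y : Set G) := by
  have hn : Y ≤ Subgroup.normalizer (Cfsg.pCoreOf p L : Set G) := m.yL.trans (normalizer_pCoreOf L)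
  have hp : IsPGroup p (Cfsg.pCoreOf p L ⊔ Y : Subgroup G) :=
    IsPGroup.to_sup_of_normal_left' (isPGroup_pCoreOf L) (PReduced.elab_isPGroup m.setup.yel) hn
  exact (le_sup_left : _ ≤ Cfsg.pCoreOf p L ⊔ Y).trans
    (m.pSubgroup_le (sup_le (pCoreOf_le L) m.yL) le_sup_right hp)

theorem MinOver.charP (m : MinOver p Y T H L) :
    Subgroup.centralizer (Cfsg.pCore p L : Set L) ≤ Cfsg.pCore p L := by
  refine (charP_iff L).2 ?_
  set A := Cfsg.pCoreOf p L
  set R := Cfsg.pCoreOf p H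
  set C := L ⊓ Subgroup.centralizer (A : Set G)
  have hHR : H ≤ Subgroup.normalizer (R : Set G) := normalizer_pCoreOf H
  have hRL : R ⊓ L ≤ A := le_pCoreOf inf_le_right
    (PReduced.normalizer_inf (m.lH.trans hHR) Subgroup.le_normalizer) ((isPGroup_pCoreOf H).to_le inf_le_left)
  obtain ⟨g, hg, hp⟩ := m.exists_pair
  have hRnL : R ≤ Subgroup.normalizer (L : Set G) := by
    refine le_normalizer_of_forall fun x hx l hl => ?_
    have hle : L ≤ L.comap (MulAut.conj x).toMonoidHom := m.gen_L hg hp _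
      (fun v hv => m.yL (conj_mem_of_normalizer (m.setup.rY hx) hv))
      (fun v hv => by
        show x * (g * v * g⁻¹) * x⁻¹ ∈ L
        have hx' : g⁻¹ * x * g ∈ R := by
          have := conj_mem_of_normalizer (hHR (inv_mem (m.lH hg))) hx; rwa [inv_inv] at this
        rw [show x * (g * v * g⁻¹) * x⁻¹ = g * ((g⁻¹ * x * g) * v * (g⁻¹ * x * g)⁻¹) * g⁻¹ by group]
        exact mul_mem (mul_mem hg (m.yL (conj_mem_of_normalizer (m.setup.rY hx') hv))) (inv_mem hg))
    exact hle hl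
  refine le_pCoreOf inf_le_left ?_ (Residual.isPGroup_of_forall_coprime fun x hx hc => ?_)
  · exact PReduced.normalizer_inf Subgroup.le_normalizer (PReduced.normalizer_centralizer (normalizer_pCoreOf L))
  · have hxH : x ∈ H := m.lH hx.1
    have hcent : x ∈ Subgroup.centralizer (R : Set G) := by
      rw [Subgroup.mem_centralizer_iff]
      intro b hb
      refine ((commute_of_chain (isPGroup_pCoreOf H) hb (conj_mem_of_normalizer (hHR hxH) hb) ?_ hc).eq).symm
      have h1 : ⁅x, b⁆ ∈ R ⊓ L := by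
        refine Subgroup.mem_inf.2 ⟨?_, ?_⟩
        · rw [commutatorElement_def]; exact mul_mem (conj_mem_of_normalizer (hHR hxH) hb) (inv_mem hb)
        · rw [show ⁅x, b⁆ = x * (b * x⁻¹ * b⁻¹) by simp only [commutatorElement_def]; group]
          exact mul_mem hx.1 (conj_mem_of_normalizer (hRnL hb) (inv_mem hx.1))
      exact (Subgroup.mem_centralizer_iff.1 hx.2 _ (hRL h1)).symm
    exact PReduced.eq_one_of_coprime_of_isPGroup (isPGroup_pCoreOf H) (m.setup.charP ⟨hxH, hcent⟩) hc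

theorem MinOver.inter_le (m : MinOver p Y T H L) : Y ⊓ Cfsg.pCoreOf p L ≤ Cfsg.pCoreOf p H := by
  set R := Cfsg.pCoreOf p H with hR
  set A := Cfsg.pCoreOf p L with hA
  have hHR : H ≤ Subgroup.normalizer (R : Set G) := normalizer_pCoreOf H
  have hRH : R ≤ H := pCoreOf_le H
  obtain ⟨g, hg, hp⟩ := m.exists_pair
  have hgH := m.lH hg
  have hAN := m.core_normalizes
  set Zh := R ⊓ Subgroup.centralizer (H : Set G) with hZh
  set U := Y ⊓ A with hU
  have hHZh : H ≤ Subgroup.normalizer (Zh : Set G) :=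
    PReduced.normalizer_inf hHR (PReduced.normalizer_centralizer Subgroup.le_normalizer)
  have hx' : ∀ x ∈ R, g⁻¹ * x * g ∈ R := fun x hx => by
    have := conj_mem_of_normalizer (hHR (inv_mem hgH)) hx; rwa [inv_inv] at this
  -- commutators of conjugates with `R`
  have hvR : ∀ v ∈ Y, ∀ x ∈ R, ⁅g * v * g⁻¹, x⁆ ∈ R ∧ ∃ w ∈ Y, ⁅g * v * g⁻¹, x⁆ = g * w * g⁻¹ := by
    intro v hv x hx
    refine ⟨?_, ⟨_, mul_mem hv (conj_mem_of_normalizer (m.setup.rY (hx' x hx)) (inv_mem hv)),
      by simp only [commutatorElement_def]; group⟩⟩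
    rw [commutatorElement_def]
    exact mul_mem (conj_mem_of_normalizer (hHR (mul_mem (mul_mem hgH (m.setup.yHle hv)) (inv_mem hgH))) hx)
      (inv_mem hx)
  have hyR : ∀ y ∈ Y, ∀ x ∈ R, ⁅y, x⁆ ∈ R ∧ ⁅y, x⁆ ∈ Y := by
    intro y hy x hx
    constructor
    · rw [commutatorElement_def]; exact mul_mem (conj_mem_of_normalizer (hHR (m.setup.yHle hy)) hx) (inv_mem hx)
    · rw [show ⁅y, x⁆ = y * (x * y⁻¹ * x⁻¹) by simp only [commutatorElement_def]; group]
      exact mul_mem hy (conj_mem_of_normalizer (m.setup.rY hx) (inv_mem hy))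
  have hUc : ∀ v ∈ Y, ∀ x ∈ R, ∀ u ∈ U, ⁅⁅g * v * g⁻¹, x⁆, u⁆ ∈ Zh := by
    intro v hv x hx u hu
    obtain ⟨hcR, w, hw, hc⟩ := hvR v hv x hx
    obtain ⟨huY, huA⟩ := Subgroup.mem_inf.1 hu
    set d := ⁅⁅g * v * g⁻¹, x⁆, u⁆ with hd
    have hdY : d ∈ Y := by
      rw [hd, show ⁅⁅g * v * g⁻¹, x⁆, u⁆ = (⁅g * v * g⁻¹, x⁆ * u * ⁅g * v * g⁻¹, x⁆⁻¹) * u⁻¹ by
        simp only [commutatorElement_def]]
      exact mul_mem (conj_mem_of_normalizer (m.setup.rY hcR) huY) (inv_mem huY)
    have hdR : d ∈ R := by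
      rw [hd, show ⁅⁅g * v * g⁻¹, x⁆, u⁆ = ⁅g * v * g⁻¹, x⁆ * (u * ⁅g * v * g⁻¹, x⁆⁻¹ * u⁻¹) by
        simp only [commutatorElement_def]; group]
      exact mul_mem hcR (conj_mem_of_normalizer (hHR (m.setup.yHle huY)) (inv_mem hcR))
    have hu' : g⁻¹ * u * g ∈ A := by
      have := conj_mem_of_normalizer (normalizer_pCoreOf L (inv_mem hg)) huA; rwa [inv_inv] at this
    have hdYg : ∃ w' ∈ Y, d = g * w' * g⁻¹ :=
      ⟨_, mul_mem hw (conj_mem_of_normalizer (hAN hu') (inv_mem hw)), by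
        rw [hd, hc]; simp only [commutatorElement_def]; group⟩
    obtain ⟨w', hw', hdg⟩ := hdYg
    refine Subgroup.mem_inf.2 ⟨hdR, ?_⟩
    have hK : H ≤ Subgroup.centralizer {d} := m.gen₁ hg hp _
      (fun t ht => Subgroup.mem_centralizer_singleton_iff.2 (m.setup.commute ht hdY).eq)
      (fun v' hv' => by
        rw [Subgroup.mem_centralizer_singleton_iff, hdg]
        exact (Commute.conj_iff g).2 (m.setup.commute (m.setup.yT hv') hw'))
    rw [Subgroup.mem_centralizer_iff]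
    exact fun k hk => Subgroup.mem_centralizer_singleton_iff.1 (hK hk)
  -- `C*`
  set Cs := R ⊓ centMod Zh U with hCs
  have hCsE2 : ∀ v ∈ Y, ∀ x ∈ R, ⁅g * v * g⁻¹, x⁆ ∈ Cs := fun v hv x hx =>
    Subgroup.mem_inf.2 ⟨(hvR v hv x hx).1, hHZh (hRH (hvR v hv x hx).1), hUc v hv x hx⟩
  have hHCs : H ≤ Subgroup.normalizer (Cs : Set G) := by
    refine m.gen₁ hg hp _ ?_ (fun v hv => ?_)
    · have hTU : T ≤ Subgroup.normalizer (U : Set G) := le_normalizer_of_forall fun t ht u hu => by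
        rw [(m.setup.commute ht hu.1).eq, mul_inv_cancel_right]; exact hu
      exact PReduced.normalizer_inf (m.setup.tH.trans hHR)
        ((le_inf (m.setup.tH.trans hHZh) hTU).trans le_normalizer_centMod)
    · have hle : Y.map (MulAut.conj g).toMonoidHom ≤ Subgroup.normalizer (Cs : Set G) :=
        le_normalizer_of_forall fun w hw c hc => by
          obtain ⟨v, hv, rfl⟩ := hw
          show g * v * g⁻¹ * c * (g * v * g⁻¹)⁻¹ ∈ Cs
          rw [show g * v * g⁻¹ * c * (g * v * g⁻¹)⁻¹ = ⁅g * v * g⁻¹, c⁆ * c by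
            simp only [commutatorElement_def]; group]
          exact mul_mem (hCsE2 v hv c (Subgroup.mem_inf.1 hc).1) hc
      exact hle ⟨v, hv, rfl⟩
  set N := H ⊓ centMod Cs R ⊓ centMod Zh Cs with hN
  have hUN : U ≤ N := fun u hu => by
    have huY := (Subgroup.mem_inf.1 hu).1
    have huH := m.setup.yHle huY
    refine Subgroup.mem_inf.2 ⟨Subgroup.mem_inf.2 ⟨huH, hHCs huH, fun x hx => ?_⟩, hHZh huH, fun c hc => ?_⟩
    · obtain ⟨hcR, hcY⟩ := hyR u huY x hx
      refine Subgroup.mem_inf.2 ⟨hcR, hHZh (hRH hcR), fun u' hu' => ?_⟩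
      rw [commutatorElement_eq_one_iff_commute.2 (m.setup.commute (m.setup.yT hcY) (Subgroup.mem_inf.1 hu').1)]
      exact one_mem _
    · rw [← commutatorElement_inv]
      exact inv_mem ((Subgroup.mem_inf.1 hc).2.2 u hu)
  have hHN : H ≤ Subgroup.normalizer (N : Set G) :=
    PReduced.normalizer_inf (PReduced.normalizer_inf Subgroup.le_normalizer
      ((le_inf hHCs hHR).trans le_normalizer_centMod)) ((le_inf hHZh hHCs).trans le_normalizer_centMod)
  have hNp : IsPGroup p N := Residual.isPGroup_of_forall_coprime fun x hx hc => by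
    obtain ⟨⟨hxH, hx1⟩, hx2⟩ := hx
    have hcs : ∀ c ∈ Cs, Commute x c := fun c hcc => by
      refine commute_of_chain ((isPGroup_pCoreOf H).to_le (inf_le_left : Cs ≤ R)) hcc
        (conj_mem_of_normalizer (hHCs hxH) hcc) ?_ hc
      exact Subgroup.mem_centralizer_iff.1 (Subgroup.mem_inf.1 (hx2.2 c hcc)).2 x hxH
    have hcent : x ∈ Subgroup.centralizer (R : Set G) := by
      rw [Subgroup.mem_centralizer_iff]
      intro b hb
      exact ((commute_of_chain (isPGroup_pCoreOf H) hb (conj_mem_of_normalizer (hHR hxH) hb)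
        (hcs _ (hx1.2 b hb)) hc).eq).symm
    exact PReduced.eq_one_of_coprime_of_isPGroup (isPGroup_pCoreOf H) (m.setup.charP ⟨hxH, hcent⟩) hc
  exact hUN.trans (le_pCoreOf (inf_le_left.trans inf_le_left) hHN hNp)

theorem MinOver.closure_le (m : MinOver p Y T H L) :
    (Subgroup.normalClosure (((Cfsg.pCoreOf p L ⊓ Y).subgroupOf L : Subgroup L) : Set L)).map L.subtype ≤
      Cfsg.pCoreOf p H := by
  haveI : ((Cfsg.pCoreOf p H).subgroupOf L).Normal :=
    Subgroup.normal_subgroupOf_of_le_normalizer (m.lH.trans (normalizer_pCoreOf H))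
  rintro _ ⟨x, hx, rfl⟩
  refine Subgroup.normalClosure_le_normal (N := (Cfsg.pCoreOf p H).subgroupOf L) (fun v hv => ?_) hx
  exact m.inter_le (show (v : G) ∈ Y ⊓ Cfsg.pCoreOf p L by rw [inf_comm]; exact hv)

/-- `O^p(L)` acts nontrivially on the noncentral chief factors inside `O_p(H)`. -/
theorem MinOver.chief (m : MinOver p Y T H L) {RH : Subgroup G} (hRY : ⁅RH, Y⁆ = RH) (hRT : RH ⊔ T = H)
    {V W' : Subgroup G} (hVR : V ≤ Cfsg.pCoreOf p H) (hV : H ≤ Subgroup.normalizer (V : Set G))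
    (hW : H ≤ Subgroup.normalizer (W' : Set G)) (hlt : W' < V)
    (hchief : ∀ Z' : Subgroup G, H ≤ Subgroup.normalizer (Z' : Set G) → W' ≤ Z' → Z' ≤ V → Z' = W' ∨ Z' = V)
    (hnc : ¬ ⁅V, H⁆ ≤ W') : ¬ ⁅V, (Cfsg.pResidual p L).map L.subtype⁆ ≤ W' := by
  intro hOp
  set O := (Cfsg.pResidual p L).map L.subtype with hO
  obtain ⟨g, hg, hp⟩ := m.exists_pair
  have hLO : L ≤ Subgroup.normalizer (O : Set G) :=
    Subgroup.le_normalizer.trans (Residual.normalizer_map_pResidual L)
  have hOL : O ≤ L := Subgroup.map_subtype_le _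
  have hOY : O ⊔ Y = L := by
    by_contra hne
    have hlt' : O ⊔ Y < L := lt_of_le_of_ne (sup_le hOL m.yL) hne
    have hM := m.proper_le_M le_sup_right hlt'
    obtain ⟨W, hW', hYW⟩ := exists_isSylowIn (p := p) L m.yL (PReduced.elab_isPGroup m.setup.yel)
    refine m.normalizer_lt.not_ge (PReduced.le_of_coprime_of_sylow hW'
      (fun x hx hc => hM (Subgroup.mem_sup_left ?_)) (le_inf hW'.1 (m.pSubgroup_le hW'.1 hYW hW'.2.1)))
    exact Residual.map_pResidual_le_iff.1 le_rfl x hx hc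
  set D := H ⊓ centMod W' V with hD
  have hHD : H ≤ Subgroup.normalizer (D : Set G) :=
    PReduced.normalizer_inf Subgroup.le_normalizer ((le_inf hW hV).trans le_normalizer_centMod)
  have hmemD : ∀ x ∈ H, (∀ v ∈ V, ⁅x, v⁆ ∈ W') → x ∈ D := fun x hx h =>
    Subgroup.mem_inf.2 ⟨hx, hW hx, h⟩
  have hYtoR : Y ≤ D → RH ≤ D := fun h => by
    rw [← hRY]
    exact (Subgroup.commutator_mono le_rfl h).trans (Subgroup.le_normalizer_iff_commutator_le_right.1
      ((le_sup_left.trans hRT.le).trans hHD))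
  have hnotT : ¬ T ≤ D := fun h => hnc (Subgroup.commutator_le.2 fun v hv x hx => by
    have hxD : x ∈ D := (hRT ▸ sup_le (hYtoR (m.setup.yT.trans h)) h : H ≤ D) hx
    rw [← commutatorElement_inv]
    exact inv_mem ((Subgroup.mem_inf.1 hxD).2.2 v hv))
  have hOc : ∀ o ∈ O, ∀ v ∈ V, ⁅o, v⁆ ∈ W' := fun o ho v hv => by
    rw [← commutatorElement_inv]; exact inv_mem (hOp (Subgroup.commutator_mem_commutator hv ho))
  set U := ⁅V, Y⁆ ⊔ W' with hU
  have hUV : U ≤ V := sup_le (Subgroup.le_normalizer_iff_commutator_le_left.1 (m.setup.yHle.trans hV)) hlt.le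
  have hYU : Y ≤ Subgroup.normalizer (U : Set G) :=
    PReduced.normalizer_sup (Commutators.normalizer_commutator_right V Y) (m.setup.yHle.trans hW)
  have hHU : H ≤ Subgroup.normalizer (U : Set G) := by
    refine m.gen₁ hg hp _ (PReduced.normalizer_sup (PReduced.normalizer_commutator (m.setup.tH.trans hV)
      (le_normalizer_of_forall fun t ht v hv => by
        rw [(m.setup.commute ht hv).eq, mul_inv_cancel_right]; exact hv)) (m.setup.tH.trans hW)) fun v hv => ?_
    have hY' : Y.map (MulAut.conj g).toMonoidHom ≤ Subgroup.normalizer (U : Set G) :=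
      le_normalizer_of_forall fun w hw u hu => by
        obtain ⟨y, hy, o, ho, rfl⟩ := mem_sup_decomp (m.yL.trans hLO) (x := w)
          (by rw [sup_comm, hOY]; exact m.conj_le hg hw)
        have hou : o * u * o⁻¹ ∈ U := by
          rw [show o * u * o⁻¹ = ⁅o, u⁆ * u by simp only [commutatorElement_def]; group]
          exact mul_mem (Subgroup.mem_sup_right (hOc o ho u (hUV hu))) hu
        rw [show y * o * u * (y * o)⁻¹ = y * (o * u * o⁻¹) * y⁻¹ by group]
        exact conj_mem_of_normalizer (hYU hy) hou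
    exact hY' ⟨v, hv, rfl⟩
  rcases hchief U hHU le_sup_right hUV with e | e
  · have hYD : Y ≤ D := fun y hy => hmemD y (m.setup.yHle hy) fun v hv => by
      rw [← commutatorElement_inv]
      exact inv_mem (e ▸ Subgroup.mem_sup_left (Subgroup.commutator_mem_commutator hv hy))
    set U' := ⁅V, T⁆ ⊔ W' with hU'
    have hU'V : U' ≤ V := sup_le (Subgroup.le_normalizer_iff_commutator_le_left.1 (m.setup.tH.trans hV)) hlt.le
    have hHU' : H ≤ Subgroup.normalizer (U' : Set G) := by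
      rw [← hRT]
      refine sup_le (le_normalizer_of_forall fun r hr u hu => ?_)
        (PReduced.normalizer_sup (Commutators.normalizer_commutator_right V T) (m.setup.tH.trans hW))
      rw [show r * u * r⁻¹ = ⁅r, u⁆ * u by simp only [commutatorElement_def]; group]
      exact mul_mem (Subgroup.mem_sup_right ((Subgroup.mem_inf.1 (hYtoR hYD hr)).2.2 u (hU'V hu))) hu
    rcases hchief U' hHU' le_sup_right hU'V with e' | e'
    · refine hnotT fun t ht => hmemD t (m.setup.tH ht) fun v hv => ?_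
      rw [← commutatorElement_inv]
      exact inv_mem (e' ▸ Subgroup.mem_sup_left (Subgroup.commutator_mem_commutator hv ht))
    · have hVp : IsPGroup p V := (isPGroup_pCoreOf H).to_le hVR
      set P := V ⊔ T with hP
      have hPp : IsPGroup p P := IsPGroup.to_sup_of_normal_left' hVp m.setup.tp (m.setup.tH.trans hV)
      haveI := hPp.isNilpotent
      have hPH : P ≤ H := sup_le ((hVR.trans (pCoreOf_le H))) m.setup.tH
      have hstep : ∀ n, V ≤ P.lowerCentralSeries n ⊔ W' := by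
        intro n
        induction n with
        | zero => exact (le_sup_left : V ≤ P).trans le_sup_left
        | succ n ih =>
          refine e'.ge.trans (sup_le (Subgroup.commutator_le.2 fun v hv t ht => ?_) le_sup_right)
          have hγ : P.lowerCentralSeries n ≤ P := P.lowerCentralSeries_antitone (Nat.zero_le n)
          obtain ⟨a, ha, w, hw, rfl⟩ := mem_sup_decomp ((hγ.trans hPH).trans hW) (ih hv)
          rw [show ⁅a * w, t⁆ = a * ⁅w, t⁆ * a⁻¹ * ⁅a, t⁆ by simp only [commutatorElement_def]; group]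
          refine mul_mem (Subgroup.mem_sup_right (conj_mem_of_normalizer (hW (hPH (hγ ha))) ?_))
            (Subgroup.mem_sup_left (Subgroup.commutator_mem_commutator ha (Subgroup.mem_sup_right ht)))
          rw [show ⁅w, t⁆ = w * (t * w⁻¹ * t⁻¹) by simp only [commutatorElement_def]; group]
          exact mul_mem hw (conj_mem_of_normalizer (hW (m.setup.tH ht)) (inv_mem hw))
      obtain ⟨n, hn⟩ := (Subgroup.isNilpotent_iff_lowerCentralSeries P).1 (inferInstance : Group.IsNilpotent P)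
      have := hstep n
      rw [hn, bot_sup_eq] at this
      exact hlt.not_ge this
  · refine hnotT fun t ht => hmemD t (m.setup.tH ht) fun v hv => ?_
    have hTU : U ≤ centMod W' T := sup_le
      (Subgroup.commutator_le.2 fun v hv y hy => ⟨hW (by
          rw [commutatorElement_def]
          have hvH : v ∈ H := pCoreOf_le H (hVR hv)
          have hyH := m.setup.yHle hy
          exact mul_mem (mul_mem (mul_mem hvH hyH) (inv_mem hvH)) (inv_mem hyH)), fun t ht => by
        have hc : ⁅v, y⁆ ∈ Y := by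
          rw [commutatorElement_def]
          exact mul_mem (conj_mem_of_normalizer (m.setup.rY (hVR hv)) hy) (inv_mem hy)
        rw [commutatorElement_eq_one_iff_commute.2 (m.setup.commute ht hc).symm]
        exact one_mem _⟩)
      (fun w hw => ⟨hW (pCoreOf_le H (hVR (hlt.le hw))), fun t ht => by
        rw [show ⁅w, t⁆ = w * (t * w⁻¹ * t⁻¹) by simp only [commutatorElement_def]; group]
        exact mul_mem hw (conj_mem_of_normalizer (hW (m.setup.tH ht)) (inv_mem hw))⟩)
    rw [← commutatorElement_inv]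
    exact inv_mem ((hTU (e.ge hv)).2 t ht)

end CfsgLib.LocalEven.AsymL
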