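/-
Averaging over the cosets of a subgroup: fixed points of `T` on an abelian `V` lie in `C_V(H)·W` when `H` acts
trivially on `v W` and the index is prime to the order of the element.
-/
import Mathlib.GroupTheory.Commutator.Basic
import Mathlib.GroupTheory.Index
import Mathlib.GroupTheory.OrderOfElement
import Mathlib.Algebra.BigOperators.Group.Finset.Basic
import Mathlib.Tactic.Group

set_option autoImplicit false

open scoped commutatorElement

namespace CfsgLib.LocalEven.Averaging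

variable {G : Type*} [Group G]

theorem exists_fixed_mul [Finite G] {V W H T : Subgroup G} (hV : IsMulCommutative V)
    (hWV : W ≤ V) (hHV : H ≤ Subgroup.normalizer (V : Set G)) (hTH : T ≤ H) {v : G} (hv : v ∈ V)
    (hvT : ∀ t ∈ T, t * v * t⁻¹ = v) (hvW : ∀ h ∈ H, ⁅h, v⁆ ∈ W) :
    ∃ u ∈ V ⊓ Subgroup.centralizer (H : Set G), u⁻¹ * v ^ T.relIndex H ∈ W := by
  classical
  haveI : Fintype (↥H ⧸ T.subgroupOf H) := Fintype.ofFinite _
  letI : CommGroup ↥V := { (inferInstance : Group ↥V) with mul_comm := fun a b => mul_comm' a b }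
  let φ : ↥H →* MulAut ↥V :=
    { toFun := fun h =>
        { toFun := fun x => ⟨(h : G) * x * (h : G)⁻¹, (Subgroup.mem_normalizer_iff.1 (hHV h.2) x).1 x.2⟩
          invFun := fun x => ⟨(h : G)⁻¹ * x * h, (Subgroup.mem_normalizer_iff''.1 (hHV h.2) x).1 x.2⟩
          left_inv := fun x => Subtype.ext (by simp [mul_assoc])
          right_inv := fun x => Subtype.ext (by simp [mul_assoc])
          map_mul' := fun a b => Subtype.ext (by simp [mul_assoc]) }
      map_one' := MulEquiv.ext fun x => Subtype.ext (by simp)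
      map_mul' := fun a b => MulEquiv.ext fun x => Subtype.ext (by simp [mul_assoc]) }
  have hval : ∀ (h : ↥H) (x : ↥V), ((φ h x : ↥V) : G) = (h : G) * x * (h : G)⁻¹ := fun _ _ => rfl
  let f : ↥H ⧸ T.subgroupOf H → ↥V := fun q => φ q.out ⟨v, hv⟩
  have hf : ∀ h : ↥H, f (h : ↥H ⧸ T.subgroupOf H) = φ h ⟨v, hv⟩ := by
    intro h
    obtain ⟨t, ht⟩ := QuotientGroup.mk_out_eq_mul (T.subgroupOf H) h
    refine Subtype.ext ?_
    show ((φ _ ⟨v, hv⟩ : ↥V) : G) = _
    rw [ht, hval, hval]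
    have h1 := hvT ((t : ↥H) : G) t.2
    simp only [Subgroup.coe_mul, mul_inv_rev]
    calc _ = (h : G) * (((t : ↥H) : G) * v * ((t : ↥H) : G)⁻¹) * (h : G)⁻¹ := by group
      _ = _ := by rw [h1]
  let u : ↥V := ∏ q, f q
  refine ⟨u, ⟨u.2, Subgroup.mem_centralizer_iff.2 fun h hh => ?_⟩, ?_⟩
  · have hu : φ ⟨h, hh⟩ u = u := by
      simp only [u, map_prod]
      refine Fintype.prod_equiv (MulAction.toPerm (⟨h, hh⟩ : ↥H)) _ _ fun q => ?_
      induction q using QuotientGroup.induction_on with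
      | H g =>
        show φ ⟨h, hh⟩ (f _) = f (((⟨h, hh⟩ * g : ↥H)) : ↥H ⧸ T.subgroupOf H)
        rw [hf, hf, map_mul]
        rfl
    have h2 : h * (u : G) * h⁻¹ = u := congrArg Subtype.val hu
    exact mul_inv_eq_iff_eq_mul.1 h2
  · let π := QuotientGroup.mk' (W.subgroupOf V)
    have hπ : ∀ q, π (f q) = π ⟨v, hv⟩ := by
      intro q
      induction q using QuotientGroup.induction_on with
      | H g =>
        rw [hf, QuotientGroup.mk'_apply, QuotientGroup.mk'_apply, QuotientGroup.eq, Subgroup.mem_subgroupOf]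
        have h1 := inv_mem (hvW g g.2)
        have h2 : ((φ g ⟨v, hv⟩)⁻¹ * ⟨v, hv⟩ : ↥V) = ⟨v, hv⟩ * (φ g ⟨v, hv⟩)⁻¹ := mul_comm _ _
        rw [h2]
        simp only [Subgroup.coe_mul, Subgroup.coe_inv, hval]
        convert h1 using 1
        rw [commutatorElement_def]
        group
    have : π u = π (⟨v, hv⟩ ^ T.relIndex H) := by
      simp only [u, map_prod, hπ, Finset.prod_const, Finset.card_univ, map_pow]
      rw [Subgroup.relIndex, Subgroup.index, Nat.card_eq_fintype_card]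
    rw [QuotientGroup.mk'_apply, QuotientGroup.mk'_apply, QuotientGroup.eq] at this
    exact this

theorem mem_fixed_sup [Finite G] {V W H T : Subgroup G} (hV : IsMulCommutative V)
    (hWV : W ≤ V) (hHV : H ≤ Subgroup.normalizer (V : Set G)) (hTH : T ≤ H) {v : G} (hv : v ∈ V)
    (hvT : ∀ t ∈ T, t * v * t⁻¹ = v) (hvW : ∀ h ∈ H, ⁅h, v⁆ ∈ W)
    (hcop : (T.relIndex H).Coprime (orderOf v)) :
    v ∈ (V ⊓ Subgroup.centralizer (H : Set G)) ⊔ W := by
  obtain ⟨u, hu, huW⟩ := exists_fixed_mul hV hWV hHV hTH hv hvT hvW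
  obtain ⟨k, hk⟩ := exists_pow_eq_self_of_coprime hcop
  rw [← hk]
  refine pow_mem ?_ k
  rw [show v ^ T.relIndex H = u * (u⁻¹ * v ^ T.relIndex H) by group]
  exact mul_mem (Subgroup.mem_sup_left hu) (Subgroup.mem_sup_right huW)

end CfsgLib.LocalEven.Averaging
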