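/-
Characteristic p of centralizers of elements, and criteria for parabolic and local characteristic.
-/
import Cfsg.Agent.Lib.LocalEven.Large
import Cfsg.Agent.Lib.LocalEvenB.CharP
import Cfsg.Agent.Lib.KGroups.CharP

set_option autoImplicit false

open scoped commutatorElement

namespace CfsgLib.LocalEven.CharPCriteria

open Cfsg CfsgLib.LocalEven.SylowIn CfsgLib.LocalEven.PReduced

variable {G : Type*} [Group G] [Finite G] {p : ℕ} [Fact p.Prime]

/-- `C(z)` has characteristic `p`. -/
def CharPElem (p : ℕ) (z : G) : Prop :=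
  Subgroup.centralizer (pCore p ↥(Subgroup.centralizer ({z} : Set G)) : Set ↥(Subgroup.centralizer ({z} : Set G)))
    ≤ pCore p ↥(Subgroup.centralizer ({z} : Set G))

theorem charPElem_iff (z : G) : CharPElem p z ↔
    generalizedFittingSubgroup ↥(Subgroup.centralizer ({z} : Set G)) = pCore p ↥(Subgroup.centralizer ({z} : Set G)) :=
  ⟨KGroups.CharP.generalizedFitting_eq_pCore, LocalEvenB.CharP.centralizer_pCore_le_of_generalizedFitting⟩

theorem CharPElem.conj {z : G} (h : CharPElem p z) (g : G) : CharPElem p (g * z * g⁻¹) := by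
  have e : (Subgroup.centralizer ({z} : Set G)).map (MulAut.conj g).toMonoidHom
      = Subgroup.centralizer ({g * z * g⁻¹} : Set G) := by
    ext x
    rw [mem_map_conj, Subgroup.mem_centralizer_singleton_iff, Subgroup.mem_centralizer_singleton_iff]
    constructor <;> intro hx
    · calc x * (g * z * g⁻¹) = g * ((g⁻¹ * x * g) * z) * g⁻¹ := by group
        _ = g * (z * (g⁻¹ * x * g)) * g⁻¹ := by rw [hx]
        _ = g * z * g⁻¹ * x := by group
    · calc g⁻¹ * x * g * z = g⁻¹ * (x * (g * z * g⁻¹)) * g := by group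
        _ = g⁻¹ * (g * z * g⁻¹ * x) * g := by rw [hx]
        _ = z * (g⁻¹ * x * g) := by group
  exact LocalEvenB.CharP.charP_congr
    (((MulAut.conj g).subgroupMap (Subgroup.centralizer ({z} : Set G))).trans (MulEquiv.subgroupCongr e)) h

/-- A nontrivial `p`-group normalised by the Sylow subgroup `T` and inside it meets `Ω₁(Z(T))`. -/
theorem exists_mem_omegaCenter {T R : Subgroup G} (hT : IsPGroup p T) (hR : R ≤ T) (hR1 : R ≠ ⊥)
    (hn : T ≤ Subgroup.normalizer (R : Set G)) : ∃ z ∈ R ⊓ omegaCenter p T, orderOf z = p := by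
  obtain ⟨y, hy, hy1⟩ := Large.exists_fixed hT (hT.to_le hR) hR1 hn
  obtain ⟨k, hk⟩ := IsPGroup.iff_orderOf.1 hT ⟨y, hR hy.1⟩
  rw [Subgroup.orderOf_mk] at hk
  rcases k.eq_zero_or_pos with rfl | hk0
  · exact absurd (orderOf_eq_one_iff.1 (by simpa using hk)) hy1
  refine ⟨y ^ p ^ (k - 1), ⟨pow_mem hy.1 _, ?_⟩, ?_⟩
  · refine Subgroup.subset_closure ⟨⟨pow_mem (hR hy.1) _, pow_mem hy.2 _⟩, ?_⟩
    rw [← pow_mul, ← pow_succ, Nat.sub_add_cancel hk0, ← hk, pow_orderOf_eq_one]
  · rw [orderOf_pow' y (pow_ne_zero _ (Fact.out : p.Prime).ne_zero), hk,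
      Nat.gcd_eq_right (pow_dvd_pow p (Nat.sub_le k 1)), Nat.pow_div (Nat.sub_le k 1) (Fact.out : p.Prime).pos,
      Nat.sub_sub_self hk0, pow_one]

theorem charP_normalizer_of_mem {z : G} {T : Subgroup G} (hT : IsPGroup p T) (hz : z ∈ T)
    (h : CharPElem p z) :
    Subgroup.centralizer (pCore p ↥(Subgroup.normalizer (T : Set G)) : Set ↥(Subgroup.normalizer (T : Set G)))
      ≤ pCore p ↥(Subgroup.normalizer (T : Set G)) :=
  KGroups.CharP.centralizer_pCore_normalizer_le hT hz h

theorem charPElem_of_parabolic (hG : IsOfParabolicCharacteristic p G) (S : Sylow p G) {z : G} (hz1 : z ≠ 1)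
    (hz : z ∈ omegaCenter p (S : Subgroup G)) : CharPElem p z := by
  set R := Subgroup.zpowers z
  have hRS : R ≤ (S : Subgroup G) := Subgroup.zpowers_le.2 (omegaCenter_le _ hz)
  have hR : IsPGroup p R := S.2.to_le hRS
  have e : Subgroup.centralizer (R : Set G) = Subgroup.centralizer ({z} : Set G) := by
    rw [show R = Subgroup.zpowers z from rfl, Subgroup.zpowers_eq_closure, Subgroup.centralizer_closure]
  have hSN : (S : Subgroup G) ≤ Subgroup.normalizer (R : Set G) :=
    ((Subgroup.le_centralizer_iff.1 (omegaCenter_le_centralizer _)).trans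
      (Subgroup.centralizer_le (Subgroup.zpowers_le.2 hz))).trans (Subgroup.centralizer_le_normalizer _)
  have hN := hG R hR (by simpa [R] using hz1) ⟨S, hSN⟩
  exact LocalEvenB.CharP.charP_local (H := Subgroup.centralizer ({z} : Set G)) hR Subgroup.le_normalizer hN
    (Subgroup.centralizer_le_normalizer _) e.le (e.ge.trans (Subgroup.centralizer_le_normalizer _)) (Or.inl e.ge)

theorem isOfParabolicCharacteristic_of (S : Sylow p G)
    (h : ∀ z : G, z ≠ 1 → z ∈ omegaCenter p (S : Subgroup G) → CharPElem p z) :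
    IsOfParabolicCharacteristic p G := by
  rintro R hR hR1 ⟨T, hTN⟩
  have hRT : R ≤ (T : Subgroup G) :=
    (le_pCoreOf Subgroup.le_normalizer le_rfl hR).trans
      (pCoreOf_le_sylowIn (isSylowIn_of_sylow T hTN))
  obtain ⟨z, ⟨hzR, hzT⟩, hzo⟩ := exists_mem_omegaCenter T.2 hRT hR1 hTN
  obtain ⟨g, hg⟩ := MulAction.exists_smul_eq G S T
  have e : omegaCenter p ((S : Subgroup G).map (MulAut.conj g).toMonoidHom)
      = (omegaCenter p (S : Subgroup G)).map (MulAut.conj g).toMonoidHom := (omegaCenter_map _ g).symm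
  have hz' : z ∈ (omegaCenter p (S : Subgroup G)).map (MulAut.conj g).toMonoidHom := by
    rw [← e]
    rw [← hg] at hzT
    exact hzT
  obtain ⟨w, hw, rfl⟩ := hz'
  refine charP_normalizer_of_mem hR hzR (CharPElem.conj (h w (fun h1 => ?_) hw) g)
  subst h1
  rw [map_one, orderOf_one] at hzo
  exact (Fact.out : p.Prime).ne_one hzo.symm

theorem isOfLocalCharacteristic_of (hdiv : p ∣ Nat.card G) (S : Sylow p G)
    (h : ∀ z : G, z ∈ (S : Subgroup G) → orderOf z = p → CharPElem p z) :
    IsOfLocalCharacteristic p G := by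
  refine ⟨hdiv, fun T hT hT1 => ?_⟩
  obtain ⟨z, hzT, hzo⟩ : ∃ z ∈ T, orderOf z = p := by
    haveI : Nontrivial T := (Subgroup.nontrivial_iff_ne_bot T).2 hT1
    obtain ⟨n, hn⟩ := IsPGroup.iff_card.1 hT
    have hd : p ∣ Nat.card T := by
      rcases n.eq_zero_or_pos with rfl | hn0
      · have := Finite.one_lt_card (α := T)
        simp [hn] at this
      · rw [hn]; exact dvd_pow_self p hn0.ne'
    obtain ⟨z, hz⟩ := exists_prime_orderOf_dvd_card' p hd
    exact ⟨z, z.2, by rwa [Subgroup.orderOf_coe]⟩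
  obtain ⟨T', hT'⟩ := hT.exists_le_sylow
  obtain ⟨g, hg⟩ := MulAction.exists_smul_eq G S T'
  have hz' := hT' hzT
  rw [← hg] at hz'
  obtain ⟨w, hw, rfl⟩ := hz'
  exact charP_normalizer_of_mem hT hzT
    (CharPElem.conj (h w hw (by rw [← hzo]; exact (orderOf_injective _ (MulAut.conj g).injective w).symm)) g)

end CfsgLib.LocalEven.CharPCriteria
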