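import Mathlib.Algebra.Polynomial.Coeff
import Mathlib

/-!
Limits of additive subgroups of a finite ring under a one-parameter unipotent group `t ↦ 1 + t n`, `n² = 0`,
acting on both sides: the leading coefficients of the moving polynomial curves.
-/

set_option autoImplicit false
set_option linter.style.haveILetI false
set_option linter.unusedSectionVars false

open Polynomial

namespace CfsgLib.LocalEven.Degeneration

variable {R : Type*} [Ring R]

/-- Polynomials with all coefficients in an additive subgroup. -/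
def curves (A : AddSubgroup R) : AddSubgroup R[X] where
  carrier := {f | ∀ i, f.coeff i ∈ A}
  zero_mem' := fun i => by simp
  add_mem' := fun {f g} hf hg i => by simpa using add_mem (hf i) (hg i)
  neg_mem' := fun {f} hf i => by simpa using neg_mem (hf i)

theorem C_mem_curves {A : AddSubgroup R} {a : R} (ha : a ∈ A) : C a ∈ curves A := fun i => by
  rw [coeff_C]; split
  · exact ha
  · exact zero_mem A

theorem C_mul_X_pow_mem_curves {A : AddSubgroup R} {a : R} (ha : a ∈ A) (k : ℕ) : C a * X ^ k ∈ curves A :=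
  fun i => by
    rw [coeff_C_mul, coeff_X_pow]; split
    · simpa using ha
    · simp

theorem shift_mem_curves {A : AddSubgroup R} {f : R[X]} (hf : f ∈ curves A) (k : ℕ) : f * X ^ k ∈ curves A :=
  fun i => by
    rw [coeff_mul_X_pow']; split
    · exact hf _
    · exact zero_mem A

theorem mul_eq_zero {A B : AddSubgroup R} (h : ∀ a ∈ A, ∀ b ∈ B, a * b = 0) {f g : R[X]} (hf : f ∈ curves A)
    (hg : g ∈ curves B) : f * g = 0 := by
  ext i
  rw [coeff_mul, coeff_zero]
  exact Finset.sum_eq_zero fun x _ => h _ (hf x.1) _ (hg x.2)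

/-- The top coefficients of the moved curves. -/
def lim (U U' : R[X]) (A : AddSubgroup R) : AddSubgroup R where
  carrier := {w | ∃ m : ℕ, ∃ f ∈ curves A, (∀ j, m < j → (U * f * U').coeff j = 0) ∧ (U * f * U').coeff m = w}
  zero_mem' := ⟨0, 0, zero_mem _, by simp, by simp⟩
  neg_mem' := by
    rintro w ⟨m, f, hf, hd, rfl⟩
    exact ⟨m, -f, neg_mem hf, fun j hj => by simp [hd j hj], by simp⟩
  add_mem' := by
    rintro v w ⟨m, f, hf, hd, rfl⟩ ⟨l, g, hg, he, rfl⟩
    have key : ∀ (h : R[X]) (k : ℕ), U * (h * X ^ k) * U' = U * h * U' * X ^ k := fun h k => by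
      rw [mul_assoc, mul_assoc h, X_pow_mul, ← mul_assoc h, ← mul_assoc U, ← mul_assoc U]
    refine ⟨m + l, f * X ^ l + g * X ^ m, add_mem (shift_mem_curves hf l) (shift_mem_curves hg m),
      fun j hj => ?_, ?_⟩
    · rw [mul_add, add_mul, key, key, coeff_add, coeff_mul_X_pow', coeff_mul_X_pow', if_pos (by omega),
        if_pos (by omega), hd _ (by omega), he _ (by omega), add_zero]
    · rw [mul_add, add_mul, key, key, coeff_add, coeff_mul_X_pow', coeff_mul_X_pow', if_pos (by omega),
        if_pos (by omega), Nat.add_sub_cancel, Nat.add_sub_cancel_left]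

theorem lim_mono (U U' : R[X]) {A B : AddSubgroup R} (h : A ≤ B) : lim U U' A ≤ lim U U' B := by
  rintro w ⟨m, f, hf, hd, rfl⟩
  exact ⟨m, f, fun i => h (hf i), hd, rfl⟩

theorem mem_lim {U U' : R[X]} {A : AddSubgroup R} {w : R} (m : ℕ) {f : R[X]} (hf : f ∈ curves A)
    (hd : ∀ j, m < j → (U * f * U').coeff j = 0) (hw : (U * f * U').coeff m = w) : w ∈ lim U U' A :=
  ⟨m, f, hf, hd, hw⟩

/-- The limit of annihilating subgroups annihilates. -/
theorem lim_mul_lim {U U' V V' : R[X]} (hUV : U' * V = 1) {A B : AddSubgroup R}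
    (h : ∀ a ∈ A, ∀ b ∈ B, a * b = 0) {x y : R} (hx : x ∈ lim U U' A) (hy : y ∈ lim V V' B) : x * y = 0 := by
  obtain ⟨m, f, hf, hd, rfl⟩ := hx
  obtain ⟨l, g, hg, he, rfl⟩ := hy
  have hprod : U * f * U' * (V * g * V') = 0 := by
    rw [show U * f * U' * (V * g * V') = U * f * ((U' * V) * g) * V' by noncomm_ring, hUV, one_mul,
      mul_assoc U, mul_eq_zero h hf hg, mul_zero, zero_mul]
  rw [← coeff_mul_add_eq_of_natDegree_le (natDegree_le_iff_coeff_eq_zero.2 hd)
    (natDegree_le_iff_coeff_eq_zero.2 he), hprod, coeff_zero]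

/-- The limit is not smaller, provided the motion is invertible and raises degrees by at most two. -/
theorem card_le_lim [Finite R] {U U' W W' : R[X]} (hW : W * U = 1) (hW' : U' * W' = 1)
    (hdeg : ∀ (f : R[X]) (m : ℕ), (∀ j, m < j → f.coeff j = 0) → ∀ j, m + 2 < j → (U * f * U').coeff j = 0)
    (A : AddSubgroup R) : Nat.card A ≤ Nat.card (lim U U' A) := by
  set L := lim U U' A
  set a := Nat.card A
  set l := Nat.card L
  let M : ℕ → Set R[X] := fun m =>
    {h | (∃ f ∈ curves A, U * f * U' = h) ∧ ∀ j, m ≤ j → h.coeff j = 0}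
  have hfin : ∀ m, (M m).Finite ∧ (M m).ncard ≤ l ^ m := by
    intro m
    induction m with
    | zero =>
      have : M 0 ⊆ {0} := fun h hh => by
        rw [Set.mem_singleton_iff]; ext j; simp [hh.2 j (Nat.zero_le j)]
      exact ⟨(Set.finite_singleton 0).subset this,
        by simpa using Set.ncard_le_ncard this (Set.finite_singleton 0)⟩
    | succ m ih =>
      -- choose a curve for every top coefficient
      classical
      let s : R → R[X] := fun w => if hw : ∃ h ∈ M (m + 1), h.coeff m = w then hw.choose else 0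
      have hsub : M (m + 1) ⊆ (fun x : R[X] × R => x.1 + s x.2) '' (M m ×ˢ (L : Set R)) := by
        intro h hh
        have hex : ∃ h' ∈ M (m + 1), h'.coeff m = h.coeff m := ⟨h, hh, rfl⟩
        have hs : s (h.coeff m) = hex.choose := dif_pos hex
        obtain ⟨hc1, hc2⟩ := hex.choose_spec
        obtain ⟨f, hf, hfh⟩ := hh.1
        obtain ⟨g, hg, hgh⟩ := hc1.1
        refine ⟨(h - s (h.coeff m), h.coeff m), ⟨⟨⟨f - g, sub_mem hf hg, ?_⟩, fun j hj => ?_⟩, ?_⟩, by simp⟩
        · rw [hs, mul_sub, sub_mul, hfh, hgh]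
        · rw [hs, coeff_sub]
          rcases eq_or_lt_of_le hj with rfl | hlt
          · rw [hc2, sub_self]
          · rw [hh.2 j hlt, hc1.2 j hlt, sub_zero]
        · exact mem_lim m hf (fun j hj => by rw [hfh]; exact hh.2 j hj) (by rw [hfh])
      have hLf : (L : Set R).Finite := Set.toFinite _
      refine ⟨((ih.1.prod hLf).image _).subset hsub, (Set.ncard_le_ncard hsub ((ih.1.prod hLf).image _)).trans
        ((Set.ncard_image_le (ih.1.prod hLf)).trans ?_)⟩
      rw [Set.ncard_prod, pow_succ, ← Nat.card_coe_set_eq (L : Set R)]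
      exact Nat.mul_le_mul_right _ ih.2
  have hlow : ∀ K : ℕ, a ^ (K + 1) ≤ l ^ (K + 3) := by
    intro K
    let ψ : (Fin (K + 1) → A) → R[X] := fun c => ∑ i, C (c i : R) * X ^ (i : ℕ)
    have hψ : ∀ c (i : Fin (K + 1)), (ψ c).coeff i = c i := by
      intro c i
      rw [finset_sum_coeff, Finset.sum_eq_single i]
      · simp
      · intro j _ hj
        rw [coeff_C_mul, coeff_X_pow, if_neg fun e => hj (Fin.ext e.symm), mul_zero]
      · intro h; exact absurd (Finset.mem_univ i) h
    have hψd : ∀ c, ∀ j, K < j → (ψ c).coeff j = 0 := by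
      intro c j hj
      rw [finset_sum_coeff]
      refine Finset.sum_eq_zero fun i _ => ?_
      rw [coeff_C_mul, coeff_X_pow, if_neg (by omega), mul_zero]
    have hψm : ∀ c, ψ c ∈ curves A := fun c => sum_mem fun i _ => C_mul_X_pow_mem_curves (c i).2 _
    have hinj : Function.Injective fun c => U * ψ c * U' := by
      intro c d hcd
      have h : ψ c = ψ d := by
        have := congrArg (fun z => W * z * W') hcd
        simpa only [← mul_assoc, hW, one_mul, mul_assoc _ U' W', hW', mul_one] using this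
      funext i
      exact Subtype.ext (by rw [← hψ c i, ← hψ d i, h])
    have hrange : Set.range (fun c => U * ψ c * U') ⊆ M (K + 3) := by
      rintro _ ⟨c, rfl⟩
      exact ⟨⟨_, hψm c, rfl⟩, fun j hj => hdeg _ K (hψd c) j (by omega)⟩
    calc a ^ (K + 1) = Nat.card (Fin (K + 1) → A) := by rw [Nat.card_pi, Finset.prod_const, Finset.card_fin]
      _ = (Set.range fun c => U * ψ c * U').ncard := by
          rw [← Nat.card_coe_set_eq, Nat.card_range_of_injective hinj]
      _ ≤ (M (K + 3)).ncard := Set.ncard_le_ncard hrange (hfin _).1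
      _ ≤ _ := (hfin _).2
  by_contra hlt
  push Not at hlt
  have hl : 1 ≤ l := Nat.card_pos
  have hK : l ^ 3 - 1 + 1 = l ^ 3 := Nat.sub_add_cancel (Nat.one_le_pow _ _ hl)
  have h1 := (Nat.pow_le_pow_left (Nat.succ_le_of_lt hlt) _).trans (hlow (l ^ 3 - 1))
  rw [hK, show l ^ 3 - 1 + 3 = l ^ 3 + 2 by omega, pow_add] at h1
  have h2 : l ^ (l ^ 3) + l ^ 3 * l ^ (l ^ 3 - 1) ≤ (l + 1) ^ (l ^ 3) := by
    have key : ∀ n : ℕ, l ^ n + n * l ^ (n - 1) ≤ (l + 1) ^ n := by
      intro n
      induction n with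
      | zero => simp
      | succ n ih =>
        rcases Nat.eq_zero_or_pos n with rfl | hn
        · simp
        · have e : l ^ n = l * l ^ (n - 1) := by rw [← pow_succ', Nat.sub_add_cancel hn]
          rw [pow_succ (l + 1), Nat.add_sub_cancel]
          refine le_trans ?_ (Nat.mul_le_mul_right _ ih)
          rw [pow_succ, e]
          nlinarith [Nat.zero_le (n * l ^ (n - 1))]
    exact key (l ^ 3)
  have h3 : l ^ 3 * l ^ (l ^ 3 - 1) = l ^ (l ^ 3) * l ^ 2 := by
    rw [← pow_add, ← pow_add]; congr 1; omega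
  have h4 : 0 < l ^ (l ^ 3) := pow_pos hl _
  rw [h3] at h2
  simp only [Nat.succ_eq_add_one] at h1
  omega

end CfsgLib.LocalEven.Degeneration
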