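import Cfsg.Agent.Lib.LocalEven.DegenerationStep
import Cfsg.Agent.Lib.Fusion.Offender
import Cfsg.Prelude.Def_PLocal

/-!
For an odd prime, a `p`-group with an offender on an elementary abelian group has a quadratic offender normal in
its normal closure.
-/

set_option autoImplicit false
set_option linter.style.haveILetI false
set_option linter.unusedSectionVars false

open scoped commutatorElement
open Polynomial

namespace CfsgLib.LocalEven.DegenerationOffender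

open CfsgLib.LocalEven.DegenerationStep CfsgLib.LocalEven.Degeneration
open CfsgLib.Fusion.ReplacementEA (wt)

variable {Ω : Type*} [Group Ω] [Finite Ω] {R : Type*} [Ring R] [Finite R]

/-- A faithful unipotent representation in a ring containing the module. -/
structure Rep (p : ℕ) (V G : Subgroup Ω) (R : Type*) [Ring R] where
  ρ : ↥G →* R
  ι : ↥V → R
  inj : Function.Injective ρ
  ι_inj : Function.Injective ι
  ι_mul : ∀ u v, ι (u * v) = ι u + ι v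
  act : ∀ (g : ↥G) (v w : ↥V), (w : Ω) = (g : Ω) * v * (g : Ω)⁻¹ → ρ g * ι v = ι w
  sep : ∀ (r : R) (g : ↥G), (∀ v, r * (ρ g - 1) * ι v = 0) → r * (ρ g - 1) = 0
  char : (p : R) = 0

/-- Products of `j` elements `ρ g - 1`. -/
def mon {G : Subgroup Ω} (ρ : ↥G →* R) : ℕ → Set R
  | 0 => {1}
  | j + 1 => {z | ∃ g, ∃ m ∈ mon ρ j, z = (ρ g - 1) * m}

theorem mon_mul {G : Subgroup Ω} (ρ : ↥G →* R) (g : ↥G) :
    ∀ (j : ℕ), ∀ y ∈ mon ρ j, y * (ρ g - 1) ∈ mon ρ (j + 1)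
  | 0, y, hy => by
    rw [mon, Set.mem_singleton_iff] at hy
    exact ⟨g, 1, rfl, by rw [hy, one_mul, mul_one]⟩
  | j + 1, _, ⟨h, m, hm, rfl⟩ => ⟨h, m * (ρ g - 1), mon_mul ρ g j m hm, mul_assoc _ _ _⟩

/-- Elements annihilated by all monomials of total length at least `i`. -/
def flt {G : Subgroup Ω} (ρ : ↥G →* R) (i : ℕ) : AddSubgroup R where
  carrier := {x | ∀ j l, i ≤ j + l → ∀ y ∈ mon ρ j, ∀ z ∈ mon ρ l, y * x * z = 0}
  zero_mem' := fun j l _ y _ z _ => by simp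
  add_mem' := fun {a b} ha hb j l h y hy z hz => by
    rw [mul_add, add_mul, ha j l h y hy z hz, hb j l h y hy z hz, add_zero]
  neg_mem' := fun {a} ha j l h y hy z hz => by rw [mul_neg, neg_mul, ha j l h y hy z hz, neg_zero]

theorem flt_mono {G : Subgroup Ω} (ρ : ↥G →* R) : Monotone (flt ρ) := fun _ _ h _ hx j l hj =>
  hx j l (h.trans hj)

theorem flt_zero {G : Subgroup Ω} (ρ : ↥G →* R) : flt ρ 0 = ⊥ := by
  rw [eq_bot_iff]
  intro x hx
  simpa using hx 0 0 le_rfl 1 rfl 1 rfl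

theorem flt_step {G : Subgroup Ω} (ρ : ↥G →* R) (g : ↥G) (i : ℕ) (x : R) (hx : x ∈ flt ρ (i + 1)) :
    (ρ g - 1) * x - x * (ρ g - 1) ∈ flt ρ i ∧ (ρ g - 1) * x * (ρ g - 1) ∈ flt ρ i := by
  constructor
  · intro j l h y hy z hz
    have e1 := hx (j + 1) l (by omega) _ (mon_mul ρ g j y hy) z hz
    have e2 := hx j (l + 1) (by omega) y hy ((ρ g - 1) * z) ⟨g, z, hz, rfl⟩
    rw [show y * ((ρ g - 1) * x - x * (ρ g - 1)) * z = y * (ρ g - 1) * x * z - y * x * ((ρ g - 1) * z) by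
      noncomm_ring, e1, e2, sub_zero]
  · intro j l h y hy z hz
    have e1 := hx (j + 1) (l + 1) (by omega) _ (mon_mul ρ g j y hy) ((ρ g - 1) * z) ⟨g, z, hz, rfl⟩
    rwa [show y * ((ρ g - 1) * x * (ρ g - 1)) * z = y * (ρ g - 1) * x * ((ρ g - 1) * z) by noncomm_ring]

/-- An offender of the shape we look for. -/
def Cand (p : ℕ) (V G A : Subgroup Ω) : Prop :=
  A ≤ G ∧ A ≠ ⊥ ∧ Cfsg.IsElementaryAbelian p A ∧
    Nat.card V ≤ Nat.card A * Nat.card ↥(V ⊓ Subgroup.centralizer (A : Set Ω)) ∧ ⁅⁅V, A⁆, A⁆ = ⊥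

variable {p : ℕ} [hp : Fact p.Prime] {V G : Subgroup Ω} (hV : Cfsg.IsElementaryAbelian p V)
  (hG : IsPGroup p G) (hGV : G ≤ Subgroup.normalizer (V : Set Ω)) (r : Rep p V G R)
include hV hG hGV r

/-- The element of `V` obtained by conjugation. -/
theorem act' (g : ↥G) (v : ↥V) :
    ∃ w : ↥V, (w : Ω) = (g : Ω) * v * (g : Ω)⁻¹ * (v : Ω)⁻¹ ∧ (r.ρ g - 1) * r.ι v = r.ι w := by
  have h1 : (g : Ω) * v * (g : Ω)⁻¹ ∈ V := (Subgroup.mem_normalizer_iff.1 (hGV g.2) v).1 v.2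
  refine ⟨⟨_, h1⟩ * v⁻¹, rfl, ?_⟩
  rw [sub_mul, one_mul, r.act g v ⟨_, h1⟩ rfl, sub_eq_iff_eq_add, ← r.ι_mul, inv_mul_cancel_right]

theorem ι_one : r.ι 1 = 0 := by simpa using r.ι_mul 1 1

theorem ι_eq_zero {v : ↥V} (h : r.ι v = 0) : v = 1 :=
  r.ι_inj (h.trans (ι_one hV hG hGV r).symm)

theorem exists_nil : ∃ k, ∀ j, k ≤ j → ∀ m ∈ mon r.ρ j, m = 0 := by
  set P := G ⊔ V
  have hP : IsPGroup p P := hG.to_sup_of_normal_right' (fun v => ⟨1, Subtype.ext (by simpa using hV.2 v v.2)⟩) hGV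
  haveI := hP.isNilpotent
  obtain ⟨n, hn⟩ := Subgroup.nilpotent_iff_lowerCentralSeries.1 (inferInstance : Group.IsNilpotent P)
  have key : ∀ j, ∀ m ∈ mon r.ρ j, ∀ v : ↥V, ∃ w : ↥V, m * r.ι v = r.ι w ∧
      (w : Ω) ∈ (Subgroup.lowerCentralSeries (⊤ : Subgroup P) j).map P.subtype := by
    intro j
    induction j with
    | zero =>
      intro m hm v
      refine ⟨v, by rw [Set.mem_singleton_iff.1 hm, one_mul], ?_⟩
      rw [Subgroup.lowerCentralSeries_zero, ← MonoidHom.range_eq_map, Subgroup.range_subtype]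
      exact Subgroup.mem_sup_right v.2
    | succ j ih =>
      rintro _ ⟨g, m, hm, rfl⟩ v
      obtain ⟨w, hw, hwl⟩ := ih m hm v
      obtain ⟨u, hu, hu'⟩ := act' hV hG hGV r g w
      refine ⟨u, by rw [mul_assoc, hw, hu'], ?_⟩
      rw [Subgroup.lowerCentralSeries_succ, Subgroup.map_commutator, ← MonoidHom.range_eq_map,
        Subgroup.range_subtype, Subgroup.commutator_comm, hu, ← commutatorElement_def]
      exact Subgroup.commutator_mem_commutator (Subgroup.mem_sup_left g.2) hwl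
  have hkill : ∀ m ∈ mon r.ρ n, ∀ v, m * r.ι v = 0 := by
    intro m hm v
    obtain ⟨w, hw, hwl⟩ := key n m hm v
    rw [hn, Subgroup.map_bot, Subgroup.mem_bot] at hwl
    rw [hw, show w = 1 from Subtype.ext hwl, ι_one hV hG hGV r]
  refine ⟨n + 1, ?_⟩
  intro j hj
  induction j with
  | zero => omega
  | succ j ih =>
    intro z hz
    rcases eq_or_lt_of_le hj with e | hlt
    · obtain rfl : j = n := by omega
      obtain ⟨g, m, hm, rfl⟩ := hz
      -- rewrite as `m' * (ρ g' - 1)`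
      have hr : ∀ (i : ℕ), ∀ y ∈ mon r.ρ (i + 1), ∃ y' ∈ mon r.ρ i, ∃ g', y = y' * (r.ρ g' - 1) := by
        intro i
        induction i with
        | zero =>
          rintro _ ⟨g, m, hm, rfl⟩
          exact ⟨1, rfl, g, by rw [Set.mem_singleton_iff.1 hm, mul_one, one_mul]⟩
        | succ i ih =>
          rintro _ ⟨g, m, hm, rfl⟩
          obtain ⟨y', hy', g', rfl⟩ := ih m hm
          exact ⟨_, ⟨g, y', hy', rfl⟩, g', (mul_assoc _ _ _).symm⟩
      obtain ⟨y', hy', g', e'⟩ := hr j _ ⟨g, m, hm, rfl⟩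
      rw [e']
      refine r.sep y' g' fun v => ?_
      obtain ⟨u, -, hu⟩ := act' hV hG hGV r g' v
      rw [mul_assoc, hu]
      exact hkill y' hy' u
    · obtain ⟨g, m, hm, rfl⟩ := hz
      rw [ih (by omega) m hm, mul_zero]

theorem quad_mul {A : Subgroup Ω} (hA : ⁅⁅V, A⁆, A⁆ = ⊥) {a b : ↥G} (ha : (a : Ω) ∈ A) (hb : (b : Ω) ∈ A) :
    (r.ρ a - 1) * (r.ρ b - 1) = 0 := by
  refine r.sep _ b fun v => ?_
  obtain ⟨w, hw, hw'⟩ := act' hV hG hGV r b v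
  obtain ⟨u, hu, hu'⟩ := act' hV hG hGV r a w
  rw [mul_assoc, hw', hu']
  have hwA : (w : Ω) ∈ ⁅V, A⁆ := by
    rw [Subgroup.commutator_comm, hw, ← commutatorElement_def]
    exact Subgroup.commutator_mem_commutator hb v.2
  have hu1 : (u : Ω) ∈ (⊥ : Subgroup Ω) := by
    rw [← hA, Subgroup.commutator_comm, hu, ← commutatorElement_def]
    exact Subgroup.commutator_mem_commutator ha hwA
  rw [show u = 1 from Subtype.ext (Subgroup.mem_bot.1 hu1), ι_one hV hG hGV r]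

theorem fix_of_kill {g : ↥G} {v : ↥V} (h : (r.ρ g - 1) * r.ι v = 0) : (g : Ω) * v = (v : Ω) * g := by
  obtain ⟨w, hw, hw'⟩ := act' hV hG hGV r g v
  rw [ι_eq_zero hV hG hGV r (hw'.symm.trans h)] at hw
  exact mul_inv_eq_iff_eq_mul.1 (mul_inv_eq_one.1 hw.symm)

theorem quad_of_mul {A : Subgroup Ω} (hA : A ≤ G)
    (h : ∀ a b : ↥G, (a : Ω) ∈ A → (b : Ω) ∈ A → (r.ρ a - 1) * (r.ρ b - 1) = 0) : ⁅⁅V, A⁆, A⁆ = ⊥ := by
  rw [Subgroup.commutator_eq_bot_iff_le_centralizer, Subgroup.commutator_le]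
  intro v hv b hb
  rw [Subgroup.mem_centralizer_iff]
  intro a ha
  obtain ⟨w, hw, hw'⟩ := act' hV hG hGV r ⟨b, hA hb⟩ ⟨v, hv⟩
  have h0 : (r.ρ ⟨a, hA ha⟩ - 1) * r.ι w = 0 := by
    rw [← hw', ← mul_assoc, h _ _ ha hb, zero_mul]
  have e : Commute a (w : Ω) := fix_of_kill hV hG hGV r (g := ⟨a, hA ha⟩) h0
  have e' : ⁅v, b⁆ = (w : Ω)⁻¹ := by rw [hw, commutatorElement_def]; group
  rw [e']
  exact e.inv_right.eq

/-- The square-zero group attached to a quadratic subgroup. -/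
def sqz (A : Subgroup Ω) (hA : ⁅⁅V, A⁆, A⁆ = ⊥) : AddSubgroup R where
  carrier := {x | ∃ g : ↥G, (g : Ω) ∈ A ∧ r.ρ g - 1 = x}
  zero_mem' := ⟨1, one_mem A, by rw [map_one, sub_self]⟩
  add_mem' := by
    rintro _ _ ⟨g, hg, rfl⟩ ⟨h, hh, rfl⟩
    refine ⟨g * h, mul_mem hg hh, ?_⟩
    have e := quad_mul hV hG hGV r hA hg hh
    rw [map_mul]
    calc r.ρ g * r.ρ h - 1 = (r.ρ g - 1) * (r.ρ h - 1) + (r.ρ g - 1) + (r.ρ h - 1) := by noncomm_ring
      _ = _ := by rw [e, zero_add]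
  neg_mem' := by
    rintro _ ⟨g, hg, rfl⟩
    refine ⟨g⁻¹, inv_mem hg, ?_⟩
    have e := quad_mul hV hG hGV r hA hg (show ((g⁻¹ : ↥G) : Ω) ∈ A from inv_mem hg)
    have h1 : r.ρ g * r.ρ g⁻¹ = 1 := by rw [← map_mul, mul_inv_cancel, map_one]
    rw [eq_neg_iff_add_eq_zero]
    calc r.ρ g⁻¹ - 1 + (r.ρ g - 1) = r.ρ g * r.ρ g⁻¹ - 1 - (r.ρ g - 1) * (r.ρ g⁻¹ - 1) := by noncomm_ring
      _ = 0 := by rw [h1, e, sub_self, sub_zero]

theorem card_sqz {A : Subgroup Ω} (hAG : A ≤ G) (hA : ⁅⁅V, A⁆, A⁆ = ⊥) :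
    Nat.card A = Nat.card (sqz hV hG hGV r A hA) := by
  refine Nat.card_congr (Equiv.ofBijective (fun a : A => ⟨r.ρ ⟨a, hAG a.2⟩ - 1, _, a.2, rfl⟩) ⟨fun a b hab => ?_, ?_⟩)
  · have h := r.inj (sub_left_injective (congrArg Subtype.val hab))
    exact Subtype.ext (congrArg (fun x : ↥G => (x : Ω)) h)
  · rintro ⟨_, g, hg, rfl⟩
    exact ⟨⟨g, hg⟩, rfl⟩

theorem rho_zpow {A : Subgroup Ω} (hA : ⁅⁅V, A⁆, A⁆ = ⊥) {b : ↥G} (hb : (b : Ω) ∈ A) (t : ℤ) :
    r.ρ (b ^ t) = 1 + t • (r.ρ b - 1) := by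
  let f : Additive ↥(A.subgroupOf G) →+ R :=
    AddMonoidHom.mk' (fun g => r.ρ (Additive.toMul g).1 - 1) fun g h => by
      show r.ρ ((Additive.toMul g).1 * (Additive.toMul h).1) - 1 = _
      have e := quad_mul hV hG hGV r hA (Subgroup.mem_subgroupOf.1 (Additive.toMul g).2)
        (Subgroup.mem_subgroupOf.1 (Additive.toMul h).2)
      rw [map_mul]
      calc r.ρ (Additive.toMul g).1 * r.ρ (Additive.toMul h).1 - 1
          = (r.ρ (Additive.toMul g).1 - 1) * (r.ρ (Additive.toMul h).1 - 1) + (r.ρ (Additive.toMul g).1 - 1)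
            + (r.ρ (Additive.toMul h).1 - 1) := by noncomm_ring
        _ = _ := by rw [e, zero_add]
  have h : r.ρ (b ^ t) - 1 = t • (r.ρ b - 1) :=
    map_zsmul f t (Additive.ofMul ⟨b, Subgroup.mem_subgroupOf.2 hb⟩)
  rw [← h, add_sub_cancel]

/-- A candidate conjugated inside `G` is a candidate. -/
theorem conj_quad {A : Subgroup Ω} (hAG : A ≤ G) (hA : ⁅⁅V, A⁆, A⁆ = ⊥) {g : Ω} (hg : g ∈ G) :
    A.map (MulAut.conj g).toMonoidHom ≤ G ∧
      ⁅⁅V, A.map (MulAut.conj g).toMonoidHom⁆, A.map (MulAut.conj g).toMonoidHom⁆ = ⊥ := by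
  refine ⟨?_, ?_⟩
  · rintro _ ⟨a, ha, rfl⟩
    exact mul_mem (mul_mem hg (hAG ha)) (inv_mem hg)
  · have e : V.map (MulAut.conj g).toMonoidHom = V := Subgroup.mem_normalizer_iff_map_conj_eq.1 (hGV hg)
    conv_lhs => rw [← e, ← Subgroup.map_commutator, ← Subgroup.map_commutator, hA, Subgroup.map_bot]

theorem exists_mover {A : Subgroup Ω} (hA : Cand p V G A)
    (hne : ¬ ∀ g ∈ Subgroup.closure {x : Ω | ∃ h ∈ G, ∃ a ∈ A, x = h * a * h⁻¹}, ∀ a ∈ A, g * a * g⁻¹ ∈ A) :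
    ∃ b : ↥G, (∃ a ∈ A, ¬(b : Ω) * a * (b : Ω)⁻¹ ∈ A) ∧
      (∃ B : Subgroup Ω, B ≤ G ∧ ⁅⁅V, B⁆, B⁆ = ⊥ ∧ (b : Ω) ∈ B) ∧
      ∀ t : ℤ, ∀ a ∈ A, ∀ x ∈ A, (b : Ω) ^ t * a * ((b : Ω) ^ t)⁻¹ * x * ((b : Ω) ^ t * a * ((b : Ω) ^ t)⁻¹)⁻¹ ∈ A := by
  classical
  obtain ⟨hAG, -, hAea, -, hAq⟩ := hA
  set D : Set (Subgroup Ω) := {X | ∃ g ∈ G, X = A.map (MulAut.conj g).toMonoidHom} with hD
  set N := Subgroup.normalizer (A : Set Ω) with hN
  have hAN : A ≤ N := Subgroup.le_normalizer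
  have hbad : ∃ X ∈ D, ¬X ≤ N := by
    by_contra hc
    push Not at hc
    refine hne fun g hg a ha => ?_
    have hle : Subgroup.closure {x : Ω | ∃ h ∈ G, ∃ a ∈ A, x = h * a * h⁻¹} ≤ N := by
      rw [Subgroup.closure_le]
      rintro _ ⟨h, hh, a, ha, rfl⟩
      exact hc _ ⟨h, hh, rfl⟩ ⟨a, ha, rfl⟩
    exact (Subgroup.mem_normalizer_iff.1 (hle hg) a).1 ha
  set Q : Subgroup Ω := ⨆ X : {X : Subgroup Ω // X ∈ D ∧ X ≤ N}, (X : Subgroup Ω) with hQ
  have hAD : A ∈ D := ⟨1, one_mem G, by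
    rw [map_one]; exact (Subgroup.map_id A).symm⟩
  have hDG : ∀ X ∈ D, X ≤ G := by
    rintro X ⟨g, hg, rfl⟩; exact (conj_quad hV hG hGV r hAG hAq hg).1
  have hQG : Q ≤ G := iSup_le fun X => hDG _ X.2.1
  have hQN : Q ≤ N := iSup_le fun X => X.2.2
  obtain ⟨H, hHmax⟩ := (Set.toFinite {H : Subgroup Ω | Q ≤ H ∧ H ≤ G ∧ ∀ X ∈ D, X ≤ H → X ≤ N}).exists_maximal
    ⟨Q, le_rfl, hQG, fun X _ hX => hX.trans hQN⟩
  obtain ⟨hQH, hHG, hH⟩ := hHmax.prop
  have hlt : H.subgroupOf G < ⊤ := lt_top_iff_ne_top.2 fun e => by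
    rw [Subgroup.subgroupOf_eq_top] at e
    obtain ⟨X, hX, hXN⟩ := hbad
    exact hXN (hH X hX ((hDG X hX).trans e))
  haveI := hG.isNilpotent
  have hlt' := Group.normalizerCondition_of_isNilpotent _ hlt
  set H' := G ⊓ Subgroup.normalizer (H : Set Ω) with hH'
  have hHH' : H < H' := by
    refine lt_of_le_of_ne (le_inf hHG Subgroup.le_normalizer) fun e => hlt'.ne ?_
    rw [← Subgroup.subgroupOf_normalizer_eq hHG]
    ext x
    simp only [Subgroup.mem_subgroupOf]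
    exact ⟨fun h => Subgroup.le_normalizer h, fun h => by rw [e]; exact ⟨x.2, h⟩⟩
  obtain ⟨B, hBD, hBH', hBN⟩ : ∃ B ∈ D, B ≤ H' ∧ ¬B ≤ N := by
    by_contra hc
    push Not at hc
    exact hHH'.not_ge (hHmax.le_of_ge ⟨hQH.trans hHH'.le, inf_le_left, fun X hX hXH => hc X hX hXH⟩ hHH'.le)
  obtain ⟨b, hbB, hbN⟩ := SetLike.not_le_iff_exists.1 hBN
  obtain ⟨gB, hgB, rfl⟩ := hBD
  have hbG : b ∈ G := (hBH' hbB).1
  refine ⟨⟨b, hbG⟩, ?_, ⟨_, (conj_quad hV hG hGV r hAG hAq hgB).1, (conj_quad hV hG hGV r hAG hAq hgB).2, hbB⟩, ?_⟩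
  · by_contra hc
    push Not at hc
    refine hbN (Subgroup.mem_normalizer_iff_map_conj_eq.2
      (Subgroup.eq_of_le_of_card_ge ?_ (Subgroup.card_map_of_injective (MulAut.conj b).injective).ge))
    rintro _ ⟨a, ha, rfl⟩
    exact hc a ha
  · intro t a ha x hx
    have hcG : b ^ t ∈ G := zpow_mem hbG t
    have hX : A.map (MulAut.conj (b ^ t)).toMonoidHom ≤ N := by
      refine hH _ ⟨_, hcG, rfl⟩ ?_
      rintro _ ⟨y, hy, rfl⟩
      have hyH : y ∈ H := hQH (Subgroup.mem_iSup_of_mem ⟨A, hAD, hAN⟩ hy)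
      exact (Subgroup.mem_normalizer_iff.1 (zpow_mem (Subgroup.mem_inf.1 (hBH' hbB)).2 t) y).1 hyH
    exact (Subgroup.mem_normalizer_iff.1 (hX ⟨a, ha, rfl⟩) x).1 hx

/-- A candidate which is not normal in its normal closure gives a deeper candidate. -/
theorem exists_better (hp2 : p ≠ 2) {A : Subgroup Ω} (hA : Cand p V G A) (k : ℕ)
    (hk : ∀ j, k ≤ j → ∀ m ∈ mon r.ρ j, m = 0)
    (hne : ¬ ∀ g ∈ Subgroup.closure {x : Ω | ∃ h ∈ G, ∃ a ∈ A, x = h * a * h⁻¹}, ∀ a ∈ A, g * a * g⁻¹ ∈ A) :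
    ∃ (E : Subgroup Ω) (hE : Cand p V G E),
      ∑ i ∈ Finset.range (2 * k + 1), Nat.card ↥(sqz hV hG hGV r A hA.2.2.2.2 ⊓ flt r.ρ i) <
        ∑ i ∈ Finset.range (2 * k + 1), Nat.card ↥(sqz hV hG hGV r E hE.2.2.2.2 ⊓ flt r.ρ i) := by
  classical
  obtain ⟨b, ⟨a₀, ha₀, hba₀⟩, ⟨B, hBG, hBq, hbB⟩, hnorm⟩ := exists_mover hV hG hGV r hA hne
  obtain ⟨hAG, hA1, hAea, hAoff, hAq⟩ := hA
  set 𝔞 := sqz hV hG hGV r A hAq with h𝔞
  set n := r.ρ b - 1 with hndef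
  have hn : n * n = 0 := quad_mul hV hG hGV r hBq hbB hbB
  have hbt : ∀ t : ℤ, r.ρ (b ^ t) = 1 + t • n := rho_zpow hV hG hGV r hBq hbB
  have hbt' : ∀ t : ℤ, r.ρ (b ^ t)⁻¹ = 1 - t • n := fun t => by
    rw [← zpow_neg, hbt, neg_smul, sub_eq_add_neg]
  let Γ : Submonoid R := MonoidHom.mrange r.ρ
  have hz : ∀ a ∈ 𝔞, ∀ c ∈ 𝔞, a * c = 0 := by
    rintro _ ⟨g, hg, rfl⟩ _ ⟨h, hh, rfl⟩
    exact quad_mul hV hG hGV r hAq hg hh
  have hΓA : ∀ a ∈ 𝔞, 1 + a ∈ Γ := by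
    rintro _ ⟨g, hg, rfl⟩
    exact ⟨g, (add_sub_cancel _ _).symm⟩
  have hΓ : ∀ t : ℤ, 1 + t • n ∈ Γ := fun t => ⟨b ^ t, hbt t⟩
  have hcj : ∀ (t : ℤ) (g : ↥G), r.ρ (b ^ t * g * (b ^ t)⁻¹) - 1 = cj n t (r.ρ g - 1) := by
    intro t g
    have h1 : (1 + t • n) * (1 - t • n) = 1 := by
      rw [← hbt, ← hbt', ← map_mul, mul_inv_cancel, map_one]
    rw [cj_apply, map_mul, map_mul, hbt, hbt', mul_sub (1 + t • n), sub_mul ((1 + t • n) * _), mul_one, h1]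
  have hnorm' : ∀ t : ℤ, ∀ a ∈ 𝔞, ∀ x ∈ 𝔞, (1 + cj n t a) * x * (1 - cj n t a) ∈ 𝔞 := by
    rintro t _ ⟨g, hg, rfl⟩ _ ⟨h, hh, rfl⟩
    set y := b ^ t * g * (b ^ t)⁻¹ with hy
    refine ⟨y * h * y⁻¹, by simpa [hy] using hnorm t g hg h hh, ?_⟩
    have h0 : cj n t (r.ρ g - 1) * cj n t (r.ρ g - 1) = 0 := by
      rw [cj_mul hn, quad_mul hV hG hGV r hAq hg hg, map_zero]
    have h1 : r.ρ y = 1 + cj n t (r.ρ g - 1) := by rw [← hcj, add_sub_cancel]
    generalize cj n t (r.ρ g - 1) = c at h0 h1 ⊢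
    have h2 : r.ρ y⁻¹ = 1 - c := by
      calc r.ρ y⁻¹ = r.ρ y⁻¹ * (r.ρ y * (1 - c)) := by
            rw [h1, show (1 + c) * (1 - c) = 1 - c * c by noncomm_ring, h0, sub_zero, mul_one]
        _ = _ := by rw [← mul_assoc, ← map_mul, inv_mul_cancel, map_one, one_mul]
    rw [map_mul, map_mul, h1, h2, mul_sub (1 + c), sub_mul ((1 + c) * _), mul_one,
      show (1 + c) * (1 - c) = 1 - c * c by noncomm_ring, h0, sub_zero]
  have half : ∀ z : R, ∃ i : ℤ, i • (z + z) = z := by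
    intro z
    obtain ⟨q, hq⟩ := hp.out.odd_of_ne_two hp2
    refine ⟨(q : ℤ) + 1, ?_⟩
    have hpz : (p : ℤ) • z = 0 := by rw [zsmul_eq_mul, Int.cast_natCast, r.char, zero_mul]
    rw [← two_zsmul, smul_smul, show ((q : ℤ) + 1) * 2 = (p : ℤ) + 1 by rw [hq]; push_cast; ring, add_smul,
      hpz, zero_add, one_smul]
  set L := lim (1 + C n * X) (1 - C n * X) 𝔞 with hL
  -- the subgroup of the limit
  let E : Subgroup Ω :=
    { carrier := {x | ∃ g : ↥G, (g : Ω) = x ∧ r.ρ g - 1 ∈ L}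
      one_mem' := ⟨1, rfl, by rw [map_one, sub_self]; exact zero_mem L⟩
      mul_mem' := by
        rintro _ _ ⟨g, rfl, hg⟩ ⟨h, rfl, hh⟩
        refine ⟨g * h, rfl, ?_⟩
        rw [map_mul, show r.ρ g * r.ρ h - 1 = (r.ρ g - 1) * (r.ρ h - 1) + (r.ρ g - 1) + (r.ρ h - 1) by noncomm_ring,
          lim_sq hn hz hg hh, zero_add]
        exact add_mem hg hh
      inv_mem' := by
        rintro _ ⟨g, rfl, hg⟩
        refine ⟨g⁻¹, rfl, ?_⟩
        have h1 : r.ρ g⁻¹ * r.ρ g = 1 := by rw [← map_mul, inv_mul_cancel, map_one]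
        have h2 : r.ρ g⁻¹ = 1 - (r.ρ g - 1) := by
          have h3 : r.ρ g * (1 - (r.ρ g - 1)) = 1 := by
            calc r.ρ g * (1 - (r.ρ g - 1)) = 1 - (r.ρ g - 1) * (r.ρ g - 1) := by
                  generalize r.ρ g = u
                  noncomm_ring
              _ = 1 := by rw [lim_sq hn hz hg hg, sub_zero]
          exact left_inv_eq_right_inv h1 h3
        rw [h2, sub_sub_cancel_left]
        exact neg_mem hg }
  have hEG : E ≤ G := by rintro _ ⟨g, rfl, -⟩; exact g.2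
  have hmemE : ∀ g : ↥G, (g : Ω) ∈ E → r.ρ g - 1 ∈ L := by
    rintro g ⟨g', e, hg'⟩
    rwa [Subtype.ext e] at hg'
  have hEq : ⁅⁅V, E⁆, E⁆ = ⊥ :=
    quad_of_mul hV hG hGV r hEG fun x y hx hy => lim_sq hn hz (hmemE x hx) (hmemE y hy)
  have hEsq : sqz hV hG hGV r E hEq = L := by
    ext w
    constructor
    · rintro ⟨g, hg, rfl⟩; exact hmemE g hg
    · intro hw
      obtain ⟨g, hg⟩ := one_add_lim_mem half hn hz hΓA hΓ hnorm' hw
      have e : r.ρ g - 1 = w := by rw [hg, add_sub_cancel_left]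
      exact ⟨g, ⟨g, rfl, e.symm ▸ hw⟩, e⟩
  have hcardE : Nat.card A ≤ Nat.card E := by
    rw [card_sqz hV hG hGV r hAG hAq, card_sqz hV hG hGV r hEG hEq, hEsq]
    exact card_le hn _
  have hEea : Cfsg.IsElementaryAbelian p E := by
    refine ⟨IsMulCommutative.of_comm fun x y => Subtype.ext ?_, fun x hx => ?_⟩
    · have h1 := lim_sq hn hz (hmemE ⟨x, hEG x.2⟩ x.2) (hmemE ⟨y, hEG y.2⟩ y.2)
      have h2 := lim_sq hn hz (hmemE ⟨y, hEG y.2⟩ y.2) (hmemE ⟨x, hEG x.2⟩ x.2)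
      have : (⟨x, hEG x.2⟩ : ↥G) * ⟨y, hEG y.2⟩ = ⟨y, hEG y.2⟩ * ⟨x, hEG x.2⟩ := r.inj (by
        rw [map_mul, map_mul]
        generalize r.ρ ⟨x, hEG x.2⟩ = u at h1 h2 ⊢
        generalize r.ρ ⟨y, hEG y.2⟩ = v at h1 h2 ⊢
        calc u * v = (u - 1) * (v - 1) + u + v - 1 := by noncomm_ring
          _ = (v - 1) * (u - 1) + u + v - 1 := by rw [h1, h2]
          _ = v * u := by noncomm_ring)
      exact congrArg (fun z : ↥G => (z : Ω)) this
    · have h1 : (⟨x, hEG hx⟩ : ↥G) ^ ((p : ℕ) : ℤ) = 1 := r.inj (by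
        rw [rho_zpow hV hG hGV r hEq hx, zsmul_eq_mul, Int.cast_natCast, r.char, zero_mul, add_zero, map_one])
      rw [zpow_natCast] at h1
      exact congrArg (fun z : ↥G => (z : Ω)) h1
  have hCcard : Nat.card ↥(V ⊓ Subgroup.centralizer (A : Set Ω)) ≤
      Nat.card ↥(V ⊓ Subgroup.centralizer (E : Set Ω)) := by
    let IC : AddSubgroup R :=
      { carrier := {x | ∃ v : ↥V, (v : Ω) ∈ Subgroup.centralizer (A : Set Ω) ∧ r.ι v = x}
        zero_mem' := ⟨1, one_mem _, ι_one hV hG hGV r⟩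
        add_mem' := by
          rintro _ _ ⟨u, hu, rfl⟩ ⟨v, hv, rfl⟩
          exact ⟨u * v, mul_mem hu hv, r.ι_mul u v⟩
        neg_mem' := by
          rintro _ ⟨v, hv, rfl⟩
          exact ⟨v⁻¹, inv_mem hv, eq_neg_of_add_eq_zero_left (by
            rw [← r.ι_mul, inv_mul_cancel, ι_one hV hG hGV r])⟩ }
    have hAC : ∀ a ∈ 𝔞, ∀ c ∈ IC, a * c = 0 := by
      rintro _ ⟨g, hg, rfl⟩ _ ⟨v, hv, rfl⟩
      obtain ⟨w, hw, hw'⟩ := act' hV hG hGV r g v
      rw [hw', show w = 1 from Subtype.ext (by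
        rw [hw, Subgroup.mem_centralizer_iff.1 hv g hg, mul_inv_cancel_right, mul_inv_cancel]; rfl),
        ι_one hV hG hGV r]
    set LC := lim (1 + C n * X) 1 IC
    have h1 : Nat.card IC ≤ Nat.card LC := by
      refine card_le_lim (move_inv hn).1 (W' := 1) (mul_one 1) (fun f m hd j hj => ?_) IC
      have e : ((1 + C n * X) * f * 1).coeff j = f.coeff j + n * f.coeff (j - 1) := by
        rw [mul_one, add_mul, one_mul, mul_assoc, X_mul, ← mul_assoc, coeff_add]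
        rcases j with - | j
        · omega
        · rw [coeff_mul_X, coeff_C_mul, Nat.succ_sub_one]
      rw [e, hd j (by omega), hd (j - 1) (by omega), mul_zero, add_zero]
    have h2 : ∀ x ∈ LC, ∃ v : ↥V, (v : Ω) ∈ Subgroup.centralizer (E : Set Ω) ∧ r.ι v = x := by
      intro x hx
      obtain ⟨v, rfl⟩ : ∃ v, r.ι v = x := by
        obtain ⟨m, f, hf, -, rfl⟩ := hx
        rw [mul_one, add_mul, one_mul, mul_assoc, X_mul, ← mul_assoc, coeff_add]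
        obtain ⟨u, -, hu⟩ := hf m
        rcases m with - | m
        · exact ⟨u, by rw [coeff_mul_X_zero, add_zero, hu]⟩
        · obtain ⟨u', -, hu'⟩ := hf m
          obtain ⟨w, -, hw⟩ := act' hV hG hGV r b u'
          exact ⟨u * w, by rw [r.ι_mul, ← hw, ← hndef, coeff_mul_X, coeff_C_mul, hu, hu']⟩
      refine ⟨v, Subgroup.mem_centralizer_iff.2 fun e he => ?_, rfl⟩
      obtain ⟨g, rfl, hg⟩ := id he
      exact fix_of_kill hV hG hGV r (lim_mul_lim (V := 1 + C n * X) (move_inv hn).1 hAC hg hx)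
    calc Nat.card ↥(V ⊓ Subgroup.centralizer (A : Set Ω)) ≤ Nat.card IC :=
          Nat.card_le_card_of_injective (fun v => ⟨r.ι ⟨v, v.2.1⟩, _, v.2.2, rfl⟩) fun u v h =>
            Subtype.ext (congrArg (fun z : ↥V => (z : Ω)) (r.ι_inj (congrArg Subtype.val h)))
      _ ≤ Nat.card LC := h1
      _ ≤ _ := by
        choose v hv hv' using h2
        refine Nat.card_le_card_of_injective (fun x => ⟨v x x.2, (v x x.2).2, hv x x.2⟩) fun x y h => ?_
        have : v x x.2 = v y y.2 := Subtype.ext (congrArg Subtype.val h :)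
        exact Subtype.ext (by rw [← hv' x x.2, ← hv' y y.2, this])
  have hEne : E ≠ ⊥ := fun e => hA1 (Subgroup.eq_bot_of_card_le A (by rw [e, Subgroup.card_bot] at hcardE; exact hcardE))
  refine ⟨E, ⟨hEG, hEne, hEea, hAoff.trans (Nat.mul_le_mul hcardE hCcard), hEq⟩, ?_⟩
  rw [hEsq]
  have htop : ∀ i, 2 * k ≤ i → flt r.ρ i = ⊤ := by
    intro i hi
    rw [eq_top_iff]
    intro x _ j l hjl y hy z hz
    rcases le_or_gt k j with h | h
    · rw [hk j h y hy, zero_mul, zero_mul]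
    · rw [hk l (by omega) z hz, mul_zero]
  have hns : ∃ i, ∃ a ∈ 𝔞 ⊓ flt r.ρ i, ¬(n * a - a * n ∈ 𝔞 ∧ n * a * n ∈ 𝔞) := by
    refine ⟨2 * k, r.ρ ⟨a₀, hAG ha₀⟩ - 1, ⟨⟨⟨a₀, hAG ha₀⟩, ha₀, rfl⟩, by rw [htop _ le_rfl]; trivial⟩, ?_⟩
    rintro ⟨h1, h2⟩
    have h0 : r.ρ ⟨a₀, hAG ha₀⟩ - 1 ∈ 𝔞 := ⟨⟨a₀, hAG ha₀⟩, ha₀, rfl⟩
    have := sub_mem (add_mem h0 h1) h2
    rw [show r.ρ ⟨a₀, hAG ha₀⟩ - 1 + (n * (r.ρ ⟨a₀, hAG ha₀⟩ - 1) - (r.ρ ⟨a₀, hAG ha₀⟩ - 1) * n) -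
      n * (r.ρ ⟨a₀, hAG ha₀⟩ - 1) * n = cj n 1 (r.ρ ⟨a₀, hAG ha₀⟩ - 1) by
      rw [cj_apply, one_smul]; noncomm_ring, ← hcj, zpow_one] at this
    obtain ⟨g, hg, e⟩ := this
    rw [r.inj (sub_left_injective e)] at hg
    exact hba₀ hg
  obtain ⟨hle, i, hlt, -⟩ := exists_deeper hn (flt r.ρ) (flt_zero r.ρ) (flt_mono r.ρ)
    (fun i x hx => flt_step r.ρ b i x hx) hns
  refine Finset.sum_lt_sum (fun j _ => hle j) ⟨min i (2 * k), Finset.mem_range.2 (by omega), ?_⟩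
  rcases le_total i (2 * k) with h | h
  · rwa [min_eq_left h]
  · rwa [min_eq_right h, htop _ le_rfl, ← htop i h]

/-- A quadratic offender normal in its normal closure. -/
theorem exists_normal_offender (hp2 : p ≠ 2) (h : ∃ A, Cand p V G A) :
    ∃ A, Cand p V G A ∧
      ∀ g ∈ Subgroup.closure {x : Ω | ∃ h ∈ G, ∃ a ∈ A, x = h * a * h⁻¹}, ∀ a ∈ A, g * a * g⁻¹ ∈ A := by
  classical
  obtain ⟨k, hk⟩ := exists_nil hV hG hGV r
  haveI : Nonempty {A // Cand p V G A} := ⟨⟨h.choose, h.choose_spec⟩⟩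
  obtain ⟨⟨A, hA⟩, hmax⟩ := Finite.exists_max (fun A : {A // Cand p V G A} =>
    ∑ i ∈ Finset.range (2 * k + 1), Nat.card ↥(sqz hV hG hGV r A.1 A.2.2.2.2.2 ⊓ flt r.ρ i))
  refine ⟨A, hA, by_contra fun hne => ?_⟩
  obtain ⟨E, hE, hlt⟩ := exists_better hV hG hGV r hp2 hA k hk hne
  exact hlt.not_ge (hmax ⟨E, hE⟩)

end CfsgLib.LocalEven.DegenerationOffender

namespace CfsgLib.LocalEven.DegenerationOffender

universe u

section

variable {p : ℕ} [Fact p.Prime] {W : Type*} [AddCommGroup W] (hW : ∀ w : W, p • w = 0)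

/-- The map `(s, x) ↦ (0, s • w)`. -/
def vec (w : W) : AddMonoid.End (ZMod p × W) :=
  (AddMonoidHom.inr (ZMod p) W).comp ((ZMod.lift p (A := W) ⟨(zmultiplesHom W) w, by simpa using hW w⟩).comp
    (AddMonoidHom.fst (ZMod p) W))

theorem vec_apply (w : W) (s : ℤ) (x : W) : vec hW w ((s : ZMod p), x) = (0, s • w) := by
  show ((0 : ZMod p), ZMod.lift p (A := W) ⟨(zmultiplesHom W) w, by simpa using hW w⟩ (s : ZMod p)) = _
  rw [ZMod.lift_coe]; rfl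

theorem vec_one (w : W) : vec hW w (1, 0) = (0, w) := by
  simpa using vec_apply hW w 1 0

/-- Adding a fixed line. -/
def addLine : AddMonoid.End W →* AddMonoid.End (ZMod p × W) where
  toFun f := (AddMonoidHom.id (ZMod p)).prodMap f
  map_one' := AddMonoidHom.ext fun _ => rfl
  map_mul' f g := AddMonoidHom.ext fun _ => rfl

end

/-- The representation in the endomorphisms of `V` with a fixed line added. -/
theorem exists_rep {Ω : Type u} [Group Ω] [Finite Ω] {p : ℕ} [Fact p.Prime] {V G : Subgroup Ω} (hV : Cfsg.IsElementaryAbelian p V)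
    (hGV : G ≤ Subgroup.normalizer (V : Set Ω)) (hfaith : G ⊓ Subgroup.centralizer (V : Set Ω) = ⊥) :
    ∃ (R : Type u) (_ : Ring R) (_ : Finite R), Nonempty (Rep p V G R) := by
  letI : CommGroup ↥V :=
    { (inferInstance : Group ↥V) with mul_comm := fun a b => hV.1.is_comm.comm a b }
  let e : ↥G →* MulAut ↥V := (Subgroup.normalizerMonoidHom V).comp (Subgroup.inclusion hGV)
  let φ : ↥G →* AddMonoid.End (Additive ↥V) :=
    { toFun := fun g => (e g).toMonoidHom.toAdditive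
      map_one' := by rw [map_one]; rfl
      map_mul' := fun g h => by rw [map_mul]; rfl }
  have hW : ∀ w : Additive ↥V, p • w = 0 := fun w =>
    congrArg Additive.ofMul (Subtype.ext (hV.2 _ (Additive.toMul w).2) : Additive.toMul w ^ p = 1)
  haveI : Finite (AddMonoid.End (ZMod p × Additive ↥V)) :=
    Finite.of_injective (fun f => (f : ZMod p × Additive ↥V → ZMod p × Additive ↥V)) DFunLike.coe_injective
  refine ⟨AddMonoid.End (ZMod p × Additive ↥V), inferInstance, inferInstance, ⟨{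
    ρ := (addLine (p := p)).comp φ
    ι := fun v => vec hW (Additive.ofMul v)
    inj := ?_
    ι_inj := ?_
    ι_mul := ?_
    act := ?_
    sep := ?_
    char := ?_ }⟩⟩
  · refine (injective_iff_map_eq_one _).2 fun g hg => ?_
    have h : ∀ v : ↥V, (g : Ω) * v * (g : Ω)⁻¹ = v := fun v =>
      congrArg (fun x : ZMod p × Additive ↥V => ((Additive.toMul x.2 : ↥V) : Ω))
        (DFunLike.congr_fun hg (0, Additive.ofMul v))
    have : (g : Ω) ∈ G ⊓ Subgroup.centralizer (V : Set Ω) :=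
      ⟨g.2, Subgroup.mem_centralizer_iff.2 fun v hv => (mul_inv_eq_iff_eq_mul.1 (h ⟨v, hv⟩)).symm⟩
    rw [hfaith, Subgroup.mem_bot] at this
    exact Subtype.ext this
  · intro u v h
    have := DFunLike.congr_fun h ((1 : ZMod p), 0)
    rw [vec_one, vec_one] at this
    exact Additive.ofMul.injective (congrArg Prod.snd this)
  · intro u v
    refine AddMonoidHom.ext fun ⟨s, x⟩ => ?_
    obtain ⟨s, rfl⟩ := ZMod.intCast_surjective s
    show vec hW _ _ = vec hW _ _ + vec hW _ _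
    rw [vec_apply, vec_apply, vec_apply, ofMul_mul, smul_add, Prod.mk_add_mk, add_zero]
  · intro g v w hw
    refine AddMonoidHom.ext fun ⟨s, x⟩ => ?_
    obtain ⟨s, rfl⟩ := ZMod.intCast_surjective s
    show (addLine (φ g)) (vec hW _ _) = vec hW _ _
    rw [vec_apply, vec_apply]
    refine Prod.ext rfl ?_
    show φ g (s • Additive.ofMul v) = _
    rw [map_zsmul]
    exact congrArg (fun z => s • Additive.ofMul z) (Subtype.ext hw.symm)
  · intro r g h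
    refine AddMonoidHom.ext fun ⟨s, x⟩ => ?_
    obtain ⟨v, rfl⟩ := Additive.ofMul.surjective x
    show r ((addLine (φ g)) (s, Additive.ofMul v) - (s, Additive.ofMul v)) = 0
    have h1 := DFunLike.congr_fun (h v) ((1 : ZMod p), 0)
    have h2 : r ((addLine (φ g)) (vec hW (Additive.ofMul v) (1, 0)) - vec hW (Additive.ofMul v) (1, 0)) = 0 := h1
    rw [vec_one] at h2
    refine Eq.trans (congrArg r ?_) h2
    show (s, φ g (Additive.ofMul v)) - (s, Additive.ofMul v) =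
      ((0 : ZMod p), φ g (Additive.ofMul v)) - (0, Additive.ofMul v)
    simp
  · refine AddMonoidHom.ext fun x => ?_
    show p • x = 0
    exact Prod.ext (by simp) (hW x.2)

end CfsgLib.LocalEven.DegenerationOffender
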