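import Cfsg.Agent.Lib.LocalEven.Degeneration

/-!
A square-zero additive group, normalising and normalised by its transforms under `1 + t n`, moves to a limit
inside the same unipotent group which lies deeper in any filtration lowered by the commutation with `n`.
-/

set_option autoImplicit false
set_option linter.style.haveILetI false
set_option linter.unusedSectionVars false

open Polynomial

namespace CfsgLib.LocalEven.DegenerationStep

open CfsgLib.LocalEven.Degeneration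

variable {R : Type*} [Ring R]

/-- Two square-zero groups inside `Γ - 1` normalising each other. -/
structure Mutual (Γ : Submonoid R) (X Y : AddSubgroup R) : Prop where
  zl : ∀ a ∈ X, ∀ b ∈ X, a * b = 0
  zr : ∀ a ∈ Y, ∀ b ∈ Y, a * b = 0
  gl : ∀ a ∈ X, 1 + a ∈ Γ
  gr : ∀ a ∈ Y, 1 + a ∈ Γ
  nl : ∀ x ∈ X, ∀ y ∈ Y, (1 + y) * x * (1 - y) ∈ X
  nr : ∀ x ∈ X, ∀ y ∈ Y, (1 + x) * y * (1 - x) ∈ Y

variable {Γ : Submonoid R} (half : ∀ z : R, ∃ k : ℤ, k • (z + z) = z)

section

variable {X Y W : AddSubgroup R}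
include half

theorem Mutual.comm_mem (h : Mutual Γ X Y) {x y : R} (hx : x ∈ X) (hy : y ∈ Y) :
    x * y - y * x ∈ X ∧ x * y - y * x ∈ Y ∧ x * y * x = 0 ∧ y * x * y = 0 := by
  have key : ∀ {X Y : AddSubgroup R}, (∀ x ∈ X, ∀ y ∈ Y, (1 + y) * x * (1 - y) ∈ X) → ∀ x ∈ X, ∀ y ∈ Y,
      y * x - x * y ∈ X := by
    intro X Y hn x hx y hy
    obtain ⟨k, hk⟩ := half (y * x - x * y)
    rw [← hk]
    refine zsmul_mem ?_ k
    have e := sub_mem (hn x hx y hy) (hn x hx (-y) (neg_mem hy))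
    refine (congrArg (· ∈ X) ?_).mp e
    noncomm_ring
  have h1 : x * y - y * x ∈ X := by simpa using neg_mem (key h.nl x hx y hy)
  have h2 : x * y - y * x ∈ Y := key (fun y hy x hx => h.nr x hx y hy) y hy x hx
  refine ⟨h1, h2, ?_, ?_⟩
  · have e := h.zl x hx _ h1
    rw [mul_sub, ← mul_assoc x x y, h.zl x hx x hx, zero_mul, ← mul_assoc, zero_sub, neg_eq_zero] at e
    exact e
  · have e := h.zr y hy _ h2
    rw [mul_sub, ← mul_assoc y y x, h.zr y hy y hy, zero_mul, sub_zero, ← mul_assoc] at e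
    exact e

/-- A square-zero sum of elements of three mutually normalising groups lies in `Γ - 1`. -/
theorem one_add_sum_mem (hXY : Mutual Γ X Y) (hXW : Mutual Γ X W) (hYW : Mutual Γ Y W) {x y w : R}
    (hx : x ∈ X) (hy : y ∈ Y) (hw : w ∈ W) (hsq : (x + y + w) * (x + y + w) = 0) : 1 + (x + y + w) ∈ Γ := by
  obtain ⟨axy, bxy, hxyx, hyxy⟩ := hXY.comm_mem half hx hy
  obtain ⟨axw, bxw, hxwx, hwxw⟩ := hXW.comm_mem half hx hw
  obtain ⟨ayw, byw, hywy, hwyw⟩ := hYW.comm_mem half hy hw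
  have xx := hXY.zl x hx x hx
  have yy := hXY.zr y hy y hy
  have ww := hXW.zr w hw w hw
  have xx' : ∀ z, x * (x * z) = 0 := fun z => by rw [← mul_assoc, xx, zero_mul]
  have yy' : ∀ z, y * (y * z) = 0 := fun z => by rw [← mul_assoc, yy, zero_mul]
  have ww' : ∀ z, w * (w * z) = 0 := fun z => by rw [← mul_assoc, ww, zero_mul]
  rw [mul_assoc] at hxyx hyxy hxwx hwxw hywy hwyw
  -- the alternating products
  have r1 : x * (y * w) + x * (w * y) = 0 := by
    rw [add_comm]
    have e := congrArg (x * ·) hsq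
    simpa [mul_add, add_mul, mul_assoc, xx, xx', yy, ww, hxyx, hxwx] using e
  have r2 : x * (y * w) + y * (x * w) = 0 := by
    rw [add_comm]
    have e := congrArg (· * w) hsq
    simpa [mul_add, add_mul, mul_assoc, xx', yy', ww, hwxw, hwyw] using e
  have r3 : x * (w * y) + w * (x * y) = 0 := by
    rw [add_comm]
    have e := congrArg (· * y) hsq
    simpa [mul_add, add_mul, mul_assoc, xx', ww', yy, hyxy, hywy] using e
  have r4 : w * (x * y) + w * (y * x) = 0 := by
    rw [add_comm]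
    have e := congrArg (w * ·) hsq
    simpa [mul_add, add_mul, mul_assoc, ww, ww', xx, yy, hwxw, hwyw] using e
  set exy := x * y - y * x with hexy
  set exw := x * w - w * x with hexw
  set eyw := y * w - w * y with heyw
  set h := x * y + x * w + y * w with hh
  set T := x * (y * w) with hT
  obtain ⟨k, hk⟩ := half h
  have hsum : h + h = exy + exw + eyw := by
    have e : h + (y * x + w * x + w * y) = 0 := by
      have := hsq
      simp only [mul_add, add_mul, xx, yy, ww] at this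
      rw [hh, ← this]; abel
    rw [eq_neg_of_add_eq_zero_right e |> fun e' => show exy + exw + eyw = h - (y * x + w * x + w * y) by
      rw [hexy, hexw, heyw, hh]; abel, eq_neg_of_add_eq_zero_right e, sub_neg_eq_add]
  rw [hsum] at hk
  have hEE : (exy + exw + eyw) * (exy + exw + eyw) = 0 := by
    simp only [mul_add, add_mul, hXY.zl _ axy _ axy, hXY.zl _ axy _ axw, hXY.zl _ axw _ axy,
      hXY.zl _ axw _ axw, hXY.zr _ bxy _ ayw, hXY.zr _ ayw _ bxy, hXW.zr _ bxw _ byw, hXW.zr _ byw _ bxw,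
      hYW.zl _ ayw _ ayw, add_zero]
  have hh2 : h * h = 0 := by rw [← hk, smul_mul_assoc, mul_smul_comm, hEE, smul_zero, smul_zero]
  have hSh : (x + y + w) * h = T := by
    have e1 : y * (x * w) + w * (x * y) = 0 := by
      rw [eq_neg_of_add_eq_zero_right r2, eq_neg_of_add_eq_zero_right r3, eq_neg_of_add_eq_zero_right r1]
      abel
    rw [hh]
    simp only [mul_add, add_mul, xx', yy', hyxy, hwxw, hwyw, zero_add, add_zero]
    calc _ = T + (y * (x * w) + w * (x * y)) := by rw [hT]; abel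
      _ = T := by rw [e1, add_zero]
  have hTh : T * h = 0 := by
    have e1 : T * exw = 0 := by rw [hT, mul_assoc x, mul_assoc y, hXW.zr w hw _ bxw, mul_zero, mul_zero]
    have e2 : T * eyw = 0 := by rw [hT, mul_assoc x, mul_assoc y, hXW.zr w hw _ byw, mul_zero, mul_zero]
    have e3 : T * exy = 0 := by
      have hwe : w * exy = T + T := by
        rw [hexy, mul_sub, eq_neg_of_add_eq_zero_right r4, eq_neg_of_add_eq_zero_right r3,
          eq_neg_of_add_eq_zero_right r1]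
        abel
      have hxyT : x * (y * T) = 0 := by
        rw [hT, show x * (y * (x * (y * w))) = (x * (y * x)) * (y * w) by simp only [mul_assoc], hxyx, zero_mul]
      rw [hT, mul_assoc x, mul_assoc y, hwe, mul_add, mul_add, hxyT, add_zero]
    rw [← hk, mul_smul_comm, mul_add, mul_add, e1, e2, e3, add_zero, add_zero, smul_zero]
  have hid : (1 + x) * (1 + y) * (1 + w) * (1 - h) = 1 + (x + y + w) := by
    have hP : (1 + x) * (1 + y) * (1 + w) = 1 + (x + y + w) + h + T := by rw [hh, hT]; noncomm_ring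
    rw [hP]
    calc (1 + (x + y + w) + h + T) * (1 - h)
        = 1 + (x + y + w) + T - (x + y + w) * h - h * h - T * h := by noncomm_ring
      _ = _ := by rw [hSh, hh2, hTh]; abel
  have h1 : k • (exy + exw) ∈ X := zsmul_mem (add_mem axy axw) k
  have h2 : k • eyw ∈ Y := zsmul_mem ayw k
  have h12 : k • (exy + exw) * (k • eyw) = 0 := by
    rw [smul_mul_assoc, mul_smul_comm, add_mul, hXY.zr _ bxy _ ayw, hXW.zr _ bxw _ byw, add_zero,
      smul_zero, smul_zero]
  have hh1 : 1 - h = (1 + -(k • (exy + exw))) * (1 + -(k • eyw)) := by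
    have g : ∀ a b : R, (1 + -a) * (1 + -b) = 1 - (a + b) + a * b := fun a b => by noncomm_ring
    rw [g, h12, add_zero, ← smul_add, hk]
  rw [← hid, hh1]
  exact Γ.mul_mem (Γ.mul_mem (Γ.mul_mem (hXY.gl x hx) (hXY.gr y hy)) (hXW.gr w hw))
    (Γ.mul_mem (hXY.gl _ (neg_mem h1)) (hXY.gr _ (neg_mem h2)))

end

/-- The transform by `1 + t n`. -/
def cj (n : R) (t : ℤ) : R →+ R :=
  ((AddMonoidHom.mulLeft (1 + t • n)).comp (AddMonoidHom.mulRight (1 - t • n)))

theorem cj_apply (n : R) (t : ℤ) (a : R) : cj n t a = (1 + t • n) * a * (1 - t • n) :=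
  (mul_assoc _ _ _).symm

variable {n : R} (hn : n * n = 0)
include hn

theorem inv_mul (t : ℤ) : (1 - t • n) * (1 + t • n) = 1 := by
  have : (t • n) * (t • n) = 0 := by rw [smul_mul_assoc, mul_smul_comm, hn, smul_zero, smul_zero]
  generalize t • n = m at this ⊢
  calc (1 - m) * (1 + m) = 1 - m * m := by noncomm_ring
    _ = 1 := by rw [this, sub_zero]

theorem cj_mul (t : ℤ) (a b : R) : cj n t a * cj n t b = cj n t (a * b) := by
  simp only [cj_apply]
  calc _ = (1 + t • n) * a * ((1 - t • n) * (1 + t • n)) * b * (1 - t • n) := by noncomm_ring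
    _ = _ := by rw [inv_mul hn, mul_one, mul_assoc (1 + t • n) a b]

theorem cj_cj (s t : ℤ) (a : R) : cj n s (cj n t a) = cj n (s + t) a := by
  have e : ∀ u v : ℤ, (u • n) * (v • n) = 0 := fun u v => by
    rw [smul_mul_assoc, mul_smul_comm, hn, smul_zero, smul_zero]
  have h1 := e s t
  have h2 := e t s
  simp only [cj_apply, add_smul]
  generalize s • n = u at h1 h2 ⊢
  generalize t • n = v at h1 h2 ⊢
  calc _ = (1 + u + v + u * v) * a * (1 - v - u + v * u) := by noncomm_ring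
    _ = _ := by rw [h1, h2, add_zero, add_zero]; noncomm_ring

theorem mutual_cj {A : AddSubgroup R} (hz : ∀ a ∈ A, ∀ b ∈ A, a * b = 0) (hA : ∀ a ∈ A, 1 + a ∈ Γ)
    (hΓ : ∀ t : ℤ, 1 + t • n ∈ Γ)
    (hnorm : ∀ t : ℤ, ∀ a ∈ A, ∀ x ∈ A, (1 + cj n t a) * x * (1 - cj n t a) ∈ A) (s t : ℤ) :
    Mutual Γ (A.map (cj n s)) (A.map (cj n t)) := by
  have hz' : ∀ s, ∀ a ∈ A.map (cj n s), ∀ b ∈ A.map (cj n s), a * b = 0 := by
    rintro s _ ⟨a, ha, rfl⟩ _ ⟨b, hb, rfl⟩
    rw [cj_mul hn, hz a ha b hb, map_zero]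
  have hg : ∀ s, ∀ a ∈ A.map (cj n s), 1 + a ∈ Γ := by
    rintro s _ ⟨a, ha, rfl⟩
    have e : 1 + cj n s a = (1 + s • n) * (1 + a) * (1 - s • n) := by
      have h1 : (1 + s • n) * (1 - s • n) = 1 := by
        have h2 := inv_mul hn (-s)
        rwa [neg_smul, sub_neg_eq_add, ← sub_eq_add_neg] at h2
      rw [cj_apply, mul_add (1 + s • n), mul_one, add_mul (1 + s • n), h1]
    rw [e, show 1 - s • n = 1 + (-s) • n by rw [neg_smul, sub_eq_add_neg]]
    exact Γ.mul_mem (Γ.mul_mem (hΓ s) (hA a ha)) (hΓ _)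
  have hnl : ∀ s t : ℤ, ∀ x ∈ A.map (cj n s), ∀ y ∈ A.map (cj n t), (1 + y) * x * (1 - y) ∈ A.map (cj n s) := by
    rintro s t _ ⟨x, hx, rfl⟩ _ ⟨y, hy, rfl⟩
    refine ⟨_, hnorm (t - s) y hy x hx, ?_⟩
    set z := cj n (t - s) y with hzdef
    rw [show cj n t y = cj n s z by rw [hzdef, cj_cj hn]; congr 2; abel,
      show (1 + z) * x * (1 - z) = x + z * x - x * z - z * x * z by noncomm_ring]
    simp only [map_add, map_sub, ← cj_mul hn]
    noncomm_ring
  exact ⟨hz' s, hz' t, hg s, hg t, hnl s t, fun x hx y hy => hnl t s y hy x hx⟩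

theorem coeff_move (f : R[X]) (j : ℕ) :
    ((1 + C n * X) * f * (1 - C n * X)).coeff j = f.coeff j + (if 1 ≤ j then
      n * f.coeff (j - 1) - f.coeff (j - 1) * n else 0) - (if 2 ≤ j then n * f.coeff (j - 2) * n else 0) := by
  have e : (1 + C n * X) * f * (1 - C n * X) = f + (C n * f - f * C n) * X ^ 1 - C n * f * C n * X ^ 2 := by
    simp only [pow_one, pow_two]
    have hX : ∀ g : R[X], X * g = g * X := fun g => X_mul
    simp only [add_mul, one_mul, mul_sub, mul_one, sub_mul, mul_assoc, hX]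
    abel
  rw [e, coeff_sub, coeff_add, coeff_mul_X_pow', coeff_mul_X_pow']
  simp only [coeff_sub, coeff_C_mul, coeff_mul_C]

theorem move_inv : (1 - C n * X) * (1 + C n * X) = 1 ∧ (1 + C n * X) * (1 - C n * X) = 1 := by
  have h0 : (C n * X) * (C n * X) = 0 := by
    rw [mul_assoc, ← mul_assoc X, X_mul, mul_assoc, ← mul_assoc (C n), ← map_mul, hn, map_zero, zero_mul]
  constructor
  · calc (1 - C n * X) * (1 + C n * X) = 1 - (C n * X) * (C n * X) := by noncomm_ring
      _ = 1 := by rw [h0, sub_zero]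
  · calc (1 + C n * X) * (1 - C n * X) = 1 - (C n * X) * (C n * X) := by noncomm_ring
      _ = 1 := by rw [h0, sub_zero]


theorem card_le (A : AddSubgroup R) [Finite R] : Nat.card A ≤ Nat.card (lim (1 + C n * X) (1 - C n * X) A) := by
  refine card_le_lim (move_inv hn).1 (W' := 1 + C n * X) (move_inv hn).1 (fun f m hd j hj => ?_) A
  rw [coeff_move hn, hd j (by omega), hd (j - 1) (by omega), hd (j - 2) (by omega)]
  simp

theorem lim_sq {A : AddSubgroup R} (hz : ∀ a ∈ A, ∀ b ∈ A, a * b = 0) {x y : R} (hx : x ∈ lim (1 + C n * X) (1 - C n * X) A)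
    (hy : y ∈ lim (1 + C n * X) (1 - C n * X) A) : x * y = 0 :=
  lim_mul_lim (move_inv hn).1 hz hx hy

theorem lim_le {A F : AddSubgroup R} (hAF : A ≤ F) (h1 : ∀ x ∈ F, n * x - x * n ∈ F)
    (h2 : ∀ x ∈ F, n * x * n ∈ F) : lim (1 + C n * X) (1 - C n * X) A ≤ F := by
  rintro w ⟨m, f, hf, -, rfl⟩
  rw [coeff_move hn]
  refine sub_mem (add_mem (hAF (hf m)) ?_) ?_
  · split
    · exact h1 _ (hAF (hf _))
    · exact zero_mem F
  · split
    · exact h2 _ (hAF (hf _))
    · exact zero_mem F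

include half in
/-- The members of the limit are in `Γ - 1`. -/
theorem one_add_lim_mem {A : AddSubgroup R} (hz : ∀ a ∈ A, ∀ b ∈ A, a * b = 0) (hA : ∀ a ∈ A, 1 + a ∈ Γ)
    (hΓ : ∀ t : ℤ, 1 + t • n ∈ Γ)
    (hnorm : ∀ t : ℤ, ∀ a ∈ A, ∀ x ∈ A, (1 + cj n t a) * x * (1 - cj n t a) ∈ A) {w : R}
    (hw : w ∈ lim (1 + C n * X) (1 - C n * X) A) : 1 + w ∈ Γ := by
  set S := A.map (cj n 0) ⊔ A.map (cj n 1) ⊔ A.map (cj n 2) with hS
  have hc0 : ∀ a ∈ A, cj n 0 a ∈ S := fun a ha =>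
    AddSubgroup.mem_sup_left (AddSubgroup.mem_sup_left ⟨a, ha, rfl⟩)
  have hc1 : ∀ a ∈ A, cj n 1 a ∈ S := fun a ha =>
    AddSubgroup.mem_sup_left (AddSubgroup.mem_sup_right ⟨a, ha, rfl⟩)
  have hc2 : ∀ a ∈ A, cj n 2 a ∈ S := fun a ha => AddSubgroup.mem_sup_right ⟨a, ha, rfl⟩
  have hq : ∀ a ∈ A, a ∈ S ∧ n * a - a * n ∈ S ∧ n * a * n ∈ S := by
    intro a ha
    have ea : cj n 0 a = a := by simp [cj_apply]
    have hn2 : n * a * n ∈ S := by
      obtain ⟨k, hk⟩ := half (n * a * n)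
      rw [← hk]
      refine zsmul_mem ?_ k
      have e := sub_mem (sub_mem (add_mem (hc1 a ha) (hc1 a ha)) (hc2 a ha)) (hc0 a ha)
      refine (congrArg (· ∈ S) ?_).mp e
      simp only [cj_apply, one_smul, two_smul, zero_smul]
      noncomm_ring
    refine ⟨ea ▸ hc0 a ha, ?_, hn2⟩
    have e := add_mem (sub_mem (hc1 a ha) (hc0 a ha)) hn2
    refine (congrArg (· ∈ S) ?_).mp e
    simp only [cj_apply, one_smul, zero_smul]
    noncomm_ring
  have hwS : w ∈ S := by
    obtain ⟨m, f, hf, -, rfl⟩ := hw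
    rw [coeff_move hn]
    refine sub_mem (add_mem (hq _ (hf m)).1 ?_) ?_
    · split
      · exact (hq _ (hf _)).2.1
      · exact zero_mem S
    · split
      · exact (hq _ (hf _)).2.2
      · exact zero_mem S
  obtain ⟨u, hu, z, hz', rfl⟩ := AddSubgroup.mem_sup.1 hwS
  obtain ⟨x, hx, y, hy, rfl⟩ := AddSubgroup.mem_sup.1 hu
  exact one_add_sum_mem half (mutual_cj hn hz hA hΓ hnorm 0 1) (mutual_cj hn hz hA hΓ hnorm 0 2)
    (mutual_cj hn hz hA hΓ hnorm 1 2) hx hy hz' (lim_sq hn hz hw hw)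

/-- The limit lies strictly deeper unless `A` is invariant. -/
theorem exists_deeper [Finite R] {A : AddSubgroup R} (F : ℕ → AddSubgroup R) (hF0 : F 0 = ⊥)
    (hmono : Monotone F) (hN : ∀ i, ∀ x ∈ F (i + 1), n * x - x * n ∈ F i ∧ n * x * n ∈ F i)
    (hns : ∃ i, ∃ a ∈ A ⊓ F i, ¬(n * a - a * n ∈ A ∧ n * a * n ∈ A)) :
    (∀ i, Nat.card ↥(A ⊓ F i) ≤ Nat.card ↥(lim (1 + C n * X) (1 - C n * X) A ⊓ F i)) ∧
      ∃ i, Nat.card ↥(A ⊓ F i) < Nat.card ↥(lim (1 + C n * X) (1 - C n * X) A ⊓ F i) ∧ ∃ a, a ∈ A ∧ a ∈ F (i + 1) ∧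
        ¬(n * a - a * n ∈ A ∧ n * a * n ∈ A) := by
  classical
  have hFs : ∀ i, ∀ x ∈ F i, n * x - x * n ∈ F i ∧ n * x * n ∈ F i := fun i x hx =>
    hN i x (hmono (Nat.le_succ i) hx)
  refine ⟨fun i => (card_le hn (A ⊓ F i)).trans (AddSubgroup.card_le_of_le (le_inf (lim_mono _ _ inf_le_left)
    (lim_le hn inf_le_right (fun x hx => (hFs i x hx).1) fun x hx => (hFs i x hx).2))), ?_⟩
  set i₀ := Nat.find hns with hi₀
  obtain ⟨a, ha, hbad⟩ := Nat.find_spec hns
  rw [← hi₀] at ha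
  rcases i₀.eq_zero_or_pos with h0 | hpos
  · exfalso
    have ha0 : a ∈ F 0 := h0 ▸ ha.2
    rw [hF0, AddSubgroup.mem_bot] at ha0
    exact hbad (by simp [ha0])
  obtain ⟨i, hi⟩ := Nat.exists_eq_add_one.2 hpos
  rw [hi] at ha
  refine ⟨i, ?_, a, ha.1, ha.2, hbad⟩
  have hlow : ∀ x ∈ A ⊓ F i, n * x - x * n ∈ A ∧ n * x * n ∈ A := fun x hx => by
    by_contra h
    exact Nat.find_min hns (show i < Nat.find hns by omega) ⟨x, hx, h⟩
  have hsub : A ⊓ F i ≤ lim (1 + C n * X) (1 - C n * X) A ⊓ F i := by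
    intro x hx
    refine ⟨mem_lim 0 (f := (1 - C n * X) * C x * (1 + C n * X)) (fun j => ?_) ?_ ?_, hx.2⟩
    · obtain ⟨h1, h2⟩ := hlow x hx
      have hn' : -n * -n = 0 := by rw [neg_mul_neg, hn]
      have e := coeff_move hn' (C x) j
      simp only [map_neg, neg_mul, sub_neg_eq_add, ← sub_eq_add_neg, mul_neg, neg_neg] at e
      rw [e]
      rcases j with - | - | - | j
      · simpa using hx.1
      · simpa [coeff_C, neg_add_eq_sub] using neg_mem h1
      · simpa [coeff_C] using neg_mem h2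
      · simpa [coeff_C] using zero_mem A
    all_goals rw [show (1 + C n * X) * ((1 - C n * X) * C x * (1 + C n * X)) * (1 - C n * X) =
      ((1 + C n * X) * (1 - C n * X)) * C x * ((1 + C n * X) * (1 - C n * X)) by noncomm_ring,
      (move_inv hn).2, one_mul, mul_one]
    · intro j hj; rw [coeff_C, if_neg (by omega)]
    · rw [coeff_C, if_pos rfl]
  obtain ⟨hd1, hd2⟩ := hN i a ha.2
  obtain ⟨w, hwL, hwF, hwA⟩ : ∃ w, w ∈ lim (1 + C n * X) (1 - C n * X) A ∧ w ∈ F i ∧ w ∉ A := by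
    by_cases hq : n * a * n ∈ A
    · have hb : n * a - a * n ∉ A := fun h => hbad ⟨h, hq⟩
      refine ⟨n * a - a * n, mem_lim 1 (f := C a + C (n * a * n) * X ^ 2)
        (add_mem (C_mem_curves ha.1) (C_mul_X_pow_mem_curves hq 2)) (fun j hj => ?_) ?_, hd1, hb⟩
      · rw [coeff_move hn]
        have z1 : n * (n * a * n) = 0 := by rw [← mul_assoc, ← mul_assoc, hn, zero_mul, zero_mul]
        have z2 : n * a * n * n = 0 := by rw [mul_assoc (n * a), hn, mul_zero]
        generalize hq' : n * a * n = q at z1 z2 ⊢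
        rcases j with - | - | - | - | - | j
        · omega
        · omega
        · simp [coeff_C, coeff_C_mul, coeff_X_pow, hq']
        · simp [coeff_C, coeff_C_mul, coeff_X_pow, z1, z2]
        · simp [coeff_C, coeff_C_mul, coeff_X_pow, z1, z2]
        · simp [coeff_C, coeff_C_mul, coeff_X_pow]
      · generalize hq' : n * a * n = q
        simp [coeff_move hn, coeff_C, coeff_C_mul, coeff_X_pow]
    · refine ⟨-(n * a * n), mem_lim 2 (f := C a) (C_mem_curves ha.1) (fun j hj => ?_) ?_, neg_mem hd2,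
        fun h => hq (by simpa using neg_mem h)⟩
      · rw [coeff_move hn, coeff_C, coeff_C, coeff_C, if_neg (by omega), if_neg (show j - 1 ≠ 0 by omega),
          if_neg (show j - 2 ≠ 0 by omega)]
        simp
      · simp [coeff_move hn, coeff_C]
  refine lt_of_le_of_ne (AddSubgroup.card_le_of_le hsub) fun e => ?_
  exact hwA ((AddSubgroup.eq_of_le_of_card_ge hsub e.ge).ge ⟨hwL, hwF⟩).1

end CfsgLib.LocalEven.DegenerationStep
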