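import Mathlib
import Cfsg.Agent.Lib.LocalEven.HalfTransitive

/-!
`2`-groups acting with point stabilisers of constant order: basic facts and the case of a normal four subgroup.
-/

set_option autoImplicit false
set_option linter.style.haveILetI false
set_option linter.unusedSectionVars false

namespace CfsgLib.LocalEven.HalfTransitive

variable {G E : Type*} [Group G] [Finite G] [AddCommGroup E] [Finite E] [DistribMulAction G E] [FaithfulSMul G E]
  {q : ℕ}

/-- The vectors fixed by an element. -/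
def fixedVec (g : G) : AddSubgroup E where
  carrier := {e | g • e = e}
  zero_mem' := smul_zero g
  add_mem' := fun {a b} ha hb => show g • (a + b) = a + b by rw [smul_add, ha, hb]
  neg_mem' := fun {a} ha => show g • (-a) = -a by rw [smul_neg, ha]

theorem mem_fixedVec {g : G} {e : E} : e ∈ fixedVec g ↔ g • e = e := Iff.rfl

/-- Odd prime exponent. -/
structure OddExp (E : Type*) [AddCommGroup E] (q : ℕ) : Prop where
  prime : q.Prime
  odd : Odd q
  nsmul : ∀ e : E, q • e = 0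

theorem OddExp.two_cancel (hq : OddExp E q) {e : E} (h : e + e = 0) : e = 0 :=
  CfsgLib.RankOne.ConstStab.eq_zero_of_nsmul Nat.prime_two hq.prime
    (fun h2 => by have := hq.odd; rw [← h2] at this; exact absurd this (by decide)) hq.nsmul (by rw [two_nsmul, h])

theorem OddExp.neg_ne (hq : OddExp E q) {e : E} (h : e ≠ 0) : -e ≠ e := fun h' =>
  h (hq.two_cancel (by nth_rewrite 1 [← h']; rw [neg_add_cancel]))

theorem OddExp.three_le (hq : OddExp E q) : 3 ≤ q := by
  have := hq.prime.two_le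
  obtain ⟨c, hc⟩ := hq.odd
  omega

theorem OddExp.card_pow [Module (ZMod q) E] (hq : OddExp E q) (A : AddSubgroup E) {a : E} (ha : a ∈ A) (ha0 : a ≠ 0) :
    ∃ d, 0 < d ∧ Nat.card A = q ^ d := by
  haveI := Fact.mk hq.prime
  have hE : Nat.card E = q ^ Module.finrank (ZMod q) E := by
    rw [Module.natCard_eq_pow_finrank (K := ZMod q), Nat.card_zmod]
  obtain ⟨d, -, hd⟩ := (Nat.dvd_prime_pow hq.prime).mp (hE ▸ A.card_addSubgroup_dvd_card)
  refine ⟨d, Nat.pos_of_ne_zero fun h => ha0 ?_, hd⟩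
  rw [h, pow_zero] at hd
  exact (AddSubgroup.mem_bot.mp ((A.eq_bot_of_card_eq hd) ▸ ha))

section neg

variable {z : G} (hz : ∀ e : E, z • e = -e)
include hz

theorem neg_comm (g : G) : z * g = g * z :=
  eq_of_smul_eq_smul (α := E) fun e => by rw [mul_smul, mul_smul, hz, hz, smul_neg]

theorem neg_mul_self : z * z = 1 :=
  eq_of_smul_eq_smul (α := E) fun e => by rw [mul_smul, hz, hz, neg_neg, one_smul]

theorem mem_fixedVec_neg {u : G} {e : E} : e ∈ fixedVec (z * u) ↔ u • e = -e := by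
  rw [mem_fixedVec, mul_smul, hz, neg_eq_iff_eq_neg]

theorem neg_mul_neg_mul (u : G) : z * (z * u) = u := by rw [← mul_assoc, neg_mul_self hz, one_mul]

variable (hq : OddExp E q)
include hq

theorem eq_zero_of_mem_both {u : G} {e : E} (h1 : e ∈ fixedVec u) (h2 : e ∈ fixedVec (z * u)) : e = 0 := by
  rw [mem_fixedVec_neg hz] at h2
  exact hq.two_cancel (by nth_rewrite 1 [← mem_fixedVec.mp h1]; rw [h2, neg_add_cancel])

theorem exists_decomp {u : G} (hu : u * u = 1) (v : E) :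
    ∃ a ∈ fixedVec (E := E) u, ∃ b ∈ fixedVec (E := E) (z * u), v = a + b := by
  obtain ⟨c, hc⟩ := hq.odd
  refine ⟨(c + 1) • (v + u • v), ?_, (c + 1) • (v - u • v), ?_, ?_⟩
  · rw [mem_fixedVec, smul_comm, smul_add, smul_smul u u, hu, one_smul, add_comm (u • v) v]
  · rw [mem_fixedVec_neg hz, smul_comm, smul_sub, smul_smul u u, hu, one_smul, ← smul_neg, neg_sub]
  · rw [← smul_add, add_add_sub_cancel, ← two_nsmul, smul_smul, show (c + 1) * 2 = q + 1 by omega, add_smul,
      hq.nsmul, zero_add, one_smul]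

theorem card_eq_mul {u : G} (hu : u * u = 1) :
    Nat.card E = Nat.card (fixedVec (E := E) u) * Nat.card (fixedVec (E := E) (z * u)) := by
  rw [← Nat.card_prod]
  refine (Nat.card_eq_of_bijective (fun x : fixedVec (E := E) u × fixedVec (E := E) (z * u) => (x.1 : E) + x.2)
    ⟨fun x y h => ?_, fun v => ?_⟩).symm
  · simp only at h
    have h' : (x.1 : E) - y.1 = y.2 - x.2 := by
      rw [sub_eq_sub_iff_add_eq_add, h, add_comm]
    have h0 := eq_zero_of_mem_both hz hq (AddSubgroup.sub_mem _ x.1.2 y.1.2)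
      (h' ▸ AddSubgroup.sub_mem _ y.2.2 x.2.2)
    refine Prod.ext (Subtype.ext (sub_eq_zero.mp h0)) (Subtype.ext (sub_eq_zero.mp ?_).symm)
    rw [← h', h0]
  · obtain ⟨a, ha, b, hb, rfl⟩ := exists_decomp hz hq hu v
    exact ⟨(⟨a, ha⟩, ⟨b, hb⟩), rfl⟩

end neg

section four

variable (hconst : ∀ a b : E, a ≠ 0 → b ≠ 0 →
      Nat.card (MulAction.stabilizer G a) = Nat.card (MulAction.stabilizer G b))
variable {z : G} (hz : ∀ e : E, z • e = -e) (hq : OddExp E q)

/-- An involution other than `±1` all whose conjugates are `u` and `z * u`. -/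
structure FourElt (z u : G) : Prop where
  sq : u * u = 1
  ne_one : u ≠ 1
  ne_neg : u ≠ z
  conj : ∀ g : G, g * u = u * g ∨ g * u = z * u * g

include hz in
theorem FourElt.other {u : G} (hu : FourElt z u) : FourElt z (z * u) where
  sq := by rw [show z * u * (z * u) = (z * (u * z)) * u by group, ← neg_comm hz u, ← mul_assoc z z u,
    neg_mul_self hz, one_mul, hu.sq]
  ne_one h := hu.ne_neg (by
    have := congrArg (z * ·) h
    simpa [neg_mul_neg_mul hz] using this)
  ne_neg h := hu.ne_one (mul_eq_left.mp h)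
  conj g := by
    rw [neg_mul_neg_mul hz, ← mul_assoc g z u, ← neg_comm hz g, mul_assoc z g u]
    rcases hu.conj g with h | h <;> rw [h]
    · left; rw [← mul_assoc z u g]
    · right; rw [← mul_assoc, neg_mul_neg_mul hz]

theorem mem_swap {u : G} {g : G} (hg : g * u = z * u * g) {e : E} (he : e ∈ fixedVec u) :
    g • e ∈ fixedVec (z * u) := by
  rw [mem_fixedVec, ← mul_smul, ← hg, mul_smul, mem_fixedVec.mp he]

theorem mem_keep {u : G} {g : G} (hg : g * u = u * g) {e : E} (he : e ∈ fixedVec u) :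
    g • e ∈ fixedVec u := by
  rw [mem_fixedVec, ← mul_smul, ← hg, mul_smul, mem_fixedVec.mp he]

include hz in
theorem mem_swap' {u : G} {g : G} (hg : g * u = z * u * g) {e : E} (he : e ∈ fixedVec (z * u)) :
    g • e ∈ fixedVec u := by
  rw [← neg_mul_neg_mul hz u]
  exact mem_swap (by rw [neg_mul_neg_mul hz, ← mul_assoc g z u, ← neg_comm hz g, mul_assoc z g u, hg, ← mul_assoc,
    neg_mul_neg_mul hz]) he

include hz in
theorem mem_keep' {u : G} {g : G} (hg : g * u = u * g) {e : E} (he : e ∈ fixedVec (z * u)) :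
    g • e ∈ fixedVec (z * u) :=
  mem_keep (by rw [← mul_assoc g z u, ← neg_comm hz g, mul_assoc z g u, hg, mul_assoc]) he

include hconst hz hq

/-- A swap carrying any fixed vector to any negated one. -/
theorem exists_swap {u : G} (hu : FourElt z u) {a b : E} (ha : a ∈ fixedVec u) (ha0 : a ≠ 0)
    (hb : b ∈ fixedVec (z * u)) (hb0 : b ≠ 0) : ∃ g : G, g * u = z * u * g ∧ g • a = b ∧ g • b = a := by
  have key : ∀ g : G, g • (a + b) = a + b → (g • a = a ∧ g • b = b) ∨
      (g * u = z * u * g ∧ g • a = b ∧ g • b = a) := by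
    intro g hg
    rw [smul_add] at hg
    rcases hu.conj g with h | h
    · left
      have h1 : g • a - a = b - g • b := by rw [sub_eq_sub_iff_add_eq_add, hg, add_comm]
      have h0 := eq_zero_of_mem_both hz hq (AddSubgroup.sub_mem _ (mem_keep h ha) ha)
        (h1 ▸ AddSubgroup.sub_mem _ hb (mem_keep' hz h hb))
      exact ⟨sub_eq_zero.mp h0, (sub_eq_zero.mp (h1 ▸ h0)).symm⟩
    · right
      refine ⟨h, ?_⟩
      have h1 : g • b - a = b - g • a := by
        rw [sub_eq_sub_iff_add_eq_add, add_comm (g • b), hg, add_comm]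
      have h0 := eq_zero_of_mem_both hz hq (AddSubgroup.sub_mem _ (mem_swap' hz h hb) ha)
        (h1 ▸ AddSubgroup.sub_mem _ hb (mem_swap h ha))
      exact ⟨(sub_eq_zero.mp (h1 ▸ h0)).symm, sub_eq_zero.mp h0⟩
  by_contra hne
  have hab : a + b ≠ 0 := fun h => ha0 (eq_zero_of_mem_both hz hq ha (by
    rw [eq_neg_of_add_eq_zero_left h]; exact neg_mem hb))
  have hle : MulAction.stabilizer G (a + b) ≤ MulAction.stabilizer G a := fun g hg => by
    rcases key g hg with h | h
    · exact h.1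
    · exact absurd ⟨g, h⟩ hne
  have heq := Subgroup.eq_of_le_of_card_ge hle (hconst a (a + b) ha0 hab).le
  have h1 : u • (a + b) = a + b := (heq ▸ (mem_fixedVec.mp ha) : u ∈ MulAction.stabilizer G (a + b))
  rw [smul_add, mem_fixedVec.mp ha, (mem_fixedVec_neg hz).mp hb] at h1
  exact hq.neg_ne hb0 (add_left_cancel h1)

/-- The stabiliser of a fixed vector acts as `±1` on the negated ones. -/
theorem pm_action {u : G} (hu : FourElt z u) {a b : E} (ha : a ∈ fixedVec u) (ha0 : a ≠ 0)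
    (hb : b ∈ fixedVec (z * u)) {h : G} (hh : h • a = a) : h • b = b ∨ h • b = -b := by
  by_cases hb0 : b = 0
  · exact Or.inl (by rw [hb0, smul_zero])
  obtain ⟨g, hg, hga, hgb⟩ := exists_swap hconst hz hq hu ha ha0 hb hb0
  set H := MulAction.stabilizer G a
  set K := H ⊓ MulAction.stabilizer G b with hK
  classical
  have hab : a + b ≠ 0 := fun h => ha0 (eq_zero_of_mem_both hz hq ha (by
    rw [eq_neg_of_add_eq_zero_left h]; exact neg_mem hb))
  have hinj : Nat.card H ≤ 2 * Nat.card K := by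
    rw [hconst a (a + b) ha0 hab]
    have hmem : ∀ x : MulAction.stabilizer G (a + b),
        ((x : G) ∈ K) ∨ (g⁻¹ * (x : G) ∈ K) := by
      intro x
      have hx : (x : G) • a + (x : G) • b = a + b := by rw [← smul_add]; exact x.2
      rcases hu.conj (x : G) with h | h
      · left
        have h1 : (x : G) • a - a = b - (x : G) • b := by rw [sub_eq_sub_iff_add_eq_add, hx, add_comm]
        have h0 := eq_zero_of_mem_both hz hq (AddSubgroup.sub_mem _ (mem_keep h ha) ha)
          (h1 ▸ AddSubgroup.sub_mem _ hb (mem_keep' hz h hb))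
        exact ⟨sub_eq_zero.mp h0, (sub_eq_zero.mp (h1 ▸ h0)).symm⟩
      · right
        have h1 : (x : G) • b - a = b - (x : G) • a := by
          rw [sub_eq_sub_iff_add_eq_add, add_comm ((x : G) • b), hx, add_comm]
        have h0 := eq_zero_of_mem_both hz hq (AddSubgroup.sub_mem _ (mem_swap' hz h hb) ha)
          (h1 ▸ AddSubgroup.sub_mem _ hb (mem_swap h ha))
        have e1 : b = (x : G) • a := sub_eq_zero.mp (h1 ▸ h0)
        have e2 : (x : G) • b = a := sub_eq_zero.mp h0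
        refine ⟨?_, ?_⟩
        · show (g⁻¹ * (x : G)) • a = a
          rw [mul_smul, ← e1, inv_smul_eq_iff, hga]
        · show (g⁻¹ * (x : G)) • b = b
          rw [mul_smul, e2, inv_smul_eq_iff, hgb]
    let f : MulAction.stabilizer G (a + b) → K ⊕ K := fun x =>
      if hx : (x : G) ∈ K then Sum.inl ⟨x, hx⟩ else Sum.inr ⟨g⁻¹ * x, (hmem x).resolve_left hx⟩
    have hf : Function.Injective f := fun x y e => by
      by_cases hx : (x : G) ∈ K <;> by_cases hy : (y : G) ∈ K <;> simp [f, hx, hy] at e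
      all_goals first | exact e | exact Subtype.ext e
    calc Nat.card (MulAction.stabilizer G (a + b)) ≤ Nat.card (K ⊕ K) := Nat.card_le_card_of_injective f hf
      _ = _ := by rw [Nat.card_sum, two_mul]
  have hKH : K ≤ H := inf_le_left
  have huH : u ∈ H := mem_fixedVec.mp ha
  have huK : u ∉ K := fun hm => hq.neg_ne hb0 (by rw [← (mem_fixedVec_neg hz).mp hb]; exact hm.2)
  by_contra hcon
  push Not at hcon
  have hhK : h ∉ K := fun hm => hcon.1 hm.2
  have hi : (K.subgroupOf H).index = 2 := by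
    have hmul := (K.subgroupOf H).card_mul_index
    rw [Nat.card_congr (Subgroup.subgroupOfEquivOfLe hKH).toEquiv] at hmul
    have h1 : (K.subgroupOf H).index ≠ 1 := fun h => huK (by
      have : (⟨u, huH⟩ : H) ∈ K.subgroupOf H := by rw [Subgroup.index_eq_one.mp h]; exact Subgroup.mem_top _
      exact this)
    have h0 : (K.subgroupOf H).index ≠ 0 := Subgroup.index_ne_zero_of_finite
    have : (K.subgroupOf H).index ≤ 2 := Nat.le_of_mul_le_mul_left (by rw [hmul]; linarith) Nat.card_pos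
    omega
  have := (Subgroup.mul_mem_iff_of_index_two (H := K.subgroupOf H) hi
    (a := (⟨u, huH⟩ : H)⁻¹) (b := ⟨h, hh⟩)).mpr (iff_of_false (fun hm => huK (Subgroup.mem_subgroupOf.mp ((K.subgroupOf H).inv_mem_iff.mp hm))) hhK)
  have h2 : (u⁻¹ * h) • b = b := this.2
  rw [mul_smul, inv_smul_eq_iff, (mem_fixedVec_neg hz).mp hb] at h2
  exact hcon.2 h2

omit hconst hz in
theorem fixes_of_pm {A : AddSubgroup E} {h : G} {x : E} (hx : x ∈ A) (hx0 : x ≠ 0) (hhx : h • x = x)
    (hpm : ∀ y ∈ A, h • y = y ∨ h • y = -y) {y : E} (hy : y ∈ A) : h • y = y := by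
  rcases hpm y hy with h1 | h1
  · exact h1
  · rcases hpm (x + y) (add_mem hx hy) with h2 | h2 <;> rw [smul_add, hhx, h1] at h2
    · rw [h1]; exact add_left_cancel h2
    · exact absurd (hq.two_cancel (eq_neg_iff_add_eq_zero.mp (by
        rw [neg_add, add_left_inj] at h2; exact h2))) hx0

/-- The stabiliser of a fixed vector is `{1, u}`. -/
theorem stab_eq {u : G} (hu : FourElt z u) {a b : E} (ha : a ∈ fixedVec u) (ha0 : a ≠ 0)
    (hb : b ∈ fixedVec (z * u)) (hb0 : b ≠ 0) {h : G} (hh : h • a = a) : h = 1 ∨ h = u := by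
  have key : ∀ k : G, k • a = a → k • b = b → k = 1 := by
    intro k hka hkb
    refine eq_of_smul_eq_smul (α := E) fun v => ?_
    obtain ⟨x, hx, y, hy, rfl⟩ := exists_decomp hz hq hu.sq v
    rw [one_smul, smul_add]
    congr 1
    · refine fixes_of_pm hq ha ha0 hka (fun w hw => ?_) hx
      exact pm_action hconst hz hq (hu.other hz) hb hb0 (by rwa [neg_mul_neg_mul hz]) hkb
    · exact fixes_of_pm hq hb hb0 hkb (fun w hw => pm_action hconst hz hq hu ha ha0 hw hka) hy
  rcases pm_action hconst hz hq hu ha ha0 hb hh with h1 | h1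
  · exact Or.inl (key h hh h1)
  · refine Or.inr ?_
    have := key (u * h) (by rw [mul_smul, hh, mem_fixedVec.mp ha])
      (by rw [mul_smul, h1, smul_neg, (mem_fixedVec_neg hz).mp hb, neg_neg])
    rw [← mul_one u, ← this, ← mul_assoc, hu.sq, one_mul]

theorem four_case [Module (ZMod q) E] (hlin : ∀ (g : G) (c : ZMod q) (e : E), g • (c • e) = c • (g • e))
    (hG : IsPGroup 2 G) {u : G} (hu : FourElt z u) (hunc : ∃ g, g * u ≠ u * g) :
    (Nat.card E = 81 ∧ q = 3) ∨
    (Nat.card E = q ^ 2 ∧ (∃ m, q = 2 ^ m + 1) ∧ ∃ e₀ e₁ : E,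
      Function.Bijective (fun f : Fin 2 → ZMod q => f 0 • e₀ + f 1 • e₁) ∧
      (∀ g : G, ∃ a s : ZMod q, a ≠ 0 ∧ (s = 1 ∨ s = -1) ∧
        ((g • e₀ = a • e₀ ∧ g • e₁ = (s * a⁻¹) • e₁) ∨ (g • e₀ = a • e₁ ∧ g • e₁ = (s * a⁻¹) • e₀))) ∧
      ∀ a s : ZMod q, a ≠ 0 → (s = 1 ∨ s = -1) →
        (∃ g : G, g • e₀ = a • e₀ ∧ g • e₁ = (s * a⁻¹) • e₁) ∧
        (∃ g : G, g • e₀ = a • e₁ ∧ g • e₁ = (s * a⁻¹) • e₀)) := by
  haveI := Fact.mk hq.prime
  obtain ⟨g₀, hg₀⟩ := hunc
  have hg₀' : g₀ * u = z * u * g₀ := (hu.conj g₀).resolve_left hg₀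
  obtain ⟨a, ha, ha0⟩ : ∃ a ∈ fixedVec (E := E) u, a ≠ 0 := by
    by_contra hne
    push Not at hne
    refine hu.ne_neg (eq_of_smul_eq_smul (α := E) fun v => ?_)
    obtain ⟨x, hx, y, hy, rfl⟩ := exists_decomp hz hq hu.sq v
    rw [hz, hne x hx, zero_add]
    exact (mem_fixedVec_neg hz).mp hy
  set A := fixedVec (E := E) u
  set B := fixedVec (E := E) (z * u)
  have hcard : Nat.card B = Nat.card A := le_antisymm
    (Nat.card_le_card_of_injective (fun e : B => (⟨g₀ • (e : E), mem_swap' hz hg₀' e.2⟩ : A))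
      fun x y h => Subtype.ext (MulAction.injective g₀ (congrArg Subtype.val h)))
    (Nat.card_le_card_of_injective (fun e : A => (⟨g₀ • (e : E), mem_swap hg₀' e.2⟩ : B))
      fun x y h => Subtype.ext (MulAction.injective g₀ (congrArg Subtype.val h)))
  obtain ⟨b₀, hb₀d⟩ : ∃ b, b = g₀ • a := ⟨_, rfl⟩
  have hb₀ : b₀ ∈ B := hb₀d ▸ mem_swap hg₀' ha
  have hb₀0 : b₀ ≠ 0 := fun h => ha0 ((smul_eq_zero_iff_eq g₀).mp (hb₀d ▸ h))
  have horb : MulAction.orbit G a = ((A : Set E) \ {0}) ∪ ((B : Set E) \ {0}) := by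
    ext e
    constructor
    · rintro ⟨g, rfl⟩
      have : g • a ≠ 0 := fun h => ha0 ((smul_eq_zero_iff_eq g).mp h)
      rcases hu.conj g with h | h
      · exact Or.inl ⟨mem_keep h ha, this⟩
      · exact Or.inr ⟨mem_swap h ha, this⟩
    · rintro (⟨he, he0⟩ | ⟨he, he0⟩)
      · obtain ⟨g, -, hga, -⟩ := exists_swap hconst hz hq hu ha ha0 hb₀ hb₀0
        obtain ⟨g', -, -, hg'b⟩ := exists_swap hconst hz hq hu he he0 hb₀ hb₀0
        exact ⟨g' * g, show (g' * g) • a = e by rw [mul_smul, hga, hg'b]⟩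
      · obtain ⟨g, -, hga, -⟩ := exists_swap hconst hz hq hu ha ha0 he he0
        exact ⟨g, hga⟩
  have hdisj : Disjoint ((A : Set E) \ {0}) ((B : Set E) \ {0}) := by
    rw [Set.disjoint_left]
    exact fun e he he' => he.2 (eq_zero_of_mem_both hz hq he.1 he'.1)
  have hstab : Nat.card (MulAction.stabilizer G a) = 2 := by
    rw [show MulAction.stabilizer G a = Subgroup.zpowers u from le_antisymm
      (fun g hg => by
        rcases stab_eq hconst hz hq hu ha ha0 hb₀ hb₀0 hg with h | h <;> rw [h]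
        · exact one_mem _
        · exact Subgroup.mem_zpowers u)
      (Subgroup.zpowers_le.mpr ha), Nat.card_zpowers]
    exact orderOf_eq_prime (by rw [pow_two, hu.sq]) hu.ne_one
  have hG4 : 4 * (Nat.card A - 1) = Nat.card G := by
    rw [← (MulAction.stabilizer G a).card_mul_index, MulAction.index_stabilizer, hstab, horb,
      Set.ncard_union_eq hdisj, Set.ncard_diff_singleton_of_mem A.zero_mem,
      Set.ncard_diff_singleton_of_mem B.zero_mem, ← Nat.card_coe_set_eq, ← Nat.card_coe_set_eq]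
    simp only [SetLike.coe_sort_coe, hcard]
    ring
  obtain ⟨n, hn⟩ := hG.exists_card_eq
  obtain ⟨m, -, hm⟩ := (Nat.dvd_prime_pow Nat.prime_two).mp (hn ▸ Dvd.intro_left 4 hG4)
  obtain ⟨d, hd, hAd⟩ := hq.card_pow A ha ha0
  have hE : Nat.card E = Nat.card A * Nat.card A := by rw [card_eq_mul hz hq hu.sq, hcard]
  rcases sub_one_eq_two_pow hq.three_le hq.odd hd (m := m) (by have := Nat.pow_pos (n := d) hq.prime.pos; omega) with
    hd1 | ⟨hq3, hd2⟩
  swap
  · exact Or.inl ⟨by rw [hE, hAd, hq3, hd2]; norm_num, hq3⟩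
  rw [hd1, pow_one] at hAd
  refine Or.inr ⟨by rw [hE, hAd, sq], ⟨m, by have := hq.prime.pos; omega⟩, ?_⟩
  obtain ⟨g, hg, hga, hgb⟩ := exists_swap hconst hz hq hu ha ha0 hb₀ hb₀0
  have hline : ∀ {C : AddSubgroup E} {x : E}, x ∈ C → x ≠ 0 → Nat.card C = q →
      ∀ y ∈ C, ∃ c : ZMod q, c • x = y := by
    intro C x hx hx0 hC y hy
    have hb := (Nat.bijective_iff_injective_and_card (fun c : ZMod q => (⟨c • x, ZMod.smul_mem hx c⟩ : C))).mpr
      ⟨fun c c' h => smul_left_injective (ZMod q) hx0 (congrArg Subtype.val h), by rw [Nat.card_zmod, hC]⟩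
    obtain ⟨c, hc⟩ := hb.2 ⟨y, hy⟩
    exact ⟨c, congrArg Subtype.val hc⟩
  have hlA := hline ha ha0 hAd
  have hlB := hline hb₀ hb₀0 (hcard.trans hAd)
  have hswap : ∀ c : ZMod q, c ≠ 0 → ∃ k : G, k * u = z * u * k ∧ k • a = c • b₀ ∧ k • b₀ = c⁻¹ • a := by
    intro c hc
    obtain ⟨k, hk, hka, hkb⟩ :=
      exists_swap hconst hz hq hu ha ha0 (ZMod.smul_mem hb₀ c) (smul_ne_zero hc hb₀0)
    refine ⟨k, hk, hka, ?_⟩
    rw [hlin] at hkb
    rw [← hkb, smul_smul, inv_mul_cancel₀ hc, one_smul]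
  have hdiag : ∀ c s : ZMod q, c ≠ 0 → (s = 1 ∨ s = -1) →
      ∃ k : G, k * u = u * k ∧ k • a = c • a ∧ k • b₀ = (s * c⁻¹) • b₀ := by
    intro c s hc hs
    obtain ⟨k, hk, hka, hkb⟩ := hswap c hc
    have h1 : (g * k) * u = u * (g * k) := by
      rw [mul_assoc, hk, ← mul_assoc, ← mul_assoc g z u, ← neg_comm hz g, mul_assoc z g u, hg, ← mul_assoc,
        neg_mul_neg_mul hz, mul_assoc]
    have h2 : (g * k) • a = c • a := by rw [mul_smul, hka, hlin, hgb]
    have h3 : (g * k) • b₀ = c⁻¹ • b₀ := by rw [mul_smul, hkb, hlin, hga]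
    rcases hs with rfl | rfl
    · exact ⟨g * k, h1, h2, by rw [h3, one_mul]⟩
    · refine ⟨u * (g * k), by rw [mul_assoc u _ u, h1], ?_, ?_⟩
      · rw [mul_smul, h2, hlin, mem_fixedVec.mp ha]
      · rw [mul_smul, h3, hlin, (mem_fixedVec_neg hz).mp hb₀, smul_neg, neg_mul, one_mul, neg_smul]
  have hN : ∀ k : G, k * u = u * k →
      ∃ c s : ZMod q, c ≠ 0 ∧ (s = 1 ∨ s = -1) ∧ k • a = c • a ∧ k • b₀ = (s * c⁻¹) • b₀ := by
    intro k hk
    obtain ⟨c, hc⟩ := hlA _ (mem_keep hk ha)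
    have hc0 : c ≠ 0 := fun h => ha0 ((smul_eq_zero_iff_eq k).mp (by rw [← hc, h, zero_smul]))
    obtain ⟨l, hl, hla, hlb⟩ := hdiag c 1 hc0 (Or.inl rfl)
    rcases stab_eq hconst hz hq hu ha ha0 hb₀ hb₀0 (h := l⁻¹ * k)
        (by rw [mul_smul, ← hc, ← hla, inv_smul_smul]) with h | h
    · obtain rfl : k = l := (inv_mul_eq_one.mp h).symm
      exact ⟨c, 1, hc0, Or.inl rfl, hla, hlb⟩
    · obtain rfl : k = l * u := by rw [← h, mul_inv_cancel_left]
      refine ⟨c, -1, hc0, Or.inr rfl, hc.symm, ?_⟩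
      rw [mul_smul, (mem_fixedVec_neg hz).mp hb₀, smul_neg, hlb, one_mul, neg_mul, one_mul, neg_smul]
  refine ⟨a, b₀, ⟨fun f f' h => ?_, fun v => ?_⟩, fun k => ?_, fun c s hc hs => ⟨?_, ?_⟩⟩
  · simp only at h
    have h' : (f 0 - f' 0) • a = (f' 1 - f 1) • b₀ := by
      rw [sub_smul, sub_smul, sub_eq_sub_iff_add_eq_add, h, add_comm]
    have h0 := eq_zero_of_mem_both hz hq (ZMod.smul_mem ha _) (h' ▸ ZMod.smul_mem hb₀ _)
    have e0 : f 0 = f' 0 := sub_eq_zero.mp ((smul_eq_zero.mp h0).resolve_right ha0)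
    have e1 : f' 1 = f 1 := sub_eq_zero.mp ((smul_eq_zero.mp (h' ▸ h0)).resolve_right hb₀0)
    funext i; fin_cases i
    · exact e0
    · exact e1.symm
  · obtain ⟨x, hx, y, hy, rfl⟩ := exists_decomp hz hq hu.sq v
    obtain ⟨c, rfl⟩ := hlA x hx
    obtain ⟨c', rfl⟩ := hlB y hy
    exact ⟨![c, c'], by simp⟩
  · rcases hu.conj k with hk | hk
    · obtain ⟨c, s, hc, hs, h1, h2⟩ := hN k hk
      exact ⟨c, s, hc, hs, Or.inl ⟨h1, h2⟩⟩
    · obtain ⟨c, s, hc, hs, h1, h2⟩ := hN (g * k) (by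
        rw [mul_assoc, hk, ← mul_assoc, ← mul_assoc g z u, ← neg_comm hz g, mul_assoc z g u, hg, ← mul_assoc,
          neg_mul_neg_mul hz, mul_assoc])
      refine ⟨c, s, hc, hs, Or.inr ⟨?_, ?_⟩⟩
      · refine MulAction.injective g (show g • k • a = g • (c • b₀) from ?_)
        rw [← mul_smul, h1, hlin, hgb]
      · refine MulAction.injective g (show g • k • b₀ = g • ((s * c⁻¹) • a) from ?_)
        rw [← mul_smul, h2, hlin, hga]
  · obtain ⟨k, -, h1, h2⟩ := hdiag c s hc hs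
    exact ⟨k, h1, h2⟩
  · obtain ⟨k, -, h1, h2⟩ := hdiag c s hc hs
    exact ⟨g * k, by rw [mul_smul, h1, hlin, hga], by rw [mul_smul, h2, hlin, hgb]⟩

end four

end CfsgLib.LocalEven.HalfTransitive
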