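import Mathlib
import Cfsg.Agent.Lib.LocalEven.HalfTransitiveFour

/-!
`2`-groups acting with point stabilisers of constant order: the case of a cyclic subgroup of index two.
-/

set_option autoImplicit false
set_option linter.style.haveILetI false
set_option linter.unusedSectionVars false

open scoped commutatorElement

namespace CfsgLib.LocalEven.HalfTransitive

open CfsgLib.TwoGroups

variable {G : Type*} [Group G] [Finite G]

/-- The modular groups have a normal four subgroup. -/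
theorem four_of_modular {a b : G} {k : ℕ} (hk : 3 ≤ k) (hG : Nat.card G = 2 ^ (k + 1)) (ha : orderOf a = 2 ^ k)
    (hb : b ∉ Subgroup.zpowers a) (hb2 : b ^ 2 = 1) (hc : b * a * b⁻¹ = a ^ (1 + 2 ^ (k - 1))) :
    ∃ U : Subgroup G, U.Normal ∧ Nat.card U = 4 ∧ ∀ x ∈ U, x * x = 1 := by
  haveI : Fact (Nat.Prime 2) := ⟨Nat.prime_two⟩
  have hi := CyclicMax.index_zpowers hG ha
  set w := a ^ (2 ^ (k - 1)) with hw
  have h2k : 2 ^ k = 2 * 2 ^ (k - 1) := by rw [← pow_succ']; congr 1; omega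
  have hww : w * w = 1 := by rw [hw, ← pow_add, ← two_mul, ← h2k, ← ha, pow_orderOf_eq_one]
  have hw1 : w ≠ 1 := pow_ne_one_of_lt_orderOf (pow_ne_zero _ (by norm_num))
    (by rw [ha]; exact Nat.pow_lt_pow_right (by norm_num) (by omega))
  have haw : b * w * b⁻¹ = w := by
    rw [hw, ← conj_pow, hc, ← pow_mul, mul_comm, pow_mul, ← hw]
    have : Odd (1 + 2 ^ (k - 1)) := by
      rw [show k - 1 = (k - 2) + 1 by omega, pow_succ]; exact ⟨2 ^ (k - 2), by ring⟩
    obtain ⟨j, hj⟩ := this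
    rw [hj, pow_succ, pow_mul, pow_two, hww, one_pow, one_mul]
  have hcase : ∀ g : G, g ∈ Subgroup.zpowers a ∨ b⁻¹ * g ∈ Subgroup.zpowers a := by
    intro g
    by_cases hg : g ∈ Subgroup.zpowers a
    · exact Or.inl hg
    · exact Or.inr ((Subgroup.mul_mem_iff_of_index_two hi).mpr (iff_of_false (by simpa using hb) hg))
  have hwa : ∀ g ∈ Subgroup.zpowers a, Commute g w := fun g hg => by
    obtain ⟨i, rfl⟩ := Subgroup.mem_zpowers_iff.mp hg
    rw [hw, ← zpow_natCast]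
    exact Commute.zpow_zpow_self a i _
  have hwc : ∀ g : G, Commute g w := by
    intro g
    rcases hcase g with h | h
    · exact hwa g h
    · rw [← mul_inv_cancel_left b g]
      exact Commute.mul_left (mul_inv_eq_iff_eq_mul.mp haw) (hwa _ h)
  haveI : (Subgroup.zpowers w).Normal := ⟨fun m hm g => by
    obtain ⟨i, rfl⟩ := Subgroup.mem_zpowers_iff.mp hm
    rw [((hwc g).zpow_right i).eq, mul_inv_cancel_right]; exact hm⟩
  have hab : ∀ g ∈ Subgroup.zpowers a, ⁅g, b⁆ ∈ Subgroup.zpowers w := by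
    intro g hg
    obtain ⟨i, rfl⟩ := Subgroup.mem_zpowers_iff.mp hg
    refine Subgroup.mem_zpowers_iff.mpr ⟨-i, ?_⟩
    rw [commutatorElement_def, show a ^ i * b * (a ^ i)⁻¹ * b⁻¹ = a ^ i * (b * a * b⁻¹) ^ (-i) by
      rw [conj_zpow]; group, hc, hw, ← zpow_natCast, ← zpow_natCast, ← zpow_mul, ← zpow_mul, ← zpow_add]
    congr 1
    push_cast
    ring
  have hcent : ∀ g : G, ⁅g, b⁆ ∈ Subgroup.zpowers w := by
    intro g
    rcases hcase g with h | h
    · exact hab g h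
    · rw [show ⁅g, b⁆ = b * ⁅b⁻¹ * g, b⁆ * b⁻¹ by simp only [commutatorElement_def]; group]
      exact (inferInstance : (Subgroup.zpowers w).Normal).conj_mem _ (hab _ h) b
  have hbb : b * b = 1 := by rw [← pow_two, hb2]
  have hbw : b ∉ Subgroup.zpowers w := fun h =>
    hb (Subgroup.zpowers_le.mpr (Subgroup.pow_mem _ (Subgroup.mem_zpowers a) _) h)
  refine ⟨_, CfsgLib.Fusion.NormalRankTwo.sup_zpowers_normal hcent, ?_, fun x hx => ?_⟩
  · rw [CfsgLib.Fusion.NormalRankTwo.sup_zpowers_card (p := 2) hbw (by rw [hb2]; exact one_mem _),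
      Nat.card_zpowers, orderOf_eq_prime (p := 2) (by rw [pow_two, hww]) hw1]
  · rw [sup_comm, Subgroup.mem_sup_of_normal_right] at hx
    obtain ⟨y, hy, v, hv, rfl⟩ := hx
    obtain ⟨i, rfl⟩ := Subgroup.mem_zpowers_iff.mp hy
    obtain ⟨j, rfl⟩ := Subgroup.mem_zpowers_iff.mp hv
    rw [((hwc b).symm.zpow_zpow j i).mul_mul_mul_comm, ← (Commute.refl b).mul_zpow,
      ← (Commute.refl w).mul_zpow, hbb, hww, one_zpow, one_zpow, mul_one]

variable {E : Type*} [AddCommGroup E] [Finite E] [DistribMulAction G E] [FaithfulSMul G E] {q : ℕ}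

/-- The vectors are partitioned by the fixed spaces of the outer involutions. -/
theorem count_outer [Module (ZMod q) E] {z : G} (hz : ∀ e : E, z • e = -e) (hq : OddExp E q)
    (hconst : ∀ a b : E, a ≠ 0 → b ≠ 0 →
      Nat.card (MulAction.stabilizer G a) = Nat.card (MulAction.stabilizer G b))
    {A : Subgroup G} (hi : A.index = 2) (hA : ∀ g ∈ A, g ≠ 1 → ∀ e : E, g • e = e → e = 0)
    {S : Set G} (hS : ∀ g, g ∈ S ↔ g ∉ A ∧ g * g = 1) (hne : S.Nonempty)
    (hconj : ∀ t ∈ S, ∃ c : G, c * t = z * t * c) :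
    ∃ d : ℕ, 0 < d ∧ Nat.card E = q ^ (2 * d) ∧ q ^ d + 1 = Nat.card S := by
  have hzz := neg_mul_self (E := E) hz
  -- all fixed spaces have square root order
  have hsq : ∀ t ∈ S, Nat.card E = Nat.card (fixedVec (E := E) t) * Nat.card (fixedVec (E := E) t) := by
    intro t ht
    obtain ⟨c, hc⟩ := hconj t ht
    rw [card_eq_mul hz hq ((hS t).mp ht).2]
    congr 1
    refine le_antisymm (Nat.card_le_card_of_injective
      (fun e : fixedVec (E := E) (z * t) => (⟨c • (e : E), mem_swap' hz hc e.2⟩ : fixedVec (E := E) t))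
      fun x y h => Subtype.ext (MulAction.injective c (congrArg Subtype.val h))) (Nat.card_le_card_of_injective
      (fun e : fixedVec (E := E) t => (⟨c • (e : E), mem_swap hc e.2⟩ : fixedVec (E := E) (z * t)))
      fun x y h => Subtype.ext (MulAction.injective c (congrArg Subtype.val h)))
  obtain ⟨t₀, ht₀⟩ := hne
  set M := Nat.card (fixedVec (E := E) t₀) with hM
  have hMeq : ∀ t ∈ S, Nat.card (fixedVec (E := E) t) = M := fun t ht =>
    Nat.mul_self_inj.mp ((hsq t ht).symm.trans (hsq t₀ ht₀))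
  obtain ⟨v₀, hv₀, hv₀0⟩ : ∃ v ∈ fixedVec (E := E) t₀, v ≠ 0 := by
    by_contra hne
    push Not at hne
    have h1 : M = 1 := by
      rw [hM, Nat.card_eq_one_iff_exists]
      exact ⟨0, fun x => Subtype.ext (hne x x.2)⟩
    haveI : Subsingleton E := (Nat.card_eq_one_iff_unique.mp (by rw [hsq t₀ ht₀, ← hM, h1])).1
    have h2 : t₀ = 1 := eq_of_smul_eq_smul (α := E) fun e => Subsingleton.elim _ _
    exact ((hS t₀).mp ht₀).1 (h2 ▸ one_mem A)
  -- stabilisers have order two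
  have hfix : ∀ v : E, v ≠ 0 → ∀ x y : G, x • v = v → y • v = v → x ≠ 1 → y ≠ 1 → x = y := by
    intro v hv x y hx hy hx1 hy1
    have hout : ∀ g : G, g • v = v → g ≠ 1 → g⁻¹ ∉ A := fun g hg hg1 hgA =>
      hv (hA g (by simpa using hgA) hg1 v hg)
    have hm : x⁻¹ * y ∈ A :=
      (Subgroup.mul_mem_iff_of_index_two hi).mpr (iff_of_false (hout x hx hx1)
        (fun h => hout y hy hy1 (A.inv_mem h)))
    by_contra hne
    exact hv (hA _ hm (fun h => hne (inv_mul_eq_one.mp h)) v (by rw [mul_smul, hy, inv_smul_eq_iff, hx]))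
  have ht₀1 : t₀ ≠ 1 := fun h => ((hS t₀).mp ht₀).1 (h ▸ one_mem A)
  have hex : ∀ v : E, v ≠ 0 → ∃ t ∈ S, t • v = v := by
    intro v hv
    haveI : Nontrivial (MulAction.stabilizer G v) := by
      rw [← Finite.one_lt_card_iff_nontrivial, hconst v v₀ hv hv₀0, Finite.one_lt_card_iff_nontrivial]
      exact ⟨⟨t₀, hv₀⟩, 1, fun h => ht₀1 (congrArg Subtype.val h)⟩
    obtain ⟨⟨x, hx⟩, hx1⟩ := exists_ne (1 : MulAction.stabilizer G v)
    have hx' : x ≠ 1 := fun h => hx1 (Subtype.ext h)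
    refine ⟨x, (hS x).mpr ⟨fun h => hv (hA x h hx' v hx), ?_⟩, hx⟩
    by_contra hsq
    exact hv (hA (x * x) (Subgroup.mul_self_mem_of_index_two hi x) hsq v (by rw [mul_smul, hx, hx]))
  classical
  haveI := Fintype.ofFinite S
  have hb : Function.Bijective (fun p : (Σ t : S, {v : E // v ≠ 0 ∧ (t : G) • v = v}) =>
      (⟨p.2.1, p.2.2.1⟩ : {v : E // v ≠ 0})) := by
    refine ⟨fun p p' h => ?_, fun v => ?_⟩
    · obtain ⟨⟨t, ht⟩, ⟨v, hv⟩⟩ := p
      obtain ⟨⟨t', ht'⟩, ⟨v', hv'⟩⟩ := p'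
      obtain rfl : v = v' := congrArg Subtype.val h
      obtain rfl : t = t' := hfix v hv.1 t t' hv.2 hv'.2 (fun h => ((hS t).mp ht).1 (h ▸ one_mem A))
        (fun h => ((hS t').mp ht').1 (h ▸ one_mem A))
      rfl
    · obtain ⟨t, ht, htv⟩ := hex v v.2
      exact ⟨⟨⟨t, ht⟩, ⟨v, v.2, htv⟩⟩, rfl⟩
  have hcount := Nat.card_eq_of_bijective _ hb
  rw [Nat.card_sigma] at hcount
  have hpc : ∀ t : S, Nat.card {v : E // v ≠ 0 ∧ (t : G) • v = v} = M - 1 := by
    intro t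
    rw [show Nat.card {v : E // v ≠ 0 ∧ (t : G) • v = v} =
        ((fixedVec (E := E) (t : G) : Set E) \ {0}).ncard from by
      rw [← Nat.card_coe_set_eq]
      exact Nat.card_congr (Equiv.subtypeEquivRight fun v => ⟨fun h => ⟨h.2, h.1⟩, fun h => ⟨h.2, h.1⟩⟩),
      Set.ncard_diff_singleton_of_mem (AddSubgroup.zero_mem _), ← Nat.card_coe_set_eq]
    exact congrArg (· - 1) (hMeq t t.2)
  simp only [hpc, Finset.sum_const, Finset.card_univ, smul_eq_mul, ← Nat.card_eq_fintype_card] at hcount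
  have hEc : Nat.card {v : E // v ≠ 0} = M * M - 1 := by
    rw [← hsq t₀ ht₀, show Nat.card {v : E // v ≠ 0} = ({0}ᶜ : Set E).ncard from Nat.card_coe_set_eq _,
      Set.ncard_compl, Set.ncard_singleton]
  obtain ⟨d, hd, hMd⟩ := hq.card_pow (fixedVec (E := E) t₀) hv₀ hv₀0
  rw [← hM] at hMd
  refine ⟨d, hd, by rw [hsq t₀ ht₀, ← hM, hMd, ← pow_add, two_mul], ?_⟩
  have hM3 : 3 ≤ M := hMd ▸ hq.three_le.trans (Nat.le_self_pow (by omega) q)
  obtain ⟨M', hM'⟩ : ∃ M', M = M' + 2 := ⟨M - 2, by omega⟩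
  rw [hEc, hM', show (M' + 2) * (M' + 2) - 1 = (M' + 3) * (M' + 1) from by
    have : (M' + 2) * (M' + 2) = (M' + 3) * (M' + 1) + 1 := by ring
    omega, show M' + 2 - 1 = M' + 1 by omega] at hcount
  have := Nat.eq_of_mul_eq_mul_right (by omega) hcount
  omega

theorem cyclic_case [Module (ZMod q) E] {z : G} (hz : ∀ e : E, z • e = -e) (hq : OddExp E q)
    (hconst : ∀ a b : E, a ≠ 0 → b ≠ 0 →
      Nat.card (MulAction.stabilizer G a) = Nat.card (MulAction.stabilizer G b))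
    (hG : IsPGroup 2 G) (hfpf : ∀ g ∈ Subgroup.center G, g * g = 1 → g ≠ 1 → g = z)
    (hno : ¬ ∃ U : Subgroup G, U.Normal ∧ Nat.card U = 4 ∧ ∀ x ∈ U, x * x = 1)
    {t : G} (ht : t * t = 1) (htnc : ∃ g, t * g ≠ g * t) :
    Nat.card E = q ^ 2 ∧ ∃ m : ℕ, q = 2 ^ m - 1 ∧
      (Nonempty (G ≃* DihedralGroup (2 ^ m)) ∨ (Cfsg.IsQuasiDihedral G ∧ Nat.card G = 2 ^ (m + 2))) := by
  have hna : ∃ x y : G, x * y ≠ y * x := ⟨t, htnc⟩
  obtain ⟨a, k, hk, ha, hcard⟩ := cyclic_index_two hG hno hna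
  obtain ⟨b, hb, hcases⟩ := Classify.classify hk hcard ha hna
  have hi := CyclicMax.index_zpowers hcard ha
  haveI := Subgroup.normal_of_index_eq_two hi
  have h2k : 2 ^ k = 2 * 2 ^ (k - 1) := by rw [← pow_succ']; congr 1; omega
  have hz' := CyclicMax.zpow_eq_iff ha
  set w := a ^ (2 ^ (k - 1)) with hw
  have hww : w * w = 1 := by rw [hw, ← pow_add, ← two_mul, ← h2k, ← ha, pow_orderOf_eq_one]
  have hw1 : w ≠ 1 := pow_ne_one_of_lt_orderOf (pow_ne_zero _ (by norm_num))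
    (by rw [ha]; exact Nat.pow_lt_pow_right (by norm_num) (by omega))
  have hcase : ∀ g : G, g ∈ Subgroup.zpowers a ∨ ∃ i : ℤ, g = b * a ^ i := by
    intro g
    by_cases hg : g ∈ Subgroup.zpowers a
    · exact Or.inl hg
    · obtain ⟨i, hi'⟩ := Subgroup.mem_zpowers_iff.mp ((Subgroup.mul_mem_iff_of_index_two hi).mpr
        (iff_of_false (by simpa using hb) hg : b⁻¹ ∈ Subgroup.zpowers a ↔ g ∈ Subgroup.zpowers a))
      exact Or.inr ⟨i, by rw [hi', mul_inv_cancel_left]⟩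
  have hwconj : ∀ g : G, g * w * g⁻¹ = w := by
    intro g
    obtain ⟨i, hi'⟩ := Subgroup.mem_zpowers_iff.mp
      ((inferInstance : (Subgroup.zpowers a).Normal).conj_mem w
        (Subgroup.pow_mem _ (Subgroup.mem_zpowers a) _) g)
    have h1 : a ^ (2 * i) = 1 := by
      rw [mul_comm, zpow_mul, hi', zpow_two]
      rw [show g * w * g⁻¹ * (g * w * g⁻¹) = g * (w * w) * g⁻¹ by group, hww]; group
    have h2 : a ^ i ≠ 1 := by
      rw [hi']; intro h; exact hw1 (by simpa using conj_eq_one_iff.mp h)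
    have h3 := orderOf_dvd_iff_zpow_eq_one.mpr h1
    rw [ha, h2k] at h3
    push_cast at h3
    obtain ⟨j, rfl⟩ := Int.dvd_of_mul_dvd_mul_left two_ne_zero h3
    rw [← hi']
    rcases Int.even_or_odd' j with ⟨j', rfl | rfl⟩
    · exfalso
      refine h2 ?_
      rw [← orderOf_dvd_iff_zpow_eq_one, ha, h2k]
      exact ⟨j', by push_cast; ring⟩
    · rw [hw, ← zpow_natCast a, hz', ← sub_eq_zero, ← Int.cast_sub, ZMod.intCast_zmod_eq_zero_iff_dvd, h2k]
      exact ⟨j', by push_cast; ring⟩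
  have hwZ : w ∈ Subgroup.center G := Subgroup.mem_center_iff.mpr fun g => mul_inv_eq_iff_eq_mul.mp (hwconj g)
  obtain rfl : w = z := hfpf w hwZ hww hw1
  have hA : ∀ g ∈ Subgroup.zpowers a, g ≠ 1 → ∀ e : E, g • e = e → e = 0 := by
    intro g hg hg1 e he
    obtain ⟨j, hj⟩ := IsPGroup.iff_orderOf.1 hG g
    rcases j with - | j
    · exact absurd (orderOf_eq_one_iff.mp (by simpa using hj)) hg1
    set x := g ^ 2 ^ j with hx
    have hxx : x * x = 1 := by rw [hx, ← pow_add, ← two_mul, ← pow_succ', ← hj, pow_orderOf_eq_one]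
    have hx1 : x ≠ 1 := pow_ne_one_of_lt_orderOf (pow_ne_zero _ (by norm_num))
      (by rw [hj]; exact Nat.pow_lt_pow_succ one_lt_two)
    obtain ⟨i, hi'⟩ := Subgroup.mem_zpowers_iff.mp (Subgroup.pow_mem _ hg (2 ^ j))
    rw [← hx] at hi'
    have hxw : x = w := by
      have h1 : a ^ (2 * i) = 1 := by rw [mul_comm, zpow_mul, hi', zpow_two, hxx]
      have h3 := orderOf_dvd_iff_zpow_eq_one.mpr h1
      rw [ha, h2k] at h3
      push_cast at h3
      obtain ⟨j', rfl⟩ := Int.dvd_of_mul_dvd_mul_left two_ne_zero h3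
      rcases Int.even_or_odd' j' with ⟨l, rfl | rfl⟩
      · exfalso
        refine hx1 ?_
        rw [← hi', ← orderOf_dvd_iff_zpow_eq_one, ha, h2k]
        exact ⟨l, by push_cast; ring⟩
      · rw [← hi', hw, ← zpow_natCast a, hz', ← sub_eq_zero, ← Int.cast_sub, ZMod.intCast_zmod_eq_zero_iff_dvd,
          h2k]
        exact ⟨l, by push_cast; ring⟩
    have h1 : x • e = e := by
      have : g ^ 2 ^ j ∈ MulAction.stabilizer G e := pow_mem (show g ∈ MulAction.stabilizer G e from he) _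
      exact this
    rw [hxw, hz] at h1
    by_contra h0
    exact hq.neg_ne h0 h1
  have hconjb : ∀ i r : ℤ, b * a * b⁻¹ = a ^ r → b * a ^ i * b⁻¹ = a ^ (r * i) := fun i r h => by
    rw [← conj_zpow, h, ← zpow_mul]
  have hsquare : ∀ i r : ℤ, b * b = 1 → b * a * b⁻¹ = a ^ r →
      (b * a ^ i) * (b * a ^ i) = a ^ (r * i + i) := by
    intro i r hbb h
    rw [show b * a ^ i * (b * a ^ i) = (b * a ^ i * b⁻¹) * (b * b) * a ^ i by group, hbb, mul_one, hconjb i r h,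
      ← zpow_add]
  have hS : ∀ g : G, g ∈ {g : G | g ∉ Subgroup.zpowers a ∧ g * g = 1} ↔
      g ∉ Subgroup.zpowers a ∧ g * g = 1 := fun g => Iff.rfl
  have hmain : ∀ (r : ℤ) (c : G), b * b = 1 → b * a * b⁻¹ = a ^ r → c * c = w →
      c ∈ Subgroup.zpowers a → b * c * b⁻¹ = c⁻¹ →
      ∃ d : ℕ, 0 < d ∧ Nat.card E = q ^ (2 * d) ∧
        q ^ d + 1 = Nat.card {g : G | g ∉ Subgroup.zpowers a ∧ g * g = 1} := by
    intro r c hbb hr hcc hcA hbc
    refine count_outer hz hq hconst hi hA hS ⟨b, hb, hbb⟩ fun g hg => ⟨c, ?_⟩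
    obtain ⟨j, rfl⟩ := (hcase g).resolve_left hg.1
    obtain ⟨l, rfl⟩ := Subgroup.mem_zpowers_iff.mp hcA
    have e2 : a ^ l * b = (a ^ l * a ^ l) * b * a ^ l := by
      rw [show (a ^ l * a ^ l) * b * a ^ l = (a ^ l * a ^ l) * (b * a ^ l * b⁻¹) * b by group, hbc]; group
    calc a ^ l * (b * a ^ j) = (a ^ l * b) * a ^ j := by group
      _ = (a ^ l * a ^ l) * b * a ^ l * a ^ j := by rw [e2]
      _ = w * (b * a ^ j) * a ^ l := by rw [hcc]; group
  have hfin : ∀ (T : ℕ) (j : ℕ), T = 2 ^ j → (∃ d : ℕ, 0 < d ∧ Nat.card E = q ^ (2 * d) ∧ q ^ d + 1 = T) →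
      Nat.card E = q ^ 2 ∧ q = 2 ^ j - 1 := by
    rintro T j rfl ⟨d, hd, hE, hd'⟩
    obtain rfl := add_one_eq_two_pow hq.three_le hq.odd hd hd'
    rw [pow_one] at hd'
    exact ⟨hE, by omega⟩
  set c := a ^ 2 ^ (k - 2) with hc
  have hcc : c * c = w := by
    rw [hc, hw, ← pow_add, ← two_mul, ← pow_succ']; congr 2; omega
  have hcA : c ∈ Subgroup.zpowers a := Subgroup.pow_mem _ (Subgroup.mem_zpowers a) _
  rcases hcases with ⟨hb2, hba⟩ | ⟨hb2, hba⟩ | ⟨hk3, hb2, hba⟩ | ⟨hk3, hb2, hba⟩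
  · -- dihedral
    have hbb : b * b = 1 := by rw [← pow_two, hb2]
    have hr : b * a * b⁻¹ = a ^ (-1 : ℤ) := by rw [hba, zpow_neg_one]
    have hbc : b * c * b⁻¹ = c⁻¹ := by rw [hc, ← conj_pow, hba, inv_pow]
    have hT : Nat.card {g : G | g ∉ Subgroup.zpowers a ∧ g * g = 1} = 2 ^ k := by
      rw [← ha, ← Nat.card_zpowers]
      refine (Nat.card_eq_of_bijective (fun x : Subgroup.zpowers a => (⟨b * x, ?_⟩ :
        {g : G | g ∉ Subgroup.zpowers a ∧ g * g = 1})) ⟨fun x y h => ?_, fun g => ?_⟩).symm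
      · obtain ⟨i, hi'⟩ := Subgroup.mem_zpowers_iff.mp x.2
        refine ⟨fun h => hb (by simpa using mul_mem h (inv_mem x.2)), ?_⟩
        rw [← hi', hsquare i _ hbb hr]; simp
      · exact Subtype.ext (mul_left_cancel (congrArg Subtype.val h))
      · obtain ⟨g, hg⟩ := g
        obtain ⟨i, rfl⟩ := (hcase g).resolve_left hg.1
        exact ⟨⟨a ^ i, Subgroup.zpow_mem_zpowers a i⟩, rfl⟩
    obtain ⟨hE, hq'⟩ := hfin _ k hT (hmain _ c hbb hr hcc hcA hbc)
    exact ⟨hE, k, hq', Or.inl (CyclicMax.dihedral_iso ha (by rw [hcard, pow_succ']) hb hbb hba)⟩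
  · -- quaternion
    exfalso
    obtain ⟨g, hg⟩ := htnc
    refine hg ?_
    rcases hcase t with h | ⟨i, rfl⟩
    · by_cases ht1 : t = 1
      · rw [ht1, one_mul, mul_one]
      obtain ⟨i, rfl⟩ := Subgroup.mem_zpowers_iff.mp h
      have h3 : (orderOf a : ℤ) ∣ 2 * i := by
        rw [orderOf_dvd_iff_zpow_eq_one, two_mul, zpow_add, ht]
      rw [ha, h2k] at h3
      push_cast at h3
      obtain ⟨j, rfl⟩ := Int.dvd_of_mul_dvd_mul_left two_ne_zero h3
      rw [zpow_mul, show a ^ ((2 : ℤ) ^ (k - 1)) = w by rw [hw, ← zpow_natCast]; norm_num]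
      exact ((Subgroup.mem_center_iff.mp ((Subgroup.center G).zpow_mem hwZ j)) g).symm
    · exfalso
      refine hw1 ?_
      rw [← ht, show b * a ^ i * (b * a ^ i) = (b * a ^ i * b⁻¹) * b ^ 2 * a ^ i by group, ← conj_zpow, hba,
        hb2, inv_zpow, hw, ← zpow_natCast, ← zpow_neg, ← zpow_add, ← zpow_add]
      congr 1
      ring
  · exact absurd (four_of_modular hk3 hcard ha hb hb2 hba) hno
  · -- semidihedral
    have hbb : b * b = 1 := by rw [← pow_two, hb2]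
    obtain ⟨l, rfl⟩ : ∃ l, k = l + 3 := ⟨k - 3, by omega⟩
    simp only [show l + 3 - 1 = l + 2 from rfl, show l + 3 - 2 = l + 1 from rfl] at hba hc hw ⊢
    have hr : b * a * b⁻¹ = a ^ ((2 : ℤ) ^ (l + 2) - 1) := by
      rw [hba, ← zpow_natCast, Nat.cast_sub Nat.one_le_two_pow]; norm_num
    have hzero : ∀ i : ℤ, (((2 : ℤ) ^ (l + 3) * i : ℤ) : ZMod (2 ^ (l + 3))) = 0 := fun i => by
      rw [ZMod.intCast_zmod_eq_zero_iff_dvd]; push_cast; exact dvd_mul_right _ _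
    have hbc : b * c * b⁻¹ = c⁻¹ := by
      rw [hc, ← zpow_natCast, hconjb _ _ hr, ← zpow_neg, hz', ← sub_eq_zero, ← Int.cast_sub]
      rw [show ((2 : ℤ) ^ (l + 2) - 1) * ((2 ^ (l + 1) : ℕ) : ℤ) - -((2 ^ (l + 1) : ℕ) : ℤ) =
        (2 : ℤ) ^ (l + 3) * 2 ^ l by push_cast; ring, hzero]
    have hT : Nat.card {g : G | g ∉ Subgroup.zpowers a ∧ g * g = 1} = 2 ^ (l + 2) := by
      have ho : orderOf (a ^ 2) = 2 ^ (l + 2) := by
        rw [orderOf_pow, ha, pow_succ', Nat.gcd_mul_right_left, Nat.mul_div_cancel_left _ two_pos]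
      rw [← ho, ← Nat.card_zpowers]
      refine (Nat.card_eq_of_bijective (fun x : Subgroup.zpowers (a ^ 2) => (⟨b * x, ?_⟩ :
        {g : G | g ∉ Subgroup.zpowers a ∧ g * g = 1})) ⟨fun x y h => ?_, fun g => ?_⟩).symm
      · obtain ⟨i, hi'⟩ := Subgroup.mem_zpowers_iff.mp x.2
        have hxA : (x : G) ∈ Subgroup.zpowers a :=
          hi' ▸ zpow_mem (Subgroup.pow_mem _ (Subgroup.mem_zpowers a) 2) i
        refine ⟨fun h => hb (by simpa using mul_mem h (inv_mem hxA)), ?_⟩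
        rw [← hi', ← zpow_natCast a 2, ← zpow_mul, hsquare _ _ hbb hr, ← zpow_zero a, hz',
          show ((2 : ℤ) ^ (l + 2) - 1) * ((2 : ℕ) * i) + (2 : ℕ) * i = (2 : ℤ) ^ (l + 3) * i by push_cast; ring,
          hzero, Int.cast_zero]
      · exact Subtype.ext (mul_left_cancel (congrArg Subtype.val h))
      · obtain ⟨g, hg⟩ := g
        obtain ⟨i, rfl⟩ := (hcase g).resolve_left hg.1
        have h2 := hg.2
        rw [hsquare _ _ hbb hr, ← orderOf_dvd_iff_zpow_eq_one, ha] at h2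
        push_cast at h2
        rw [show ((2 : ℤ) ^ (l + 2) - 1) * i + i = 2 ^ (l + 2) * i by ring, pow_succ (2 : ℤ) (l + 2)] at h2
        obtain ⟨i', rfl⟩ := Int.dvd_of_mul_dvd_mul_left (by positivity) h2
        refine ⟨⟨a ^ (2 * i'), Subgroup.mem_zpowers_iff.mpr ⟨i', ?_⟩⟩, rfl⟩
        rw [← zpow_natCast a 2, ← zpow_mul]; rfl
    obtain ⟨hE, hq'⟩ := hfin _ (l + 2) hT (hmain _ c hbb hr hcc hcA hbc)
    refine ⟨hE, l + 2, hq', Or.inr ⟨⟨l + 3, hk3, hcard, a, b, ha, ?_, hba⟩, hcard⟩⟩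
    exact orderOf_eq_prime hb2 (fun h => hb (h ▸ one_mem _))

end CfsgLib.LocalEven.HalfTransitive
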