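import Mathlib
import Cfsg.Agent.Lib.LocalEven.HalfTransitiveCyclic

/-!
`p`-groups all whose orbits on the nonzero vectors have the same size.
-/

set_option autoImplicit false
set_option linter.style.haveILetI false
set_option linter.unusedSectionVars false

namespace CfsgLib.LocalEven.HalfTransitive

variable {G E : Type*} [Group G] [Finite G] [AddCommGroup E] [Finite E] [Nontrivial E] [DistribMulAction G E]
  [FaithfulSMul G E] {q : ℕ} [Module (ZMod q) E]

theorem main_two (hq : OddExp E q) (hG : IsPGroup 2 G)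
    (hconst : ∀ a b : E, a ≠ 0 → b ≠ 0 →
      Nat.card (MulAction.stabilizer G a) = Nat.card (MulAction.stabilizer G b))
    (hlin : ∀ (g : G) (c : ZMod q) (e : E), g • (c • e) = c • (g • e)) :
    ((IsCyclic G ∨ ∃ n : ℕ, Nonempty (G ≃* QuaternionGroup n)) ∧ ∀ v : E, v ≠ 0 → ∀ g : G, g • v = v → g = 1) ∨
    (Nat.card E = 81 ∧ q = 3) ∨
    (Nat.card E = q ^ 2 ∧ (∃ m, q = 2 ^ m + 1) ∧ ∃ e₀ e₁ : E,
      Function.Bijective (fun f : Fin 2 → ZMod q => f 0 • e₀ + f 1 • e₁) ∧
      (∀ g : G, ∃ a s : ZMod q, a ≠ 0 ∧ (s = 1 ∨ s = -1) ∧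
        ((g • e₀ = a • e₀ ∧ g • e₁ = (s * a⁻¹) • e₁) ∨ (g • e₀ = a • e₁ ∧ g • e₁ = (s * a⁻¹) • e₀))) ∧
      ∀ a s : ZMod q, a ≠ 0 → (s = 1 ∨ s = -1) →
        (∃ g : G, g • e₀ = a • e₀ ∧ g • e₁ = (s * a⁻¹) • e₁) ∧
        (∃ g : G, g • e₀ = a • e₁ ∧ g • e₁ = (s * a⁻¹) • e₀)) ∨
    (Nat.card E = q ^ 2 ∧ ∃ m : ℕ, q = 2 ^ m - 1 ∧
      (Nonempty (G ≃* DihedralGroup (2 ^ m)) ∨ (Cfsg.IsQuasiDihedral G ∧ Nat.card G = 2 ^ (m + 2)))) := by
  haveI : Fact (Nat.Prime 2) := ⟨Nat.prime_two⟩
  have h2q : 2 ≠ q := fun h => by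
    have := hq.odd
    rw [← h] at this
    exact absurd this (by decide)
  -- central involutions act as `-1`
  have hneg : ∀ g ∈ Subgroup.center G, g * g = 1 → g ≠ 1 → ∀ e : E, g • e = -e := by
    intro g hg hgg hg1 e
    have := CfsgLib.RankOne.ConstStab.central_fpf (p := 2) hq.prime h2q hq.nsmul hconst hg
      (by rw [pow_two, hgg]) hg1 (a := e + g • e) (by rw [smul_add, smul_smul, hgg, one_smul, add_comm])
    exact eq_neg_of_add_eq_zero_right this
  by_cases hall : ∀ g : G, g * g = 1 → g ∈ Subgroup.center G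
  · left
    refine ⟨?_, fun v hv g hg => ?_⟩
    · have hfew : Nat.card {x : G // x ^ 2 = 1} ≤ 2 := by
        classical
        by_contra hlt
        push Not at hlt
        haveI := Fintype.ofFinite {x : G // x ^ 2 = 1}
        rw [Nat.card_eq_fintype_card, Fintype.two_lt_card_iff] at hlt
        obtain ⟨⟨x, hx⟩, ⟨y, hy⟩, ⟨w, hw⟩, hxy, hxw, hyw⟩ := hlt
        have key : ∀ x y : G, x ^ 2 = 1 → y ^ 2 = 1 → x ≠ 1 → y ≠ 1 → x = y := fun x y hx hy hx1 hy1 =>
          eq_of_smul_eq_smul (α := E) fun e => by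
            rw [hneg x (hall x (by rw [← pow_two, hx])) (by rw [← pow_two, hx]) hx1,
              hneg y (hall y (by rw [← pow_two, hy])) (by rw [← pow_two, hy]) hy1]
        simp only [ne_eq, Subtype.mk.injEq] at hxy hxw hyw
        by_cases hx1 : x = 1
        · exact hyw (key y w hy hw (fun h => hxy (hx1.trans h.symm)) (fun h => hxw (hx1.trans h.symm)))
        · by_cases hy1 : y = 1
          · exact hxw (key x w hx hw hx1 (fun h => hyw (hy1.trans h.symm)))
          · exact hxy (key x y hx hy hx1 hy1)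
      rcases CfsgLib.FrobRealize.Quaternion.cyclic_or_quaternion hG hfew with h | ⟨-, n, hn⟩
      · exact Or.inl h
      · exact Or.inr ⟨_, hn⟩
    · by_contra hg1
      obtain ⟨j, hj⟩ := IsPGroup.iff_orderOf.1 hG g
      rcases j with - | j
      · exact hg1 (orderOf_eq_one_iff.mp (by simpa using hj))
      have hxx : g ^ 2 ^ j * g ^ 2 ^ j = 1 := by rw [← pow_add, ← two_mul, ← pow_succ', ← hj, pow_orderOf_eq_one]
      have hx1 : g ^ 2 ^ j ≠ 1 := pow_ne_one_of_lt_orderOf (pow_ne_zero _ (by norm_num))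
        (by rw [hj]; exact Nat.pow_lt_pow_succ one_lt_two)
      have h1 : g ^ 2 ^ j ∈ MulAction.stabilizer G v := pow_mem (show g ∈ MulAction.stabilizer G v from hg) _
      have h2 : g ^ 2 ^ j • v = v := h1
      rw [hneg _ (hall _ hxx) hxx hx1] at h2
      exact hq.neg_ne hv h2
  · right
    push Not at hall
    obtain ⟨t, ht, htc⟩ := hall
    have htnc : ∃ g, t * g ≠ g * t := by
      by_contra h
      push Not at h
      exact htc (Subgroup.mem_center_iff.mpr fun g => (h g).symm)
    haveI : Nontrivial G := ⟨⟨t, 1, fun h => htc (h ▸ one_mem _)⟩⟩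
    obtain ⟨n, hn, hZ⟩ := ((hG.to_subgroup (Subgroup.center G)).nontrivial_iff_card).mp hG.center_nontrivial
    obtain ⟨⟨z, hzc⟩, hzo⟩ := exists_prime_orderOf_dvd_card' (G := Subgroup.center G) 2
      (by rw [hZ]; exact dvd_pow_self 2 hn.ne')
    rw [← Subgroup.orderOf_coe] at hzo
    have hz1 : z ≠ 1 := fun h => by subst h; rw [orderOf_one] at hzo; exact absurd hzo (by norm_num)
    have hzz : z * z = 1 := by rw [← pow_two, ← hzo, pow_orderOf_eq_one]
    have hz := hneg z hzc hzz hz1
    have hfpf : ∀ g ∈ Subgroup.center G, g * g = 1 → g ≠ 1 → g = z := fun g hg hgg hg1 =>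
      eq_of_smul_eq_smul (α := E) fun e => by rw [hneg g hg hgg hg1, hz]
    by_cases hno : ∃ U : Subgroup G, U.Normal ∧ Nat.card U = 4 ∧ ∀ x ∈ U, x * x = 1
    · obtain ⟨U, hUn, hU4, hUe⟩ := hno
      haveI := hUn
      haveI := hG.isNilpotent
      have hne : U ⊓ Subgroup.center G ≠ ⊥ :=
        CfsgLib.Solvable.FrattiniFitting.inf_center_ne_bot _ (fun h => by rw [h, Subgroup.card_bot] at hU4; omega)
      obtain ⟨c, ⟨hcU, hcc⟩, hc1⟩ := (Subgroup.bot_or_exists_ne_one (U ⊓ Subgroup.center G)).resolve_left hne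
      obtain rfl : c = z := hfpf c hcc (hUe c hcU) hc1
      obtain ⟨u, huU, hu1, huz⟩ : ∃ u ∈ U, u ≠ 1 ∧ u ≠ c := by
        by_contra h
        push Not at h
        have hle : (U : Set G) ⊆ {1, c} := fun x hx => by
          by_cases hx1 : x = 1
          · exact Or.inl hx1
          · exact Or.inr (h x hx hx1)
        have := Set.ncard_le_ncard hle
        rw [← Nat.card_coe_set_eq, SetLike.coe_sort_coe, hU4, Set.ncard_pair (Ne.symm hz1)] at this
        omega
      have hcu1 : c * u ≠ 1 := fun h => huz (by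
        have := congrArg (c * ·) h; simpa [← mul_assoc, hzz] using this)
      have hset : (U : Set G) = {1, c, u, c * u} := by
        refine (Set.eq_of_subset_of_ncard_le ?_ ?_).symm
        · rintro x (rfl | rfl | rfl | rfl)
          exacts [one_mem U, hcU, huU, mul_mem hcU huU]
        · have hcard : ({1, c, u, c * u} : Set G).ncard = 4 :=
            Set.ncard_eq_four.mpr ⟨1, c, u, c * u, Ne.symm hz1, Ne.symm hu1, Ne.symm hcu1, Ne.symm huz,
              fun h => hu1 (mul_eq_left.mp h.symm), fun h => hz1 (mul_eq_right.mp h.symm), rfl⟩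
          rw [hcard, ← Nat.card_coe_set_eq, SetLike.coe_sort_coe, hU4]
      have hu : FourElt c u := by
        refine ⟨hUe u huU, hu1, huz, fun g => ?_⟩
        have hm : g * u * g⁻¹ ∈ (U : Set G) := hUn.conj_mem u huU g
        rw [hset] at hm
        simp only [Set.mem_insert_iff, Set.mem_singleton_iff] at hm
        rcases hm with h | h | h | h
        · exact absurd (conj_eq_one_iff.mp h) hu1
        · refine absurd ?_ huz
          have h' : g * u = c * g := mul_inv_eq_iff_eq_mul.mp h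
          exact mul_left_cancel (h'.trans (Subgroup.mem_center_iff.mp hcc g).symm)
        · exact Or.inl (mul_inv_eq_iff_eq_mul.mp h)
        · exact Or.inr (mul_inv_eq_iff_eq_mul.mp h)
      have hunc : ∃ g, g * u ≠ u * g := by
        by_contra h
        push Not at h
        exact huz (hfpf u (Subgroup.mem_center_iff.mpr h) (hUe u huU) hu1)
      rcases four_case hconst hz hq hlin hG hu hunc with h | h
      · exact Or.inl h
      · exact Or.inr (Or.inl h)
    · exact Or.inr (Or.inr (cyclic_case hz hq hconst hG hfpf hno ht htnc))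

end CfsgLib.LocalEven.HalfTransitive
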