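/-
p-closed groups, p-irreducible groups and groups minimal over a subgroup.
-/
import Cfsg.Agent.Lib.LocalEven.PReduced

set_option autoImplicit false

open scoped commutatorElement

namespace CfsgLib.LocalEven.Irreducible

open Cfsg CfsgLib.Fusion.Basic CfsgLib.LocalEven.SylowIn CfsgLib.LocalEven.PReduced

variable {G : Type*} [Group G] [Finite G] {p : ℕ} [Fact p.Prime]

theorem isPClosed_iff_le (T : Sylow p G) : IsPClosed p G ↔ (T : Subgroup G) ≤ pCore p G := by
  refine ⟨fun h => ?_, fun h P => ?_⟩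
  · haveI := h T
    exact SylowIn.le_pCore T.2
  · haveI := SylowIn.pCore_normal G p
    have e : (T : Subgroup G) = pCore p G := (T.3 (SylowIn.isPGroup_pCore G p) h).symm
    have e' : pCore p G = (P : Subgroup G) := by
      refine Subgroup.eq_of_le_of_card_ge ((SylowIn.isPGroup_pCore G p).le_sylow_of_normal P) ?_
      rw [← e, T.card_eq_multiplicity, P.card_eq_multiplicity]
    rw [← e']
    infer_instance

/-- A subgroup is `p`-closed iff it normalizes one (any) of its Sylow subgroups. -/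
theorem isPClosed_iff_normalizer {N S : Subgroup G} (hS : IsSylowIn p S N) :
    IsPClosed p N ↔ N ≤ Subgroup.normalizer (S : Set G) := by
  refine ⟨fun h => (Subgroup.normal_subgroupOf_iff_le_normalizer hS.1).1 (h hS.toSylow), fun h => ?_⟩
  rw [isPClosed_iff_le hS.toSylow]
  haveI : (hS.toSylow : Subgroup N).Normal := (Subgroup.normal_subgroupOf_iff_le_normalizer hS.1).2 h
  exact SylowIn.le_pCore hS.toSylow.2

/-- A normal subgroup is `p`-closed iff it meets the Sylow subgroup inside `O_p`. -/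
theorem isPClosed_normal_iff (T : Sylow p G) (N : Subgroup G) [N.Normal] :
    IsPClosed p N ↔ (T : Subgroup G) ⊓ N ≤ pCore p G := by
  have hn : (⊤ : Subgroup G) ≤ Subgroup.normalizer (N : Set G) := (Subgroup.normalizer_eq_top (H := N)).ge
  have hS := IsSylowIn.inf_normal (isSylowIn_of_sylow T (L := ⊤) le_top) le_top hn
  rw [isPClosed_iff_normalizer hS]
  refine ⟨fun h => ?_, fun h => ?_⟩
  · have h2 : (⊤ : Subgroup G) ≤ Subgroup.normalizer (((T : Subgroup G) ⊓ N : Subgroup G) : Set G) := by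
      intro g hg
      obtain ⟨l, hl, n, hn', rfl⟩ := frattini_argument hS hn le_top hg
      exact mul_mem (h hl) hn'.2
    haveI : ((T : Subgroup G) ⊓ N).Normal := Subgroup.normalizer_eq_top_iff.1 (top_le_iff.1 h2)
    exact SylowIn.le_pCore hS.2.1
  · have e : pCore p G ⊓ N = (T : Subgroup G) ⊓ N :=
      hS.2.2 _ inf_le_right ((SylowIn.isPGroup_pCore G p).to_le inf_le_left) (le_inf h inf_le_right)
    rw [← e]
    haveI := SylowIn.pCore_normal G p
    exact normalizer_inf ((Subgroup.normalizer_eq_top (H := pCore p G)).symm ▸ le_top) Subgroup.le_normalizer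

theorem le_pCore_of_le_closed {N U : Subgroup G} [hN : N.Normal] (hc : IsPClosed p N) (hU : U ≤ N)
    (hp : IsPGroup p U) : U ≤ pCore p G := by
  obtain ⟨T, hT⟩ := hp.exists_le_sylow
  exact (le_inf hT hU).trans ((isPClosed_normal_iff T N).1 hc)

theorem not_isPClosed_of_mem {N U : Subgroup G} [N.Normal] (hU : U ≤ N) (hp : IsPGroup p U)
    (hne : ¬ U ≤ pCore p G) : ¬ IsPClosed p N := fun h => hne (le_pCore_of_le_closed h hU hp)

/-- `O^p(G) ≤ N` as soon as `N T = G`. -/
theorem pResidual_le_of_sup_eq_top (T : Sylow p G) {N : Subgroup G} [N.Normal]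
    (h : N ⊔ (T : Subgroup G) = ⊤) : pResidual p G ≤ N := by
  refine (Subgroup.closure_le _).2 fun x hx => ?_
  exact coprime_mem_sup ((Subgroup.normalizer_eq_top (H := N)).symm ▸ le_top)
    (fun y hy hc => by rw [eq_one_of_coprime_of_isPGroup T.2 hy hc]; exact one_mem _)
    (N := (T : Subgroup G)) (C := N) (by rw [sup_comm, h]; exact Subgroup.mem_top x) hx

theorem sylow_normalClosure_sup (T : Sylow p G) {N : Subgroup G} (h : pResidual p G ≤ N)
    (hT : (T : Subgroup G) ≤ N) : N = ⊤ :=
  top_le_iff.1 ((pResidual_sup_sylow T).ge.trans (sup_le h hT))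

theorem isPIrreducible_iff (T : Sylow p G) :
    IsPIrreducible p G ↔ ¬ (T : Subgroup G) ≤ pCore p G ∧
      ∀ N : Subgroup G, N.Normal → ¬ (T : Subgroup G) ⊓ N ≤ pCore p G → pResidual p G ≤ N := by
  unfold IsPIrreducible
  rw [isPClosed_iff_le T]
  refine and_congr_right fun _ => ⟨fun h N hN hne => ?_, fun h N hN hne => ?_⟩
  · haveI := hN; exact h N hN (fun hc => hne ((isPClosed_normal_iff T N).1 hc))
  · haveI := hN; exact h N hN (fun hc => hne ((isPClosed_normal_iff T N).2 hc))

/-! ### Groups minimal over a subgroup -/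

omit [Finite G] [Fact p.Prime] in
theorem eq_of_coatom {Y : Subgroup G} (h : IsMinimalOver Y) {M K : Subgroup G} (hM : IsCoatom M) (hYM : Y ≤ M)
    (hK : IsCoatom K) (hYK : Y ≤ K) : K = M :=
  h.2.unique ⟨hK, hYK⟩ ⟨hM, hYM⟩

omit [Fact p.Prime] in
theorem le_of_ne_top {Y : Subgroup G} (h : IsMinimalOver Y) {M X : Subgroup G} (hM : IsCoatom M) (hYM : Y ≤ M)
    (hX : X ≠ ⊤) (hYX : Y ≤ X) : X ≤ M := by
  obtain ⟨K, hK, hle⟩ := (eq_top_or_exists_le_coatom X).resolve_left hX
  exact hle.trans (eq_of_coatom h hM hYM hK (hYX.trans hle)).le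

omit [Finite G] [Fact p.Prime] in
theorem not_le_of_normal {Y : Subgroup G} (h : IsMinimalOver Y) {N : Subgroup G} [N.Normal] (hY : Y ≤ N) :
    N = ⊤ :=
  top_le_iff.1 (h.1.ge.trans (Subgroup.normalClosure_le_normal hY))

omit [Fact p.Prime] in
theorem normalizer_coatom_eq {Y : Subgroup G} (h : IsMinimalOver Y) {M : Subgroup G} (hM : IsCoatom M)
    (hYM : Y ≤ M) : Subgroup.normalizer (M : Set G) = M := by
  refine le_antisymm ?_ Subgroup.le_normalizer
  refine le_of_ne_top h hM hYM (fun he => ?_) (hYM.trans Subgroup.le_normalizer)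
  haveI : M.Normal := Subgroup.normalizer_eq_top_iff.1 he
  exact hM.1 (not_le_of_normal h hYM)

omit [Fact p.Prime] in
theorem sup_conj_eq_top {Y : Subgroup G} (h : IsMinimalOver Y) {M : Subgroup G} (hM : IsCoatom M)
    (hYM : Y ≤ M) {g : G} (hg : g ∉ M) : Y ⊔ Y.map (MulAut.conj g).toMonoidHom = ⊤ := by
  by_contra hne
  have hle := le_of_ne_top h hM hYM hne le_sup_left
  refine hg ((normalizer_coatom_eq h hM hYM).le ?_)
  have h1 : Y ≤ M.map (MulAut.conj g⁻¹).toMonoidHom := by
    have := Subgroup.map_mono (f := (MulAut.conj g⁻¹).toMonoidHom) (le_sup_right.trans hle)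
    rwa [map_conj_conj, inv_mul_cancel, map_conj_one] at this
  have h2 : IsCoatom (M.map (MulAut.conj g⁻¹).toMonoidHom) :=
    ((MulAut.conj g⁻¹).mapSubgroup.isCoatom_iff M).2 hM
  have h3 := eq_of_coatom h hM hYM h2 h1
  have := inv_mem (map_conj_eq_iff.1 h3)
  rwa [inv_inv] at this

theorem isPIrreducible_of_isMinimalOver (T : Sylow p G) (h : IsMinimalOver (T : Subgroup G)) :
    IsPIrreducible p G := by
  obtain ⟨M, hM, hTM⟩ := h.2.exists
  rw [isPIrreducible_iff T]
  refine ⟨fun hle => ?_, fun N hN hne => ?_⟩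
  · haveI := SylowIn.pCore_normal G p
    exact hM.1 (top_le_iff.1 ((not_le_of_normal h hle).ge.trans
      (((T.3 (SylowIn.isPGroup_pCore G p) hle)).le.trans hTM)))
  · haveI := hN
    set U := (T : Subgroup G) ⊓ N
    have hn : (⊤ : Subgroup G) ≤ Subgroup.normalizer (N : Set G) := (Subgroup.normalizer_eq_top (H := N)).ge
    have hS := IsSylowIn.inf_normal (isSylowIn_of_sylow T (L := ⊤) le_top) le_top hn
    refine pResidual_le_of_sup_eq_top T (by_contra fun htop => hM.1 (top_le_iff.1 fun g _ => ?_))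
    have hNT : N ⊔ (T : Subgroup G) ≤ M := le_of_ne_top h hM hTM htop le_sup_right
    have hne' : Subgroup.normalizer (U : Set G) ≠ ⊤ := fun he => hne (by
      haveI : U.Normal := Subgroup.normalizer_eq_top_iff.1 he
      exact SylowIn.le_pCore hS.2.1)
    have hle : Subgroup.normalizer (U : Set G) ≤ M := le_of_ne_top h hM hTM hne'
      (normalizer_inf Subgroup.le_normalizer ((le_top : (T : Subgroup G) ≤ ⊤).trans hn))
    obtain ⟨l, hl, n, hn', rfl⟩ := frattini_argument hS hn le_top (Subgroup.mem_top g)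
    exact mul_mem ((le_sup_left.trans hNT) hl) (hle hn'.2)

end CfsgLib.LocalEven.Irreducible
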