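/-
For odd `p`, an element of order prime to `p` centralizing the elements of order `p` of a `p`-group it
normalizes centralizes the group.
-/
import Cfsg.Agent.Lib.LocalEven.PReduced
import Cfsg.Agent.Lib.PGroup.Frattini

set_option autoImplicit false

open scoped commutatorElement

namespace CfsgLib.LocalEven.OmegaLemma

open CfsgLib.LocalEven.SylowIn CfsgLib.LocalEven.PReduced

variable {G : Type*} [Group G]

/-- The power formula in class two. -/
theorem mul_pow_of_central {u v c : G} (h : v * u = c * u * v) (hu : c * u = u * c) (hv : c * v = v * c) :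
    ∀ n : ℕ, (u * v) ^ n = c ^ n.choose 2 * u ^ n * v ^ n := by
  have hvu : ∀ n : ℕ, v ^ n * u = c ^ n * u * v ^ n := by
    intro n
    induction n with
    | zero => simp
    | succ n ih =>
      calc v ^ (n + 1) * u = v * (v ^ n * u) := by rw [pow_succ', mul_assoc]
        _ = v * c ^ n * u * v ^ n := by rw [ih]; group
        _ = c ^ n * (v * u) * v ^ n := by rw [← (Commute.pow_left hv n).eq]; group
        _ = c ^ (n + 1) * u * v ^ (n + 1) := by rw [h, pow_succ c, pow_succ' v]; group
  intro n
  induction n with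
  | zero => simp
  | succ n ih =>
    calc (u * v) ^ (n + 1) = c ^ n.choose 2 * u ^ n * (v ^ n * u) * v := by rw [pow_succ, ih]; group
      _ = c ^ n.choose 2 * (u ^ n * c ^ n) * u * v ^ n * v := by rw [hvu]; group
      _ = c ^ n.choose 2 * c ^ n * (u ^ n * u) * (v ^ n * v) := by
        rw [((Commute.pow_pow hu n n).symm).eq]; group
      _ = _ := by
        rw [← pow_succ, ← pow_succ, ← pow_add, Nat.choose_succ_succ' n 1, Nat.choose_one_right,
          Nat.add_comm (n.choose 2)]

variable [Finite G] {p : ℕ} [Fact p.Prime]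

theorem mem_centralizer_of_omega (hp : p ≠ 2) {P : Subgroup G} (hP : IsPGroup p P) {x : G}
    (hx : x ∈ Subgroup.normalizer (P : Set G)) (hc : (orderOf x).Coprime p)
    (hΩ : ∀ y ∈ P, y ^ p = 1 → x * y = y * x) : x ∈ Subgroup.centralizer (P : Set G) := by
  induction hk : Nat.card P using Nat.strong_induction_on generalizing P with
  | _ k ih =>
    have small : ∀ D : Subgroup G, D ≤ P → D ≠ P → x ∈ Subgroup.normalizer (D : Set G) →
        x ∈ Subgroup.centralizer (D : Set G) := fun D hD hne hxD =>
      ih _ (hk ▸ lt_of_le_of_ne (Subgroup.card_le_of_le hD)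
        fun h => hne (Subgroup.eq_of_le_of_card_ge hD h.ge)) (hP.to_le hD) hxD (fun y hy => hΩ y (hD hy)) rfl
    by_cases hb : P = ⊥
    · subst hb
      exact Subgroup.mem_centralizer_iff.2 fun g hg => by simp [Subgroup.mem_bot.1 hg]
    set A := Subgroup.zpowers x
    have hAP : A ≤ Subgroup.normalizer (P : Set G) := Subgroup.zpowers_le.2 hx
    have hDP : ⁅P, A⁆ ≤ P := Subgroup.le_normalizer_iff_commutator_le_left.1 hAP
    by_cases hD : ⁅P, A⁆ = P
    swap
    · have h1 := small _ hDP hD
        ((normalizer_commutator hAP Subgroup.le_normalizer) (Subgroup.mem_zpowers x))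
      have h2 : ⁅P, A⁆ = ⊥ := by
        refine CfsgLib.Coprime.commutator_eq_bot_of_commutator_commutator ?_ ?_
        · rw [Nat.card_zpowers]
          exact CfsgLib.LocalEven.Residual.mem_of_coprime_card (hP.to_le hDP) hc
        · rw [Subgroup.commutator_comm, Subgroup.commutator_eq_bot_iff_le_centralizer]
          exact Subgroup.zpowers_le.2 h1
      rw [Subgroup.commutator_comm, Subgroup.commutator_eq_bot_iff_le_centralizer] at h2
      exact h2 (Subgroup.mem_zpowers x)
    set M := (frattini P).map P.subtype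
    have hMP : M ≤ P := Subgroup.map_subtype_le _
    have hMne : M ≠ P := by
      haveI : Nontrivial P := (Subgroup.nontrivial_iff_ne_bot P).2 hb
      intro he
      have h1 : frattini P = ⊤ :=
        Subgroup.map_injective P.subtype_injective (he.trans (by rw [← MonoidHom.range_eq_map, Subgroup.range_subtype]))
      obtain ⟨W, hW, -⟩ := (eq_top_or_exists_le_coatom (⊥ : Subgroup P)).resolve_left bot_ne_top
      exact hW.1 (top_le_iff.1 (h1 ▸ frattini_le_coatom hW))
    have hPM : P ≤ Subgroup.normalizer (M : Set G) := by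
      refine (Subgroup.normal_subgroupOf_iff_le_normalizer hMP).1 ?_
      rw [Subgroup.subgroupOf, Subgroup.comap_map_eq_self_of_injective P.subtype_injective]
      infer_instance
    have hxM : x ∈ Subgroup.normalizer (M : Set G) := by
      let e : P ≃* P :=
        { toFun := fun a => ⟨x * a * x⁻¹, (Subgroup.mem_normalizer_iff.1 hx a).1 a.2⟩
          invFun := fun a => ⟨x⁻¹ * a * x, (Subgroup.mem_normalizer_iff''.1 hx a).1 a.2⟩
          left_inv := fun a => Subtype.ext (by simp [mul_assoc])
          right_inv := fun a => Subtype.ext (by simp [mul_assoc])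
          map_mul' := fun a b => Subtype.ext (by simp [mul_assoc]) }
      refine map_conj_eq_iff.1 ?_
      rw [Subgroup.map_map, show ((MulAut.conj x).toMonoidHom.comp P.subtype) = P.subtype.comp e.toMonoidHom from
        MonoidHom.ext fun a => rfl, ← Subgroup.map_map]
      congr 1
      exact Subgroup.characteristic_iff_map_eq.1 inferInstance e
    have hxcM := small M hMP hMne hxM
    -- `M` is central in `P`
    have hcen : M ≤ Subgroup.centralizer (P : Set G) := by
      have h1 : ⁅⁅A, M⁆, P⁆ = ⊥ := by
        rw [show ⁅A, M⁆ = ⊥ from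
          Subgroup.commutator_eq_bot_iff_le_centralizer.2 (Subgroup.zpowers_le.2 hxcM), Subgroup.commutator_bot_left]
      have h2 : ⁅⁅M, P⁆, A⁆ = ⊥ := by
        rw [Subgroup.commutator_eq_bot_iff_le_centralizer]
        exact (Subgroup.le_normalizer_iff_commutator_le_left.1 hPM).trans
          (Subgroup.le_centralizer_iff.1 (Subgroup.zpowers_le.2 hxcM))
      have h3 := Subgroup.commutator_commutator_eq_bot_of_rotate h1 h2
      rw [hD, Subgroup.commutator_comm, Subgroup.commutator_eq_bot_iff_le_centralizer] at h3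
      exact h3
    have hpow : ∀ a ∈ P, a ^ p ∈ M := fun a ha =>
      ⟨_, CfsgLib.PGroup.Frattini.pow_mem_frattini hP (⟨a, ha⟩ : P), rfl⟩
    have hcomm : ∀ a ∈ P, ∀ b ∈ P, ⁅a, b⁆ ∈ M := fun a ha b hb =>
      ⟨_, CfsgLib.PGroup.Frattini.commutatorElement_mem_frattini hP (⟨a, ha⟩ : P) ⟨b, hb⟩, rfl⟩
    have hcc : ∀ z ∈ M, ∀ w ∈ P, z * w = w * z :=
      fun z hz w hw => (Subgroup.mem_centralizer_iff.1 (hcen hz) w hw).symm
    set N := Subgroup.closure {z | z ∈ P ∧ z ^ p = 1}
    refine Subgroup.mem_centralizer_iff.2 fun a ha => ?_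
    refine ((CfsgLib.Coprime.commute_of_stabilizes (N := N) ?_ ?_ ?_).eq).symm
    · exact CfsgLib.LocalEven.Residual.mem_of_coprime_card
        (hP.to_le ((Subgroup.closure_le _).2 fun z hz => hz.1)) hc
    · rw [Subgroup.centralizer_closure]
      exact Subgroup.mem_centralizer_iff.2 fun z hz => (hΩ z hz.1 hz.2).symm
    · set b := x * a * x⁻¹
      have hb' : b ∈ P := (Subgroup.mem_normalizer_iff.1 hx a).1 ha
      have ha' : a⁻¹ ∈ P := inv_mem ha
      have hbp : b ^ p = a ^ p := by
        rw [conj_pow, (Subgroup.mem_centralizer_iff.1 hxcM _ (hpow a ha)).symm, mul_inv_cancel_right]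
      set c := ⁅a⁻¹, b⁆
      have hcM : c ∈ M := hcomm _ ha' _ hb'
      have hcp : c ^ p = 1 := by
        have h1 : a⁻¹ * b * (a⁻¹)⁻¹ = c * b := by simp [c, commutatorElement_def, mul_assoc]
        have h2 : (c * b) ^ p = a⁻¹ * b ^ p * (a⁻¹)⁻¹ := by rw [← h1, conj_pow]
        rw [(show Commute c b from hcc c hcM b hb').mul_pow,
          ← hcc _ (hpow b hb') a⁻¹ ha', mul_assoc, mul_inv_cancel, mul_one] at h2
        exact mul_eq_right.1 h2
      have hba : (b * a⁻¹) ^ p = 1 := by
        rw [mul_pow_of_central (c := c) (by simp [c, commutatorElement_def, mul_assoc]) (hcc c hcM b hb')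
          (hcc c hcM a⁻¹ ha') p]
        obtain ⟨m, hm⟩ := (Fact.out : p.Prime).dvd_choose_self two_ne_zero
          (lt_of_le_of_ne (Fact.out : p.Prime).two_le (Ne.symm hp))
        rw [hm, pow_mul, hcp, one_pow, one_mul, hbp, inv_pow, mul_inv_cancel]
      rw [commutatorElement_def]
      exact Subgroup.subset_closure ⟨mul_mem hb' ha', hba⟩

end CfsgLib.LocalEven.OmegaLemma
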