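/-
Groups of parabolic characteristic p: the subgroups over a Sylow subgroup, existence of members with the
basic property, and the asymmetric case.
-/
import Cfsg.Agent.Lib.LocalEven.WeakClosure
import Cfsg.Agent.Lib.LocalEvenB.CharP
import Cfsg.Agent.S2824

set_option autoImplicit false

open scoped commutatorElement

namespace CfsgLib.LocalEven.Parabolic

open Cfsg CfsgLib.LocalEven.SylowIn CfsgLib.LocalEven.PReduced CfsgLib.LocalEven.WeakClosure

variable {G : Type*} [Group G] [Finite G] {p : ℕ} [Fact p.Prime]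

/-- A subgroup of a `p`-local group of characteristic `p`, over a Sylow subgroup, has characteristic `p`. -/
theorem charP_of_parabolic (hG : IsOfParabolicCharacteristic p G) (T : Sylow p G) {R L : Subgroup G}
    (hR : IsPGroup p R) (hR1 : R ≠ ⊥) (hTL : (T : Subgroup G) ≤ L) (hLR : L ≤ Subgroup.normalizer (R : Set G)) :
    L ⊓ Subgroup.centralizer (pCoreOf p L : Set G) ≤ pCoreOf p L := by
  set N := Subgroup.normalizer (R : Set G)
  have hN := hG R hR hR1 ⟨T, hTL.trans hLR⟩
  have hT := isSylowIn_of_sylow T (hTL.trans hLR)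
  have h := LocalEvenB.CharP.charP_of_ge hN hT.toSylow (Q := hT.toSylow.toSubgroup) le_rfl
    Subgroup.le_normalizer inf_le_left (L.subgroupOf N) (fun x hx => hTL hx)
  exact (charP_iff L).1 (LocalEvenB.CharP.charP_congr (Subgroup.subgroupOfEquivOfLe hLR) h)

theorem charP_of_pCoreOf_ne (hG : IsOfParabolicCharacteristic p G) (T : Sylow p G) {L : Subgroup G}
    (hTL : (T : Subgroup G) ≤ L) (hL : pCoreOf p L ≠ ⊥) :
    L ⊓ Subgroup.centralizer (pCoreOf p L : Set G) ≤ pCoreOf p L :=
  charP_of_parabolic hG T (isPGroup_pCoreOf L) hL hTL (normalizer_pCoreOf L)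

theorem mem_charP_iff (hG : IsOfParabolicCharacteristic p G) (T : Sylow p G) {L : Subgroup G}
    (hTL : (T : Subgroup G) ≤ L) : L ∈ charPSubgroups p G ↔ pCoreOf p L ≠ ⊥ := by
  have e : pCoreOf p L = (pCore p L).map L.subtype := rfl
  refine ⟨fun h hb => h.1 ((Subgroup.map_eq_bot_iff_of_injective _ L.subtype_injective).1 (e ▸ hb)),
    fun h => ⟨fun hb => h (by rw [e, hb, Subgroup.map_bot]), ?_⟩⟩
  rw [← e]
  set O := pCoreOf p L
  set N := Subgroup.normalizer (O : Set G)
  have hTN : (T : Subgroup G) ≤ N := hTL.trans (normalizer_pCoreOf (p := p) L)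
  have hT := isSylowIn_of_sylow T hTN
  have hN := hG O (isPGroup_pCoreOf L) h ⟨T, hTN⟩
  have hc := charP_of_pCoreOf_ne hG T hTL h
  have hON : O ≤ N := Subgroup.le_normalizer
  have key := LocalEvenB.CharP.centralizer_le_of_sylow hN hT.toSylow (Q := O.subgroupOf N)
    (fun t ht => ?_) (fun x hx => ?_)
  · intro x hx
    exact key (x := ⟨x, Subgroup.centralizer_le_normalizer _ hx⟩)
      (Subgroup.mem_centralizer_iff.2 fun y hy => Subtype.ext (hx y hy))
  · exact Subgroup.mem_normalizer_iff.2 fun y => Subgroup.mem_normalizer_iff.1 (hTN ht) y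
  · exact hc ⟨hTL hx.1, fun q hq => congrArg Subtype.val (hx.2 (⟨q, hON hq⟩ : N) hq)⟩

theorem sylow_ne_bot {T : Sylow p G} {L : Subgroup G} (hTL : (T : Subgroup G) ≤ L) (hL : pCoreOf p L ≠ ⊥) :
    (T : Subgroup G) ≠ ⊥ := fun h =>
  hL (le_bot_iff.1 ((pCoreOf_le_sylowIn (isSylowIn_of_sylow T hTL)).trans h.le))

theorem omegaCenter_ne_bot {T : Subgroup G} (hT : IsPGroup p T) (hT1 : T ≠ ⊥) : omegaCenter p T ≠ ⊥ := by
  haveI : Nontrivial T := (Subgroup.nontrivial_iff_ne_bot T).2 hT1
  haveI := hT.center_nontrivial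
  have hd : p ∣ Nat.card (Subgroup.center T) :=
    ((hT.to_subgroup (Subgroup.center T)).card_eq_or_dvd).resolve_left
      (by have := Finite.one_lt_card (α := Subgroup.center T); omega)
  obtain ⟨z, hz⟩ := exists_prime_orderOf_dvd_card' p hd
  have hz' : orderOf ((z : T) : G) = p := by rwa [Subgroup.orderOf_coe, Subgroup.orderOf_coe]
  intro h
  have hm : ((z : T) : G) ∈ omegaCenter p T := Subgroup.subset_closure
    ⟨⟨(z : T).2, Subgroup.mem_centralizer_iff.2 fun y hy =>
      congrArg Subtype.val (Subgroup.mem_center_iff.1 z.2 ⟨y, hy⟩)⟩, hz' ▸ pow_orderOf_eq_one _⟩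
  rw [h, Subgroup.mem_bot] at hm
  rw [hm, orderOf_one] at hz'
  exact (Fact.out : p.Prime).one_lt.ne hz'

/-- `Y_L ≠ 1` for a member over a Sylow subgroup. -/
theorem largest_ne_bot (hG : IsOfParabolicCharacteristic p G) (T : Sylow p G) {L : Subgroup G}
    (hTL : (T : Subgroup G) ≤ L) (hL : pCoreOf p L ≠ ⊥) : largestPReducedOf p L ≠ ⊥ := fun h =>
  omegaCenter_ne_bot T.2 (sylow_ne_bot hTL hL) (le_bot_iff.1
    (((omegaCenter_le_sylowCenterClosure (isSylowIn_of_sylow T hTL)).trans
      (sylowCenterClosure_le_largest (charP_of_pCoreOf_ne hG T hTL hL))).trans h.le))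

theorem pCoreOf_ne_bot_of_reduced {V L : Subgroup G} (h : IsReducedIn p V L) (hV : V ≠ ⊥) :
    pCoreOf p L ≠ ⊥ := fun hb => hV (le_bot_iff.1 (h.le_pCoreOf.trans hb.le))

/-- `O_p(L) = C_T(Y)` when `C_L(Y) ∩ T` is normal in `L`. -/
theorem pCoreOf_eq {T L : Subgroup G} (hT : IsSylowIn p T L)
    (hn : L ≤ Subgroup.normalizer ((T ⊓ Subgroup.centralizer (largestPReducedOf p L : Set G) : Subgroup G) : Set G)) :
    pCoreOf p L = T ⊓ Subgroup.centralizer (largestPReducedOf p L : Set G) :=
  le_antisymm (le_inf (pCoreOf_le_sylowIn hT) (isReducedIn_largest L).pCoreOf_le_centralizer)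
    (SylowIn.le_pCoreOf (inf_le_left.trans hT.1) hn (hT.2.1.to_le inf_le_left))

theorem exists_frakM (hG : IsOfParabolicCharacteristic p G) (T : Sylow p G) {L : Subgroup G}
    (hTL : (T : Subgroup G) ≤ L) (hL : L ∈ charPSubgroups p G) :
    ∃ M Ls : Subgroup G, (T : Subgroup G) ≤ M ∧ IsInFrakM p M ∧ (T : Subgroup G) ≤ Ls ∧ Ls ≤ M ∧
      Ls ∈ charPSubgroups p G ∧ largestPReducedOf p L = largestPReducedOf p Ls ∧
      largestPReducedOf p L ≤ largestPReducedOf p M ∧
      L ⊔ Subgroup.centralizer (largestPReducedOf p L : Set G) =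
        Ls ⊔ Subgroup.centralizer (largestPReducedOf p L : Set G) := by
  have hLO := (mem_charP_iff hG T hTL).1 hL
  set YL := largestPReducedOf p L
  set CL := Subgroup.centralizer (YL : Set G)
  have hYL : IsReducedIn p YL L := isReducedIn_largest L
  have hYL1 : YL ≠ ⊥ := largest_ne_bot hG T hTL hLO
  let S : Set (Subgroup G) := {X | (T : Subgroup G) ≤ X ∧ pCoreOf p X ≠ ⊥ ∧
    YL ≤ largestPReducedOf p X ∧ ∀ x ∈ L, ∃ m ∈ X, ∃ c ∈ CL, x = m * c}
  have hLS : L ∈ S := ⟨hTL, hLO, le_rfl, fun x hx => ⟨x, hx, 1, one_mem _, (mul_one x).symm⟩⟩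
  obtain ⟨X₀, hX₀, hmax₀⟩ := Set.exists_max_image S (fun X => Nat.card (largestPReducedOf p X))
    (Set.toFinite _) ⟨L, hLS⟩
  set Y := largestPReducedOf p X₀
  let S' : Set (Subgroup G) := {X | X ∈ S ∧ largestPReducedOf p X = Y}
  obtain ⟨X, ⟨hXS, hXY⟩, hmax⟩ := Set.exists_max_image S' (fun X => Nat.card X) (Set.toFinite _) ⟨X₀, hX₀, rfl⟩
  have hmaxY : ∀ X' ∈ S, Y ≤ largestPReducedOf p X' → largestPReducedOf p X' = Y := fun X' h h' =>
    (Subgroup.eq_of_le_of_card_ge h' (hmax₀ X' h)).symm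
  obtain ⟨hTX, hXO, hYLX, hLX⟩ := hXS
  set C := Subgroup.centralizer (Y : Set G)
  have hYr : IsReducedIn p Y X := hXY ▸ isReducedIn_largest X
  have hY1 : Y ≠ ⊥ := fun h => hYL1 (le_bot_iff.1 (hYLX.trans (hXY.trans h).le))
  have hYLY : YL ≤ Y := hXY ▸ hYLX
  have hYT : Y ≤ (T : Subgroup G) := hYr.le_pCoreOf.trans (pCoreOf_le_sylowIn (isSylowIn_of_sylow T hTX))
  -- `C(Y) ≤ X`
  have hCX : C ≤ X := by
    have hred : IsReducedIn p Y (X ⊔ C) := hYr.of_sup_eq (hYT.trans (hTX.trans le_sup_left))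
      (le_antisymm (sup_le le_rfl le_sup_right) (sup_le_sup_right le_sup_left _))
    have hS : X ⊔ C ∈ S := ⟨hTX.trans le_sup_left, pCoreOf_ne_bot_of_reduced hred hY1,
      hYLY.trans hred.le_largest, fun x hx => let ⟨m, hm, c, hc, he⟩ := hLX x hx; ⟨m, Subgroup.mem_sup_left hm, c, hc, he⟩⟩
    have h2 := hmax (X ⊔ C) ⟨hS, hmaxY _ hS hred.le_largest⟩
    rw [Subgroup.eq_of_le_of_card_ge (le_sup_left : X ≤ X ⊔ C) h2]
    exact le_sup_right
  set T₀ := (T : Subgroup G) ⊓ C
  set R := X ⊓ Subgroup.normalizer (T₀ : Set G)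
  have hTR : (T : Subgroup G) ≤ R := le_inf hTX
    (normalizer_inf Subgroup.le_normalizer (normalizer_centralizer (hTX.trans hYr.normalizer)))
  have hRC : R ⊔ C = X := by
    refine le_antisymm (sup_le inf_le_left hCX) fun g hg => ?_
    obtain ⟨c, hc, n, hn, rfl⟩ := frattini_centralizer (isSylowIn_of_sylow T hTX) hYr.normalizer hg
    exact mul_mem (Subgroup.mem_sup_right hc.2) (Subgroup.mem_sup_left hn)
  obtain ⟨M, ⟨hTM, hMR, hMC⟩, hMmin⟩ := Set.exists_min_image
    {K : Subgroup G | (T : Subgroup G) ≤ K ∧ K ≤ R ∧ K ⊔ C = X} (fun K => Nat.card K) (Set.toFinite _) ⟨R, hTR, le_rfl, hRC⟩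
  have hMX : M ≤ X := hMR.trans inf_le_left
  have hMn : M ≤ Subgroup.normalizer (T₀ : Set G) := hMR.trans inf_le_right
  have hTM' := isSylowIn_of_sylow T hTM
  have hYM : IsReducedIn p Y M := hYr.of_sup_eq (hYT.trans hTM) (by rw [hMC, sup_eq_left.2 hCX])
  have hXc := charP_of_pCoreOf_ne hG T hTX hXO
  have hYΩ : Y = omegaCenter p T₀ := by
    have h := largest_eq_omegaCenter hXc (isSylowIn_of_sylow T hTX)
    rwa [hXY] at h
  have hYMeq : largestPReducedOf p M = Y := by
    have h' : IsReducedIn p (largestPReducedOf p M) M := isReducedIn_largest M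
    refine le_antisymm ?_ hYM.le_largest
    conv_rhs => rw [hYΩ]
    exact le_omegaCenter h'.elab (le_inf (h'.le_pCoreOf.trans (pCoreOf_le_sylowIn hTM'))
      ((elab_le_centralizer h'.elab).trans (Subgroup.centralizer_le hYM.le_largest)))
      (Subgroup.le_centralizer_iff.1 (h'.le_centralizer (inf_le_left.trans hTM) hMn (T.2.to_le inf_le_left)))
  have hOM : pCoreOf p M = T₀ := by
    rw [pCoreOf_eq hTM' (by rw [hYMeq]; exact hMn), hYMeq]
  have hMO : pCoreOf p M ≠ ⊥ := pCoreOf_ne_bot_of_reduced hYM hY1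
  have hLM : ∀ x ∈ L, ∃ m ∈ M, ∃ c ∈ CL, x = m * c := by
    intro x hx
    obtain ⟨m, hm, c, hc, rfl⟩ := hLX x hx
    rw [← hMC, ← SetLike.mem_coe, Subgroup.coe_mul_of_left_le_normalizer_right _ _
      (normalizer_centralizer (hMX.trans hYr.normalizer)), Set.mem_mul] at hm
    obtain ⟨m', hm', c', hc', rfl⟩ := hm
    exact ⟨m', hm', c' * c, mul_mem (Subgroup.centralizer_le hYLY hc') hc, by group⟩
  -- every member over `M` lies in `X`
  have hover : ∀ X' : Subgroup G, M ≤ X' → pCoreOf p X' ≠ ⊥ → X' ≤ X := by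
    intro X' hMX' hO'
    have hTX' := hTM.trans hMX'
    have hYX' : Y ≤ largestPReducedOf p X' :=
      IsReducedIn.le_largest_of_overgroup (charP_of_pCoreOf_ne hG T hTX' hO') (isSylowIn_of_sylow T hTX') hTM hMX' hYM
    have hL' : ∀ x ∈ L, ∃ m ∈ X', ∃ c ∈ CL, x = m * c := fun x hx => by
      obtain ⟨m, hm, c, hc, he⟩ := hLM x hx
      exact ⟨m, hMX' hm, c, hc, he⟩
    have hS : X' ∈ S := ⟨hTX', hO', hYLY.trans hYX', hL'⟩
    have e := hmaxY X' hS hYX'
    have hYr' : IsReducedIn p Y X' := e ▸ isReducedIn_largest X'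
    have hred : IsReducedIn p Y (X' ⊔ C) := hYr'.of_sup_eq (hYT.trans (hTX'.trans le_sup_left))
      (le_antisymm (sup_le le_rfl le_sup_right) (sup_le_sup_right le_sup_left _))
    have hS2 : X' ⊔ C ∈ S := ⟨hTX'.trans le_sup_left, pCoreOf_ne_bot_of_reduced hred hY1,
      hYLY.trans hred.le_largest, fun x hx => let ⟨m, hm, c, hc, he⟩ := hL' x hx; ⟨m, Subgroup.mem_sup_left hm, c, hc, he⟩⟩
    have hXle : X ≤ X' ⊔ C := hMC ▸ sup_le_sup_right hMX' C
    have h2 := hmax (X' ⊔ C) ⟨hS2, hmaxY _ hS2 hred.le_largest⟩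
    rw [Subgroup.eq_of_le_of_card_ge hXle h2]
    exact le_sup_left
  have hXmem : X ∈ charPSubgroups p G := (mem_charP_iff hG T hTX).2 hXO
  have hfrak : IsInFrakM p M := by
    refine ⟨(mem_charP_iff hG T hTM).2 hMO, ?_, ?_, ?_, ?_, ?_⟩ <;> try simp only [hYMeq]
    · rw [hMC]
      refine ⟨hXmem, fun K hK hle => le_antisymm (hover K (hMX.trans hle) ?_) hle⟩
      exact (mem_charP_iff hG T (hTX.trans hle)).1 hK
    · rw [hMC]
      intro K hK hle
      exact ((hK.2 X hXmem (hover K hle ((mem_charP_iff hG T (hTM.trans hle)).1 hK.1))).symm)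
    · rw [hMC, hXY]
    · rw [hYMeq]
      intro P
      have hP' := IsSylowIn.of_map_subtype P
      have hT₀ : IsSylowIn p T₀ (M ⊓ C) :=
        IsSylowIn.mono (IsSylowIn.inf_centralizer T (hTX.trans hYr.normalizer)) (inf_le_inf_right _ hTM) inf_le_right
      obtain ⟨c, hc, he⟩ := hT₀.conjugate hP'
      rw [map_conj_eq_iff.2 (hMn hc.1)] at he
      have hP : (P : Subgroup ↥(M ⊓ C)) = T₀.subgroupOf (M ⊓ C) :=
        Subgroup.map_injective (M ⊓ C).subtype_injective (by rw [Subgroup.map_subgroupOf_eq_of_le hT₀.1, ← he])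
      rw [hP]
      exact (Subgroup.normal_subgroupOf_iff_le_normalizer hT₀.1).2 (inf_le_left.trans hMn)
    · -- the Frattini condition
      set f := QuotientGroup.mk' (pCore p M)
      have hf : Function.Surjective f := QuotientGroup.mk'_surjective _
      rw [frattini, Order.radical]
      simp only [le_iInf_iff]
      intro W hW
      rw [Subgroup.map_le_iff_le_comap]
      by_contra hK
      set W₁ := W.comap f
      have hW₁ : IsCoatom W₁ := Subgroup.isCoatom_comap_of_surjective hf hW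
      set K := (M ⊓ C).subgroupOf M
      have hCn : M ≤ Subgroup.normalizer (C : Set G) := normalizer_centralizer (hMX.trans hYr.normalizer)
      haveI hKn : K.Normal := (Subgroup.normal_subgroupOf_iff_le_normalizer inf_le_left).2
        (normalizer_inf Subgroup.le_normalizer hCn)
      have hsup : W₁ ⊔ K = ⊤ := hW₁.2 _ (lt_of_le_of_ne le_sup_left fun h => hK (h ▸ le_sup_right))
      have hT₀W : T₀.subgroupOf M ≤ W₁ := by
        intro x hx
        obtain ⟨y, hy, he⟩ := hOM.ge hx
        show f x ∈ W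
        rw [show f x = 1 from (QuotientGroup.eq_one_iff x).2 (Subtype.ext he ▸ hy)]
        exact one_mem _
      set W' := W₁.map M.subtype
      have hT₀K : IsSylowIn p T₀ (M ⊓ C) :=
        IsSylowIn.mono (IsSylowIn.inf_centralizer T (hTX.trans hYr.normalizer)) (inf_le_inf_right _ hTM) inf_le_right
      have hWM : W' ≤ M := Subgroup.map_subtype_le _
      have hsup' : W' ⊔ (M ⊓ C) = M := by
        have := congrArg (Subgroup.map M.subtype) hsup
        rwa [Subgroup.map_sup, Subgroup.map_subgroupOf_eq_of_le inf_le_left, ← MonoidHom.range_eq_map,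
          Subgroup.range_subtype] at this
      -- `W'` contains a Sylow subgroup of `M`
      obtain ⟨P, hP⟩ : ∃ P : Sylow p W₁, True := ⟨default, trivial⟩
      have hidx : ¬ p ∣ W₁.index := by
        intro hdvd
        have h1 : W₁.index = W₁.relIndex K := by
          have a := Subgroup.relIndex_mul_index (inf_le_left : W₁ ⊓ K ≤ W₁)
          have b := Subgroup.relIndex_mul_index (inf_le_right : W₁ ⊓ K ≤ K)
          rw [Subgroup.inf_relIndex_left, ← Subgroup.relIndex_sup_right (H := W₁) (K := K), hsup,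
            Subgroup.relIndex_top_right] at a
          rw [Subgroup.inf_relIndex_right] at b
          exact Nat.eq_of_mul_eq_mul_left (Nat.pos_of_ne_zero Subgroup.index_ne_zero_of_finite)
            (a.trans (b.symm.trans (mul_comm _ _)))
        have h2 : ¬ p ∣ (T₀.subgroupOf M).relIndex K := by
          intro h
          have h3 : (T₀.subgroupOf M).relIndex K = T₀.relIndex (M ⊓ C) := Subgroup.relIndex_subgroupOf inf_le_left
          rw [h3] at h
          exact hT₀K.toSylow.not_dvd_index h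
        exact h2 ((h1 ▸ hdvd).trans (Subgroup.relIndex_dvd_of_le_left K hT₀W))
      have hPM : IsSylowIn p (((P : Subgroup W₁).map W₁.subtype).map M.subtype) M := by
        have h0 : ¬ p ∣ ((P : Subgroup W₁).map W₁.subtype).index := by
          rw [Subgroup.index_map_subtype, (Fact.out : p.Prime).dvd_mul]
          exact not_or_intro P.not_dvd_index hidx
        exact IsSylowIn.of_map_subtype ((P.2.map W₁.subtype).toSylow h0)
      obtain ⟨g, hg, he⟩ := hPM.conjugate hTM'
      have hTg : (T : Subgroup G) ≤ W'.map (MulAut.conj g).toMonoidHom :=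
        he.le.trans (Subgroup.map_mono (Subgroup.map_mono (Subgroup.map_subtype_le _)))
      have hgM := map_conj_eq_iff.2 (Subgroup.le_normalizer hg)
      have hgC := map_conj_eq_iff.2 (hCn hg)
      have hWg : W'.map (MulAut.conj g).toMonoidHom ≤ M := (Subgroup.map_mono hWM).trans hgM.le
      have hX' : W'.map (MulAut.conj g).toMonoidHom ⊔ C = X := by
        refine le_antisymm (sup_le (hWg.trans hMX) hCX) ?_
        rw [← hMC]
        refine sup_le ?_ le_sup_right
        conv_lhs => rw [← hgM, ← hsup', Subgroup.map_sup]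
        exact sup_le le_sup_left (((Subgroup.map_mono inf_le_right).trans hgC.le).trans le_sup_right)
      have h5 := hMmin _ ⟨hTg, hWg.trans hMR, hX'⟩
      have h6 : Nat.card W' = Nat.card (W'.map (MulAut.conj g).toMonoidHom) :=
        Nat.card_congr (W'.equivMapOfInjective _ (MulAut.conj g).injective).toEquiv
      have h7 : W' = M := Subgroup.eq_of_le_of_card_ge hWM (h5.trans h6.ge)
      exact hW₁.1 (Subgroup.map_injective M.subtype_injective (by
        rw [← MonoidHom.range_eq_map, Subgroup.range_subtype]; exact h7))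
  -- the subgroup `L*`
  set M' := M ⊓ (L ⊔ CL)
  have hfac : M' ⊔ CL = L ⊔ CL := by
    refine le_antisymm (sup_le inf_le_right le_sup_right) (sup_le ?_ le_sup_right)
    intro x hx
    obtain ⟨m, hm, c, hc, rfl⟩ := hLM x hx
    refine mul_mem (Subgroup.mem_sup_left ⟨hm, ?_⟩) (Subgroup.mem_sup_right hc)
    have := mul_mem (Subgroup.mem_sup_left (T := CL) hx) (inv_mem (Subgroup.mem_sup_right (S := L) hc))
    simpa using this
  obtain ⟨hM'eq, hsupL⟩ := Cfsg.Agent.S2824.result T L M' hTL (le_inf hTM (hTL.trans le_sup_left))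
    ((charP_iff L).2 (charP_of_pCoreOf_ne hG T hTL hLO))
    ((charP_iff M').2 (charP_of_parabolic hG T (isPGroup_pCoreOf M) hMO
      (le_inf hTM (hTL.trans le_sup_left)) (inf_le_left.trans (normalizer_pCoreOf M))))
    _ rfl hfac _ rfl
  set Ls := M' ⊓ Subgroup.normalizer (((T : Subgroup G) ⊓ CL : Subgroup G) : Set G)
  have hTLs : (T : Subgroup G) ≤ Ls := le_inf (le_inf hTM (hTL.trans le_sup_left))
    (normalizer_inf Subgroup.le_normalizer (normalizer_centralizer (hTL.trans hYL.normalizer)))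
  refine ⟨M, Ls, hTM, hfrak, hTLs, inf_le_left.trans inf_le_left, (mem_charP_iff hG T hTLs).2 ?_,
    hM'eq.symm, hYMeq ▸ hYLY, hsupL⟩
  exact pCoreOf_ne_bot_of_reduced (isReducedIn_largest Ls) (by rw [hM'eq]; exact hYL1)

/-! ### The asymmetric case -/

/-- For `M` with the basic property, `O_p(M) = S ∩ C(Y_M)`. -/
theorem frakM_pCoreOf (S : Sylow p G) {M : Subgroup G} (hSM : (S : Subgroup G) ≤ M) (hM : IsInFrakM p M) :
    pCoreOf p M = (S : Subgroup G) ⊓ Subgroup.centralizer (largestPReducedOf p M : Set G) := by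
  obtain ⟨-, -, -, -, hclosed, -⟩ := hM
  set Y := largestPReducedOf p M
  set C := Subgroup.centralizer (Y : Set G)
  have hY : IsReducedIn p Y M := isReducedIn_largest M
  have hT0 : IsSylowIn p ((S : Subgroup G) ⊓ C) (M ⊓ C) :=
    IsSylowIn.mono (IsSylowIn.inf_centralizer S (hSM.trans hY.normalizer)) (inf_le_inf_right _ hSM) inf_le_right
  have hnT : M ⊓ C ≤ Subgroup.normalizer (((S : Subgroup G) ⊓ C : Subgroup G) : Set G) :=
    (Subgroup.normal_subgroupOf_iff_le_normalizer hT0.1).1 (hclosed hT0.toSylow)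
  refine pCoreOf_eq (isSylowIn_of_sylow S hSM) fun g hg => ?_
  obtain ⟨c, hc, n, hn, rfl⟩ := frattini_centralizer (isSylowIn_of_sylow S hSM) hY.normalizer hg
  exact mul_mem (hnT hc) hn.2

/-- In the asymmetric case, the normalizer of a `p`-group between `O_p(M)` and `N(Y_M)` lies in `M†`. -/
theorem normalizer_le_dagger (hG : IsOfParabolicCharacteristic p G) (S : Sylow p G) {M : Subgroup G}
    (hSM : (S : Subgroup G) ≤ M) (hM : IsInFrakM p M) (hasym : ¬ IsSymmetricIn (largestPReducedOf p M))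
    {L : Subgroup G} (hL : IsPGroup p L) (hOL : pCoreOf p M ≤ L)
    (hLY : L ≤ Subgroup.normalizer (largestPReducedOf p M : Set G)) :
    Subgroup.normalizer (L : Set G) ≤ M ⊔ Subgroup.centralizer (largestPReducedOf p M : Set G) := by
  set Y := largestPReducedOf p M
  set C := Subgroup.centralizer (Y : Set G)
  set T₀ := pCoreOf p M
  have hY : IsReducedIn p Y M := isReducedIn_largest M
  have hT₀ : IsSylowIn p T₀ C := by
    rw [show T₀ = _ from frakM_pCoreOf S hSM hM]
    exact IsSylowIn.inf_centralizer S (hSM.trans hY.normalizer)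
  have hLC : L ⊓ C = T₀ := hT₀.2.2 _ inf_le_right (hL.to_le inf_le_left) (le_inf hOL hT₀.1)
  have hMT : M ≤ Subgroup.normalizer (T₀ : Set G) := normalizer_pCoreOf M
  have hYT : Y ≤ T₀ := hY.le_pCoreOf
  have hT₀Y : T₀ ≤ Subgroup.normalizer (Y : Set G) := hOL.trans hLY
  intro g hg
  let Lt : Set G := (M : Set G) ∪ {g, g⁻¹}
  have hLtL : ∀ a ∈ Lt, a ∈ M ∨ a ∈ Subgroup.normalizer (L : Set G) := by
    rintro a (ha | rfl | rfl)
    exacts [Or.inl ha, Or.inr hg, Or.inr (inv_mem hg)]
  have hLtinv : ∀ a ∈ Lt, a⁻¹ ∈ Lt := by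
    rintro a (ha | rfl | rfl)
    exacts [Or.inl (inv_mem ha), Or.inr (Or.inr rfl), Or.inr (Or.inl (inv_inv g))]
  have hT : ∀ (k : ℕ) (l : List G), l.length ≤ k → (∀ a ∈ l, a ∈ Lt) →
      Y.map (MulAut.conj l.prod).toMonoidHom ≤ T₀ := by
    intro k
    induction k with
    | zero =>
      intro l hl _
      rw [List.length_eq_zero_iff.1 (Nat.le_zero.1 hl), List.prod_nil, map_conj_one]
      exact hYT
    | succ k ih =>
      have hN : ∀ l : List G, l.length ≤ k + 1 → (∀ a ∈ l, a ∈ Lt) →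
          Y.map (MulAut.conj l.prod).toMonoidHom ≤ Subgroup.normalizer (Y : Set G) := by
        rintro (_ | ⟨a, z⟩) hl ha
        · rw [List.prod_nil, map_conj_one]; exact Subgroup.le_normalizer
        · have hz := ih z (by simpa using hl) fun b hb => ha b (List.mem_cons_of_mem a hb)
          rw [List.prod_cons, ← map_conj_conj]
          rcases hLtL a (ha a List.mem_cons_self) with h | h
          · exact ((Subgroup.map_mono hz).trans (map_conj_eq_iff.2 (hMT h)).le).trans hT₀Y
          · exact ((Subgroup.map_mono (hz.trans hOL)).trans (map_conj_eq_iff.2 h).le).trans hLY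
      intro l hl ha
      match l with
      | [] => rw [List.prod_nil, map_conj_one]; exact hYT
      | a :: z =>
        have hz := ih z (by simpa using hl) fun b hb => ha b (List.mem_cons_of_mem a hb)
        set x := (a :: z).prod
        have h1 := hN _ hl ha
        have h2 : Y ≤ Subgroup.normalizer ((Y.map (MulAut.conj x).toMonoidHom : Subgroup G) : Set G) := by
          have hi := hN (((a :: z).map fun b => b⁻¹).reverse) (by simpa using hl) (by
            intro b hb
            rw [List.mem_reverse, List.mem_map] at hb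
            obtain ⟨c, hc, rfl⟩ := hb
            exact hLtinv c (ha c hc))
          rw [show (((a :: z).map fun b => b⁻¹).reverse).prod = x⁻¹ from (List.prod_inv_reverse (a :: z)).symm] at hi
          have := le_normalizer_map (g := x) hi
          rwa [map_conj_conj, mul_inv_cancel, map_conj_one] at this
        have hc : Y.map (MulAut.conj x).toMonoidHom ≤ C := by
          refine Subgroup.le_centralizer_iff.1 (Subgroup.commutator_eq_bot_iff_le_centralizer.1 ?_)
          by_contra hne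
          exact hasym ⟨x, hne, commutator_le_inf h1 h2⟩
        have hx : Y.map (MulAut.conj x).toMonoidHom = (Y.map (MulAut.conj z.prod).toMonoidHom).map (MulAut.conj a).toMonoidHom := by
          rw [map_conj_conj, ← List.prod_cons]
        rcases hLtL a (ha a List.mem_cons_self) with h | h
        · exact hx.le.trans ((Subgroup.map_mono hz).trans (map_conj_eq_iff.2 (hMT h)).le)
        · exact (le_inf (hx.le.trans ((Subgroup.map_mono (hz.trans hOL)).trans (map_conj_eq_iff.2 h).le)) hc).trans hLC.le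
  let V : Subgroup G := ⨆ l : {l : List G // ∀ a ∈ l, a ∈ Lt}, Y.map (MulAut.conj l.1.prod).toMonoidHom
  have hVT : V ≤ T₀ := iSup_le fun l => hT _ l.1 le_rfl l.2
  have hVn : ∀ a ∈ Lt, a ∈ Subgroup.normalizer (V : Set G) := by
    intro a ha
    refine map_conj_eq_iff.1 (Subgroup.eq_of_le_of_card_ge ?_
      (Nat.card_congr (V.equivMapOfInjective _ (MulAut.conj a).injective).toEquiv).le)
    rw [Subgroup.map_iSup]
    refine iSup_le fun l => ?_
    rw [map_conj_conj, ← List.prod_cons]
    exact le_iSup (fun l : {l : List G // ∀ a ∈ l, a ∈ Lt} => Y.map (MulAut.conj l.1.prod).toMonoidHom)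
      ⟨a :: l.1, by
        intro b hb
        rcases List.mem_cons.1 hb with rfl | h
        exacts [ha, l.2 b h]⟩
  have hY1 : Y ≠ ⊥ := largest_ne_bot hG S hSM ((mem_charP_iff hG S hSM).1 hM.1)
  have hV1 : V ≠ ⊥ := fun h => hY1 (le_bot_iff.1 (((map_conj_one Y).ge.trans
    (le_iSup (fun l : {l : List G // ∀ a ∈ l, a ∈ Lt} => Y.map (MulAut.conj l.1.prod).toMonoidHom)
      ⟨[], by simp⟩)).trans h.le))
  have hVp : IsPGroup p V := (isPGroup_pCoreOf M).to_le hVT
  set N := Subgroup.normalizer (V : Set G)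
  have hMN : M ≤ N := fun m hm => hVn m (Or.inl hm)
  have hN : N ∈ charPSubgroups p G := (mem_charP_iff hG S (hSM.trans hMN)).2 fun h => hV1
    (le_bot_iff.1 ((SylowIn.le_pCoreOf Subgroup.le_normalizer le_rfl hVp).trans h.le))
  obtain ⟨K, ⟨hK, hNK⟩, hKmax⟩ := Set.exists_max_image {K | K ∈ charPSubgroups p G ∧ N ≤ K}
    (fun K => Nat.card K) (Set.toFinite _) ⟨N, hN, le_rfl⟩
  have hKm : K ∈ maxCharPSubgroups p G :=
    ⟨hK, fun K' hK' hle => (Subgroup.eq_of_le_of_card_ge hle (hKmax K' ⟨hK', hNK.trans hle⟩)).symm⟩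
  rw [← hM.2.2.1 K hKm (hMN.trans hNK)]
  exact hNK (hVn g (Or.inr (Or.inl rfl)))

end CfsgLib.LocalEven.Parabolic
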