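/-
Point stabilisers of subnormal subgroups of a group of local characteristic `p`: the point stabiliser of
a subnormal subgroup `K` is generated by the `p`-elements of `K` fixing `Ω₁(Z(T))`.
-/
import Cfsg.Agent.Lib.LocalEven.SylowIn
import Cfsg.Agent.Lib.LocalEven.Averaging
import Cfsg.Agent.Lib.LocalEven.Large
import Cfsg.Agent.Lib.LocalEven.Parabolic
import Cfsg.Agent.Lib.LocalEvenB.CharP
import Cfsg.Agent.Lib.LocalEvenB.SubnormalSylow
import Cfsg.Agent.Lib.Components.PComponents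
import Cfsg.Prelude.Def_LocalEven

set_option autoImplicit false
set_option linter.style.haveILetI false
set_option linter.unusedSectionVars false

open scoped commutatorElement
open Cfsg CfsgLib.LocalEven.SylowIn

namespace CfsgLib.LocalEven.PointStabilizer

universe u
variable {G : Type u} [Group G] [Finite G] {p : ℕ} [Fact p.Prime]

theorem mem_omegaCenter {T : Subgroup G} {x : G} :
    x ∈ omegaCenter p T ↔ x ∈ T ∧ x ∈ Subgroup.centralizer (T : Set G) ∧ x ^ p = 1 := by
  constructor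
  · intro hx
    refine ⟨omegaCenter_le T hx, omegaCenter_le_centralizer T hx, ?_⟩
    refine (Subgroup.closure_induction (p := fun y _ => y ∈ T ⊓ Subgroup.centralizer (T : Set G) ∧ y ^ p = 1)
      (fun y hy => hy) ⟨one_mem _, one_pow p⟩ ?_ ?_ hx).2
    · rintro a b - - ⟨ha, ha'⟩ ⟨hb, hb'⟩
      exact ⟨mul_mem ha hb, by rw [(show Commute a b from hb.2 a ha.1).mul_pow, ha', hb', one_mul]⟩
    · rintro a - ⟨ha, ha'⟩
      exact ⟨inv_mem ha, by rw [inv_pow, ha', inv_one]⟩
  · rintro ⟨h1, h2, h3⟩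
    exact Subgroup.subset_closure ⟨⟨h1, h2⟩, h3⟩

theorem normalizer_le_omegaCenter (T : Subgroup G) :
    Subgroup.normalizer (T : Set G) ≤ Subgroup.normalizer (omegaCenter p T : Set G) := by
  refine Subgroup.le_normalizer_iff.2 fun g hg x hx => ?_
  obtain ⟨h1, h2, h3⟩ := mem_omegaCenter.1 hx
  refine mem_omegaCenter.2 ⟨(Subgroup.mem_normalizer_iff.1 hg x).1 h1, fun t ht => ?_, ?_⟩
  · have ht' : g⁻¹ * t * g ∈ T := (Subgroup.mem_normalizer_iff''.1 hg t).1 ht
    calc t * (g * x * g⁻¹) = g * ((g⁻¹ * t * g) * x) * g⁻¹ := by group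
      _ = g * (x * (g⁻¹ * t * g)) * g⁻¹ := by rw [h2 _ ht']
      _ = _ := by group
  · rw [conj_pow, h3, mul_one, mul_inv_cancel]

theorem normalizer_le_centralizer_normalizer (Z : Subgroup G) :
    Subgroup.normalizer (Z : Set G) ≤ Subgroup.normalizer (Subgroup.centralizer (Z : Set G) : Set G) := by
  refine Subgroup.le_normalizer_iff.2 fun g hg x hx z hz => ?_
  have hz' : g⁻¹ * z * g ∈ Z := (Subgroup.mem_normalizer_iff''.1 hg z).1 hz
  calc z * (g * x * g⁻¹) = g * ((g⁻¹ * z * g) * x) * g⁻¹ := by group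
    _ = g * (x * (g⁻¹ * z * g)) * g⁻¹ := by rw [hx _ hz']
    _ = _ := by group

theorem le_normalizer_inf {A B C : Subgroup G} (hB : A ≤ Subgroup.normalizer (B : Set G))
    (hC : A ≤ Subgroup.normalizer (C : Set G)) : A ≤ Subgroup.normalizer ((B ⊓ C : Subgroup G) : Set G) := by
  refine Subgroup.le_normalizer_iff.2 fun a ha x hx => ?_
  exact ⟨(Subgroup.mem_normalizer_iff.1 (hB ha) x).1 hx.1, (Subgroup.mem_normalizer_iff.1 (hC ha) x).1 hx.2⟩

/-- The intersection of a Sylow subgroup with a subnormal subgroup is a Sylow subgroup of it. -/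
theorem sylow_inf (T : Sylow p G) {K : Subgroup G} (hK : K.IsSubnormal) :
    ∃ P : Sylow p K, (P : Subgroup K).map K.subtype = (T : Subgroup G) ⊓ K :=
  CfsgLib.Coprime.exists_sylow_map_eq inf_le_right (LocalEvenB.SubnormalSylow.card_inf_sylow T hK)

theorem not_dvd_relIndex (T : Sylow p G) {K : Subgroup G} (hK : K.IsSubnormal) {X : Subgroup G}
    (hRX : (T : Subgroup G) ⊓ K ≤ X) (hXK : X ≤ K) : ¬ p ∣ ((T : Subgroup G) ⊓ K).relIndex X := by
  obtain ⟨P, hP⟩ := sylow_inf T hK
  have hPi : ((T : Subgroup G) ⊓ K).relIndex K = (P : Subgroup K).index := by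
    rw [← hP, Subgroup.relIndex, Subgroup.subgroupOf, Subgroup.comap_map_eq_self_of_injective K.subtype_injective]
  intro hd
  refine P.not_dvd_index (hPi ▸ hd.trans ?_)
  exact ⟨X.relIndex K, (Subgroup.relIndex_mul_relIndex _ _ _ hRX hXK).symm⟩

/-- A `p`-subgroup of a subnormal `K` normalised by `T ∩ K` lies in it. -/
theorem le_sylow_inf (T : Sylow p G) {K : Subgroup G} (hK : K.IsSubnormal) {A : Subgroup G}
    (hA : IsPGroup p A) (hAK : A ≤ K) (hn : (T : Subgroup G) ⊓ K ≤ Subgroup.normalizer (A : Set G)) :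
    A ≤ (T : Subgroup G) ⊓ K := by
  obtain ⟨P, hP⟩ := sylow_inf T hK
  set R := (T : Subgroup G) ⊓ K with hR
  have hsup : IsPGroup p ↥(R ⊔ A : Subgroup G) := (T.2.to_le inf_le_left).to_sup_of_normal_right' hA hn
  have hle : R ⊔ A ≤ K := sup_le inf_le_right hAK
  have h1 := P.is_maximal' (Q := (R ⊔ A).subgroupOf K) (hsup.comap_of_injective K.subtype K.subtype_injective)
    (fun x hx => Subgroup.mem_sup_left (hP ▸ Subgroup.mem_map_of_mem K.subtype hx))
  intro a ha
  have h2 : (⟨a, hAK ha⟩ : K) ∈ (P : Subgroup K) :=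
    h1 ▸ (Subgroup.mem_subgroupOf.2 (Subgroup.mem_sup_right ha))
  exact hP ▸ Subgroup.mem_map_of_mem K.subtype h2

/-- Local characteristic `p` for the centraliser in a subnormal subgroup of a nontrivial `p`-subgroup. -/
theorem charP_inf_centralizer (hG : IsOfLocalCharacteristic p G) {K : Subgroup G} (hK : K.IsSubnormal)
    {Z : Subgroup G} (hZ : IsPGroup p Z) (hZ1 : Z ≠ ⊥) :
    Subgroup.centralizer (pCore p ↥(K ⊓ Subgroup.centralizer (Z : Set G)) : Set ↥(K ⊓ Subgroup.centralizer (Z : Set G))) ≤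
      pCore p ↥(K ⊓ Subgroup.centralizer (Z : Set G)) := by
  set C := Subgroup.centralizer (Z : Set G) with hC
  have hCN : C ≤ Subgroup.normalizer (Z : Set G) := Subgroup.centralizer_le_normalizer _
  haveI : (C.subgroupOf (Subgroup.normalizer (Z : Set G))).Normal :=
    (Subgroup.normal_subgroupOf_iff_le_normalizer hCN).2 (normalizer_le_centralizer_normalizer Z)
  have h1 := LocalEvenB.CharP.charP_congr (Subgroup.subgroupOfEquivOfLe hCN)
    (LocalEvenB.CharP.charP_of_subnormal (hG.2 Z hZ hZ1)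
      (Y := C.subgroupOf (Subgroup.normalizer (Z : Set G))) (Subgroup.Normal.isSubnormal inferInstance))
  have h2 := LocalEvenB.CharP.charP_of_subnormal h1 (Y := K.subgroupOf C) hK.subgroupOf
  rw [← Subgroup.inf_subgroupOf_right] at h2
  exact LocalEvenB.CharP.charP_congr (Subgroup.subgroupOfEquivOfLe inf_le_right) h2

theorem mem_omega_pCoreOf {Y : Subgroup G}
    (hY : Subgroup.centralizer (pCore p ↥Y : Set ↥Y) ≤ pCore p ↥Y) {z : G} (hz : z ∈ Y)
    (hzc : z ∈ Subgroup.centralizer (pCoreOf p Y : Set G)) (hzp : z ^ p = 1) :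
    z ∈ omegaCenter p (pCoreOf p Y) := by
  refine mem_omegaCenter.2 ⟨⟨⟨z, hz⟩, hY fun y hy => Subtype.ext (hzc _ ⟨y, hy, rfl⟩), rfl⟩, hzc, hzp⟩

theorem normalizer_le_pCoreOf (Y : Subgroup G) :
    Subgroup.normalizer (Y : Set G) ≤ Subgroup.normalizer (omegaCenter p (pCoreOf p Y) : Set G) := by
  refine le_trans (fun g hg => ?_) (normalizer_le_omegaCenter _)
  have h : ∀ g ∈ Subgroup.normalizer (Y : Set G), ∀ x ∈ pCoreOf p Y, g * x * g⁻¹ ∈ pCoreOf p Y := by
    intro g hg x hx
    have hm : Y.map (MulAut.conj g).toMonoidHom = Y := by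
      ext y
      simp only [Subgroup.mem_map, MulEquiv.coe_toMonoidHom, MulAut.conj_apply]
      exact ⟨fun ⟨a, ha, e⟩ => e ▸ (Subgroup.mem_normalizer_iff.1 hg a).1 ha,
        fun hy => ⟨g⁻¹ * y * g, (Subgroup.mem_normalizer_iff''.1 hg y).1 hy, by group⟩⟩
    have := pCoreOf_map_conj (p := p) Y g
    rw [hm] at this
    rw [← this]
    exact ⟨x, hx, rfl⟩
  rw [Subgroup.mem_normalizer_iff]
  intro x
  refine ⟨h g hg x, fun hx => ?_⟩
  have := h g⁻¹ (inv_mem hg) _ hx
  simpa [mul_assoc] using this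

theorem omega_comm (T : Subgroup G) : IsMulCommutative ↥(omegaCenter p T) :=
  ⟨⟨fun a b => Subtype.ext ((mem_omegaCenter.1 b.2).2.1 _ (omegaCenter_le T a.2))⟩⟩

/-- Fixed points of `R` are fixed by `Y` if the fixed points of the overgroup `R'` of `R` are. -/
theorem fixed_of_fixed_overgroup {V Y R R' : Subgroup G} (hV : IsMulCommutative V) (hVp : ∀ v ∈ V, v ^ p = 1)
    (hRY : R ≤ Y) (hYV : Y ≤ Subgroup.normalizer (V : Set G)) (hR' : IsPGroup p R')
    (hR'V : R' ≤ Subgroup.normalizer (V : Set G)) (hR'Y : R' ≤ Subgroup.normalizer (Y : Set G))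
    (hR'R : R' ≤ Subgroup.normalizer (R : Set G)) (hidx : ¬ p ∣ R.relIndex Y)
    (hfix : V ⊓ Subgroup.centralizer (R' : Set G) ≤ Subgroup.centralizer (Y : Set G)) :
    V ⊓ Subgroup.centralizer (R : Set G) ≤ Subgroup.centralizer (Y : Set G) := by
  classical
  haveI : Fintype (↥Y ⧸ R.subgroupOf Y) := Fintype.ofFinite _
  letI : CommGroup ↥V := { (inferInstance : Group ↥V) with mul_comm := fun a b => mul_comm' a b }
  have hcV : ∀ (g : G), g ∈ Subgroup.normalizer (V : Set G) → ∀ x ∈ V, g * x * g⁻¹ ∈ V :=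
    fun g hg x hx => (Subgroup.mem_normalizer_iff.1 hg x).1 hx
  let act : ∀ g : G, g ∈ Subgroup.normalizer (V : Set G) → (↥V →* ↥V) := fun g hg =>
    MonoidHom.mk' (fun x => ⟨g * x * g⁻¹, hcV g hg x x.2⟩) fun a b => Subtype.ext (by simp [mul_assoc])
  set D := V ⊓ Subgroup.centralizer (R : Set G) with hD
  let ι : ↥D →* ↥V := Subgroup.inclusion inf_le_left
  let τ : ↥D →* ↥V := ∏ q : ↥Y ⧸ R.subgroupOf Y, (act (q.out : G) (hYV q.out.2)).comp ι
  have hterm : ∀ (v : ↥D) (y : ↥Y), ((q : ↥Y ⧸ R.subgroupOf Y) → q = (y : ↥Y ⧸ R.subgroupOf Y) →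
      (q.out : G) * (v : G) * (q.out : G)⁻¹ = (y : G) * v * (y : G)⁻¹) := by
    intro v y q hq
    subst hq
    obtain ⟨r, hr⟩ := QuotientGroup.mk_out_eq_mul (R.subgroupOf Y) y
    rw [hr]
    have h1 : ((r : ↥Y) : G) * (v : G) = v * ((r : ↥Y) : G) := v.2.2 _ r.2
    simp only [Subgroup.coe_mul, mul_inv_rev]
    calc _ = (y : G) * ((((r : ↥Y) : G) * v) * ((r : ↥Y) : G)⁻¹) * (y : G)⁻¹ := by group
      _ = _ := by rw [h1]; group
  have hτ : ∀ v : ↥D, τ v = ∏ q : ↥Y ⧸ R.subgroupOf Y, act (q.out : G) (hYV q.out.2) (ι v) := fun v => by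
    simp [τ, MonoidHom.finsetProd_apply]
  -- values of `τ` are fixed by `Y`
  have hτY : ∀ v, ∀ y ∈ Y, y * (τ v : G) * y⁻¹ = τ v := by
    intro v y hy
    have : act y (hYV hy) (τ v) = τ v := by
      rw [hτ, map_prod]
      refine Fintype.prod_equiv (MulAction.toPerm (⟨y, hy⟩ : ↥Y)) _ _ fun q => ?_
      induction q using QuotientGroup.induction_on with
      | H g =>
        apply Subtype.ext
        show y * ((_ : G) * (v : G) * _) * y⁻¹ = (_ : G) * (v : G) * _
        rw [hterm v g _ rfl, hterm v (⟨y, hy⟩ * g) (MulAction.toPerm (⟨y, hy⟩ : ↥Y) (g : ↥Y ⧸ R.subgroupOf Y)) rfl]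
        simp [mul_assoc]
    exact congrArg Subtype.val this
  -- equivariance under `R'`
  have hequiv : ∀ r, ∀ hr : r ∈ R', ∀ v w : ↥D, r * (v : G) * r⁻¹ = w → r * (τ v : G) * r⁻¹ = τ w := by
    intro r hr v w hvw
    have : act r (hR'V hr) (τ v) = τ w := by
      rw [hτ, hτ, map_prod]
      let e : ↥Y ≃* ↥Y :=
        { toFun := fun y => ⟨r * y * r⁻¹, (Subgroup.mem_normalizer_iff.1 (hR'Y hr) y).1 y.2⟩
          invFun := fun y => ⟨r⁻¹ * y * r, (Subgroup.mem_normalizer_iff''.1 (hR'Y hr) y).1 y.2⟩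
          left_inv := fun y => Subtype.ext (by simp [mul_assoc])
          right_inv := fun y => Subtype.ext (by simp [mul_assoc])
          map_mul' := fun a b => Subtype.ext (by simp [mul_assoc]) }
      refine Fintype.prod_equiv (Quotient.congr e.toEquiv fun a b => ?_) _ _ fun q => ?_
      · rw [QuotientGroup.leftRel_apply, QuotientGroup.leftRel_apply, Subgroup.mem_subgroupOf,
          Subgroup.mem_subgroupOf, Subgroup.mem_normalizer_iff.1 (hR'R hr)]
        simp [e, mul_assoc]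
      · induction q using QuotientGroup.induction_on with
        | H g =>
          apply Subtype.ext
          show r * ((_ : G) * (v : G) * _) * r⁻¹ = (_ : G) * (w : G) * _
          erw [hterm v g _ rfl, hterm w (e g) _ rfl]
          rw [← hvw]
          simp [e, mul_assoc]
    exact congrArg Subtype.val this
  -- on fixed points of `Y` it is the `index`-th power
  have hτfix : ∀ v : ↥D, (v : G) ∈ Subgroup.centralizer (Y : Set G) → (τ v : G) = (v : G) ^ R.relIndex Y := by
    intro v hv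
    have : τ v = ι v ^ R.relIndex Y := by
      rw [hτ, Finset.prod_congr rfl (fun q _ => (?_ : _ = ι v)), Finset.prod_const, Finset.card_univ,
        Subgroup.relIndex, Subgroup.index, Nat.card_eq_fintype_card]
      refine Subtype.ext ?_
      show (q.out : G) * (v : G) * (q.out : G)⁻¹ = v
      rw [hv _ q.out.2, mul_inv_cancel_right]
    rw [this]; rfl
  have hcop : ∀ v ∈ V, v ^ R.relIndex Y = 1 → v = 1 := fun v hv h => by
    have := pow_gcd_eq_one.2 ⟨h, hVp v hv⟩
    rwa [Nat.Coprime.symm ((Fact.out : p.Prime).coprime_iff_not_dvd.2 hidx), pow_one] at this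
  -- `τ` is injective
  have hker : τ.ker.map D.subtype = ⊥ := by
    by_contra hne
    have hVg : IsPGroup p V := fun v => ⟨1, Subtype.ext (by simpa using hVp v v.2)⟩
    have hKV : τ.ker.map D.subtype ≤ V := (Subgroup.map_subtype_le _).trans inf_le_left
    obtain ⟨k, ⟨hk, hkR⟩, hk1⟩ := Large.exists_fixed hR' (hVg.to_le hKV) hne (by
      refine Subgroup.le_normalizer_iff.2 fun r hr x hx => ?_
      obtain ⟨v, hv, rfl⟩ := hx
      have hmem : r * (v : G) * r⁻¹ ∈ D := ⟨hcV r (hR'V hr) _ v.2.1, fun s hs => by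
        have hs' : r⁻¹ * s * r ∈ R := (Subgroup.mem_normalizer_iff''.1 (hR'R hr) s).1 hs
        calc s * (r * v * r⁻¹) = r * ((r⁻¹ * s * r) * v) * r⁻¹ := by group
          _ = r * (v * (r⁻¹ * s * r)) * r⁻¹ := by rw [v.2.2 _ hs']
          _ = _ := by group⟩
      refine ⟨⟨_, hmem⟩, Subtype.ext ?_, rfl⟩
      rw [← hequiv r hr v ⟨_, hmem⟩ rfl, show (τ v : G) = 1 from congrArg Subtype.val hv]
      simp)
    obtain ⟨v, hv, rfl⟩ := hk
    have hvY := hfix ⟨v.2.1, hkR⟩
    refine hk1 (hcop _ v.2.1 ?_)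
    show (v : G) ^ _ = 1
    rw [← hτfix v hvY]
    exact congrArg Subtype.val hv
  have hinj : Function.Injective τ := by
    rw [← MonoidHom.ker_eq_bot_iff]
    exact (Subgroup.map_eq_bot_iff_of_injective _ D.subtype_injective).1 hker
  intro v hv
  have hτv : (τ ⟨v, hv⟩ : G) ∈ Subgroup.centralizer (Y : Set G) := fun y hy =>
    mul_inv_eq_iff_eq_mul.1 (hτY ⟨v, hv⟩ y hy)
  have hmemD : (τ ⟨v, hv⟩ : G) ∈ D := ⟨(τ ⟨v, hv⟩).2, fun r hr => hτv r (hRY hr)⟩
  have heq : (⟨(τ ⟨v, hv⟩ : G), hmemD⟩ : ↥D) = (⟨v, hv⟩ : ↥D) ^ R.relIndex Y := by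
    refine hinj (Subtype.ext ?_)
    rw [hτfix _ hτv, map_pow]
    rfl
  have hpow : v ^ R.relIndex Y ∈ Subgroup.centralizer (Y : Set G) := by
    have := congrArg Subtype.val heq
    simp only [Subgroup.coe_pow] at this
    rwa [← this]
  obtain ⟨k, hk⟩ := exists_pow_eq_self_of_coprime (x := v) (n := R.relIndex Y) (by
    refine Nat.Coprime.coprime_dvd_right (orderOf_dvd_of_pow_eq_one (hVp v hv.1)) ?_
    exact ((Fact.out : p.Prime).coprime_iff_not_dvd.2 hidx).symm)
  exact hk ▸ pow_mem hpow k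

/-- The key step. -/
theorem inf_centralizer_step (hG : IsOfLocalCharacteristic p G) (T : Sylow p G) {K K' : Subgroup G}
    (hK : K.IsSubnormal) (hK' : K'.IsSubnormal) (hle : K ≤ K') (hn : K' ≤ Subgroup.normalizer (K : Set G))
    (hR1 : (T : Subgroup G) ⊓ K ≠ ⊥) :
    K ⊓ Subgroup.centralizer (omegaCenter p ((T : Subgroup G) ⊓ K) : Set G) =
      K ⊓ Subgroup.centralizer (omegaCenter p ((T : Subgroup G) ⊓ K') : Set G) := by
  set R := (T : Subgroup G) ⊓ K with hR
  set R' := (T : Subgroup G) ⊓ K' with hR'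
  set Z := omegaCenter p R with hZ
  set Z' := omegaCenter p R' with hZ'
  have hRR' : R ≤ R' := inf_le_inf_left _ hle
  have hR'1 : R' ≠ ⊥ := fun h => hR1 (le_bot_iff.1 (h ▸ hRR'))
  have hRp : IsPGroup p R := T.2.to_le inf_le_left
  have hR'p : IsPGroup p R' := T.2.to_le inf_le_left
  have hR'K : R' ≤ Subgroup.normalizer (K : Set G) := inf_le_right.trans hn
  have hR'R : R' ≤ Subgroup.normalizer (R : Set G) :=
    le_normalizer_inf (inf_le_left.trans Subgroup.le_normalizer) hR'K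
  have hZp : IsPGroup p Z := hRp.to_le (omegaCenter_le R)
  have hZ'p : IsPGroup p Z' := hR'p.to_le (omegaCenter_le R')
  refine le_antisymm (le_inf inf_le_left fun x hx z hz => ?_) (le_inf inf_le_left fun x hx z hz => ?_)
  · -- fixing `Z` implies fixing `Z'`
    obtain ⟨hz1, hz2, hz3⟩ := mem_omegaCenter.1 hz
    set Y := K' ⊓ Subgroup.centralizer (Z : Set G) with hY
    have hzY : z ∈ Y := ⟨hz1.2, fun w hw => hz2 w (hRR' (omegaCenter_le R hw))⟩
    have hR'Y : R' ≤ Subgroup.normalizer (Y : Set G) := le_normalizer_inf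
      (inf_le_right.trans Subgroup.le_normalizer)
      ((hR'R.trans (normalizer_le_omegaCenter R)).trans (normalizer_le_centralizer_normalizer Z))
    have hO : pCoreOf p Y ≤ R' := le_sylow_inf T hK' (isPGroup_pCoreOf Y) ((pCoreOf_le Y).trans inf_le_left)
      (hR'Y.trans fun g hg => by
        rw [Subgroup.mem_normalizer_iff]
        intro w
        have hm : ∀ g ∈ Subgroup.normalizer (Y : Set G), ∀ w ∈ pCoreOf p Y, g * w * g⁻¹ ∈ pCoreOf p Y := by
          intro g hg w hw
          obtain ⟨w, hw, rfl⟩ := hw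
          let e : ↥Y ≃* ↥Y :=
            { toFun := fun y => ⟨g * y * g⁻¹, (Subgroup.mem_normalizer_iff.1 hg y).1 y.2⟩
              invFun := fun y => ⟨g⁻¹ * y * g, (Subgroup.mem_normalizer_iff''.1 hg y).1 y.2⟩
              left_inv := fun y => Subtype.ext (by simp [mul_assoc])
              right_inv := fun y => Subtype.ext (by simp [mul_assoc])
              map_mul' := fun a b => Subtype.ext (by simp [mul_assoc]) }
          exact ⟨e w, Solvable.Cores.map_pCore e p ▸ Subgroup.mem_map_of_mem _ hw, rfl⟩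
        exact ⟨hm g hg w, fun hw => by simpa [mul_assoc] using hm g⁻¹ (inv_mem hg) _ hw⟩)
    have hchar := charP_inf_centralizer hG hK' hZp (Parabolic.omegaCenter_ne_bot hRp hR1)
    have hzM := mem_omega_pCoreOf hchar hzY (fun w hw => hz2 w (hO hw)) hz3
    set M := omegaCenter p (pCoreOf p Y) with hM
    set X := K ⊓ Subgroup.centralizer (Z : Set G) with hX
    have hXY : X ≤ Y := inf_le_inf_right _ hle
    have hRX : R ≤ X := le_inf inf_le_right fun r hr w hw => ((mem_omegaCenter.1 hw).2.1 r hr).symm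
    have hXM : X ≤ Subgroup.normalizer (M : Set G) :=
      (hXY.trans Subgroup.le_normalizer).trans (normalizer_le_pCoreOf Y)
    have hzfix : ∀ t ∈ R, t * z * t⁻¹ = z := fun t ht => by
      rw [hz2 t (hRR' ht), mul_inv_cancel_right]
    have hmem := Averaging.mem_fixed_sup (omega_comm _) (inf_le_left : M ⊓ K ≤ M) hXM hRX hzM hzfix
      (fun h hh => by
        rw [commutatorElement_def]
        refine Subgroup.mem_inf.2 ⟨mul_mem ((Subgroup.mem_normalizer_iff.1 (hXM hh) z).1 hzM) (inv_mem hzM), ?_⟩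
        have hK1 : z * h⁻¹ * z⁻¹ ∈ K := (Subgroup.mem_normalizer_iff.1 (hn hz1.2) h⁻¹).1 (inv_mem (show h ∈ K from hh.1))
        rw [show h * z * h⁻¹ * z⁻¹ = h * (z * h⁻¹ * z⁻¹) by group]
        exact mul_mem (show h ∈ K from hh.1) hK1)
      (by
        refine Nat.Coprime.coprime_dvd_right (orderOf_dvd_of_pow_eq_one hz3) ?_
        exact ((Fact.out : p.Prime).coprime_iff_not_dvd.2 (not_dvd_relIndex T hK hRX inf_le_left)).symm)
    obtain ⟨c, hc, w, hw, rfl⟩ : ∃ c ∈ M ⊓ Subgroup.centralizer (X : Set G), ∃ w ∈ M ⊓ K, c * w = z := by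
      have hle' : M ⊓ K ≤ Subgroup.normalizer ((M ⊓ Subgroup.centralizer (X : Set G) : Subgroup G) : Set G) :=
        fun w hw => Subgroup.centralizer_le_normalizer _ fun c hc => (mem_omegaCenter.1 hw.1).2.1 c
          (omegaCenter_le _ hc.1)
      rw [← SetLike.mem_coe, Subgroup.coe_mul_of_right_le_normalizer_left _ _ hle'] at hmem
      exact Set.mem_mul.1 hmem
    have hwR : w ∈ R := ⟨(hO (omegaCenter_le _ hw.1)).1, hw.2⟩
    have hwZ : w ∈ Z := mem_omegaCenter.2 ⟨hwR, fun r hr => by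
      have h1 : r * c = c * r := hc.2 r (hRX hr)
      have h2 : r * (c * w) = c * w * r := hz2 r (hRR' hr)
      rw [← mul_assoc, h1, mul_assoc, mul_assoc] at h2
      exact mul_left_cancel h2, (mem_omegaCenter.1 hw.1).2.2⟩
    have h1 : x * c = c * x := hc.2 x ⟨hx.1, hx.2⟩
    calc c * w * x = c * (x * w) := by rw [mul_assoc, hx.2 w hwZ]
      _ = x * (c * w) := by rw [← mul_assoc, ← h1, mul_assoc]
  · -- fixing `Z'` implies fixing `Z`
    obtain ⟨hz1, hz2, hz3⟩ := mem_omegaCenter.1 hz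
    set Y := K ⊓ Subgroup.centralizer (Z' : Set G) with hY
    have hRY : R ≤ Y := le_inf inf_le_right fun r hr w hw => ((mem_omegaCenter.1 hw).2.1 r (hRR' hr)).symm
    have hO : pCoreOf p Y ≤ R := le_sylow_inf T hK (isPGroup_pCoreOf Y) ((pCoreOf_le Y).trans inf_le_left)
      (hRY.trans (normalizer_pCoreOf Y))
    have hchar := charP_inf_centralizer hG hK hZ'p (Parabolic.omegaCenter_ne_bot hR'p hR'1)
    have hR'Y : R' ≤ Subgroup.normalizer (Y : Set G) := le_normalizer_inf hR'K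
      ((Subgroup.le_normalizer.trans (normalizer_le_omegaCenter R')).trans (normalizer_le_centralizer_normalizer Z'))
    set M := omegaCenter p (pCoreOf p Y) with hM
    have hzM : z ∈ M := mem_omega_pCoreOf hchar (hRY hz1) (fun w hw => hz2 w (hO hw)) hz3
    refine (fixed_of_fixed_overgroup (omega_comm _) (fun v hv => (mem_omegaCenter.1 hv).2.2) hRY
      (Subgroup.le_normalizer.trans (normalizer_le_pCoreOf Y)) hR'p (hR'Y.trans (normalizer_le_pCoreOf Y))
      hR'Y hR'R (not_dvd_relIndex T hK hRY inf_le_left) ?_ (⟨hzM, hz2⟩ : z ∈ M ⊓ _) x hx).symm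
    intro v hv y hy
    exact (hy.2 v (mem_omegaCenter.2 ⟨hRR' (hO (omegaCenter_le _ hv.1)), hv.2, (mem_omegaCenter.1 hv.1).2.2⟩)).symm

theorem inf_centralizer_eq (hG : IsOfLocalCharacteristic p G) (T : Sylow p G) {K : Subgroup G}
    (hK : K.IsSubnormal) (hR1 : (T : Subgroup G) ⊓ K ≠ ⊥) :
    K ⊓ Subgroup.centralizer (omegaCenter p ((T : Subgroup G) ⊓ K) : Set G) =
      K ⊓ Subgroup.centralizer (omegaCenter p (T : Subgroup G) : Set G) := by
  induction hK with
  | top => rw [inf_top_eq]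
  | step H K hle hK hN ih =>
    have hsub : H.IsSubnormal := Subgroup.IsSubnormal.step H K hle hK hN
    have hn : K ≤ Subgroup.normalizer (H : Set G) := (Subgroup.normal_subgroupOf_iff_le_normalizer hle).1 hN
    have ih' := ih fun h => hR1 (le_bot_iff.1 (h ▸ inf_le_inf_left _ hle))
    rw [inf_centralizer_step hG T hsub hK hle hn hR1]
    conv_rhs => rw [← inf_eq_left.2 hle, inf_assoc, ← ih', ← inf_assoc, inf_eq_left.2 hle]

/-- `P_K(T ∩ K)` is generated by the `p`-elements of `K` fixing `Ω₁(Z(T))`. -/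
theorem pointStabilizer_eq (hG : IsOfLocalCharacteristic p G) (T : Sylow p G) {K : Subgroup G}
    (hK : K.IsSubnormal) :
    pointStabilizer p K ((T : Subgroup G) ⊓ K) =
      pElementClosure p (K ⊓ Subgroup.centralizer (omegaCenter p (T : Subgroup G) : Set G)) := by
  rcases eq_or_ne ((T : Subgroup G) ⊓ K) ⊥ with h | h
  · have hone : ∀ x ∈ K, (∃ k, orderOf x = p ^ k) → x = 1 := by
      rintro x hx ⟨k, hk⟩
      obtain ⟨P, hP⟩ := sylow_inf T hK
      have hP1 : (P : Subgroup K) = ⊥ :=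
        (Subgroup.map_eq_bot_iff_of_injective _ K.subtype_injective).1 (hP.trans h)
      obtain ⟨Q, hQ⟩ := (IsPGroup.of_card (p := p) (G := Subgroup.zpowers (⟨x, hx⟩ : K)) (n := k)
        (by rw [Nat.card_zpowers, ← hk, Subgroup.orderOf_mk])).exists_le_sylow
      have hc : Nat.card (Q : Subgroup K) = 1 := by rw [Sylow.card_eq_multiplicity, ← P.card_eq_multiplicity, hP1, Subgroup.card_bot]
      have := hQ (Subgroup.mem_zpowers (⟨x, hx⟩ : K))
      rw [Subgroup.eq_bot_of_card_eq _ hc, Subgroup.mem_bot] at this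
      exact congrArg Subtype.val this
    have h1 : pointStabilizer p K ((T : Subgroup G) ⊓ K) = ⊥ := by
      rw [eq_bot_iff, pointStabilizer, Subgroup.closure_le]
      rintro x ⟨⟨hx, -⟩, hk⟩
      exact hone x hx hk
    have h2 : pElementClosure p (K ⊓ Subgroup.centralizer (omegaCenter p (T : Subgroup G) : Set G)) = ⊥ := by
      rw [eq_bot_iff, pElementClosure, Subgroup.closure_le]
      rintro x ⟨⟨hx, -⟩, hk⟩
      exact hone x hx hk
    rw [h1, h2]
  · rw [pElementClosure, pointStabilizer, ← inf_centralizer_eq hG T hK h]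

/-- The point stabiliser of a join of subnormal subgroups. -/
theorem pointStabilizer_sup (hG : IsOfLocalCharacteristic p G) (T : Sylow p G) {L₁ L₂ : Subgroup G}
    (h₁ : L₁.IsSubnormal) (h₂ : L₂.IsSubnormal) :
    pointStabilizer p (L₁ ⊔ L₂) ((T : Subgroup G) ⊓ (L₁ ⊔ L₂)) =
      pointStabilizer p L₁ ((T : Subgroup G) ⊓ L₁) ⊔ pointStabilizer p L₂ ((T : Subgroup G) ⊓ L₂) := by
  have hL := Fusion.SubnormalJoin.sup_isSubnormal h₁ h₂
  rw [pointStabilizer_eq hG T hL, pointStabilizer_eq hG T h₁, pointStabilizer_eq hG T h₂]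
  set X0 := Subgroup.centralizer (omegaCenter p (T : Subgroup G) : Set G) with hX0
  set L := L₁ ⊔ L₂ with hLdef
  set X := L ⊓ X0 with hX
  have mono : ∀ A B : Subgroup G, A ≤ B → pElementClosure p A ≤ pElementClosure p B := fun A B h =>
    Subgroup.closure_mono fun x hx => ⟨h hx.1, hx.2⟩
  refine le_antisymm ?_ (sup_le (mono _ _ (inf_le_inf_right _ le_sup_left))
    (mono _ _ (inf_le_inf_right _ le_sup_right)))
  set J := pElementClosure p (L₁ ⊓ X0) ⊔ pElementClosure p (L₂ ⊓ X0) with hJ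
  have hle : ∀ A : Subgroup G, pElementClosure p A ≤ A := fun A => (Subgroup.closure_le _).2 fun x hx => hx.1
  have hsub : ∀ A : Subgroup G, A.IsSubnormal → A ≤ L → ((pElementClosure p (A ⊓ X0)).subgroupOf X).IsSubnormal := by
    intro A hA hAL
    have h1 : ((A ⊓ X0).subgroupOf X).IsSubnormal := by
      have : (A ⊓ X0).subgroupOf X = A.subgroupOf X := by
        ext x
        simp only [Subgroup.mem_subgroupOf, Subgroup.mem_inf]
        exact and_iff_left x.2.2
      rw [this]; exact hA.subgroupOf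
    refine Subgroup.IsSubnormal.step _ _ (fun x hx => hle _ hx) h1 ?_
    refine (Subgroup.normal_subgroupOf_iff_le_normalizer (H := (pElementClosure p (A ⊓ X0)).subgroupOf X)
      (K := (A ⊓ X0).subgroupOf X) (fun x hx => hle _ hx)).2 ?_
    refine Subgroup.le_normalizer_iff.2 fun g hg x hx => ?_
    show (g : G) * x * (g : G)⁻¹ ∈ pElementClosure p (A ⊓ X0)
    have key : pElementClosure p (A ⊓ X0) ≤ (pElementClosure p (A ⊓ X0)).comap (MulAut.conj (g : G)).toMonoidHom :=
      (Subgroup.closure_le _).2 fun y hy => Subgroup.subset_closure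
        ⟨mul_mem (mul_mem hg hy.1) (inv_mem hg), by
          obtain ⟨k, hk⟩ := hy.2
          exact ⟨k, (orderOf_injective (MulAut.conj (g : G)).toMonoidHom (MulAut.conj (g : G)).injective y).trans hk⟩⟩
    exact key hx
  have hJ' : (J.subgroupOf X).IsSubnormal := by
    rw [hJ, Subgroup.subgroupOf_sup ((hle _).trans (inf_le_inf_right _ le_sup_left))
      ((hle _).trans (inf_le_inf_right _ le_sup_right))]
    exact Fusion.SubnormalJoin.sup_isSubnormal (hsub L₁ h₁ le_sup_left) (hsub L₂ h₂ le_sup_right)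
  have hTX0 : (T : Subgroup G) ≤ X0 := fun t ht w hw => ((mem_omegaCenter.1 hw).2.1 t ht).symm
  have hRJ : (T : Subgroup G) ⊓ L ≤ J := by
    rw [inf_comm, hLdef, LocalEvenB.SubnormalSylow.sup_inf_sylow T h₁ h₂]
    refine sup_le_sup ?_ ?_ <;>
    · intro r hr
      obtain ⟨k, hk⟩ := IsPGroup.iff_orderOf.1 T.2 ⟨r, hr.2⟩
      exact Subgroup.subset_closure ⟨⟨hr.1, hTX0 hr.2⟩, k, by rwa [Subgroup.orderOf_mk] at hk⟩
  have hRX : (T : Subgroup G) ⊓ L ≤ X := le_inf inf_le_right (inf_le_left.trans hTX0)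
  have hidx : ¬ p ∣ (J.subgroupOf X).index := by
    intro hd
    refine not_dvd_relIndex T hL hRX inf_le_left (hd.trans ?_)
    exact Subgroup.index_dvd_of_le fun x hx => hRJ hx
  rw [pElementClosure, Subgroup.closure_le]
  rintro x ⟨hx, k, hk⟩
  exact Components.pow_prime_mem_of_subnormal hJ' ((Fact.out : p.Prime).coprime_iff_not_dvd.2 hidx).symm
    (x := ⟨x, hx⟩) (k := k) (Subtype.ext (by simp [← hk, pow_orderOf_eq_one]))

end CfsgLib.LocalEven.PointStabilizer
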