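/-
Consequences of the splitting of `Z(J(S))` in a pushing-up situation over `PSL₂(p ^ n)`.
-/
import Cfsg.Agent.Lib.LocalEven.PushingUpClosure
import Cfsg.Agent.Lib.LocalEvenB.SubnormalSylow

set_option autoImplicit false
set_option linter.unusedSectionVars false
set_option linter.style.haveILetI false

open Matrix
open scoped MatrixGroups commutatorElement

namespace CfsgLib.LocalEven.PushingUpCases

open CfsgLib.LocalEvenB.PushingUp CfsgLib.LocalEven.PushingUpClosure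

variable {G : Type*} [Group G] [Finite G] {p : ℕ} [Fact p.Prime]

local notation "ℭ" X:max => Subgroup.centralizer (SetLike.coe X)

/-- The hypotheses of the pushing-up statements, bundled. -/
structure Hyp (p : ℕ) [Fact p.Prime] (S : Sylow p G) : Prop where
  cent : Subgroup.centralizer (Cfsg.pCore p G : Set G) ≤ Cfsg.pCore p G
  uniq : ∃! M : Subgroup G, IsCoatom M ∧ (S : Subgroup G) ≤ M
  quot : ∃ (K : Subgroup G) (_ : K.Normal) (F : Type) (_ : Field F) (_ : Fintype F) (n : ℕ),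
    1 ≤ n ∧ Fintype.card F = p ^ n ∧ Nonempty (G ⧸ K ≃* Matrix.ProjectiveSpecialLinearGroup (Fin 2) F)

/-- The splitting, from a subgroup of `Z(S)` that is not central. -/
theorem split (S : Sylow p G) (h : Hyp p S) {Y : Subgroup G}
    (hY : Y ≤ (S : Subgroup G) ⊓ ℭ (S : Subgroup G)) (hYc : ¬ Y ≤ Subgroup.center G) :
    ∃ (W C₀ T M : Subgroup G) (y : G), Setup p (S : Subgroup G) M T ∧ y ∈ Y ∧ y ∉ Subgroup.center G ∧
      (∀ v ∈ W, v ^ p = 1) ∧ C₀.Normal ∧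
      (S : Subgroup G) ⊓ ℭ (Cfsg.centerThompsonAOf (S : Subgroup G)) ≤ ℭ C₀ ∧
      (∀ z ∈ Cfsg.centerThompsonAOf (S : Subgroup G), ∃ w ∈ W, w ∈ ℭ (S : Subgroup G) ∧ ∃ c ∈ C₀, z = w * c) ∧
      (((S : Subgroup G) ⊓ ℭ (Cfsg.centerThompsonAOf (S : Subgroup G))).Normal ∨
        ¬ (S : Subgroup G) ⊓ ℭ (Cfsg.centerThompsonAOf (S : Subgroup G)) ≤ T) := by
  obtain ⟨K, hK, F, iF, iFt, n, hn, hF, ⟨e⟩⟩ := h.quot
  have hne : (⊤ : Subgroup G) ≠ ⊥ := fun h0 => hYc fun x _ => by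
    rw [show x = 1 from Subgroup.mem_bot.1 (h0 ▸ Subgroup.mem_top x)]
    exact one_mem _
  obtain ⟨M, hs⟩ := setup_of (p := p) (S := (S : Subgroup G))
    ⟨hne, ⟨S, rfl⟩, h.cent, h.uniq, K, hK, F, iF, iFt, n, hF, ⟨e⟩⟩
  obtain ⟨y₀, hy₀, hy₀c⟩ := SetLike.not_le_iff_exists.1 hYc
  obtain ⟨y, hy, hyc, hyp⟩ := exists_pow_central (hs.isPGroup.to_le (hY.trans inf_le_left)) hy₀ hy₀c
  obtain ⟨W, C₀, h1, h2, h3, h4, h5⟩ := PushingUpClosure.main hs hn hF
    ((e.toMonoidHom).comp (QuotientGroup.mk' K)) (e.surjective.comp (QuotientGroup.mk'_surjective K))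
    (hY hy).1 (hY hy).2 hyp hyc
  exact ⟨W, C₀, _, M, y, hs, hy, hyc, h1, h2, h3, h4, h5⟩

/-- A subgroup of `Z(S)` inside the centralized part is central, unless `C_S(Z(J(S)))` is normal. -/
theorem normal_or (S : Sylow p G) (h : Hyp p S) (Y : Subgroup G)
    (hY : Y ≤ (S : Subgroup G) ⊓ ℭ (S : Subgroup G))
    (hin : ∀ W C₀ : Subgroup G, (∀ v ∈ W, v ^ p = 1) → C₀.Normal →
      (∀ z ∈ Cfsg.centerThompsonAOf (S : Subgroup G), ∃ w ∈ W, w ∈ ℭ (S : Subgroup G) ∧ ∃ c ∈ C₀, z = w * c) →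
      Y ≤ C₀) :
    Y.Normal ∨ ((S : Subgroup G) ⊓ ℭ (Cfsg.centerThompsonAOf (S : Subgroup G))).Normal := by
  by_cases hYc : Y ≤ Subgroup.center G
  · refine Or.inl ⟨fun x hx g => ?_⟩
    rw [Subgroup.mem_center_iff.1 (hYc hx) g, mul_inv_cancel_right]
    exact hx
  obtain ⟨W, C₀, T, M, y, hs, hy, hyc, h1, h2, h3, h4, h5⟩ := split S h hY hYc
  refine h5.elim Or.inr fun hT => absurd ?_ hyc
  haveI := normal_centralizer h2
  refine mem_center_of_fixed hs (hY hy).2 fun x hx => ?_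
  have hx' : x ∈ ℭ C₀ := mem_of_coprime hs (ℭ C₀) (fun hle => hT ((le_inf inf_le_left h3).trans hle)) hx
  exact (hx' y (hin W C₀ h1 h2 h4 hy)).symm

/-- `C_S(Z(J(S)))` is a Sylow subgroup of its normal closure. -/
theorem sylow_normalClosure (S : Sylow p G) (h : Hyp p S)
    (hZ : ¬ ((S : Subgroup G) ⊓ ℭ (S : Subgroup G)).Normal) :
    ∃ P : Sylow p ↥(Subgroup.normalClosure
        (((S : Subgroup G) ⊓ ℭ (Cfsg.centerThompsonAOf (S : Subgroup G))) : Set G)),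
      (P : Subgroup _) = ((S : Subgroup G) ⊓ ℭ (Cfsg.centerThompsonAOf (S : Subgroup G))).subgroupOf
        (Subgroup.normalClosure (((S : Subgroup G) ⊓ ℭ (Cfsg.centerThompsonAOf (S : Subgroup G))) : Set G)) := by
  have hYc : ¬ (S : Subgroup G) ⊓ ℭ (S : Subgroup G) ≤ Subgroup.center G := fun hle => hZ ⟨fun x hx g => by
    rw [Subgroup.mem_center_iff.1 (hle hx) g, mul_inv_cancel_right]
    exact hx⟩
  obtain ⟨W, C₀, T, M, y, hs, hy, hyc, h1, h2, h3, h4, h5⟩ := split S h le_rfl hYc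
  set J := (S : Subgroup G) ⊓ ℭ (Cfsg.centerThompsonAOf (S : Subgroup G)) with hJ
  set L := Subgroup.normalClosure (J : Set G) with hL
  haveI := normal_centralizer h2
  have hLC : L ≤ ℭ C₀ := Subgroup.normalClosure_le_normal h3
  have hJL : J ≤ L := Subgroup.subset_normalClosure
  have e : J = (S : Subgroup G) ⊓ L := by
    refine le_antisymm (le_inf inf_le_left hJL) fun s hs' => ⟨hs'.1, fun z hz => ?_⟩
    obtain ⟨w, hw, hwS, c, hc, rfl⟩ := h4 z hz
    have e1 : Commute s w := hwS s hs'.1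
    have e2 : Commute c s := hLC hs'.2 c hc
    exact ((e1.mul_right e2.symm).symm)
  have hLn : L.IsSubnormal := Subgroup.Normal.isSubnormal Subgroup.normalClosure_normal
  obtain ⟨P, hP⟩ := CfsgLib.Coprime.exists_sylow_map_eq hJL
    (e ▸ CfsgLib.LocalEvenB.SubnormalSylow.card_inf_sylow S hLn)
  refine ⟨P, Subgroup.map_injective L.subtype_injective ?_⟩
  rw [hP]
  show J = (J.subgroupOf L).map L.subtype
  rw [Subgroup.subgroupOf_map_subtype, inf_eq_left.2 hJL]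

end CfsgLib.LocalEven.PushingUpCases
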