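import Cfsg.Agent.Lib.Fusion.OffenderMain
import Cfsg.Agent.Lib.Fusion.OffenderFamily
import Mathlib.GroupTheory.NoncommPiCoprod

/-!
Abelian offenders in a `p`-solvable linear group with trivial `p`-core are elementary abelian, and the group they
generate is a direct product of `SL₂(p)`'s.
-/

set_option autoImplicit false
set_option linter.style.haveILetI false
set_option linter.unusedSectionVars false

open scoped commutatorElement MatrixGroups

namespace CfsgLib.LocalEven.SolvableOffender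

open CfsgLib.Fusion.OffenderBasic CfsgLib.Fusion.OffenderTv CfsgLib.Fusion.OffenderPlane
open CfsgLib.Fusion.ReplacementEA (wt)
open CfsgLib.Fusion

/-- A subgroup of a `p`-group equal to its commutator with a second subgroup is trivial. -/
theorem eq_bot_of_le_commutator {G : Type*} [Group G] [Finite G] {p : ℕ} [Fact p.Prime] {P R A : Subgroup G}
    (hP : IsPGroup p P) (hR : R ≤ P) (hA : A ≤ P) (h : R ≤ ⁅R, A⁆) : R = ⊥ := by
  haveI := hP.isNilpotent
  obtain ⟨n, hn⟩ := Subgroup.nilpotent_iff_lowerCentralSeries.1 (inferInstance : Group.IsNilpotent P)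
  have key : ∀ k, R ≤ (Subgroup.lowerCentralSeries (⊤ : Subgroup P) k).map P.subtype := by
    intro k
    induction k with
    | zero => rwa [Subgroup.lowerCentralSeries_zero, ← MonoidHom.range_eq_map, Subgroup.range_subtype]
    | succ k ih =>
      refine h.trans ((Subgroup.commutator_mono ih hA).trans (le_of_eq ?_))
      rw [Subgroup.lowerCentralSeries_succ, Subgroup.map_commutator, ← MonoidHom.range_eq_map,
        Subgroup.range_subtype]
  refine le_bot_iff.1 ((key n).trans ?_)
  rw [hn, Subgroup.map_bot]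

/-- Powers of a quadratically acting element. -/
theorem pow_comm_of_quadratic {G : Type*} [Group G] {c v d : G} (hd : c * v * c⁻¹ = d * v) (hcd : c * d = d * c) :
    ∀ n : ℕ, c ^ n * v * (c ^ n)⁻¹ = d ^ n * v
  | 0 => by simp
  | n + 1 => by
    have e := pow_comm_of_quadratic hd hcd n
    have h1 : c * d ^ n * c⁻¹ = d ^ n := by
      rw [(show Commute c d from hcd).pow_right n |>.eq, mul_inv_cancel_right]
    calc c ^ (n + 1) * v * (c ^ (n + 1))⁻¹ = c * (c ^ n * v * (c ^ n)⁻¹) * c⁻¹ := by rw [pow_succ']; group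
      _ = (c * d ^ n * c⁻¹) * (c * v * c⁻¹) := by rw [e]; group
      _ = _ := by rw [h1, hd, ← mul_assoc, ← pow_succ]

/-- `SL₂(2)` is the symmetric group of degree three. -/
theorem exists_sl_two_equiv_perm : Nonempty (SL(2, ZMod 2) ≃* Equiv.Perm (Fin 3)) := by
  let Ω := {v : Fin 2 → ZMod 2 // v ≠ 0}
  let f : SL(2, ZMod 2) →* Equiv.Perm Ω :=
    { toFun := fun g => (Matrix.SpecialLinearGroup.toLin' g).toEquiv.subtypeEquiv fun v =>
        not_congr (LinearEquiv.map_eq_zero_iff (Matrix.SpecialLinearGroup.toLin' g)).symm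
      map_one' := Equiv.ext fun v => Subtype.ext (by simp)
      map_mul' := fun g k => Equiv.ext fun v => Subtype.ext (by simp) }
  have hinj : Function.Injective f := by
    refine fun g k hgk => Subtype.ext (Matrix.ext_of_mulVec_single fun i => ?_)
    exact congrArg Subtype.val (congrFun (congrArg DFunLike.coe hgk)
      (⟨Pi.single i 1, fun e => by simpa using congrFun e i⟩ : Ω))
  have hΩ : Nat.card Ω = 3 := by rw [Nat.card_eq_fintype_card]; decide
  have hcard : Nat.card SL(2, ZMod 2) = 6 := by rw [Nat.card_eq_fintype_card]; decide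
  have hb : Function.Bijective f := (Nat.bijective_iff_injective_and_card f).2
    ⟨hinj, by rw [hcard, Nat.card_perm, hΩ]; rfl⟩
  exact ⟨(MulEquiv.ofBijective f hb).trans (Equiv.permCongrHom (Finite.equivFinOfCardEq hΩ))⟩

variable {G : Type*} [Group G] [Finite G] {p : ℕ} [hp : Fact p.Prime] {V H K : Subgroup G} (S : Setup p V H K)
include S

/-- The plane of a transvection is centralised by the other factors. -/
theorem plane_le_centralizer {a c : G} (ha : Tv p V H a) (hc : Tv p V H c) (hne : eGrp K c ≠ eGrp K a) :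
    ⁅V, eGrp K a⁆ ≤ Subgroup.centralizer (eGrp K c : Set G) := by
  rw [Subgroup.le_centralizer_iff]
  obtain ⟨d, hd, hcd⟩ := exists_other S hc
  have hdt := cls_tv S hc hd
  rw [eGrp_eq S hc hd hcd, Subgroup.closure_le]
  rintro x (rfl | rfl)
  · exact (tv_cases S ha hc).resolve_left fun h => hne (OffenderMain.eGrp_eq_of_mem S ha hc h)
  · exact (tv_cases S ha hdt).resolve_left fun h => hne
      ((OffenderMain.eGrp_eq_of_mem S hc hdt (cls_le_eGrp hd)).symm.trans (OffenderMain.eGrp_eq_of_mem S ha hdt h))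

/-- `V` is the sum of any finite family of planes and their common fixed points. -/
theorem mem_planes (s : Finset G) (hs : ∀ e ∈ s, Tv p V H e) {v : G} (hv : v ∈ V) :
    v ∈ (⨆ e ∈ s, ⁅V, eGrp K e⁆) ⊔ (V ⊓ ⨅ e ∈ s, Subgroup.centralizer (eGrp K e : Set G)) := by
  classical
  induction s using Finset.induction with
  | empty => exact Subgroup.mem_sup_right ⟨hv, by simp⟩
  | @insert e s he ih =>
    have hte := hs e (Finset.mem_insert_self e s)
    have hs' : ∀ x ∈ s, Tv p V H x := fun x hx => hs x (Finset.mem_insert_of_mem hx)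
    have hPV : (⨆ x ∈ s, ⁅V, eGrp K x⁆) ≤ V := iSup₂_le fun x hx => (plane S (hs' x hx)).2.2.2
    obtain ⟨l, hl, c, hc, rfl⟩ := mul_of_mem_sup S hPV inf_le_left (ih hs')
    rw [Finset.iSup_insert, Finset.iInf_insert]
    refine mul_mem (Subgroup.mem_sup_left (Subgroup.mem_sup_right hl)) ?_
    by_cases hsame : ∃ x ∈ s, eGrp K x = eGrp K e
    · obtain ⟨x, hx, hxe⟩ := hsame
      refine Subgroup.mem_sup_right ⟨hc.1, Subgroup.mem_inf.2 ⟨?_, hc.2⟩⟩
      rw [← hxe]
      exact Subgroup.mem_iInf.1 (Subgroup.mem_iInf.1 hc.2 x) hx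
    · push Not at hsame
      obtain ⟨-, hsup, -, hWV⟩ := plane S hte
      have hcV : c ∈ V := hc.1
      rw [← hsup] at hcV
      obtain ⟨w, hw, d, hd, rfl⟩ := mul_of_mem_sup S hWV inf_le_left hcV
      refine mul_mem (Subgroup.mem_sup_left (Subgroup.mem_sup_left hw)) (Subgroup.mem_sup_right ⟨hd.1,
        Subgroup.mem_inf.2 ⟨hd.2, Subgroup.mem_iInf.2 fun x => Subgroup.mem_iInf.2 fun hx => ?_⟩⟩)
      have hwx := plane_le_centralizer S hte (hs' x hx) (hsame x hx) hw
      have hwd := Subgroup.mem_iInf.1 (Subgroup.mem_iInf.1 hc.2 x) hx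
      simpa using mul_mem (inv_mem hwx) hwd

/-- An abelian best offender is elementary abelian. -/
theorem isBest_of_abelian {A : Subgroup G} (hAH : A ≤ H) (hAc : ∀ a ∈ A, ∀ b ∈ A, a * b = b * a)
    (hAp : IsPGroup p A) (hoff : ∀ B ≤ A, wt V B ≤ wt V A) : Cfsg.IsBestOffenderOn p V A := by
  classical
  haveI := Fintype.ofFinite G
  have hVc : ∀ x ∈ V, ∀ y ∈ V, x * y = y * x := fun x hx y hy => comm_V S hx hy
  have hAV : A ≤ Subgroup.normalizer (V : Set G) := hAH.trans S.hN
  have hab : ⁅A, A⁆ ≤ Subgroup.centralizer (V : Set G) := by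
    rw [Subgroup.commutator_le]
    intro a ha b hb
    rw [commutatorElement_eq_one_iff_mul_comm.2 (hAc a ha b hb)]
    exact one_mem _
  have hUV : ⁅V, A⁆ ≤ V := by
    rw [Subgroup.commutator_le]
    intro v hv a ha
    rw [commutatorElement_def, show v * a * v⁻¹ * a⁻¹ = v * (a * v⁻¹ * a⁻¹) by group]
    exact mul_mem hv (conj_mem_V S (hAH ha) (inv_mem hv))
  -- quadratic elements have order `p`
  have hquadpow : ∀ b ∈ A, b ∈ Subgroup.centralizer ((⁅V, A⁆ : Subgroup G) : Set G) → b ^ p = 1 := by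
    intro b hb hbU
    refine eq_one_of_fixes S (pow_mem (hAH hb) _) fun v hv => ?_
    have hd : b * v * b⁻¹ * v⁻¹ ∈ ⁅V, A⁆ := by
      rw [Subgroup.commutator_comm]
      exact Subgroup.commutator_mem_commutator hb hv
    have e := pow_comm_of_quadratic (c := b) (v := v) (d := b * v * b⁻¹ * v⁻¹) (by group)
      (Subgroup.mem_centralizer_iff.1 hbU _ hd).symm p
    rw [S.ea.2 _ (hUV hd), one_mul, mul_inv_eq_iff_eq_mul] at e
    exact e
  obtain ⟨hw, hfix⟩ := CfsgLib.Fusion.Offender.replacement hVc hAV hab hoff (le_refl V)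
  set B := A ⊓ Subgroup.centralizer ((⁅V, A⁆ : Subgroup G) : Set G) with hBdef
  have hBH : B ≤ H := inf_le_left.trans hAH
  have hBea : Cfsg.IsElementaryAbelian p B :=
    ⟨CfsgLib.Solvable.Basic.isMulCommutative_subgroup_iff.2 fun x hx y hy => hAc x hx.1 y hy.1,
      fun b hb => hquadpow b hb.1 hb.2⟩
  have hBbest : Cfsg.IsBestOffenderOn p V B :=
    isBest_of S hBea fun C hC => (hoff C (hC.trans inf_le_left)).trans hw.ge
  obtain ⟨k, e, he, -, hgen⟩ := OffenderFamily.exists_decomposition S hBH hBbest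
  have hmapn : ∀ {W : Subgroup G} {g : G}, g ∈ Subgroup.normalizer (W : Set G) →
      W.map (MulAut.conj g).toMonoidHom = W := fun hg => Subgroup.mem_normalizer_iff_map_conj_eq.1 hg
  -- on each plane
  have hctr : ∀ i, ctr V (e i) ≤ V ⊓ Subgroup.centralizer (A : Set G) := by
    intro i
    have hci := ctr_props S (he i).2
    have hciV : ctr V (e i) ≤ V := ctr_le_V S (he i).2
    refine le_inf hciV ?_
    have hn : ∀ a ∈ A, ∀ x ∈ ctr V (e i), a * x * a⁻¹ ∈ ctr V (e i) := by
      intro a ha x hx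
      have h1 : ctr V (a * e i * a⁻¹) = (ctr V (e i)).map (MulAut.conj a).toMonoidHom := ctr_conj S (hAH ha)
      rw [hAc a ha _ (he i).1.1, mul_inv_cancel_right] at h1
      rw [h1]
      exact ⟨x, hx, rfl⟩
    have hsup : IsPGroup p (ctr V (e i) ⊔ A : Subgroup G) :=
      IsPGroup.to_sup_of_normal_left' (IsPGroup.of_card (n := 1) (by rw [pow_one]; exact hci.2.1)) hAp
        (fun a ha => Subgroup.mem_normalizer_iff.2 fun x => ⟨fun hx => hn a ha x hx, fun hx => by
          simpa [mul_assoc] using hn a⁻¹ (inv_mem ha) _ hx⟩)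
    have hle : ⁅ctr V (e i), A⁆ ≤ ctr V (e i) := Subgroup.le_normalizer_iff_commutator_le_left.1
      (fun a ha => Subgroup.mem_normalizer_iff.2 fun x => ⟨fun hx => hn a ha x hx, fun hx => by
          simpa [mul_assoc] using hn a⁻¹ (inv_mem ha) _ hx⟩)
    rw [← Subgroup.commutator_eq_bot_iff_le_centralizer]
    by_contra hne
    have heq : ⁅ctr V (e i), A⁆ = ctr V (e i) := by
      refine Subgroup.eq_of_le_of_card_ge hle ?_
      have hd := Subgroup.card_dvd_of_le hle
      rw [hci.2.1] at hd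
      rcases hp.out.eq_one_or_self_of_dvd _ hd with h | h
      · exact absurd (Subgroup.eq_bot_of_card_eq _ h) hne
      · rw [h, hci.2.1]
    exact hne (heq.trans (eq_bot_of_le_commutator hsup le_sup_left le_sup_right heq.ge))
  have hline : ∀ i, ∀ w ∈ ⁅V, eGrp K (e i)⁆, ∀ a ∈ A, ⁅w, a⁆ ∈ ctr V (e i) := by
    intro i w hw a ha
    obtain ⟨hcap, hsup, hWcard, hWV⟩ := plane S (he i).2
    have hane : a ∈ Subgroup.normalizer (eGrp K (e i) : Set G) := by
      rw [Subgroup.mem_normalizer_iff_map_conj_eq]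
      show (⁅K, Subgroup.zpowers (e i)⁆ ⊔ Subgroup.zpowers (e i)).map (MulAut.conj a).toMonoidHom =
        ⁅K, Subgroup.zpowers (e i)⁆ ⊔ Subgroup.zpowers (e i)
      have h1 : (Subgroup.zpowers (e i)).map (MulAut.conj a).toMonoidHom = Subgroup.zpowers (e i) := by
        rw [MonoidHom.map_zpowers]
        show Subgroup.zpowers (a * e i * a⁻¹) = _
        rw [hAc a ha _ (he i).1.1, mul_inv_cancel_right]
      rw [Subgroup.map_sup, Subgroup.map_commutator, hmapn (S.Kn (hAH ha)), h1]
    have hawd : ⁅w, a⁆ ∈ ⁅V, eGrp K (e i)⁆ := by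
      rw [commutatorElement_def, show w * a * w⁻¹ * a⁻¹ = w * (a * w⁻¹ * a⁻¹) by group]
      refine mul_mem hw ?_
      have := Subgroup.mem_map_of_mem (MulAut.conj a).toMonoidHom (inv_mem hw)
      rw [Subgroup.map_commutator, hmapn (hAV ha), hmapn hane] at this
      exact this
    -- `a` fixes `V` modulo the axis
    have hax : ⁅w, a⁆ ∈ axis V (e i) := by
      refine mem_axis.2 ⟨hWV hawd, ?_⟩
      set u := a * w⁻¹ * a⁻¹ with hu
      have hc : ⁅w⁻¹, e i⁆ ∈ Subgroup.centralizer (A : Set G) :=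
        (hctr i ((ctr_props S (he i).2).1 _ (inv_mem (hWV hw)))).2
      have h2 : ⁅u, e i⁆ = ⁅w⁻¹, e i⁆ := by
        have h3 : ⁅u, e i⁆ = a * ⁅w⁻¹, e i⁆ * a⁻¹ := by
          calc ⁅u, e i⁆ = ⁅a * w⁻¹ * a⁻¹, a * e i * a⁻¹⁆ := by rw [hAc a ha _ (he i).1.1, mul_inv_cancel_right]
            _ = _ := by simp only [commutatorElement_def]; group
        rw [h3, Subgroup.mem_centralizer_iff.1 hc a ha, mul_inv_cancel_right]
      have huV : u ∈ V := conj_mem_V S (hAH ha) (inv_mem (hWV hw))
      have h4 : ⁅w, a⁆ = w * u := by rw [hu, commutatorElement_def]; group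
      rw [h4, ← commutatorElement_eq_one_iff_mul_comm, commutatorElement_mul_left_eq_conj_mul, h2]
      have h5 : ⁅w⁻¹, e i⁆ = w⁻¹ * ⁅w, e i⁆⁻¹ * w := by simp only [commutatorElement_def]; group
      rw [h5]; group
    have hcle : ctr V (e i) ≤ ⁅V, eGrp K (e i)⁆ ⊓ axis V (e i) :=
      le_inf (Subgroup.commutator_mono le_rfl (Subgroup.zpowers_le.2 (mem_eGrp_self K (e i)))) (ctr_props S (he i).2).2.2
    have heq : ctr V (e i) = ⁅V, eGrp K (e i)⁆ ⊓ axis V (e i) := by
      refine Subgroup.eq_of_le_of_card_ge hcle ?_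
      rw [(ctr_props S (he i).2).2.1]
      have hd := Subgroup.card_dvd_of_le (inf_le_left : ⁅V, eGrp K (e i)⁆ ⊓ axis V (e i) ≤ _)
      rw [hWcard] at hd
      obtain ⟨j, hj, hje⟩ := (Nat.dvd_prime_pow hp.out).1 hd
      rcases Nat.lt_or_ge j 2 with hj2 | hj2
      · rw [hje]
        exact (Nat.pow_le_pow_right hp.out.pos (Nat.le_of_lt_succ hj2)).trans (pow_one p).le
      · exfalso
        have hjeq : j = 2 := le_antisymm hj hj2
        subst hjeq
        have hW : ⁅V, eGrp K (e i)⁆ ≤ axis V (e i) := inf_eq_left.1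
          (Subgroup.eq_of_le_of_card_ge inf_le_left (by rw [hje, hWcard]))
        refine (he i).2.ne (eq_one_of_fixes S (he i).2.mem fun v hv => ?_)
        rw [← hsup] at hv
        obtain ⟨x, hx, y, hy, rfl⟩ := mul_of_mem_sup S hWV inf_le_left hv
        have hxc : Commute (e i) x := ((mem_axis.1 (hW hx)).2).symm
        have hyc : Commute (e i) y := Subgroup.mem_centralizer_iff.1 hy.2 _ (mem_eGrp_self K (e i))
        exact (hxc.mul_right hyc).eq
    rw [heq]
    exact ⟨hawd, hax⟩
  -- the common fixed points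
  set s : Finset G := Finset.univ.image e
  have hs : ∀ x ∈ s, Tv p V H x := fun x hx => by
    obtain ⟨i, -, rfl⟩ := Finset.mem_image.1 hx
    exact (he i).2
  set C₀ := V ⊓ ⨅ x ∈ s, Subgroup.centralizer (eGrp K x : Set G) with hC₀
  have hAn : A ≤ Subgroup.normalizer (C₀ : Set G) := by
    intro a ha
    rw [Subgroup.mem_normalizer_iff]
    have key : ∀ a ∈ A, ∀ x ∈ C₀, a * x * a⁻¹ ∈ C₀ := by
      intro a ha x hx
      refine ⟨conj_mem_V S (hAH ha) hx.1, Subgroup.mem_iInf.2 fun y => Subgroup.mem_iInf.2 fun hy => ?_⟩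
      obtain ⟨i, -, rfl⟩ := Finset.mem_image.1 hy
      have hxi := Subgroup.mem_iInf.1 (Subgroup.mem_iInf.1 hx.2 _) hy
      rw [Subgroup.mem_centralizer_iff]
      intro g hg
      have hane : a⁻¹ ∈ Subgroup.normalizer (eGrp K (e i) : Set G) := by
        rw [Subgroup.mem_normalizer_iff_map_conj_eq]
        show (⁅K, Subgroup.zpowers (e i)⁆ ⊔ Subgroup.zpowers (e i)).map (MulAut.conj a⁻¹).toMonoidHom =
          ⁅K, Subgroup.zpowers (e i)⁆ ⊔ Subgroup.zpowers (e i)
        have h1 : (Subgroup.zpowers (e i)).map (MulAut.conj a⁻¹).toMonoidHom = Subgroup.zpowers (e i) := by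
          rw [MonoidHom.map_zpowers]
          show Subgroup.zpowers (a⁻¹ * e i * a⁻¹⁻¹) = _
          rw [hAc a⁻¹ (inv_mem ha) _ (he i).1.1, mul_inv_cancel_right]
        rw [Subgroup.map_sup, Subgroup.map_commutator,
          hmapn (S.Kn (hAH (inv_mem ha))), h1]
      have hg' : a⁻¹ * g * a ∈ eGrp K (e i) := by simpa using (Subgroup.mem_normalizer_iff.1 hane g).1 hg
      have := Subgroup.mem_centralizer_iff.1 hxi _ hg'
      calc g * (a * x * a⁻¹) = a * ((a⁻¹ * g * a) * x) * a⁻¹ := by group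
        _ = a * (x * (a⁻¹ * g * a)) * a⁻¹ := by rw [this]
        _ = _ := by group
    exact fun x => ⟨key a ha x, fun hx => by simpa [mul_assoc] using key a⁻¹ (inv_mem ha) _ hx⟩
  have hR : ⁅C₀, A⁆ ≤ C₀ := Subgroup.le_normalizer_iff_commutator_le_left.1 hAn
  set L := (V ⊓ Subgroup.centralizer (A : Set G)) ⊔ ⁅C₀, A⁆ with hL
  have hLV : L ≤ V := sup_le inf_le_left (hR.trans inf_le_left)
  have hVA : ⁅V, A⁆ ≤ L := by
    rw [Subgroup.commutator_le]
    intro v hv a ha
    let D : Subgroup G :=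
      { carrier := {x | x ∈ V ∧ ⁅x, a⁆ ∈ L}
        one_mem' := ⟨one_mem V, by rw [commutatorElement_one_left]; exact one_mem L⟩
        mul_mem' := by
          rintro x y ⟨hx, hxa⟩ ⟨hy, hya⟩
          refine ⟨mul_mem hx hy, ?_⟩
          rw [commutatorElement_mul_left_eq_conj_mul, hVc x hx _ (hLV hya), mul_inv_cancel_right]
          exact mul_mem hya hxa
        inv_mem' := by
          rintro x ⟨hx, hxa⟩
          refine ⟨inv_mem hx, ?_⟩
          rw [show ⁅x⁻¹, a⁆ = x⁻¹ * (⁅x, a⁆⁻¹ * x) by simp only [commutatorElement_def]; group,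
            hVc _ (hLV (inv_mem hxa)) x hx, inv_mul_cancel_left]
          exact inv_mem hxa }
    suffices hD : (⨆ x ∈ s, ⁅V, eGrp K x⁆) ⊔ C₀ ≤ D from (hD (mem_planes S s hs hv)).2
    refine sup_le (iSup₂_le fun x hx => ?_) fun c hc => ⟨hc.1, Subgroup.mem_sup_right (Subgroup.commutator_mem_commutator hc ha)⟩
    obtain ⟨i, -, rfl⟩ := Finset.mem_image.1 hx
    exact fun w hw => ⟨(plane S (he i).2).2.2.2 hw, Subgroup.mem_sup_left (hctr i (hline i w hw a ha))⟩
  have hC₀B : C₀ ≤ V ⊓ Subgroup.centralizer (B : Set G) := by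
    refine le_inf inf_le_left ?_
    rw [Subgroup.le_centralizer_iff, ← hgen]
    refine iSup_le fun i => Subgroup.zpowers_le.2 (Subgroup.mem_centralizer_iff.2 fun c hc => ?_)
    exact (Subgroup.mem_centralizer_iff.1 (Subgroup.mem_iInf.1 (Subgroup.mem_iInf.1 hc.2 (e i))
      (Finset.mem_image_of_mem e (Finset.mem_univ i))) _ (mem_eGrp_self K (e i))).symm
  have hC₀L : C₀ ≤ ⁅C₀, A⁆ ⊔ (C₀ ⊓ Subgroup.centralizer (A : Set G)) := by
    intro c hc
    have hc' : c ∈ L := (hfix.le.trans (sup_le hVA le_sup_left)) (hC₀B hc)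
    obtain ⟨x, hx, y, hy, rfl⟩ := mul_of_mem_sup S inf_le_left (hR.trans inf_le_left) hc'
    have hxC : x ∈ C₀ := by simpa using mul_mem hc (inv_mem (hR hy))
    exact mul_mem (Subgroup.mem_sup_right ⟨hxC, hx.2⟩) (Subgroup.mem_sup_left hy)
  have hRbot : ⁅C₀, A⁆ = ⊥ := by
    have hC₀p : IsPGroup p C₀ := IsPGroup.to_le
      (fun v : V => ⟨1, Subtype.ext (by rw [pow_one]; exact S.ea.2 v v.2)⟩) inf_le_left
    refine eq_bot_of_le_commutator (hC₀p.to_sup_of_normal_left' hAp hAn) (hR.trans le_sup_left) le_sup_right ?_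
    rw [Subgroup.commutator_le]
    intro c hc a ha
    obtain ⟨x, hx, y, hy, rfl⟩ := mul_of_mem_sup S (hR.trans inf_le_left) (inf_le_left.trans inf_le_left) (hC₀L hc)
    rw [commutatorElement_mul_left_eq_conj_mul,
      commutatorElement_eq_one_iff_mul_comm.2 (Subgroup.mem_centralizer_iff.1 hy.2 a ha).symm, mul_one,
      mul_inv_cancel, one_mul]
    exact Subgroup.commutator_mem_commutator hx ha
  rw [hL, hRbot, sup_bot_eq] at hVA
  have hAB : A ≤ Subgroup.centralizer ((⁅V, A⁆ : Subgroup G) : Set G) :=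
    fun a ha => Subgroup.mem_centralizer_iff.2 fun u hu => (Subgroup.mem_centralizer_iff.1 (hVA hu).2 a ha).symm
  exact ⟨hoff, hab, fun a ha => by rw [hquadpow a ha (hAB ha)]; exact one_mem _⟩

/-- A group generated by transvections is a direct product of copies of `SL₂(p)`. -/
theorem exists_pi_equiv (hgen : H ≤ Subgroup.closure {c | Tv p V H c}) :
    ∃ n : ℕ, (H ≠ ⊥ → 1 ≤ n) ∧ Nonempty (H ≃* (Fin n → SL(2, ZMod p))) := by
  classical
  let ι := {E : Subgroup G // ∃ a, Tv p V H a ∧ E = eGrp K a}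
  choose a ha haE using fun i : ι => i.2
  haveI : Finite ι := inferInstance
  letI : Fintype ι := Fintype.ofFinite ι
  let E : ι → Subgroup G := fun i => i.1
  have hcross : ∀ i j : ι, i ≠ j → E j ≤ H ⊓ Subgroup.centralizer ((⁅V, eGrp K (a i)⁆ : Subgroup G) : Set G) := by
    intro i j hij
    rw [show E j = eGrp K (a j) from haE j]
    exact OffenderFamily.factor_le S hgen (ha i) (ha j)
      fun e => hij (Subtype.ext ((haE i).trans (e.symm.trans (haE j).symm)))
  have hcomm : Pairwise fun i j => ∀ x y : G, x ∈ E i → y ∈ E j → Commute x y := by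
    intro i j hij x y hx hy
    rw [show E i = eGrp K (a i) from haE i] at hx
    exact commutatorElement_eq_one_iff_mul_comm.1 (Subgroup.mem_bot.1 ((OffenderMain.decomp S hgen (ha i)).2.1 ▸
      Subgroup.commutator_mem_commutator hx (hcross i j hij hy)))
  have hind : iSupIndep E := by
    intro i
    rw [disjoint_iff, eq_bot_iff]
    refine le_trans (inf_le_inf (haE i).le (iSup₂_le fun j hji => hcross i j hji.symm)) ?_
    exact (OffenderMain.decomp S hgen (ha i)).2.2.1.le
  set f := Subgroup.noncommPiCoprod hcomm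
  have hinj : Function.Injective f := Subgroup.injective_noncommPiCoprod_of_iSupIndep hind
  have hrange : f.range = H := by
    rw [Subgroup.noncommPiCoprod_range]
    refine le_antisymm (iSup_le fun i => ?_) (hgen.trans ((Subgroup.closure_le _).2 fun c hc => ?_))
    · rw [show E i = eGrp K (a i) from haE i]; exact eGrp_le S (ha i)
    · exact le_iSup E ⟨eGrp K c, c, hc, rfl⟩ (mem_eGrp_self K c)
  have e1 : (∀ i, E i) ≃* H := (MonoidHom.ofInjective hinj).trans (MulEquiv.subgroupCongr hrange)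
  have e2 : ∀ i, Nonempty (E i ≃* SL(2, ZMod p)) := fun i => by
    obtain ⟨φ, -⟩ := OffenderMain.exists_equiv S (ha i)
    exact ⟨(MulEquiv.subgroupCongr (haE i)).trans φ⟩
  refine ⟨Fintype.card ι, fun hne => ?_, ⟨(e1.symm.trans (MulEquiv.piCongrRight fun i => (e2 i).some)).trans
    { Equiv.piCongrLeft' (fun _ => SL(2, ZMod p)) (Fintype.equivFin ι) with map_mul' := fun _ _ => rfl }⟩⟩
  by_contra h0
  push Not at h0
  haveI : IsEmpty ι := Fintype.card_eq_zero_iff.1 (by omega)
  exact hne (eq_bot_iff.2 (hgen.trans ((Subgroup.closure_le _).2 fun c hc =>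
    isEmptyElim (⟨eGrp K c, c, hc, rfl⟩ : ι))))

end CfsgLib.LocalEven.SolvableOffender
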