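import Cfsg.Prelude.Def_EvenType
import Cfsg.Prelude.Def_SporadicB
import Cfsg.Agent.Lib.LocalEven.StronglyEmbedded
import Cfsg.Agent.Lib.Involution.ZStar.Basic
import Cfsg.Agent.S1220

/-!
# Strongly `Z`-embedded subgroups of simple groups

A strongly `Z`-embedded subgroup satisfies the hypotheses of the criterion for strong embedding
(statement S1913, taken here as a hypothesis `hcrit`), so it is strongly embedded and `G` is doubly
transitive on its cosets.
-/

set_option autoImplicit false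

namespace CfsgLib.LocalEven.StronglyZEmbedded

open Subgroup

variable {G : Type*} [Group G] [Finite G]

/-- The criterion of S1913 for the group `G`. -/
def Criterion (G : Type*) [Group G] : Prop :=
  ∀ (P : Sylow 2 G) (z : G), orderOf z = 2 →
    z ∈ (Subgroup.center ↥(P : Subgroup G)).map (P : Subgroup G).subtype →
    ∀ H : Subgroup G, H ≠ ⊤ → (∀ g : G, z ∈ H.map (MulAut.conj g).toMonoidHom ↔ g ∈ H) →
    (∀ u : G, orderOf u = 2 → u * z = z * u → ¬ Subgroup.centralizer ({u} : Set G) ≤ H →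
      Cfsg.IsStronglyEmbedded
        (H.subgroupOf (Subgroup.closure {x : G | IsConj z x ∧ x * u = u * x}))) →
    Cfsg.IsStronglyEmbedded (H.subgroupOf (Subgroup.normalClosure ({z} : Set G)))

theorem isStronglyEmbedded_of_spe {H : Subgroup G} (h : Cfsg.IsStronglyPEmbedded 2 H)
    (hne : H ≠ ⊤) (hev : 2 ∣ Nat.card H) : Cfsg.IsStronglyEmbedded H := by
  haveI := Fact.mk Nat.prime_two
  exact ⟨hne, even_iff_two_dvd.2 hev, fun g hg => Nat.not_even_iff_odd.1 fun he =>
    (StronglyEmbedded.spe_iff_classical hne hev).1 h g hg (even_iff_two_dvd.1 he)⟩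

/-- A member inside `M` lies in no other conjugate of `M`. -/
theorem mem_of_conj_mem {M : Subgroup G} {z : G} (hz2 : Cfsg.IsTwoCentralInvolution z)
    (hM : Cfsg.IsStronglyZEmbedded (conjugatesOf z) M) (hzM : z ∈ M) {g : G}
    (hg : g⁻¹ * z * g ∈ M) : g ∈ M := by
  haveI := Fact.mk Nat.prime_two
  obtain ⟨-, -, hC, ⟨T, hT⟩, -⟩ := hM
  have key : ∀ y : M, orderOf (y : G) = 2 →
      ∃ a : M, ((a * y * a⁻¹ : M) : G) ∈ (T : Subgroup M).map M.subtype := by
    intro y hy
    rw [Subgroup.orderOf_coe] at hy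
    obtain ⟨S, hS⟩ := (IsPGroup.of_card (n := 1)
      (by rw [pow_one, Nat.card_zpowers, hy]) : IsPGroup 2 (zpowers y)).exists_le_sylow
    obtain ⟨a, rfl⟩ := MulAction.exists_smul_eq M S T
    refine ⟨a, a * y * a⁻¹, ?_, rfl⟩
    exact ⟨y, hS (mem_zpowers y), rfl⟩
  have ho : orderOf (g⁻¹ * z * g) = 2 := by
    rw [← hz2.1]
    exact (SemiconjBy.orderOf_eq (a := g) (by show g * (g⁻¹ * z * g) = z * g; group))
  obtain ⟨a, ha⟩ := key ⟨z, hzM⟩ hz2.1
  obtain ⟨b, hb⟩ := key ⟨_, hg⟩ ho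
  simp only [Subgroup.coe_mul, InvMemClass.coe_inv] at ha hb
  obtain ⟨m, hmM, hm⟩ := hT {(a : G) * z * (a : G)⁻¹} ((b : G) * g⁻¹ * (a : G)⁻¹)
    (Set.singleton_subset_iff.2 ha) (by
      rw [Set.image_singleton, Set.singleton_subset_iff]
      show (b : G) * g⁻¹ * (a : G)⁻¹ * ((a : G) * z * (a : G)⁻¹) *
        ((b : G) * g⁻¹ * (a : G)⁻¹)⁻¹ ∈ _
      rw [show (b : G) * g⁻¹ * (a : G)⁻¹ * ((a : G) * z * (a : G)⁻¹) *
        ((b : G) * g⁻¹ * (a : G)⁻¹)⁻¹ = (b : G) * (g⁻¹ * z * g) * (b : G)⁻¹ by group]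
      exact hb)
  rw [Set.image_singleton, Set.image_singleton, Set.singleton_eq_singleton_iff] at hm
  have hc : (a : G)⁻¹ * m⁻¹ * ((b : G) * g⁻¹) ∈ centralizer ({z} : Set G) := by
    rw [mem_centralizer_singleton_iff]
    calc _ = (a : G)⁻¹ * m⁻¹ * ((b : G) * g⁻¹ * (a : G)⁻¹ * ((a : G) * z * (a : G)⁻¹) *
          ((b : G) * g⁻¹ * (a : G)⁻¹)⁻¹) * ((b : G) * g⁻¹) := by group
      _ = (a : G)⁻¹ * m⁻¹ * (m * ((a : G) * z * (a : G)⁻¹) * m⁻¹) * ((b : G) * g⁻¹) := by rw [hm]
      _ = _ := by group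
  have h1 := hC z (mem_conjugatesOf_self) hzM hc
  have h2 : g⁻¹ ∈ M := by
    have := mul_mem (inv_mem b.2) (mul_mem hmM (mul_mem a.2 h1))
    convert this using 1; group
  simpa using inv_mem h2

variable [IsSimpleGroup G]

theorem center_eq_bot (hna : ¬ IsMulCommutative G) : Subgroup.center G = ⊥ :=
  ((inferInstance : (Subgroup.center G).Normal).eq_bot_or_eq_top).resolve_right fun h =>
    hna ⟨⟨fun a b => (mem_center_iff.1 (h ▸ mem_top a : a ∈ Subgroup.center G) b).symm⟩⟩

/-- The criterion makes a strongly `Z`-embedded subgroup strongly embedded, and `G` doubly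
transitive on its conjugates. -/
theorem strongly_embedded (hcrit : Criterion G) (hna : ¬ IsMulCommutative G) (M : Subgroup G)
    (z : G) (hz : Cfsg.IsTwoCentralInvolution z)
    (hM : Cfsg.IsStronglyZEmbedded (conjugatesOf z) M) :
    Cfsg.IsStronglyPEmbedded 2 M ∧
    (∀ a b c d : G, M.map (MulAut.conj a).toMonoidHom ≠ M.map (MulAut.conj b).toMonoidHom →
      M.map (MulAut.conj c).toMonoidHom ≠ M.map (MulAut.conj d).toMonoidHom →
      ∃ g : G, (M.map (MulAut.conj a).toMonoidHom).map (MulAut.conj g).toMonoidHom =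
          M.map (MulAut.conj c).toMonoidHom ∧
        (M.map (MulAut.conj b).toMonoidHom).map (MulAut.conj g).toMonoidHom =
          M.map (MulAut.conj d).toMonoidHom) := by
  haveI := Fact.mk Nat.prime_two
  -- replace `z` by a conjugate in `M`
  obtain ⟨z', hz'Z, hz'M⟩ := hM.2.1
  obtain ⟨k, hk⟩ := isConj_iff.1 hz'Z
  have hconj : conjugatesOf z = conjugatesOf z' := isConj_iff_conjugatesOf_eq.1 hz'Z
  have hz' : Cfsg.IsTwoCentralInvolution z' := by
    obtain ⟨h2, P, hzP, hPc⟩ := hz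
    refine ⟨by rw [← hk, ← h2]; exact (SemiconjBy.orderOf_eq (a := k)
      (by show k * z = k * z * k⁻¹ * k; group)).symm, k • P, ?_, ?_⟩
    · rw [← hk]; exact ⟨z, hzP, rfl⟩
    · rintro _ ⟨x, hx, rfl⟩
      rw [← hk]
      show k * x * k⁻¹ * (k * z * k⁻¹) = k * z * k⁻¹ * (k * x * k⁻¹)
      calc _ = k * (x * z) * k⁻¹ := by group
        _ = k * (z * x) * k⁻¹ := by rw [hPc x hx]
        _ = _ := by group
  rw [hconj] at hM
  clear! z
  obtain ⟨hne, -, hC, -, hH⟩ := id hM
  obtain ⟨hz2, P, hzP, hPc⟩ := id hz'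
  have hcen : z' ∈ (Subgroup.center ↥(P : Subgroup G)).map (P : Subgroup G).subtype :=
    ⟨⟨z', hzP⟩, mem_center_iff.2 fun x => Subtype.ext (hPc x x.2), rfl⟩
  have hz1 : z' ≠ 1 := fun h => by simp [h] at hz2
  have hi : ∀ g : G, z' ∈ M.map (MulAut.conj g).toMonoidHom ↔ g ∈ M := by
    intro g
    constructor
    · rintro ⟨w, hw, hwz⟩
      refine mem_of_conj_mem hz' hM hz'M ?_
      rw [← hwz]
      simpa [mul_assoc] using hw
    · intro hg
      exact ⟨g⁻¹ * z' * g, mul_mem (mul_mem (inv_mem hg) hz'M) hg, by simp [mul_assoc]⟩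
  have hii : ∀ u : G, orderOf u = 2 → u * z' = z' * u →
      ¬ Subgroup.centralizer ({u} : Set G) ≤ M → Cfsg.IsStronglyEmbedded
        (M.subgroupOf (Subgroup.closure {x : G | IsConj z' x ∧ x * u = u * x})) := by
    intro u hu hcomm hle
    have hU : centralizer ({u} : Set G) ≠ ⊤ := by
      intro h
      have huc : u ∈ Subgroup.center G := mem_center_iff.2 fun g =>
        mem_centralizer_singleton_iff.1 (h ▸ mem_top g : g ∈ centralizer ({u} : Set G))
      rw [center_eq_bot hna, Subgroup.mem_bot] at huc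
      simp [huc] at hu
    have hzu : z' ∈ centralizer ({u} : Set G) := mem_centralizer_singleton_iff.2 hcomm.symm
    obtain ⟨hLM, hse⟩ := hH _ hU ⟨z', mem_conjugatesOf_self, hzu, hz'M⟩ hle
    have hset : {x : G | IsConj z' x ∧ x * u = u * x} =
        conjugatesOf z' ∩ (centralizer ({u} : Set G) : Set G) := by
      ext x
      simp [conjugatesOf, mem_centralizer_singleton_iff]
    rw [hset]
    set L := Subgroup.closure (conjugatesOf z' ∩ (centralizer ({u} : Set G) : Set G)) with hL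
    have hzL : z' ∈ L := subset_closure ⟨mem_conjugatesOf_self, hzu⟩
    rw [Subgroup.inf_subgroupOf_left] at hse
    refine isStronglyEmbedded_of_spe hse hse.2.1 ?_
    have : orderOf (⟨⟨z', hzL⟩, hz'M⟩ : M.subgroupOf L) = 2 := by
      rw [← hz2, ← Subgroup.orderOf_coe, ← Subgroup.orderOf_coe]
    exact this ▸ orderOf_dvd_natCard _
  have hncl : Subgroup.normalClosure ({z'} : Set G) = ⊤ :=
    ((inferInstance : (Subgroup.normalClosure ({z'} : Set G)).Normal).eq_bot_or_eq_top).resolve_left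
      fun h => hz1 (Subgroup.mem_bot.1 (h ▸ subset_normalClosure (Set.mem_singleton z')))
  have hse := hcrit P z' hz2 hcen M hne hi hii
  rw [hncl] at hse
  have hev : 2 ∣ Nat.card M := by
    have : orderOf (⟨z', hz'M⟩ : M) = 2 := by rw [← hz2, ← Subgroup.orderOf_coe]
    exact this ▸ orderOf_dvd_natCard _
  have hodd : ∀ g : G, g ∉ M → ¬ 2 ∣ Nat.card ↥(M ⊓ M.map (MulAut.conj g).toMonoidHom) := by
    intro g hg h2
    obtain ⟨x, hx⟩ := exists_prime_orderOf_dvd_card' (G := ↥(M ⊓ M.map (MulAut.conj g).toMonoidHom)) 2 h2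
    obtain ⟨w, hw, hwx⟩ := x.2.2
    have hg' : (⟨g, mem_top g⟩ : (⊤ : Subgroup G)) ∉ M.subgroupOf ⊤ := fun h =>
      hg (mem_subgroupOf.1 h)
    refine Nat.not_even_iff_odd.2 (hse.2.2 _ hg') (even_iff_two_dvd.2 ?_)
    have hmem : (⟨(x : G), mem_top _⟩ : (⊤ : Subgroup G)) ∈
        M.subgroupOf ⊤ ⊓ (M.subgroupOf ⊤).map (MulAut.conj (⟨g, mem_top g⟩ : (⊤ : Subgroup G))).toMonoidHom :=
      ⟨mem_subgroupOf.2 x.2.1, ⟨⟨w, mem_top w⟩, mem_subgroupOf.2 hw, Subtype.ext hwx⟩⟩
    rw [← hx, ← Subgroup.orderOf_coe x, ← Subgroup.orderOf_mk (G := G) (x : G) (mem_top _)]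
    exact Subgroup.orderOf_dvd_natCard _ hmem
  have hspe : Cfsg.IsStronglyPEmbedded 2 M :=
    (StronglyEmbedded.spe_iff_classical hne hev).2 hodd
  refine ⟨hspe, fun a b c d hab hcd => ?_⟩
  have hnot : ∀ x y : G, M.map (MulAut.conj x).toMonoidHom ≠ M.map (MulAut.conj y).toMonoidHom →
      x⁻¹ * y ∉ M := by
    intro x y hne' h
    apply hne'
    ext w
    rw [SylowIn.mem_map_conj, SylowIn.mem_map_conj]
    constructor
    · intro hw
      convert mul_mem (mul_mem (inv_mem h) hw) h using 1; group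
    · intro hw
      convert mul_mem (mul_mem h hw) (inv_mem h) using 1; group
  rcases Cfsg.Agent.S1220.result M (isStronglyEmbedded_of_spe hspe hne hev) with htr | ⟨-, hO⟩
  · obtain ⟨h, hhM, hh⟩ := htr (a⁻¹ * b) (c⁻¹ * d) (hnot a b hab) (hnot c d hcd)
    refine ⟨c * h * a⁻¹, ?_, ?_⟩
    · ext w
      simp only [SylowIn.mem_map_conj]
      constructor
      · intro hw
        convert mul_mem (mul_mem hhM hw) (inv_mem hhM) using 1; group
      · intro hw
        convert mul_mem (mul_mem (inv_mem hhM) hw) hhM using 1; group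
    · ext w
      simp only [SylowIn.mem_map_conj]
      constructor
      · intro hw
        convert mul_mem (mul_mem hh hw) (inv_mem hh) using 1; group
      · intro hw
        convert mul_mem (mul_mem (inv_mem hh) hw) hh using 1; group
  · exfalso
    rcases ((inferInstance : (Cfsg.oddCore G).Normal).eq_bot_or_eq_top) with h | h
    · exact hne (by rwa [h, bot_sup_eq] at hO)
    · have h2G : 2 ∣ Nat.card G := hz2 ▸ orderOf_dvd_natCard z'
      have hoddG : Odd (Nat.card (Cfsg.oddCore G)) := CfsgLib.Involution.ZStar.odd_card_oddCore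
      rw [h, Subgroup.card_top] at hoddG
      exact Nat.not_even_iff_odd.2 hoddG (even_iff_two_dvd.2 h2G)

end CfsgLib.LocalEven.StronglyZEmbedded
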