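/-
The lower bound for irreducible modules of a group of class two with faithful centre.
-/
import Mathlib.RingTheory.LittleWedderburn
import Mathlib.LinearAlgebra.FreeModule.Finite.Matrix
import Mathlib.LinearAlgebra.Dual.Lemmas
import Mathlib.FieldTheory.Finite.Basic
import Mathlib.RingTheory.SimpleModule.Basic
import Mathlib.GroupTheory.Commutator.Basic
import Mathlib.GroupTheory.QuotientGroup.Basic

set_option autoImplicit false

open scoped commutatorElement

namespace CfsgLib.LocalEven.SymplecticBound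

variable {M : Type*} [AddCommGroup M] [Finite M] {E : Type*} [Group E] [Finite E]

/-- An irreducible module on which a central element of order `p` is nontrivial and the centre is
faithful, for a group of class two, has order at least `r ^ (n √|E : Z(E)|)`. -/
theorem bound {p r n m : ℕ} [Fact p.Prime] [Fact r.Prime] (ρ : E →* AddMonoid.End M)
    (hM : ∃ x : M, x ≠ 0) (htor : ∀ x : M, r • x = 0)
    (hirr : ∀ N : AddSubgroup M, (∀ e : E, ∀ x ∈ N, ρ e x ∈ N) → N = ⊥ ∨ N = ⊤)
    {z : E} (hz : z ∈ Subgroup.center E) (hzp : z ^ p = 1) (hz1 : ρ z ≠ 1)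
    (hclass : ∀ a b : E, ⁅a, b⁆ ∈ Subgroup.center E)
    (hfaith : ∀ c ∈ Subgroup.center E, ρ c = 1 → c = 1)
    (hmin : ∀ k : ℕ, 1 ≤ k → p ∣ r ^ k - 1 → n ≤ k)
    (hm : m * m = (Subgroup.center E).index) : r ^ (n * m) ≤ Nat.card M := by
  classical
  set R : Subring (AddMonoid.End M) := Subring.centralizer (Set.range ρ)
  have hmemR : ∀ f : AddMonoid.End M, f ∈ R ↔ ∀ e : E, ∀ x : M, ρ e (f x) = f (ρ e x) := fun f => by
    rw [Subring.mem_centralizer_iff]
    exact ⟨fun h e x => congrArg (fun g : AddMonoid.End M => g x) (h _ ⟨e, rfl⟩),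
      fun h g ⟨e, he⟩ => he ▸ AddMonoidHom.ext (h e)⟩
  have hzR : ∀ c ∈ Subgroup.center E, ρ c ∈ R := fun c hc => by
    rw [Subring.mem_centralizer_iff]
    rintro _ ⟨e, rfl⟩
    rw [← map_mul, ← map_mul, Subgroup.mem_center_iff.1 hc e]
  haveI : Finite R := Finite.of_injective (fun f : R => fun x => (f : AddMonoid.End M) x)
    fun f g h => Subtype.ext (AddMonoidHom.ext fun x => congrFun h x)
  have hinj : ∀ f : R, f ≠ 0 → ∀ x, (f : AddMonoid.End M) x = 0 → x = 0 := by
    intro f hf x hx
    rcases hirr (AddMonoidHom.ker (f.1 : M →+ M)) (fun e y hy => by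
      show (f : AddMonoid.End M) (ρ e y) = 0
      rw [← (hmemR _).1 f.2 e y, show (f : AddMonoid.End M) y = 0 from hy, map_zero]) with h | h
    · exact AddSubgroup.mem_bot.1 (h ▸ (AddMonoidHom.mem_ker.2 hx))
    · exact absurd (Subtype.ext (AddMonoidHom.ext fun y => AddMonoidHom.mem_ker.1 (h ▸ AddSubgroup.mem_top y))) hf
  obtain ⟨x₀, hx₀⟩ := hM
  haveI : Nontrivial R := ⟨⟨0, 1, fun h => hx₀ (congrArg (fun g : R => (g : AddMonoid.End M) x₀) h).symm⟩⟩
  haveI : NoZeroDivisors R := ⟨fun {f g} h => by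
    by_contra hne
    rw [not_or] at hne
    refine hne.2 (Subtype.ext (AddMonoidHom.ext fun x => hinj f hne.1 _ ?_))
    exact congrArg (fun q : R => (q : AddMonoid.End M) x) h⟩
  haveI : IsDomain R := NoZeroDivisors.to_isDomain R
  letI : Field R := (Finite.isDomain_to_isField R).toField
  haveI : Fintype R := Fintype.ofFinite R
  have happ : ∀ (f : R) (x : M), f • x = (f : AddMonoid.End M) x := fun _ _ => rfl
  let φ : E → Module.End R M := fun e =>
    { toFun := fun x => ρ e x
      map_add' := map_add (ρ e)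
      map_smul' := fun f x => by
        simp only [RingHom.id_apply, happ]
        exact (hmemR _).1 f.2 e x }
  have hφ : ∀ a b x, φ a (φ b x) = φ (a * b) x := fun a b x => by
    show ρ a (ρ b x) = ρ (a * b) x
    rw [map_mul]; rfl
  have hφne : ∀ e : E, φ e ≠ 0 := fun e h => hx₀ (by
    have h1 := hφ e⁻¹ e x₀
    rw [h, LinearMap.zero_apply, map_zero, inv_mul_cancel] at h1
    rw [show φ 1 x₀ = x₀ by show ρ 1 x₀ = x₀; rw [map_one]; rfl] at h1
    exact h1.symm)
  -- the characters
  let χ : E → (E →* R) := fun g =>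
    { toFun := fun e => ⟨ρ ⁅e, g⁆, hzR _ (hclass e g)⟩
      map_one' := Subtype.ext (by simp)
      map_mul' := fun a b => Subtype.ext (by
        show ρ ⁅a * b, g⁆ = ρ ⁅a, g⁆ * ρ ⁅b, g⁆
        rw [show ⁅a * b, g⁆ = a * ⁅b, g⁆ * a⁻¹ * ⁅a, g⁆ by simp only [commutatorElement_def]; group,
          Subgroup.mem_center_iff.1 (hclass b g) a, mul_inv_cancel_right, map_mul, ← map_mul, ← map_mul,
          ← Subgroup.mem_center_iff.1 (hclass b g) ⁅a, g⁆]) }
  have hχinj : ∀ g g' : E, χ g = χ g' → g⁻¹ * g' ∈ Subgroup.center E := by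
    intro g g' h
    refine Subgroup.mem_center_iff.2 fun e => ?_
    have h1 : ρ ⁅e, g⁆ = ρ ⁅e, g'⁆ := congrArg Subtype.val (DFunLike.congr_fun h e)
    have h2 : (⁅e, g⁆)⁻¹ * ⁅e, g'⁆ = 1 := hfaith _ (mul_mem (inv_mem (hclass e g)) (hclass e g')) (by
      rw [map_mul, ← h1, ← map_mul, inv_mul_cancel, map_one])
    have h3 := inv_mul_eq_one.1 h2
    have a1 : e * g⁻¹ = g⁻¹ * (⁅e, g⁆)⁻¹ * e := by simp only [commutatorElement_def]; group
    have a2 : e * g' = ⁅e, g⁆ * g' * e := by rw [h3, commutatorElement_def]; group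
    rw [← mul_assoc, a1, mul_assoc, a2]
    group
  haveI : Fintype (E ⧸ Subgroup.center E) := Fintype.ofFinite _
  set s : E ⧸ Subgroup.center E → E := Quotient.out
  have hs : Function.Injective fun q => χ (s q) := fun q q' h => by
    have := QuotientGroup.eq.2 (hχinj _ _ h)
    rwa [QuotientGroup.out_eq', QuotientGroup.out_eq'] at this
  have hli : LinearIndependent R (fun q => φ (s q)) := by
    rw [Fintype.linearIndependent_iff]
    intro c hc q₀
    obtain ⟨x, hx⟩ : ∃ x, φ (s q₀) x ≠ 0 := by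
      by_contra h
      exact hφne _ (LinearMap.ext fun x => by_contra fun hx => h ⟨x, hx⟩)
    obtain ⟨l, hl⟩ : ∃ l : Module.Dual R M, l (φ (s q₀) x) ≠ 0 := by
      by_contra h
      exact hx ((Module.forall_dual_apply_eq_zero_iff R _).1 fun l => by_contra fun hl => h ⟨l, hl⟩)
    have key : ∑ q, (c q * l (φ (s q) x)) • (fun e => χ (s q) e) = (0 : E → R) := by
      funext e
      rw [Finset.sum_apply, Pi.zero_apply]
      have h1 : ∀ q, χ (s q) e • φ (s q) x = φ e (φ (s q) (φ e⁻¹ x)) := fun q => by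
        rw [hφ, hφ, happ]
        show ρ ⁅e, s q⁆ (ρ (s q) x) = ρ (e * s q * e⁻¹) x
        rw [show ρ ⁅e, s q⁆ (ρ (s q) x) = (ρ ⁅e, s q⁆ * ρ (s q)) x from rfl, ← map_mul, commutatorElement_def, inv_mul_cancel_right]
      have h2 : ∑ q, c q • (χ (s q) e • φ (s q) x) = 0 := by
        simp only [h1]
        have h3 := congrArg (fun f : Module.End R M => φ e (f (φ e⁻¹ x))) hc
        simpa [LinearMap.sum_apply, map_sum] using h3
      have h4 := congrArg l h2
      rw [map_sum, map_zero] at h4
      rw [← h4]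
      refine Finset.sum_congr rfl fun q _ => ?_
      simp only [Pi.smul_apply, smul_eq_mul, map_smul]
      ring
    have h5 := Fintype.linearIndependent_iff.1
      ((linearIndependent_monoidHom E R).comp (fun q => χ (s q)) hs) _ key q₀
    exact (mul_eq_zero.1 h5).resolve_right hl
  set d := Module.finrank R M
  have hd : m * m ≤ d * d := by
    have := hli.fintype_card_le_finrank
    rw [Module.finrank_linearMap, ← Nat.card_eq_fintype_card] at this
    exact hm.trans_le this
  have hmd : m ≤ d := Nat.mul_self_le_mul_self_iff.1 hd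
  have hcard : Nat.card M = Fintype.card R ^ d := by
    rw [Module.natCard_eq_pow_finrank (K := R), Nat.card_eq_fintype_card]
  haveI : CharP R r := (CharP.charP_iff_prime_eq_zero Fact.out).2 (Subtype.ext (AddMonoidHom.ext fun x => by
    show ((r : R) : AddMonoid.End M) x = (0 : AddMonoid.End M) x
    rw [show ((r : R) : AddMonoid.End M) = (r : AddMonoid.End M) from map_natCast R.subtype r,
      AddMonoid.End.natCast_apply]
    exact htor x))
  obtain ⟨k, -, hk⟩ := FiniteField.card R r
  have hdvd : p ∣ r ^ (k : ℕ) - 1 := by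
    have hu : (⟨ρ z, hzR z hz⟩ : R) ^ p = 1 := Subtype.ext (by
      show ρ z ^ p = 1
      rw [← map_pow, hzp, map_one])
    set ζ : Rˣ := Units.ofPowEqOne _ p hu (Fact.out : p.Prime).ne_zero
    have hord : orderOf ζ = p := orderOf_eq_prime (Units.pow_ofPowEqOne hu _) (fun h => hz1 (by
      have := congrArg (fun u : Rˣ => ((u : R) : AddMonoid.End M)) h
      simpa [ζ] using this))
    rw [← hk, ← Fintype.card_units, ← hord]
    exact orderOf_dvd_card
  rw [hcard, hk, ← pow_mul]
  exact Nat.pow_le_pow_right (Fact.out : r.Prime).pos (Nat.mul_le_mul (hmin k k.pos hdvd) hmd)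

end CfsgLib.LocalEven.SymplecticBound
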